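import Cfsg.Agent.Lib.helper27.TwoBlock
import Cfsg.Agent.Lib.helper27.OutSyl11

set_option autoImplicit false

/-! Group-theoretic and counting lemmas for the single 2-block criterion. -/

namespace Cfsg.Agent.Lib.helper27.TB

open Cfsg Cfsg.Agent.Lib.helper24 Cfsg.Agent.Lib.helper5 Cfsg.Agent.Lib.helper23
open Cfsg.Agent.Lib.helper27

theorem conj_to_rep {G : Type*} [Group G] (y n : G) (q m : ℕ) (hq : orderOf y = q) (hq0 : 0 < q)
    (hn : n * y = y ^ m * n)
    (hnum : ∀ k < q, k ≠ 0 → ∃ i, (m ^ i * k) % q = 1 ∨ (m ^ i * k) % q = q - 1)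
    (k : ℕ) (hk : y ^ k ≠ 1) : ∃ u : G, u * y ^ k * u⁻¹ = y ∨ u * y ^ k * u⁻¹ = y⁻¹ := by
  have hk0 : k % q ≠ 0 := by
    intro h0
    apply hk
    rw [← pow_mod_orderOf, hq, h0, pow_zero]
  obtain ⟨i, hi⟩ := hnum (k % q) (Nat.mod_lt _ hq0) hk0
  refine ⟨n ^ i, ?_⟩
  have h1 : n ^ i * y ^ k * (n ^ i)⁻¹ = y ^ ((m ^ i * (k % q)) % q) := by
    rw [← conj_pow, conj_pow_rel_gen hn i, ← pow_mul, ← pow_mod_orderOf, hq, ← Nat.mul_mod_mod]
  rw [h1]
  rcases hi with h | h
  · left; rw [h, pow_one]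
  · right
    rw [h]
    have : y ^ (q - 1) * y = 1 := by
      rw [← pow_succ, Nat.sub_add_cancel hq0, ← hq, pow_orderOf_eq_one]
    exact eq_inv_of_mul_eq_one_left this

theorem conj_to_rep1 {G : Type*} [Group G] (y n : G) (q m : ℕ) (hq : orderOf y = q) (hq0 : 0 < q)
    (hn : n * y = y ^ m * n)
    (hnum : ∀ k < q, k ≠ 0 → ∃ i, (m ^ i * k) % q = 1)
    (k : ℕ) (hk : y ^ k ≠ 1) : ∃ u : G, u * y ^ k * u⁻¹ = y := by
  have hk0 : k % q ≠ 0 := by
    intro h0
    apply hk
    rw [← pow_mod_orderOf, hq, h0, pow_zero]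
  obtain ⟨i, hi⟩ := hnum (k % q) (Nat.mod_lt _ hq0) hk0
  refine ⟨n ^ i, ?_⟩
  have h1 : n ^ i * y ^ k * (n ^ i)⁻¹ = y ^ ((m ^ i * (k % q)) % q) := by
    rw [← conj_pow, conj_pow_rel_gen hn i, ← pow_mul, ← pow_mod_orderOf, hq, ← Nat.mul_mod_mod]
  rw [h1, hi, pow_one]

theorem commute_of_pow {G : Type*} [Group G] (y c : G) (q : ℕ) (hqp : q.Prime)
    (hq : orderOf y = q) (k : ℕ) (hk : y ^ k ≠ 1) (hc : c * y ^ k = y ^ k * c) :
    c * y = y * c := by
  have hnd : ¬ q ∣ k := by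
    intro h
    apply hk
    rw [← hq] at h
    exact orderOf_dvd_iff_pow_eq_one.mp h
  have hcop : Nat.Coprime k q := (Nat.Coprime.symm ((Nat.Prime.coprime_iff_not_dvd hqp).mpr hnd))
  obtain ⟨m, -, hm⟩ := Nat.exists_mul_mod_eq_one_of_coprime hcop hqp.one_lt
  have e : y = (y ^ k) ^ m := by
    rw [← pow_mul, ← pow_mod_orderOf, hq, hm, pow_one]
  have hcomm : Commute c ((y ^ k) ^ m) := (show Commute c (y ^ k) from hc).pow_right m
  rw [← e] at hcomm
  exact hcomm.eq

theorem exists_conj_pow {G : Type*} [Group G] [Finite G] (q : ℕ) [Fact q.Prime]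
    (hq2 : ¬ q ^ 2 ∣ Nat.card G) (w y : G) (hw : orderOf w = q) (hy : orderOf y = q) :
    ∃ (u : G) (k : ℕ), u * w * u⁻¹ = y ^ k := by
  obtain ⟨g, hg⟩ := exists_conj_of_card_prime hq2 (Subgroup.zpowers w) (Subgroup.zpowers y)
    (by rw [Nat.card_zpowers, hw]) (by rw [Nat.card_zpowers, hy])
  have h1 : g * w * g⁻¹ ∈ Subgroup.zpowers y := by
    rw [← hg]
    exact Subgroup.mem_map_of_mem _ (Subgroup.mem_zpowers w)
  obtain ⟨n, hn⟩ := (Submonoid.mem_powers_iff _ _).mp (mem_powers_iff_mem_zpowers.mpr h1)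
  exact ⟨g, n, hn.symm⟩

/-- An element whose order is divisible by a prime `q` with cyclic Sylow subgroup generated by `y`
with cyclic centralizer is conjugate to a power of `y`. -/
theorem case_q {G : Type*} [Group G] [Finite G] (q : ℕ) [Fact q.Prime]
    (hq2 : ¬ q ^ 2 ∣ Nat.card G) (y : G) (hy : orderOf y = q)
    (hcent : ∀ c : G, c * y = y * c → ∃ i : ℕ, c = y ^ i) (w : G) (hqw : q ∣ orderOf w) :
    ∃ (u : G) (i : ℕ), u * w * u⁻¹ = y ^ i := by
  have hqp : q.Prime := Fact.out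
  have hn0 : orderOf w ≠ 0 := (orderOf_pos w).ne'
  have h1 : orderOf (w ^ (orderOf w / q)) = q := orderOf_pow_orderOf_div hn0 hqw
  obtain ⟨u, k, huk⟩ := exists_conj_pow q hq2 _ y h1 hy
  have hk : y ^ k ≠ 1 := by
    intro h
    rw [h] at huk
    have : w ^ (orderOf w / q) = 1 := by
      have h2 := congrArg (fun z => u⁻¹ * z * u) huk
      simp only [mul_one, inv_mul_cancel] at h2
      rw [← h2]; group
    rw [this, orderOf_one] at h1
    exact hqp.one_lt.ne' h1.symm
  have hpow : (u * w * u⁻¹) ^ (orderOf w / q) = y ^ k := by rw [conj_pow, huk]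
  have hc : (u * w * u⁻¹) * y ^ k = y ^ k * (u * w * u⁻¹) := by
    rw [← hpow, ← pow_succ', ← pow_succ]
  obtain ⟨i, hi⟩ := hcent _ (commute_of_pow y _ q hqp hy k hk hc)
  exact ⟨u, i, hi⟩

/-- An involution in the centralizer makes its order even. -/
theorem even_cent {G : Type*} [Group G] [Finite G] (w t : G) (ht : orderOf t = 2)
    (htw : t * w = w * t) : 2 ∣ Nat.card (Subgroup.centralizer ({w} : Set G)) := by
  have hmem : t ∈ Subgroup.centralizer ({w} : Set G) := by
    rw [Subgroup.mem_centralizer_iff]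
    intro h hh
    rw [Set.mem_singleton_iff] at hh
    rw [hh]; exact htw.symm
  have h1 : orderOf (⟨t, hmem⟩ : ↥(Subgroup.centralizer ({w} : Set G))) = 2 := by
    rw [← ht, ← Subgroup.orderOf_coe]
  rw [← h1]
  exact orderOf_dvd_natCard _

/-- The sum of a list of values classified by labels: the values with label 0 are in the local
ideal, and those with label `i + 1` are equal to `v i`. -/
theorem sum_labels {M : Ideal AlgInt} (hMp : M.IsPrime) (v : ℕ → ℂ) :
    ∀ (Z : List (ℂ × ℕ)),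
      (∀ z ∈ Z, z.2 ≤ 5 ∧ (z.2 = 0 → MemLocalIdeal M z.1) ∧ (∀ i, z.2 = i + 1 → z.1 = v i)) →
      MemLocalIdeal M ((Z.map Prod.fst).sum
        - (((Z.map Prod.snd).count 1 : ℂ) * v 0 + ((Z.map Prod.snd).count 2 : ℂ) * v 1
          + ((Z.map Prod.snd).count 3 : ℂ) * v 2 + ((Z.map Prod.snd).count 4 : ℂ) * v 3
          + ((Z.map Prod.snd).count 5 : ℂ) * v 4))
  | [], _ => by simpa using memLocalIdeal_zero hMp.ne_top
  | z :: Z, h => by
    have ih := sum_labels hMp v Z (fun z' hz' => h z' (List.mem_cons_of_mem _ hz'))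
    obtain ⟨hle, h0, h1⟩ := h z List.mem_cons_self
    obtain ⟨a, k⟩ := z
    simp only at hle h0 h1
    simp only [List.map_cons, List.sum_cons, List.count_cons]
    interval_cases k
    · have := memLocalIdeal_add hMp (h0 rfl) ih
      convert this using 1
      simp
      ring
    · rw [h1 0 rfl]
      convert ih using 1
      simp
      ring
    · rw [h1 1 rfl]
      convert ih using 1
      simp
      ring
    · rw [h1 2 rfl]
      convert ih using 1
      simp
      ring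
    · rw [h1 3 rfl]
      convert ih using 1
      simp
      ring
    · rw [h1 4 rfl]
      convert ih using 1
      simp
      ring

end Cfsg.Agent.Lib.helper27.TB
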