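import Cfsg.Agent.Lib.helper27.Leech
import Cfsg.Prelude.Def_Spor_Conway

set_option autoImplicit false

namespace Cfsg.Agent.Lib.helper27

open Cfsg
open Cfsg.Agent.Lib.helper28

/-! Index computations for the rank-24 lattice. -/

/-- The code has 4096 words. -/
theorem card_golayCode : Nat.card golayCode = 4096 := by
  have hbij : Function.Bijective
      (fun n : Fin 4096 => (⟨wordOf (cw n), wordOf_cw_mem n⟩ : golayCode)) := by
    constructor
    · intro a b h
      have h1 : wordOf (cw a) = wordOf (cw b) := congrArg Subtype.val h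
      have h2 := congrArg maskW h1
      rw [maskW_wordOf (cw_lt a.2), maskW_wordOf (cw_lt b.2)] at h2
      have h3 : cw a >>> 12 = cw b >>> 12 := by rw [h2]
      rw [cw_shift a.2, cw_shift b.2] at h3
      exact Fin.ext h3
    · rintro ⟨w, hw⟩
      obtain ⟨n, hn, h⟩ := exists_cw_of_mem hw
      refine ⟨⟨n, hn⟩, Subtype.ext ?_⟩
      show wordOf (cw n) = w
      rw [← h, wordOf_maskW]
  rw [← Nat.card_eq_of_bijective _ hbij, Nat.card_fin]

theorem support₂_injective : Function.Injective (support₂ : (GolayPt → ZMod 2) → Finset GolayPt) := by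
  intro w w' h
  funext i
  have hi : i ∈ support₂ w ↔ i ∈ support₂ w' := by rw [h]
  unfold support₂ at hi
  rw [Finset.mem_filter, Finset.mem_filter] at hi
  simp only [Finset.mem_univ, true_and] at hi
  rcases zmod2_cases (w i) with h1 | h1 <;> rcases zmod2_cases (w' i) with h2 | h2
  · rw [h1, h2]
  · exfalso; rw [h1, h2] at hi; simp at hi
  · exfalso; rw [h1, h2] at hi; simp at hi
  · rw [h1, h2]

theorem mem_golayCode_iff_support (w : GolayPt → ZMod 2) : w ∈ golayCode ↔ support₂ w ∈ GC := by
  constructor
  · intro hw; exact ⟨w, hw, rfl⟩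
  · rintro ⟨w', hw', h⟩
    rw [← support₂_injective h]; exact hw'

theorem intCast_zmod2_eq_zero (a : ℤ) : ((a : ℤ) : ZMod 2) = 0 ↔ a % 2 = 0 := by
  rw [ZMod.intCast_zmod_eq_zero_iff_dvd]
  push_cast
  omega

/-- The word `x / 2 mod 2` of a vector with even coordinates. -/
def halfWord (x : GolayPt → ℤ) : GolayPt → ZMod 2 := fun i => ((x i / 2 : ℤ) : ZMod 2)

theorem support₂_halfWord {x : GolayPt → ℤ} (hx : ∀ i, x i % 2 = 0) :
    support₂ (halfWord x) = resSet x 2 := by
  ext i
  unfold support₂ halfWord
  rw [Finset.mem_filter, mem_resSet]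
  simp only [Finset.mem_univ, true_and, ne_eq]
  rw [intCast_zmod2_eq_zero]
  have := hx i
  omega

theorem halfWord_add {x y : GolayPt → ℤ} (hx : ∀ i, x i % 2 = 0) (hy : ∀ i, y i % 2 = 0) :
    halfWord (x + y) = halfWord x + halfWord y := by
  funext i
  unfold halfWord
  simp only [Pi.add_apply]
  rw [← Int.cast_add]
  congr 1
  have := hx i
  have := hy i
  omega

/-- General tool: relative index from a homomorphism with prescribed kernel. -/
theorem relIndex_eq_card_range {E H : Type*} [AddCommGroup E] [AddCommGroup H]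
    (K' K : AddSubgroup E) (f : K →+ H) (hker : ∀ x : K, f x = 0 ↔ (x : E) ∈ K') :
    K'.relIndex K = Nat.card f.range := by
  have h : K'.addSubgroupOf K = f.ker := by
    ext x
    rw [AddSubgroup.mem_addSubgroupOf, AddMonoidHom.mem_ker, hker]
  unfold AddSubgroup.relIndex
  rw [h, AddSubgroup.index_ker]

theorem relIndex_eq_card_of_surjective {E H : Type*} [AddCommGroup E] [AddCommGroup H]
    (K' K : AddSubgroup E) (f : K →+ H) (hker : ∀ x : K, f x = 0 ↔ (x : E) ∈ K')
    (hsurj : Function.Surjective f) : K'.relIndex K = Nat.card H := by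
  rw [relIndex_eq_card_range K' K f hker, AddMonoidHom.range_eq_top.mpr hsurj]
  exact AddSubgroup.card_top

/-! ### Sublattices -/

/-- Vectors with all coordinates even. -/
def evenSub : AddSubgroup (GolayPt → ℤ) where
  carrier := {x | ∀ i, x i % 2 = 0}
  add_mem' := by
    intro x y hx hy i
    have := hx i
    have := hy i
    simp only [Pi.add_apply]
    omega
  zero_mem' := fun _ => rfl
  neg_mem' := by
    intro x hx i
    have := hx i
    simp only [Pi.neg_apply]
    omega

/-- Vectors with all coordinates divisible by 4. -/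
def fourSub : AddSubgroup (GolayPt → ℤ) where
  carrier := {x | ∀ i, x i % 4 = 0}
  add_mem' := by
    intro x y hx hy i
    have := hx i
    have := hy i
    simp only [Pi.add_apply]
    omega
  zero_mem' := fun _ => rfl
  neg_mem' := by
    intro x hx i
    have := hx i
    simp only [Pi.neg_apply]
    omega

/-- Lattice vectors with even coordinates. -/
def leechEven : AddSubgroup (GolayPt → ℤ) := leechSub ⊓ evenSub

/-- Lattice vectors with coordinates divisible by 4. -/
def leechFour : AddSubgroup (GolayPt → ℤ) := leechSub ⊓ fourSub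

/-- Lattice vectors all of whose coordinates are congruent to the same even number modulo 4. -/
def leechA : AddSubgroup (GolayPt → ℤ) where
  carrier := {x | x ∈ leechSet ∧ ∃ c : ℤ, ∀ i, x i % 4 = (2 * c) % 4}
  add_mem' := by
    rintro x y ⟨hx, c, hc⟩ ⟨hy, d, hd⟩
    refine ⟨add_mem_leechSet hx hy, c + d, fun i => ?_⟩
    have := hc i
    have := hd i
    simp only [Pi.add_apply]
    omega
  zero_mem' := ⟨zero_mem_leechSet, 0, fun _ => rfl⟩
  neg_mem' := by
    rintro x ⟨hx, c, hc⟩
    refine ⟨neg_mem_leechSet hx, -c, fun i => ?_⟩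
    have := hc i
    simp only [Pi.neg_apply]
    omega

theorem leechFour_le_leechA : leechFour ≤ leechA := by
  rintro x ⟨hx, h4⟩
  exact ⟨hx, 0, fun i => by rw [h4 i]; rfl⟩

theorem leechA_le_leechEven : leechA ≤ leechEven := by
  rintro x ⟨hx, c, hc⟩
  refine ⟨hx, fun i => ?_⟩
  have := hc i
  omega

theorem leechEven_le_leechSub : leechEven ≤ leechSub := inf_le_left

/-- Parity of a lattice vector. -/
def parityHom : leechSub →+ ZMod 2 where
  toFun x := ((x.1 none : ℤ) : ZMod 2)
  map_zero' := by
    show (((0 : GolayPt → ℤ) none : ℤ) : ZMod 2) = 0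
    simp
  map_add' x y := by
    show (((x.1 + y.1) none : ℤ) : ZMod 2) = _
    rw [Pi.add_apply, Int.cast_add]

theorem relIndex_leechEven : leechEven.relIndex leechSub = 2 := by
  rw [relIndex_eq_card_of_surjective leechEven leechSub parityHom ?_ ?_, Nat.card_zmod]
  · intro x
    show ((x.1 none : ℤ) : ZMod 2) = 0 ↔ x.1 ∈ leechSub ⊓ evenSub
    rw [intCast_zmod2_eq_zero]
    constructor
    · intro h
      refine ⟨x.2, fun i => ?_⟩
      obtain ⟨m, h1, -, -⟩ := (mem_leechSet_iff _).mp x.2
      have := h1 i
      have := h1 none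
      omega
    · rintro ⟨-, h⟩
      exact h none
  · intro y
    rcases zmod2_cases y with rfl | rfl
    · exact ⟨0, map_zero _⟩
    · refine ⟨⟨Spor.vecV, Spor.vecV_mem_leechSet⟩, ?_⟩
      show ((Spor.vecV none : ℤ) : ZMod 2) = 1
      decide

/-- The vector with coordinate 2 on a code word and 0 elsewhere is in the lattice. -/
theorem two_indicator_mem_leechSet {c : Finset GolayPt} (hc : c ∈ GC) :
    (fun i => if i ∈ c then (2 : ℤ) else 0) ∈ leechSet := by
  rw [mem_leechSet_iff]
  refine ⟨0, fun i => ?_, ?_, fun k => ?_⟩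
  · show (if i ∈ c then (2 : ℤ) else 0) % 2 = 0 % 2
    split_ifs <;> rfl
  · rw [Finset.sum_ite_mem, Finset.univ_inter, Finset.sum_const]
    obtain ⟨q, hq⟩ := four_dvd_card_of_mem_supports hc
    rw [hq]
    simp only [nsmul_eq_mul]
    push_cast
    omega
  · by_cases h2 : k % 4 = 2
    · have he : resSet (fun i => if i ∈ c then (2 : ℤ) else 0) k = c := by
        ext i
        rw [mem_resSet]
        show (if i ∈ c then (2 : ℤ) else 0) % 4 = k % 4 ↔ _
        split_ifs with hi
        · exact ⟨fun _ => hi, fun _ => by omega⟩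
        · exact ⟨fun h => by omega, fun h => absurd h hi⟩
      rw [he]; exact hc
    · by_cases h0 : k % 4 = 0
      · have he : resSet (fun i => if i ∈ c then (2 : ℤ) else 0) k = cᶜ := by
          ext i
          rw [mem_resSet, Finset.mem_compl]
          show (if i ∈ c then (2 : ℤ) else 0) % 4 = k % 4 ↔ _
          split_ifs with hi
          · exact ⟨fun h => by omega, fun h => absurd hi h⟩
          · exact ⟨fun _ => hi, fun _ => by omega⟩
        rw [he]; exact compl_mem_supports hc
      · have he : resSet (fun i => if i ∈ c then (2 : ℤ) else 0) k = ∅ := by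
          ext i
          rw [mem_resSet]
          simp only [Finset.notMem_empty, iff_false]
          show ¬ (if i ∈ c then (2 : ℤ) else 0) % 4 = k % 4
          split_ifs <;> omega
        rw [he]; exact empty_mem_supports

/-- Half of an even lattice vector, modulo 2. -/
def halfHom : leechEven →+ (GolayPt → ZMod 2) where
  toFun x := halfWord x.1
  map_zero' := by
    funext i
    show (((0 : GolayPt → ℤ) i / 2 : ℤ) : ZMod 2) = 0
    simp
  map_add' x y := halfWord_add (AddSubgroup.mem_inf.mp x.2).2 (AddSubgroup.mem_inf.mp y.2).2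

theorem relIndex_leechFour_leechEven : leechFour.relIndex leechEven = 4096 := by
  rw [relIndex_eq_card_range leechFour leechEven halfHom ?_]
  · rw [← card_golayCode]
    apply Nat.card_congr
    refine Equiv.subtypeEquivRight (fun w => ?_)
    constructor
    · rintro ⟨x, rfl⟩
      show halfWord x.1 ∈ golayCode
      have hx := AddSubgroup.mem_inf.mp x.2
      rw [mem_golayCode_iff_support, support₂_halfWord hx.2]
      rcases leechSet_cases hx.1 with ⟨_, _, h3⟩ | ⟨h1, _, _⟩
      · exact h3
      · exfalso
        have := h1 none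
        have := hx.2 none
        omega
    · intro hw
      have hc : support₂ w ∈ GC := (mem_golayCode_iff_support w).mp hw
      have hmem := two_indicator_mem_leechSet hc
      have heven : (fun i => if i ∈ support₂ w then (2 : ℤ) else 0) ∈ evenSub := by
        intro i
        show (if i ∈ support₂ w then (2 : ℤ) else 0) % 2 = 0
        split_ifs <;> rfl
      refine ⟨⟨_, hmem, heven⟩, ?_⟩
      show halfWord (fun i => if i ∈ support₂ w then (2 : ℤ) else 0) = w
      funext i
      show (((if i ∈ support₂ w then (2 : ℤ) else 0) / 2 : ℤ) : ZMod 2) = w i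
      have hi : i ∈ support₂ w ↔ w i ≠ 0 := by
        unfold support₂
        rw [Finset.mem_filter]
        simp
      rcases zmod2_cases (w i) with h | h
      · have hni : i ∉ support₂ w := by rw [hi, h]; simp
        rw [if_neg hni, h]
        simp
      · have hin : i ∈ support₂ w := by rw [hi, h]; decide
        rw [if_pos hin, h]
        decide
  · intro x
    have hx := AddSubgroup.mem_inf.mp x.2
    show halfWord x.1 = 0 ↔ x.1 ∈ leechSub ⊓ fourSub
    constructor
    · intro h
      refine ⟨hx.1, fun i => ?_⟩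
      have hi := congrFun h i
      unfold halfWord at hi
      rw [Pi.zero_apply, intCast_zmod2_eq_zero] at hi
      have := hx.2 i
      omega
    · rintro ⟨-, h4⟩
      funext i
      unfold halfWord
      rw [Pi.zero_apply, intCast_zmod2_eq_zero]
      have := h4 i
      omega

/-- Half of the coordinate at the extra point, modulo 2. -/
def halfParityHom : leechA →+ ZMod 2 where
  toFun x := ((x.1 none / 2 : ℤ) : ZMod 2)
  map_zero' := by
    show (((0 : GolayPt → ℤ) none / 2 : ℤ) : ZMod 2) = 0
    simp
  map_add' x y := by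
    show (((x.1 + y.1) none / 2 : ℤ) : ZMod 2) = _
    rw [Pi.add_apply, ← Int.cast_add]
    congr 1
    obtain ⟨-, c, hc⟩ := x.2
    obtain ⟨-, d, hd⟩ := y.2
    have := hc none
    have := hd none
    omega

theorem allTwo_mem_leechA : (fun _ => (2 : ℤ)) ∈ leechA := by
  refine ⟨Spor.mem_leechSet_of_const_mod_four _ 0 2 (by decide) (fun _ => Int.ModEq.refl _) ?_,
    1, fun _ => rfl⟩
  rw [Finset.sum_const, Finset.card_univ, card_golayPt]
  decide

theorem relIndex_leechFour_leechA : leechFour.relIndex leechA = 2 := by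
  rw [relIndex_eq_card_of_surjective leechFour leechA halfParityHom ?_ ?_, Nat.card_zmod]
  · intro x
    show ((x.1 none / 2 : ℤ) : ZMod 2) = 0 ↔ x.1 ∈ leechSub ⊓ fourSub
    rw [intCast_zmod2_eq_zero]
    obtain ⟨hx, c, hc⟩ := x.2
    constructor
    · intro h
      refine ⟨hx, fun i => ?_⟩
      have := hc i
      have := hc none
      omega
    · rintro ⟨-, h4⟩
      have := h4 none
      omega
  · intro y
    rcases zmod2_cases y with rfl | rfl
    · exact ⟨0, map_zero _⟩
    · refine ⟨⟨_, allTwo_mem_leechA⟩, ?_⟩
      show ((((2 : ℤ) / 2 : ℤ)) : ZMod 2) = 1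
      decide

theorem relIndex_leechA : leechA.relIndex leechSub = 2 ^ 12 := by
  have h1 := AddSubgroup.relIndex_mul_relIndex leechFour leechA leechEven leechFour_le_leechA
    leechA_le_leechEven
  have h2 := AddSubgroup.relIndex_mul_relIndex leechA leechEven leechSub leechA_le_leechEven
    leechEven_le_leechSub
  rw [relIndex_leechFour_leechA, relIndex_leechFour_leechEven] at h1
  rw [relIndex_leechEven] at h2
  omega

theorem two_smul_mem_leechA {v : GolayPt → ℤ} (hv : v ∈ leechSet) : (2 : ℤ) • v ∈ leechA := by
  have h2 : (2 : ℤ) • v = v + v := by rw [two_smul]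
  rw [h2]
  refine ⟨add_mem_leechSet hv hv, ?_⟩
  obtain ⟨m, h1, -, -⟩ := (mem_leechSet_iff v).mp hv
  refine ⟨m, fun i => ?_⟩
  have := h1 i
  simp only [Pi.add_apply]
  omega

theorem thirtytwo_dvd_sqNorm_of_mem_leechA {v : GolayPt → ℤ} (hv : v ∈ leechA) :
    (32 : ℤ) ∣ sqNorm v := by
  obtain ⟨hv, c, hc⟩ := hv
  unfold sqNorm
  rcases Int.emod_two_eq_zero_or_one c with hc2 | hc2
  · have h4 : ∀ i, v i % 4 = 0 := fun i => by
      have := hc i
      omega
    have hs := modEq_sum Finset.univ (fun i => v i ^ 2) (fun i => 4 * v i) 32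
      (fun i _ => sq_four (v i) (h4 i))
    rw [← Finset.mul_sum] at hs
    rcases leechSet_cases hv with ⟨_, h2, _⟩ | ⟨h1, _, _⟩
    · omega
    · exfalso
      have := h1 none
      have := h4 none
      omega
  · have h4 : ∀ i, v i % 4 = 2 := fun i => by
      have := hc i
      omega
    have hs := modEq_sum Finset.univ (fun i => v i ^ 2) (fun _ => (4 : ℤ)) 32
      (fun i _ => by
        show v i ^ 2 % 32 = 4 % 32
        rw [sq_two (v i) (h4 i)]; rfl)
    rw [Finset.sum_const, Finset.card_univ, card_golayPt] at hs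
    simp only [nsmul_eq_mul] at hs
    push_cast at hs
    omega

end Cfsg.Agent.Lib.helper27
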