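import Cfsg.Agent.Lib.helper27.GolayMod
import Cfsg.Agent.Lib.helper27.LeechIndex

set_option autoImplicit false

namespace Cfsg.Agent.Lib.helper27

open Cfsg
open Cfsg.Agent.Lib.helper28
open scoped Pointwise

/-! Duality on binary words of length 24. -/

/-- The dot product as a bilinear form. -/
noncomputable def dotB : LinearMap.BilinForm (ZMod 2) (GolayPt → ZMod 2) :=
  Matrix.toBilin' (1 : Matrix GolayPt GolayPt (ZMod 2))

theorem dotB_apply (x y : GolayPt → ZMod 2) : dotB x y = ∑ p, x p * y p := by
  unfold dotB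
  rw [Matrix.toBilin'_apply']
  simp [dotProduct]

theorem dotB_nondeg : dotB.Nondegenerate := by
  unfold dotB
  apply Matrix.Nondegenerate.toBilin'
  apply Matrix.nondegenerate_of_det_ne_zero
  rw [Matrix.det_one]
  exact one_ne_zero

theorem dotB_comm (x y : GolayPt → ZMod 2) : dotB x y = dotB y x := by
  rw [dotB_apply, dotB_apply]
  exact Finset.sum_congr rfl fun p _ => mul_comm _ _

theorem dotB_refl : dotB.IsRefl := by
  intro x y h
  rw [dotB_comm]
  exact h

/-- The orthogonal complement. -/
noncomputable def perp (W : Submodule (ZMod 2) (GolayPt → ZMod 2)) :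
    Submodule (ZMod 2) (GolayPt → ZMod 2) := dotB.orthogonal W

theorem mem_perp_iff (W : Submodule (ZMod 2) (GolayPt → ZMod 2)) (x : GolayPt → ZMod 2) :
    x ∈ perp W ↔ ∀ w ∈ W, dotB w x = 0 := by
  unfold perp
  rw [LinearMap.BilinForm.mem_orthogonal_iff]

theorem perp_perp (W : Submodule (ZMod 2) (GolayPt → ZMod 2)) : perp (perp W) = W :=
  LinearMap.BilinForm.orthogonal_orthogonal dotB_nondeg dotB_refl W

theorem perp_anti {W W' : Submodule (ZMod 2) (GolayPt → ZMod 2)} (h : W ≤ W') :
    perp W' ≤ perp W := LinearMap.BilinForm.orthogonal_le h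

theorem perp_bot : perp ⊥ = ⊤ := LinearMap.BilinForm.orthogonal_bot

theorem perp_top : perp ⊤ = ⊥ := by
  rw [← perp_bot, perp_perp]

theorem dotB_eq_card (x y : GolayPt → ZMod 2) :
    dotB x y = ((support₂ x ∩ support₂ y).card : ZMod 2) := by
  rw [dotB_apply, Finset.card_eq_sum_ones, Nat.cast_sum, ← Finset.sum_filter_of_ne
    (s := Finset.univ) (p := fun p => p ∈ support₂ x ∩ support₂ y)
    (f := fun p => x p * y p)]
  · rw [Finset.filter_univ_mem]
    apply Finset.sum_congr rfl
    intro p hp
    rw [Finset.mem_inter, mem_support₂_iff, mem_support₂_iff] at hp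
    rcases zmod2_cases (x p) with h | h
    · exact absurd h hp.1
    · rcases zmod2_cases (y p) with h' | h'
      · exact absurd h' hp.2
      · rw [h, h']; simp
  · intro p _ hp
    rw [Finset.mem_inter, mem_support₂_iff, mem_support₂_iff]
    exact ⟨left_ne_zero_of_mul hp, right_ne_zero_of_mul hp⟩

theorem golayCode_le_perp : golayCode ≤ perp golayCode := by
  intro x hx
  rw [mem_perp_iff]
  intro w hw
  rw [dotB_eq_card]
  have h := even_card_inter_of_mem_supports (s := support₂ w) (t := support₂ x)
    ⟨w, hw, rfl⟩ ⟨x, hx, rfl⟩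
  exact (ZMod.natCast_eq_zero_iff_even).mpr h

theorem finrank_golayCode : Module.finrank (ZMod 2) golayCode = 12 := by
  have h1 : Nat.card golayCode = 2 ^ Module.finrank (ZMod 2) golayCode := by
    rw [Module.natCard_eq_pow_finrank (K := ZMod 2), Nat.card_zmod]
  rw [card_golayCode] at h1
  have h2 : (2 : ℕ) ^ 12 = 2 ^ Module.finrank (ZMod 2) golayCode := by rw [← h1]; norm_num
  exact (Nat.pow_right_injective (le_refl 2) h2).symm

theorem finrank_words : Module.finrank (ZMod 2) (GolayPt → ZMod 2) = 24 := by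
  rw [Module.finrank_pi, card_golayPt24]

theorem perp_golayCode : perp golayCode = golayCode := by
  symm
  apply Submodule.eq_of_le_of_finrank_eq golayCode_le_perp
  unfold perp
  rw [LinearMap.BilinForm.finrank_orthogonal dotB_nondeg, finrank_words, finrank_golayCode]

theorem dotB_act (σ : Equiv.Perm GolayPt) (x y : GolayPt → ZMod 2) :
    dotB (fun p => x (σ.symm p)) (fun p => y (σ.symm p)) = dotB x y := by
  rw [dotB_apply, dotB_apply]
  exact Equiv.sum_comp σ.symm (fun p => x p * y p)

theorem perp_invariant (G : Subgroup (Equiv.Perm GolayPt))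
    (W : Submodule (ZMod 2) (GolayPt → ZMod 2))
    (hW : ∀ σ ∈ G, ∀ w ∈ W, (fun p => w (σ.symm p)) ∈ W) :
    ∀ σ ∈ G, ∀ w ∈ perp W, (fun p => w (σ.symm p)) ∈ perp W := by
  intro σ hσ w hw
  rw [mem_perp_iff] at hw ⊢
  intro v hv
  have h1 := hW σ⁻¹ (G.inv_mem hσ) v hv
  have h2 := hw _ h1
  rw [← dotB_act σ] at h2
  have e : (fun p => (fun p => v ((σ⁻¹ : Equiv.Perm GolayPt).symm p)) (σ.symm p)) = v := by
    funext p
    show v (σ (σ.symm p)) = v p
    rw [Equiv.apply_symm_apply]
  rw [e] at h2
  exact h2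

theorem mem_perp_one_iff (x : GolayPt → ZMod 2) :
    x ∈ perp (Submodule.span (ZMod 2) {fun _ => (1 : ZMod 2)}) ↔ ∑ p, x p = 0 := by
  rw [mem_perp_iff]
  constructor
  · intro h
    have h1 := h _ (Submodule.subset_span rfl)
    rw [dotB_apply] at h1
    simpa using h1
  · intro h w hw
    obtain ⟨a, rfl⟩ := Submodule.mem_span_singleton.mp hw
    rw [dotB_apply]
    simp only [Pi.smul_apply, smul_eq_mul, mul_one]
    rw [← Finset.mul_sum, h, mul_zero]

theorem golayCode_invariant (σ : Equiv.Perm GolayPt) (hσ : σ ∈ M24) (c : GolayPt → ZMod 2)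
    (hc : c ∈ golayCode) : (fun p => c (σ.symm p)) ∈ golayCode := by
  rw [← wordOfSet_support₂ (fun p => c (σ.symm p)), support₂_act]
  exact wordOfSet_mem_golayCode (smul_mem_supports hσ ⟨c, hc, rfl⟩)

theorem mem_span_one_iff (x : GolayPt → ZMod 2) :
    x ∈ Submodule.span (ZMod 2) {fun _ : GolayPt => (1 : ZMod 2)} ↔
      x = 0 ∨ x = fun _ => (1 : ZMod 2) := by
  rw [Submodule.mem_span_singleton]
  constructor
  · rintro ⟨a, rfl⟩
    rcases zmod2_cases a with h | h
    · left; rw [h, zero_smul]
    · right; rw [h, one_smul]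
  · rintro (h | h)
    · exact ⟨0, by rw [h, zero_smul]⟩
    · exact ⟨1, by rw [h, one_smul]⟩

/-- A subspace of the span of the all-ones word. -/
theorem le_span_one_cases (W : Submodule (ZMod 2) (GolayPt → ZMod 2))
    (h : W ≤ Submodule.span (ZMod 2) {fun _ : GolayPt => (1 : ZMod 2)}) :
    W = ⊥ ∨ W = Submodule.span (ZMod 2) {fun _ : GolayPt => (1 : ZMod 2)} := by
  by_cases h1 : (fun _ : GolayPt => (1 : ZMod 2)) ∈ W
  · right
    apply le_antisymm h
    rw [Submodule.span_le]
    intro x hx
    rw [Set.mem_singleton_iff] at hx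
    rw [hx]; exact h1
  · left
    rw [eq_bot_iff]
    intro x hx
    rcases (mem_span_one_iff x).mp (h hx) with h0 | h0
    · rw [h0]; exact Submodule.zero_mem _
    · rw [h0] at hx; exact absurd hx h1

/-- An invariant subspace of the code is zero, the span of the all-ones word, or the code. -/
theorem invariant_le_code (W : Submodule (ZMod 2) (GolayPt → ZMod 2))
    (hW : ∀ σ ∈ M24, ∀ w ∈ W, (fun p => w (σ.symm p)) ∈ W) (hC : W ≤ golayCode) :
    W = ⊥ ∨ W = Submodule.span (ZMod 2) {fun _ : GolayPt => (1 : ZMod 2)} ∨ W = golayCode := by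
  by_cases h : W ≤ Submodule.span (ZMod 2) {fun _ : GolayPt => (1 : ZMod 2)}
  · rcases le_span_one_cases W h with h' | h'
    · exact Or.inl h'
    · exact Or.inr (Or.inl h')
  · right; right
    apply le_antisymm hC
    obtain ⟨w, hwW, hw⟩ := Set.not_subset.mp h
    apply golayCode_le_of_mem W hW (hC hwW) hwW
    · intro h0
      apply hw
      rw [h0]
      exact Submodule.zero_mem _
    · intro h1'
      apply hw
      rw [h1']
      exact Submodule.subset_span rfl

/-- An invariant subspace containing the code is the code, the even words, or everything. -/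
theorem invariant_ge_code (W : Submodule (ZMod 2) (GolayPt → ZMod 2))
    (hW : ∀ σ ∈ M24, ∀ w ∈ W, (fun p => w (σ.symm p)) ∈ W) (hC : golayCode ≤ W) :
    W = golayCode ∨ W = perp (Submodule.span (ZMod 2) {fun _ : GolayPt => (1 : ZMod 2)}) ∨
      W = ⊤ := by
  have h1 : perp W ≤ golayCode := by
    have := perp_anti hC
    rwa [perp_golayCode] at this
  rcases invariant_le_code (perp W) (perp_invariant M24 W hW) h1 with h | h | h
  · right; right
    rw [← perp_perp W, h, perp_bot]
  · right; left
    rw [← perp_perp W, h]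
  · left
    rw [← perp_perp W, h, perp_golayCode]

theorem sum_wordOfSet (s : Finset GolayPt) : ∑ p, wordOfSet s p = (s.card : ZMod 2) := by
  unfold wordOfSet
  rw [Finset.sum_ite_mem, Finset.univ_inter, Finset.sum_const, nsmul_eq_mul, mul_one]

/-- If all words of weight two lie in a subspace, so do all words of even weight. -/
theorem even_mem_of_pairs (W : Submodule (ZMod 2) (GolayPt → ZMod 2))
    (h : ∀ k l : GolayPt, k ≠ l → wordOfSet {k, l} ∈ W) :
    ∀ (n : ℕ) (s : Finset GolayPt), s.card = 2 * n → wordOfSet s ∈ W := by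
  intro n
  induction n with
  | zero =>
    intro s hs
    have hs0 : s = ∅ := Finset.card_eq_zero.mp (by omega)
    rw [hs0, wordOfSet_empty]
    exact W.zero_mem
  | succ n ih =>
    intro s hs
    have hne : s.Nonempty := by
      rw [← Finset.card_pos]; omega
    obtain ⟨a, ha⟩ := hne
    have h1 : (s.erase a).card = 2 * n + 1 := by
      rw [Finset.card_erase_of_mem ha]; omega
    have hne' : (s.erase a).Nonempty := by
      rw [← Finset.card_pos]; omega
    obtain ⟨b, hb⟩ := hne'
    have h2 : ((s.erase a).erase b).card = 2 * n := by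
      rw [Finset.card_erase_of_mem hb]; omega
    have hab : a ≠ b := fun e => (Finset.ne_of_mem_erase hb) e.symm
    have hbs : b ∈ s := Finset.mem_of_mem_erase hb
    have e : s = symmDiff ((s.erase a).erase b) {a, b} := by
      ext p
      rw [Finset.mem_symmDiff, Finset.mem_erase, Finset.mem_erase, Finset.mem_insert,
        Finset.mem_singleton]
      by_cases hpa : p = a
      · subst hpa; tauto
      · by_cases hpb : p = b
        · subst hpb; tauto
        · tauto
    rw [e, wordOfSet_symmDiff]
    exact W.add_mem (ih _ h2) (h a b hab)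

theorem smul_pair (σ : Equiv.Perm GolayPt) (i j : GolayPt) :
    σ • ({i, j} : Finset GolayPt) = {σ i, σ j} := by
  ext p
  rw [mem_smul_iff, Finset.mem_insert, Finset.mem_singleton, Finset.mem_insert,
    Finset.mem_singleton, Equiv.Perm.inv_eq_iff_eq, Equiv.Perm.inv_eq_iff_eq]

theorem M24_fourTransitive : MulAction.IsMultiplyPretransitive M24 GolayPt 4 := by
  have := M24_fiveTransitive
  exact MulAction.isMultiplyPretransitive_of_le (n := 5) (by norm_num)
    (by rw [card_GolayPt]; norm_num)

theorem exists_mem_M24_apply₄ {p1 p2 p3 p4 q1 q2 q3 q4 : GolayPt}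
    (hp : [p1, p2, p3, p4].Nodup) (hq : [q1, q2, q3, q4].Nodup) :
    ∃ g ∈ M24, g p1 = q1 ∧ g p2 = q2 ∧ g p3 = q3 ∧ g p4 = q4 := by
  have inj : ∀ {a b c d : GolayPt}, [a, b, c, d].Nodup → Function.Injective ![a, b, c, d] := by
    intro a b c d h
    simp only [List.nodup_cons, List.mem_cons, List.not_mem_nil, or_false, not_or,
      not_false_eq_true, List.nodup_nil, and_true] at h
    obtain ⟨⟨h1, h2, h3⟩, ⟨h4, h5⟩, h6⟩ := h
    intro m n hmn
    fin_cases m <;> fin_cases n <;> simp_all
  let x : Fin 4 ↪ GolayPt := ⟨![p1, p2, p3, p4], inj hp⟩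
  let y : Fin 4 ↪ GolayPt := ⟨![q1, q2, q3, q4], inj hq⟩
  have h4 := M24_fourTransitive
  obtain ⟨g, hg⟩ := (MulAction.isMultiplyPretransitive_iff (G := M24) (α := GolayPt) (n := 4)).mp h4 x y
  have hk : ∀ k, g.1 (x k) = y k := by
    intro k
    have := congrArg (fun f : Fin 4 ↪ GolayPt => f k) hg
    exact this
  exact ⟨g.1, g.2, hk 0, hk 1, hk 2, hk 3⟩

theorem exists_mem_ne₃ (s : Finset GolayPt) (h : 4 ≤ s.card) (i j k : GolayPt) :
    ∃ a ∈ s, a ≠ i ∧ a ≠ j ∧ a ≠ k := by
  by_contra hno
  push Not at hno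
  have hsub : s ⊆ {i, j, k} := by
    intro p hp
    rw [Finset.mem_insert, Finset.mem_insert, Finset.mem_singleton]
    by_contra hp'
    push Not at hp'
    exact hp'.2.2 (hno p hp hp'.1 hp'.2.1)
  have := Finset.card_le_card hsub
  have h3 : ({i, j, k} : Finset GolayPt).card ≤ 3 := Finset.card_le_three
  omega

/-- A code word whose images under the stabiliser of two points are itself or its complement is
zero or the all-ones word. -/
theorem code_pair_stable {i j : GolayPt} (hij : i ≠ j) {c : GolayPt → ZMod 2}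
    (hc : c ∈ golayCode)
    (h : ∀ σ ∈ M24, σ i = i → σ j = j →
      (fun p => c (σ.symm p)) = c ∨ (fun p => c (σ.symm p)) = c + fun _ => (1 : ZMod 2)) :
    c = 0 ∨ c = fun _ => (1 : ZMod 2) := by
  have hs : support₂ c ∈ supports (golayCode : Set (GolayPt → ZMod 2)) := ⟨c, hc, rfl⟩
  have hS : ∀ σ ∈ M24, σ i = i → σ j = j →
      σ • support₂ c = support₂ c ∨ σ • support₂ c = (support₂ c)ᶜ := by
    intro σ hσ hi hj
    rcases h σ hσ hi hj with h' | h'
    · left
      rw [← support₂_act, h']
    · right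
      rw [← support₂_act, h', ← wordOfSet_support₂ c, ← wordOfSet_compl, support₂_wordOfSet,
        support₂_wordOfSet]
  have key : ∀ a b : GolayPt, a ≠ i → a ≠ j → b ≠ i → b ≠ j → a ∈ support₂ c →
      b ∈ support₂ c := by
    intro a b hai haj hbi hbj ha
    by_contra hb
    have hab : a ≠ b := fun e => hb (e ▸ ha)
    -- a third point of the support
    have hcard : 8 ≤ (support₂ c).card := by
      apply eight_le_card_of_mem_supports hs
      exact Finset.nonempty_iff_ne_empty.mp ⟨a, ha⟩
    have hex : ∃ a' ∈ support₂ c, a' ≠ i ∧ a' ≠ j ∧ a' ≠ a :=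
      exists_mem_ne₃ _ (by omega) i j a
    obtain ⟨a', ha', ha'i, ha'j, ha'a⟩ := hex
    have ha'b : a' ≠ b := fun e => hb (e ▸ ha')
    obtain ⟨σ, hσ, hσi, hσj, hσa', hσa⟩ := exists_mem_M24_apply₄ (p1 := i) (p2 := j) (p3 := a')
      (p4 := a) (q1 := i) (q2 := j) (q3 := a') (q4 := b)
      (by simp [hij, Ne.symm ha'i, Ne.symm hai, Ne.symm ha'j, Ne.symm haj, ha'a])
      (by simp [hij, Ne.symm ha'i, Ne.symm hbi, Ne.symm ha'j, Ne.symm hbj, ha'b])
    rcases hS σ hσ hσi hσj with h' | h'
    · apply hb
      have e : σ⁻¹ b = a := by rw [Equiv.Perm.inv_eq_iff_eq, hσa]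
      rw [← h', mem_smul_iff, e]
      exact ha
    · have : a' ∈ σ • support₂ c := by
        have e : σ⁻¹ a' = a' := by rw [Equiv.Perm.inv_eq_iff_eq, hσa']
        rw [mem_smul_iff, e]
        exact ha'
      rw [h', Finset.mem_compl] at this
      exact this ha'
  rcases card_of_mem_supports hs with h0 | h8 | h8 | h8 | h24
  · left
    rw [← wordOfSet_support₂ c, Finset.card_eq_zero.mp h0, wordOfSet_empty]
  · exfalso
    obtain ⟨a, ha, hai, haj, -⟩ := exists_mem_ne₃ (support₂ c) (by omega) i j i
    obtain ⟨b, hb, hbi, hbj, -⟩ := exists_mem_ne₃ (support₂ c)ᶜ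
      (by rw [Finset.card_compl, card_golayPt24]; omega) i j i
    rw [Finset.mem_compl] at hb
    exact hb (key a b hai haj hbi hbj ha)
  · exfalso
    obtain ⟨a, ha, hai, haj, -⟩ := exists_mem_ne₃ (support₂ c) (by omega) i j i
    obtain ⟨b, hb, hbi, hbj, -⟩ := exists_mem_ne₃ (support₂ c)ᶜ
      (by rw [Finset.card_compl, card_golayPt24]; omega) i j i
    rw [Finset.mem_compl] at hb
    exact hb (key a b hai haj hbi hbj ha)
  · exfalso
    obtain ⟨a, ha, hai, haj, -⟩ := exists_mem_ne₃ (support₂ c) (by omega) i j i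
    obtain ⟨b, hb, hbi, hbj, -⟩ := exists_mem_ne₃ (support₂ c)ᶜ
      (by rw [Finset.card_compl, card_golayPt24]; omega) i j i
    rw [Finset.mem_compl] at hb
    exact hb (key a b hai haj hbi hbj ha)
  · right
    have hu : support₂ c = Finset.univ := by
      apply Finset.eq_univ_of_card
      rw [h24]; decide
    rw [← wordOfSet_support₂ c, hu, wordOfSet_univ]

theorem add_self_word (x : GolayPt → ZMod 2) : x + x = 0 := by
  funext p
  exact CharTwo.add_self_eq_zero (x p)

theorem sup_invariant (G : Subgroup (Equiv.Perm GolayPt))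
    (W W' : Submodule (ZMod 2) (GolayPt → ZMod 2))
    (hW : ∀ σ ∈ G, ∀ w ∈ W, (fun p => w (σ.symm p)) ∈ W)
    (hW' : ∀ σ ∈ G, ∀ w ∈ W', (fun p => w (σ.symm p)) ∈ W') :
    ∀ σ ∈ G, ∀ w ∈ W ⊔ W', (fun p => w (σ.symm p)) ∈ W ⊔ W' := by
  intro σ hσ w hw
  obtain ⟨a, ha, b, hb, rfl⟩ := Submodule.mem_sup.mp hw
  exact Submodule.mem_sup.mpr ⟨_, hW σ hσ a ha, _, hW' σ hσ b hb, rfl⟩

theorem exists_octad : ∃ o : Finset GolayPt, o ∈ octads := ⟨_, o1_mem⟩

/-- If an invariant subspace `W` not containing the code has `W + C` containing all even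
words, there is a contradiction. -/
theorem no_pairs (W : Submodule (ZMod 2) (GolayPt → ZMod 2))
    (hW : ∀ σ ∈ M24, ∀ w ∈ W, (fun p => w (σ.symm p)) ∈ W) (hC : ¬ golayCode ≤ W)
    (hE : ∀ v : GolayPt → ZMod 2, ∑ p, v p = 0 → v ∈ W ⊔ golayCode) : False := by
  have hWC : ∀ w ∈ W, w ∈ golayCode → w = 0 ∨ w = fun _ => (1 : ZMod 2) := by
    intro w hw hwC
    by_contra hne
    push Not at hne
    exact hC (golayCode_le_of_mem W hW hwC hw hne.1 hne.2)
  have stepA : ∀ k l : GolayPt, k ≠ l → ∃ w ∈ W, w = wordOfSet {k, l} ∨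
      w = wordOfSet {k, l} + fun _ => (1 : ZMod 2) := by
    intro k l hkl
    have hv : wordOfSet {k, l} ∈ W ⊔ golayCode := by
      apply hE
      rw [sum_wordOfSet, Finset.card_pair hkl]
      decide
    obtain ⟨w, hw, c, hc, hwc⟩ := Submodule.mem_sup.mp hv
    have hc01 : c = 0 ∨ c = fun _ => (1 : ZMod 2) := by
      apply code_pair_stable hkl hc
      intro σ hσ hσk hσl
      have hσv : (fun p => wordOfSet {k, l} (σ.symm p)) = wordOfSet {k, l} := by
        rw [← wordOfSet_smul, smul_pair, hσk, hσl]
      have e1 : (fun p => w (σ.symm p)) + (fun p => c (σ.symm p)) = w + c := by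
        rw [hwc, ← hσv, ← hwc]
        rfl
      have e2 : (fun p => c (σ.symm p)) + c = (fun p => w (σ.symm p)) + w := by
        have : (fun p => c (σ.symm p)) + c =
            ((fun p => w (σ.symm p)) + (fun p => c (σ.symm p))) + ((fun p => w (σ.symm p)) + c) := by
          rw [add_add_add_comm, add_self_word, zero_add]
        rw [this, e1, add_add_add_comm, add_self_word, add_zero, add_comm]
      have hd : (fun p => c (σ.symm p)) + c ∈ W := by
        rw [e2]
        exact W.add_mem (hW σ hσ w hw) hw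
      have hd' : (fun p => c (σ.symm p)) + c ∈ golayCode :=
        golayCode.add_mem (golayCode_invariant σ hσ c hc) hc
      rcases hWC _ hd hd' with h0 | h1
      · left
        have : (fun p => c (σ.symm p)) = (fun p => c (σ.symm p)) + c + c := by
          rw [add_assoc, add_self_word, add_zero]
        rw [this, h0, zero_add]
      · right
        have : (fun p => c (σ.symm p)) = (fun p => c (σ.symm p)) + c + c := by
          rw [add_assoc, add_self_word, add_zero]
        rw [this, h1, add_comm]
    have hw' : w = wordOfSet {k, l} + c := by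
      rw [← hwc, add_assoc, add_self_word, add_zero]
    refine ⟨w, hw, ?_⟩
    rcases hc01 with h0 | h1
    · left; rw [hw', h0, add_zero]
    · right; rw [hw', h1]
  have stepB : ∀ k l : GolayPt, k ≠ l → wordOfSet {k, l} ∈ W := by
    intro k l hkl
    obtain ⟨m, -, hmk, hml, -⟩ := exists_mem_ne₃ (Finset.univ : Finset GolayPt)
      (by rw [Finset.card_univ, card_golayPt24]; norm_num) k l k
    obtain ⟨x, hx, hx'⟩ := stepA k m (Ne.symm hmk)
    obtain ⟨σ, hσ, hσk, hσm⟩ := exists_mem_M24_apply₂ (a := k) (b := m) (c := m) (d := l)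
      (Ne.symm hmk) hml
    have hσx := hW σ hσ x hx
    have hsum := W.add_mem hx hσx
    have e : wordOfSet {k, l} = wordOfSet {k, m} + wordOfSet {m, l} := by
      rw [← wordOfSet_symmDiff]
      congr 1
      ext p
      rw [Finset.mem_symmDiff, Finset.mem_insert, Finset.mem_singleton, Finset.mem_insert,
        Finset.mem_singleton, Finset.mem_insert, Finset.mem_singleton]
      constructor
      · rintro (h | h)
        · left
          refine ⟨Or.inl h, ?_⟩
          rintro (h' | h')
          · exact hmk (h'.symm.trans h)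
          · exact hkl (h.symm.trans h')
        · right
          refine ⟨Or.inr h, ?_⟩
          rintro (h' | h')
          · exact hkl (h'.symm.trans h)
          · exact hml (h'.symm.trans h)
      · rintro (⟨h1 | h1, h2⟩ | ⟨h1 | h1, h2⟩)
        · left; exact h1
        · exact absurd (Or.inl h1) h2
        · exact absurd (Or.inr h1) h2
        · right; exact h1
    have hσv : (fun p => wordOfSet {k, m} (σ.symm p)) = wordOfSet {m, l} := by
      rw [← wordOfSet_smul, smul_pair, hσk, hσm]
    rw [e]
    rcases hx' with h | h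
    · rw [h, hσv] at hsum
      exact hsum
    · have e2 : x + (fun p => x (σ.symm p)) = wordOfSet {k, m} + wordOfSet {m, l} := by
        have e3 : (fun p => x (σ.symm p)) = wordOfSet {m, l} + fun _ => (1 : ZMod 2) := by
          rw [← hσv, h]
          rfl
        rw [e3, h, add_add_add_comm, add_self_word, add_zero]
      rw [e2] at hsum
      exact hsum
  obtain ⟨o, ho⟩ := exists_octad
  apply hC
  apply golayCode_le_of_octad W hW ho
  have h8 : o.card = 2 * 4 := by rw [card_of_mem_octads ho]
  exact even_mem_of_pairs W stepB 4 o h8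

/-- The invariant subspaces of the space of all words. -/
theorem invariant_cases (W : Submodule (ZMod 2) (GolayPt → ZMod 2))
    (hW : ∀ σ ∈ M24, ∀ w ∈ W, (fun p => w (σ.symm p)) ∈ W) :
    W = ⊥ ∨ W = Submodule.span (ZMod 2) {fun _ : GolayPt => (1 : ZMod 2)} ∨ W = golayCode ∨
      W = perp (Submodule.span (ZMod 2) {fun _ : GolayPt => (1 : ZMod 2)}) ∨ W = ⊤ := by
  by_cases hC : golayCode ≤ W
  · rcases invariant_ge_code W hW hC with h | h | h
    · exact Or.inr (Or.inr (Or.inl h))
    · exact Or.inr (Or.inr (Or.inr (Or.inl h)))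
    · exact Or.inr (Or.inr (Or.inr (Or.inr h)))
  · have hWC : ∀ w ∈ W, w ∈ golayCode → w = 0 ∨ w = fun _ => (1 : ZMod 2) := by
      intro w hw hwC
      by_contra hne
      push Not at hne
      exact hC (golayCode_le_of_mem W hW hwC hw hne.1 hne.2)
    have hU := sup_invariant M24 W golayCode hW golayCode_invariant
    rcases invariant_ge_code (W ⊔ golayCode) hU le_sup_right with h | h | h
    · have hle : W ≤ golayCode := by
        rw [← h]; exact le_sup_left
      have h1 : W ≤ Submodule.span (ZMod 2) {fun _ : GolayPt => (1 : ZMod 2)} :=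
        fun w hw => (mem_span_one_iff w).mpr (hWC w hw (hle hw))
      rcases le_span_one_cases W h1 with h' | h'
      · exact Or.inl h'
      · exact Or.inr (Or.inl h')
    · exfalso
      apply no_pairs W hW hC
      intro v hv
      rw [h, mem_perp_one_iff]
      exact hv
    · exfalso
      apply no_pairs W hW hC
      intro v hv
      rw [h]
      trivial

end Cfsg.Agent.Lib.helper27
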