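import Cfsg.Agent.Lib.helper27.GolayDual
import Cfsg.Agent.Lib.helper28.GolayOctad

set_option autoImplicit false

namespace Cfsg.Agent.Lib.helper27

open Cfsg
open Cfsg.Agent.Lib.helper28
open scoped Pointwise

/-! The two classes of involutions of the group of the length-24 code. -/

/-- Table of an element exchanging the indices 0, 1 and 2, 3; it is an involution fixing an
octad pointwise. -/
def invT : List ℕ := [1, 0, 3, 2, 12, 5, 6, 10, 19, 9, 7, 11, 4, 21, 14, 16, 15, 17, 20, 8, 18, 13, 22, 23]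

/-- Table of a fixed-point-free involution exchanging the indices 0, 1 and 2, 3. -/
def invB : List ℕ := [1, 0, 3, 2, 12, 6, 5, 10, 20, 14, 7, 23, 4, 16, 9, 21, 13, 22, 19, 18, 8, 15, 17, 11]

/-- Conjugating tables for the involutions with fixed points. -/
def conjsA : List (List ℕ) :=
  [[0, 1, 2, 3, 4, 5, 6, 7, 8, 9, 10, 11, 12, 13, 14, 15, 16, 17, 18, 19, 20, 21, 22, 23],
   [15, 16, 1, 0, 19, 13, 4, 3, 9, 12, 2, 20, 8, 6, 21, 17, 5, 10, 14, 22, 23, 11, 18, 7],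
   [18, 20, 7, 10, 21, 1, 9, 4, 17, 23, 13, 14, 12, 2, 8, 6, 5, 0, 15, 11, 3, 16, 22, 19],
   [12, 4, 0, 1, 8, 6, 10, 21, 20, 3, 19, 2, 13, 14, 23, 16, 18, 17, 11, 15, 22, 5, 7, 9],
   [20, 18, 2, 3, 0, 10, 6, 1, 19, 14, 13, 22, 21, 23, 15, 8, 4, 16, 5, 12, 11, 9, 17, 7],
   [20, 18, 10, 7, 12, 9, 2, 4, 5, 15, 21, 3, 13, 19, 14, 17, 6, 23, 8, 11, 0, 1, 16, 22],
   [8, 19, 7, 10, 17, 15, 18, 14, 5, 1, 11, 0, 9, 2, 4, 23, 6, 12, 21, 22, 13, 3, 20, 16],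
   [15, 16, 21, 13, 6, 22, 3, 14, 7, 2, 9, 4, 5, 19, 23, 10, 0, 11, 20, 1, 8, 18, 12, 17],
   [19, 8, 18, 20, 5, 0, 13, 14, 4, 15, 6, 21, 9, 11, 7, 3, 2, 1, 22, 12, 17, 23, 16, 10],
   [15, 16, 3, 2, 5, 1, 14, 11, 12, 23, 6, 22, 17, 18, 0, 21, 4, 19, 20, 13, 7, 10, 9, 8]]

/-- Conjugating tables for the involutions without fixed points. -/
def conjsB : List (List ℕ) :=
  [[0, 1, 2, 3, 4, 5, 6, 7, 8, 9, 10, 11, 12, 13, 14, 15, 16, 17, 18, 19, 20, 21, 22, 23],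
   [12, 4, 8, 20, 18, 15, 16, 3, 22, 21, 2, 6, 19, 7, 13, 10, 0, 5, 17, 23, 11, 1, 9, 14],
   [4, 12, 5, 6, 3, 23, 21, 9, 7, 13, 14, 11, 2, 1, 22, 20, 19, 16, 18, 0, 8, 10, 17, 15],
   [9, 14, 5, 6, 1, 18, 22, 10, 2, 23, 7, 11, 0, 21, 20, 3, 4, 19, 15, 12, 13, 16, 17, 8],
   [8, 20, 12, 4, 19, 17, 0, 2, 16, 10, 3, 23, 18, 13, 11, 6, 9, 1, 5, 21, 14, 15, 22, 7],
   [9, 14, 6, 5, 8, 21, 1, 19, 12, 7, 18, 0, 20, 23, 13, 3, 4, 16, 22, 2, 11, 17, 10, 15],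
   [8, 20, 9, 14, 13, 16, 6, 0, 3, 5, 10, 18, 21, 12, 15, 4, 22, 1, 17, 11, 2, 23, 19, 7],
   [18, 19, 13, 16, 5, 6, 7, 9, 8, 0, 22, 12, 23, 3, 17, 20, 15, 11, 10, 21, 4, 1, 2, 14],
   [8, 20, 22, 17, 21, 15, 6, 2, 0, 9, 13, 10, 4, 18, 3, 7, 14, 16, 23, 5, 19, 11, 1, 12],
   [6, 5, 21, 15, 11, 18, 23, 22, 19, 1, 0, 17, 7, 9, 20, 4, 8, 12, 14, 2, 16, 13, 10, 3],
   [3, 2, 9, 14, 7, 22, 10, 19, 6, 18, 0, 8, 20, 21, 23, 12, 5, 16, 13, 4, 17, 11, 1, 15],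
   [6, 5, 15, 21, 18, 13, 19, 3, 1, 8, 12, 4, 20, 22, 16, 17, 10, 14, 11, 23, 7, 0, 2, 9],
   [21, 15, 22, 17, 16, 4, 7, 11, 18, 8, 13, 19, 23, 2, 9, 10, 20, 3, 14, 0, 12, 5, 1, 6],
   [10, 7, 14, 9, 5, 16, 23, 1, 17, 20, 6, 18, 0, 2, 4, 8, 11, 21, 13, 19, 12, 15, 22, 3],
   [7, 10, 8, 20, 1, 11, 3, 19, 5, 6, 0, 14, 18, 23, 16, 4, 9, 22, 15, 2, 17, 13, 12, 21],
   [19, 18, 20, 8, 3, 1, 5, 4, 16, 9, 2, 6, 12, 11, 0, 13, 21, 7, 22, 15, 17, 23, 14, 10],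
   [16, 13, 15, 21, 8, 22, 3, 19, 10, 2, 20, 12, 18, 6, 11, 0, 1, 23, 5, 7, 14, 9, 4, 17],
   [1, 0, 16, 13, 15, 18, 17, 7, 22, 12, 21, 3, 10, 6, 5, 2, 23, 8, 20, 4, 9, 19, 11, 14],
   [6, 5, 4, 12, 15, 2, 1, 16, 11, 8, 23, 18, 22, 7, 9, 17, 13, 14, 19, 21, 20, 0, 10, 3],
   [11, 23, 8, 20, 4, 5, 7, 15, 3, 9, 16, 6, 2, 17, 10, 21, 13, 1, 19, 12, 18, 22, 0, 14],
   [22, 17, 7, 10, 13, 18, 23, 9, 14, 1, 21, 0, 5, 3, 2, 15, 6, 12, 20, 16, 19, 4, 11, 8],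
   [12, 4, 17, 22, 5, 11, 14, 20, 10, 6, 18, 8, 9, 15, 23, 16, 1, 2, 13, 21, 7, 0, 19, 3],
   [7, 10, 18, 19, 21, 14, 22, 16, 3, 15, 17, 11, 23, 20, 6, 9, 12, 2, 8, 5, 1, 0, 13, 4],
   [7, 10, 18, 19, 16, 9, 22, 17, 0, 13, 21, 15, 23, 14, 5, 20, 1, 3, 6, 8, 4, 2, 11, 12],
   [6, 5, 1, 0, 9, 15, 23, 14, 16, 20, 7, 22, 10, 17, 2, 21, 3, 12, 11, 4, 8, 19, 18, 13],
   [13, 16, 21, 15, 20, 6, 12, 8, 22, 3, 19, 2, 18, 1, 5, 23, 11, 9, 10, 17, 0, 7, 4, 14],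
   [3, 2, 12, 4, 20, 9, 17, 8, 13, 22, 19, 11, 18, 0, 5, 15, 16, 14, 10, 21, 7, 1, 23, 6],
   [6, 5, 15, 21, 16, 4, 0, 13, 20, 22, 9, 7, 14, 17, 8, 18, 3, 19, 23, 12, 10, 1, 11, 2],
   [5, 6, 8, 20, 18, 13, 2, 19, 0, 11, 9, 12, 14, 17, 7, 10, 16, 1, 23, 15, 3, 4, 22, 21],
   [15, 21, 10, 7, 13, 4, 8, 16, 12, 14, 0, 18, 1, 20, 22, 3, 11, 23, 19, 17, 6, 9, 5, 2],
   [18, 19, 1, 0, 21, 14, 17, 11, 20, 13, 16, 15, 22, 5, 6, 10, 8, 12, 9, 7, 4, 2, 23, 3],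
   [2, 3, 20, 8, 0, 5, 7, 10, 9, 22, 11, 1, 17, 12, 14, 13, 6, 21, 4, 15, 19, 18, 23, 16],
   [17, 22, 16, 13, 2, 11, 5, 9, 20, 14, 6, 3, 12, 19, 23, 7, 18, 21, 8, 1, 10, 0, 4, 15],
   [13, 16, 20, 8, 11, 1, 19, 17, 3, 21, 5, 18, 9, 6, 2, 0, 7, 10, 14, 4, 22, 23, 15, 12],
   [21, 15, 10, 7, 9, 0, 23, 20, 3, 4, 6, 22, 19, 8, 13, 11, 17, 1, 5, 12, 18, 14, 2, 16],
   [22, 17, 16, 13, 1, 14, 6, 20, 23, 2, 18, 9, 7, 10, 3, 15, 21, 5, 8, 11, 19, 0, 12, 4],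
   [4, 12, 7, 10, 15, 20, 6, 16, 1, 9, 8, 22, 19, 5, 21, 0, 2, 13, 23, 3, 14, 17, 11, 18],
   [3, 2, 6, 5, 11, 22, 14, 15, 8, 9, 16, 12, 17, 20, 23, 18, 7, 13, 1, 0, 19, 10, 4, 21],
   [10, 7, 8, 20, 13, 22, 6, 17, 9, 14, 15, 12, 23, 19, 16, 5, 2, 11, 1, 4, 18, 0, 3, 21],
   [3, 2, 23, 11, 10, 5, 22, 16, 0, 12, 1, 4, 21, 6, 18, 13, 7, 20, 8, 15, 19, 14, 17, 9],
   [5, 6, 23, 11, 13, 1, 10, 8, 20, 4, 18, 2, 15, 17, 12, 21, 16, 3, 14, 19, 9, 22, 0, 7],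
   [11, 23, 21, 15, 20, 16, 4, 18, 10, 5, 1, 14, 7, 12, 17, 0, 8, 22, 6, 19, 9, 2, 3, 13],
   [19, 18, 2, 3, 13, 20, 23, 15, 21, 10, 5, 0, 14, 1, 4, 16, 6, 12, 17, 9, 11, 7, 22, 8],
   [22, 17, 18, 19, 0, 21, 23, 6, 14, 20, 7, 8, 9, 2, 12, 1, 5, 3, 15, 10, 16, 4, 11, 13],
   [20, 8, 13, 16, 23, 0, 1, 6, 9, 2, 14, 12, 22, 15, 4, 11, 17, 3, 19, 5, 18, 21, 10, 7],
   [14, 9, 22, 17, 1, 4, 21, 7, 11, 16, 3, 19, 12, 13, 10, 23, 5, 0, 18, 6, 15, 8, 20, 2],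
   [3, 2, 23, 11, 16, 0, 4, 1, 19, 12, 10, 17, 21, 9, 7, 8, 14, 13, 20, 6, 5, 18, 22, 15],
   [18, 19, 6, 5, 2, 4, 0, 17, 15, 10, 12, 21, 23, 8, 11, 16, 1, 3, 14, 7, 20, 9, 13, 22],
   [9, 14, 7, 10, 12, 11, 0, 2, 18, 5, 15, 1, 13, 16, 8, 22, 23, 17, 21, 20, 4, 3, 6, 19],
   [21, 15, 7, 10, 2, 8, 9, 23, 1, 20, 22, 6, 4, 11, 5, 13, 16, 18, 12, 0, 3, 17, 19, 14],
   [16, 13, 22, 17, 7, 15, 3, 20, 12, 5, 1, 4, 18, 0, 23, 6, 9, 21, 8, 2, 10, 19, 14, 11],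
   [11, 23, 20, 8, 0, 21, 19, 9, 1, 22, 7, 17, 6, 16, 3, 5, 10, 12, 2, 14, 4, 15, 18, 13],
   [0, 1, 11, 23, 3, 10, 6, 4, 2, 15, 19, 16, 20, 21, 22, 12, 8, 17, 5, 18, 9, 13, 14, 7],
   [5, 6, 11, 23, 8, 0, 12, 15, 20, 1, 13, 7, 18, 9, 2, 16, 21, 4, 17, 19, 22, 14, 3, 10],
   [4, 12, 16, 13, 5, 23, 3, 9, 11, 15, 7, 2, 1, 14, 20, 8, 18, 17, 6, 22, 10, 0, 21, 19],
   [6, 5, 7, 10, 18, 1, 12, 17, 13, 16, 20, 2, 11, 23, 14, 3, 4, 0, 19, 15, 22, 8, 21, 9],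
   [9, 14, 20, 8, 10, 22, 12, 13, 19, 23, 21, 2, 0, 15, 4, 6, 5, 11, 7, 18, 1, 16, 17, 3],
   [7, 10, 15, 21, 6, 1, 22, 19, 17, 2, 9, 23, 20, 5, 16, 12, 3, 0, 8, 11, 14, 18, 4, 13],
   [9, 14, 1, 0, 8, 2, 5, 19, 4, 10, 23, 6, 22, 20, 21, 13, 15, 12, 18, 3, 17, 11, 7, 16],
   [11, 23, 12, 4, 8, 10, 7, 9, 22, 16, 5, 0, 19, 20, 15, 2, 3, 1, 6, 17, 14, 18, 21, 13],
   [17, 22, 4, 12, 15, 8, 16, 0, 2, 10, 13, 1, 7, 9, 19, 23, 3, 14, 5, 11, 18, 20, 21, 6],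
   [1, 0, 17, 22, 15, 7, 14, 9, 12, 6, 5, 13, 16, 4, 10, 19, 2, 23, 3, 20, 8, 18, 21, 11],
   [10, 7, 19, 18, 12, 11, 14, 3, 21, 2, 5, 6, 9, 8, 22, 17, 16, 13, 20, 23, 0, 1, 4, 15],
   [15, 21, 22, 17, 14, 4, 19, 2, 18, 8, 5, 7, 12, 11, 6, 20, 10, 3, 16, 0, 23, 13, 1, 9],
   [1, 0, 13, 16, 19, 14, 7, 6, 3, 10, 9, 21, 20, 23, 5, 12, 17, 8, 2, 11, 22, 4, 15, 18],
   [6, 5, 8, 20, 2, 4, 16, 12, 9, 15, 22, 10, 11, 7, 23, 14, 18, 17, 21, 19, 1, 13, 0, 3]]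

/-- The mask of the indices fixed by a table. -/
def fixMask (x : List ℕ) : ℕ := bitsToNat (fun i => x.getD i 0 == i) 24

/-- Test that `k x = u k` as tables. -/
def conjOK (k x u : List ℕ) : Bool :=
  allLt (fun i => k.getD (x.getD i 0) 0 == u.getD (k.getD i 0) 0) 24

/-- The check on one table of the coset. -/
def invQ (x : List ℕ) : Bool :=
  !(sqOne x) || ((fixMask x == 0 && conjsB.any (fun k => conjOK k x invB)) ||
    (isOct (fixMask x) && conjsA.any (fun k => conjOK k x invT)))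

/-- Check a property on all the tables `t * a * b * c` with `a, b, c` in the last three levels
of the stabiliser chain. -/
def cosetAll (Q : List ℕ → Bool) (t : List ℕ) : Bool :=
  lev5.all fun a => lev6.all fun b => lev7.all fun c => Q (mulTab t (mulTab (mulTab a b) c))

theorem coset_check : cosetAll invQ invT = true := by decide +kernel

theorem conjs_ok : (conjsA ++ conjsB).all (fun l => tabIn [] l) = true := by decide +kernel

theorem invT_in : tabIn [] invT = true := by decide +kernel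

theorem invB_in : tabIn [] invB = true := by decide +kernel

theorem levelOK_table {F b E : ℕ} {U : List (List ℕ)} (hb : b < 24)
    (h : levelOK F b E U = true) (p : GolayPt) (hp : p ∈ setOf E) :
    ∃ l ∈ U, ∃ g ∈ fixer (setOf F), IsTable g l ∧ g (pt b) = p := by
  unfold levelOK at h
  rw [Bool.and_eq_true, beq_iff_eq] at h
  obtain ⟨h1, h2⟩ := h
  rw [mem_setOf, ← h2, testBit_orList] at hp
  obtain ⟨x, hx, hxp⟩ := hp
  rw [List.mem_map] at hx
  obtain ⟨l, hl, rfl⟩ := hx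
  rw [Nat.testBit_two_pow] at hxp
  have hlp : l.getD b 0 = idx p := by simpa using hxp
  have hl' := List.all_eq_true.mp h1 l hl
  simp only [Bool.and_eq_true] at hl'
  obtain ⟨⟨hg, hok⟩, hfix⟩ := hl'
  refine ⟨l, hl, tabPerm l hg, mem_fixer.mpr ⟨tabPerm_mem_M24 l hg hok, fun q hq => ?_⟩,
    isTable_tabPerm l hg, ?_⟩
  · rw [mem_setOf] at hq
    have := allLt_spec hfix (idx q) (idx_lt q)
    simp only [hq, Bool.not_true, Bool.false_or, beq_iff_eq] at this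
    rw [tabPerm_apply, this, pt_idx]
  · rw [tabPerm_apply, idx_pt hb, hlp, pt_idx]

theorem fixer_step {F b : ℕ} (hb : b < 24) {u h : Equiv.Perm GolayPt}
    (hu : u ∈ fixer (setOf F)) (hh : h ∈ fixer (setOf F)) (hub : u (pt b) = h (pt b)) :
    u⁻¹ * h ∈ fixer (setOf (F ||| 2 ^ b)) := by
  rw [setOf_or_two_pow F hb, mem_fixer]
  refine ⟨M24.mul_mem (M24.inv_mem (mem_fixer.mp hu).1) (mem_fixer.mp hh).1, ?_⟩
  intro p hp
  show u⁻¹ (h p) = p
  rw [Equiv.Perm.inv_eq_iff_eq]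
  rw [Finset.mem_insert] at hp
  rcases hp with hp | hp
  · rw [hp, hub]
  · rw [(mem_fixer.mp hh).2 p hp, (mem_fixer.mp hu).2 p hp]

/-- Every element fixing the indices 0, 1, 2, 3 is a product of three transversal elements. -/
theorem fixer4_tables (h : Equiv.Perm GolayPt) (hh : h ∈ fixer (setOf 15)) :
    ∃ a ∈ lev5, ∃ b ∈ lev6, ∃ c ∈ lev7, IsTable h (mulTab (mulTab a b) c) := by
  have h5 : h (pt 4) ∈ setOf 16777200 :=
    apply_mem_compl (F := 15) (b := 4) (by norm_num) (by decide) h hh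
  obtain ⟨a, ha, u5, hu5, hu5t, hu5p⟩ := levelOK_table (by norm_num) lev5_ok _ h5
  have hh1 : u5⁻¹ * h ∈ fixer (setOf 31) := fixer_step (F := 15) (b := 4) (by norm_num) hu5 hh hu5p
  have h6 : (u5⁻¹ * h) (pt 5) ∈ setOf 16771936 := by
    have h1 := smul_baseOctad (mem_fixer.mp hh1).1 (fixesMask_of_mem_fixer hh1) (by norm_num)
      (by decide +kernel)
    have h2 : (u5⁻¹ * h) (pt 5) ∉ setOf 5279 := by
      intro h'
      rw [← h1] at h'
      have h3 : pt 5 ∈ setOf 5279 := Finset.smul_mem_smul_finset_iff (u5⁻¹ * h) |>.mp h'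
      revert h3
      rw [mem_setOf, idx_pt (by norm_num)]
      decide
    exact (mem_setOf_compl 5279 ((u5⁻¹ * h) (pt 5))).mpr h2
  obtain ⟨b, hb, u6, hu6, hu6t, hu6p⟩ := levelOK_table (by norm_num) lev6_ok _ h6
  have hh2 : u6⁻¹ * (u5⁻¹ * h) ∈ fixer (setOf 63) :=
    fixer_step (F := 31) (b := 5) (by norm_num) hu6 hh1 hu6p
  have h7 : (u6⁻¹ * (u5⁻¹ * h)) (pt 7) ∈ setOf 5248 := by
    have h1 := smul_baseOctad (mem_fixer.mp hh2).1 (fixesMask_of_mem_fixer hh2) (by norm_num)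
      (by decide +kernel)
    have h2 : (u6⁻¹ * (u5⁻¹ * h)) (pt 7) ∈ setOf 5279 := by
      rw [← h1]
      apply Finset.smul_mem_smul_finset
      rw [mem_setOf, idx_pt (by norm_num)]
      decide
    have h3 : (u6⁻¹ * (u5⁻¹ * h)) (pt 7) ∉ setOf 63 := by
      apply apply_not_mem_of_mem_fixer hh2
      rw [mem_setOf, idx_pt (by norm_num)]
      decide
    rw [mem_setOf] at h2 h3 ⊢
    have hlt := idx_lt ((u6⁻¹ * (u5⁻¹ * h)) (pt 7))
    revert h2 h3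
    generalize idx ((u6⁻¹ * (u5⁻¹ * h)) (pt 7)) = k at hlt ⊢
    revert k
    decide
  obtain ⟨c, hc, u7, hu7, hu7t, hu7p⟩ := levelOK_table (by norm_num) lev7_ok _ h7
  have hh3 : u7⁻¹ * (u6⁻¹ * (u5⁻¹ * h)) ∈ fixer (setOf 191) :=
    fixer_step (F := 63) (b := 7) (by norm_num) hu7 hh2 hu7p
  rw [fixer7_eq_bot, Subgroup.mem_bot] at hh3
  have e : h = u5 * u6 * u7 := by
    have e1 : u6⁻¹ * (u5⁻¹ * h) = u7 := by
      rw [← mul_right_inj u7⁻¹, hh3, inv_mul_cancel]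
    have e2 : u5⁻¹ * h = u6 * u7 := by
      rw [← e1, mul_inv_cancel_left]
    rw [mul_assoc, ← e2, mul_inv_cancel_left]
  refine ⟨a, ha, b, hb, c, hc, ?_⟩
  rw [e]
  exact isTable_mulTab (isTable_mulTab hu5t hu6t) hu7t

theorem setOf_fixMask {g : Equiv.Perm GolayPt} {x : List ℕ} (hx : IsTable g x) :
    setOf (fixMask x) = Finset.univ.filter fun p => g p = p := by
  ext p
  rw [mem_setOf, Finset.mem_filter]
  unfold fixMask
  rw [testBit_bitsToNat, hx p]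
  simp only [idx_lt, decide_true, Bool.true_and, beq_iff_eq, Finset.mem_univ, true_and]
  constructor
  · intro h; exact idx_injective h
  · intro h; rw [h]

theorem conj_of_conjOK {K X U : Equiv.Perm GolayPt} {k x u : List ℕ} (hk : IsTable K k)
    (hx : IsTable X x) (hu : IsTable U u) (h : conjOK k x u = true) : K * X * K⁻¹ = U := by
  rw [mul_inv_eq_iff_eq_mul]
  apply Equiv.ext
  intro p
  show K (X p) = U (K p)
  apply idx_injective
  have := allLt_spec h (idx p) (idx_lt p)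
  rw [beq_iff_eq] at this
  rw [← hk (X p), ← hx p, this, hk p, hu (K p)]

theorem allLt_of_forall' {p : ℕ → Bool} {n : ℕ} (h : ∀ k, k < n → p k = true) :
    allLt p n = true := by
  induction n with
  | zero => rfl
  | succ n ih =>
    rw [allLt, Bool.and_eq_true]
    exact ⟨h n (Nat.lt_succ_self n), ih fun k hk => h k (Nat.lt_succ_of_lt hk)⟩

theorem sqOne_of_sq {g : Equiv.Perm GolayPt} {x : List ℕ} (hx : IsTable g x) (hg : g * g = 1) :
    sqOne x = true := by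
  apply allLt_of_forall'
  intro k hk
  rw [beq_iff_eq]
  have h1 := hx (pt k)
  rw [idx_pt hk] at h1
  rw [h1, hx (g (pt k))]
  have : g (g (pt k)) = pt k := by
    have := congrArg (fun f : Equiv.Perm GolayPt => f (pt k)) hg
    exact this
  rw [this, idx_pt hk]

/-- The involution with fixed points. -/
noncomputable def uA : Equiv.Perm GolayPt := (tabIn_spec invT_in).choose

/-- The involution without fixed points. -/
noncomputable def uB : Equiv.Perm GolayPt := (tabIn_spec invB_in).choose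

theorem uA_mem : uA ∈ M24 := (tabIn_spec invT_in).choose_spec.1.1

theorem uB_mem : uB ∈ M24 := (tabIn_spec invB_in).choose_spec.1.1

theorem uA_table : IsTable uA invT := (tabIn_spec invT_in).choose_spec.2

theorem uB_table : IsTable uB invB := (tabIn_spec invB_in).choose_spec.2

theorem apply_of_table {g : Equiv.Perm GolayPt} {l : List ℕ} (h : IsTable g l) {i : ℕ}
    (hi : i < 24) : g (pt i) = pt (l.getD i 0) := by
  have := h (pt i)
  rw [idx_pt hi] at this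
  rw [this, pt_idx]

theorem setOf15_cases (p : GolayPt) (hp : p ∈ setOf 15) :
    p = pt 0 ∨ p = pt 1 ∨ p = pt 2 ∨ p = pt 3 := by
  rw [mem_setOf] at hp
  revert p
  decide

theorem M24_ne_top : M24 ≠ ⊤ := by
  intro h
  have h1 := card_M24
  rw [h, Subgroup.card_top, Nat.card_eq_fintype_card, Fintype.card_perm, Fintype.card_option,
    ZMod.card] at h1
  have : (23 + 1).factorial = 620448401733239439360000 := by decide +kernel
  rw [this] at h1
  exact absurd h1 (by norm_num)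

/-- The group of the code contains no transposition. -/
theorem swap_not_mem {a b : GolayPt} (hab : a ≠ b) : Equiv.swap a b ∉ M24 := by
  intro h
  apply M24_ne_top
  rw [eq_top_iff, ← Equiv.Perm.closure_isSwap, Subgroup.closure_le]
  rintro σ ⟨x, y, hxy, rfl⟩
  obtain ⟨k, hk, hka, hkb⟩ := exists_mem_M24_apply₂ hab hxy
  have e : Equiv.swap x y = k * Equiv.swap a b * k⁻¹ := by
    rw [← hka, ← hkb, Equiv.swap_apply_apply]
  rw [SetLike.mem_coe, e]
  exact M24.mul_mem (M24.mul_mem hk h) (M24.inv_mem hk)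

/-- Normal form of an involution: it is conjugate to one of two fixed involutions, according to
whether it has fixed points. -/
theorem inv_normal (g : Equiv.Perm GolayPt) (hg : g ∈ M24) (hord : orderOf g = 2) :
    ((∀ p, g p ≠ p) ∧ ∃ k ∈ M24, k * g * k⁻¹ = uB) ∨
      ((Finset.univ.filter fun p => g p = p) ∈ octads ∧ ∃ k ∈ M24, k * g * k⁻¹ = uA) := by
  have hsq : g * g = 1 := by
    rw [← pow_two, ← hord]; exact pow_orderOf_eq_one g
  have hgg : ∀ p, g (g p) = p := fun p => congrArg (fun f : Equiv.Perm GolayPt => f p) hsq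
  have hne : g ≠ 1 := by
    intro h
    rw [h, orderOf_one] at hord
    exact absurd hord (by norm_num)
  obtain ⟨a, ha⟩ : ∃ a, g a ≠ a := by
    by_contra hno
    push Not at hno
    exact hne (Equiv.ext hno)
  by_cases hb : ∃ b, b ≠ a ∧ b ≠ g a ∧ g b ≠ b
  · obtain ⟨b, hba, hbga, hgb⟩ := hb
    have hagb : a ≠ g b := by
      intro h
      apply hbga
      rw [h, hgg]
    have hgagb : g a ≠ g b := fun h => hba (g.injective h).symm
    obtain ⟨k, hk, hk0, hk1, hk2, hk3⟩ := exists_mem_M24_apply₄ (p1 := a) (p2 := g a) (p3 := b)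
      (p4 := g b) (q1 := pt 0) (q2 := pt 1) (q3 := pt 2) (q4 := pt 3)
      (by simp [Ne.symm ha, Ne.symm hba, hagb, Ne.symm hbga, hgagb, Ne.symm hgb])
      (by decide)
    have hki : ∀ {p q : GolayPt}, k p = q → k⁻¹ q = p := by
      intro p q h
      rw [Equiv.Perm.inv_eq_iff_eq, h]
    have hg' : k * g * k⁻¹ ∈ M24 := M24.mul_mem (M24.mul_mem hk hg) (M24.inv_mem hk)
    have e0 : (k * g * k⁻¹) (pt 0) = pt 1 := by
      show k (g (k⁻¹ (pt 0))) = pt 1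
      rw [hki hk0, hk1]
    have e1 : (k * g * k⁻¹) (pt 1) = pt 0 := by
      show k (g (k⁻¹ (pt 1))) = pt 0
      rw [hki hk1, hgg, hk0]
    have e2 : (k * g * k⁻¹) (pt 2) = pt 3 := by
      show k (g (k⁻¹ (pt 2))) = pt 3
      rw [hki hk2, hk3]
    have e3 : (k * g * k⁻¹) (pt 3) = pt 2 := by
      show k (g (k⁻¹ (pt 3))) = pt 2
      rw [hki hk3, hgg, hk2]
    have t0 : uA (pt 0) = pt 1 := apply_of_table uA_table (by norm_num)
    have t1 : uA (pt 1) = pt 0 := apply_of_table uA_table (by norm_num)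
    have t2 : uA (pt 2) = pt 3 := apply_of_table uA_table (by norm_num)
    have t3 : uA (pt 3) = pt 2 := apply_of_table uA_table (by norm_num)
    have hh : uA⁻¹ * (k * g * k⁻¹) ∈ fixer (setOf 15) := by
      rw [mem_fixer]
      refine ⟨M24.mul_mem (M24.inv_mem uA_mem) hg', ?_⟩
      intro p hp
      show uA⁻¹ ((k * g * k⁻¹) p) = p
      rw [Equiv.Perm.inv_eq_iff_eq]
      rcases setOf15_cases p hp with h | h | h | h
      · rw [h, e0, t0]
      · rw [h, e1, t1]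
      · rw [h, e2, t2]
      · rw [h, e3, t3]
    obtain ⟨la, hla, lb, hlb, lc, hlc, htab⟩ := fixer4_tables _ hh
    have htab' : IsTable (k * g * k⁻¹) (mulTab invT (mulTab (mulTab la lb) lc)) := by
      have := isTable_mulTab uA_table htab
      rwa [mul_inv_cancel_left] at this
    have hQ : invQ (mulTab invT (mulTab (mulTab la lb) lc)) = true := by
      have h1 := coset_check
      unfold cosetAll at h1
      exact List.all_eq_true.mp (List.all_eq_true.mp (List.all_eq_true.mp h1 la hla) lb hlb) lc hlc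
    have hsq' : (k * g * k⁻¹) * (k * g * k⁻¹) = 1 := by
      have : (k * g * k⁻¹) * (k * g * k⁻¹) = k * (g * g) * k⁻¹ := by group
      rw [this, hsq, mul_one, mul_inv_cancel]
    have hfix : ∀ p, g p = p ↔ (k * g * k⁻¹) (k p) = k p := by
      intro p
      show g p = p ↔ k (g (k⁻¹ (k p))) = k p
      rw [hki rfl]
      exact k.injective.eq_iff.symm
    unfold invQ at hQ
    rw [sqOne_of_sq htab' hsq'] at hQ
    simp only [Bool.not_true, Bool.false_or, Bool.or_eq_true, Bool.and_eq_true, beq_iff_eq,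
      List.any_eq_true] at hQ
    have hallin := List.all_eq_true.mp conjs_ok
    rcases hQ with ⟨hF, kt, hkt, hconj⟩ | ⟨hF, kt, hkt, hconj⟩
    · left
      obtain ⟨K, hK, hKt⟩ := tabIn_spec (hallin kt (List.mem_append_right _ hkt))
      rw [stabM_nil] at hK
      have hc := conj_of_conjOK hKt htab' uB_table hconj
      constructor
      · intro p hp
        have h1 : k p ∈ Finset.univ.filter fun q => (k * g * k⁻¹) q = q := by
          rw [Finset.mem_filter]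
          exact ⟨Finset.mem_univ _, (hfix p).mp hp⟩
        rw [← setOf_fixMask htab', hF, setOf_zero] at h1
        exact absurd h1 (Finset.notMem_empty _)
      · refine ⟨K * k, M24.mul_mem hK hk, ?_⟩
        rw [← hc]
        group
    · right
      obtain ⟨K, hK, hKt⟩ := tabIn_spec (hallin kt (List.mem_append_left _ hkt))
      rw [stabM_nil] at hK
      have hc := conj_of_conjOK hKt htab' uA_table hconj
      constructor
      · have h1 : (Finset.univ.filter fun p => g p = p) =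
            k⁻¹ • Finset.univ.filter fun q => (k * g * k⁻¹) q = q := by
          ext p
          rw [mem_smul_iff, inv_inv, Finset.mem_filter, Finset.mem_filter]
          simp only [Finset.mem_univ, true_and]
          exact hfix p
        rw [h1, ← setOf_fixMask htab']
        exact smul_mem_octads (M24.inv_mem hk) (setOf_mem_octads hF)
      · refine ⟨K * k, M24.mul_mem hK hk, ?_⟩
        rw [← hc]
        group
  · exfalso
    push Not at hb
    have e : g = Equiv.swap a (g a) := by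
      apply Equiv.ext
      intro p
      by_cases hpa : p = a
      · rw [hpa, Equiv.swap_apply_left]
      · by_cases hpg : p = g a
        · rw [hpg, Equiv.swap_apply_right, hgg]
        · rw [Equiv.swap_apply_of_ne_of_ne hpa hpg]
          exact hb p hpa hpg
    rw [e] at hg
    exact swap_not_mem (Ne.symm ha) hg

theorem orderOf_eq_two {g : Equiv.Perm GolayPt} (h : g * g = 1) (hne : g ≠ 1) : orderOf g = 2 := by
  have : Fact (Nat.Prime 2) := ⟨Nat.prime_two⟩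
  apply orderOf_eq_prime
  · rw [pow_two]; exact h
  · exact hne

theorem uA_order : orderOf uA = 2 := by
  apply orderOf_eq_two
  · exact sq_eq_one_of_table uA_table (by decide +kernel)
  · intro h
    have t0 : uA (pt 0) = pt 1 := apply_of_table uA_table (by norm_num)
    rw [h] at t0
    revert t0
    decide

theorem uB_order : orderOf uB = 2 := by
  apply orderOf_eq_two
  · exact sq_eq_one_of_table uB_table (by decide +kernel)
  · intro h
    have t0 : uB (pt 0) = pt 1 := apply_of_table uB_table (by norm_num)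
    rw [h] at t0
    revert t0
    decide

theorem uA_fix : (Finset.univ.filter fun p => uA p = p) ∈ octads := by
  rw [← setOf_fixMask uA_table]
  exact setOf_mem_octads (by decide +kernel)

theorem uB_fix : ∀ p, uB p ≠ p := by
  intro p hp
  have h1 : p ∈ Finset.univ.filter fun q => uB q = q := by
    rw [Finset.mem_filter]
    exact ⟨Finset.mem_univ _, hp⟩
  rw [← setOf_fixMask uB_table] at h1
  have h0 : fixMask invB = 0 := by decide +kernel
  rw [h0, setOf_zero] at h1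
  exact absurd h1 (Finset.notMem_empty _)

/-- The involutions of the group of the code: two classes. -/
theorem m24_involutions :
    (∀ g ∈ M24, orderOf g = 2 → (Finset.univ.filter fun p => g p = p) ∈ octads ∨ ∀ p, g p ≠ p) ∧
    (∃ g ∈ M24, orderOf g = 2 ∧ (Finset.univ.filter fun p => g p = p) ∈ octads) ∧
    (∃ g ∈ M24, orderOf g = 2 ∧ ∀ p, g p ≠ p) ∧
    ∀ g ∈ M24, ∀ h ∈ M24, orderOf g = 2 → orderOf h = 2 →
      ((∀ p, g p ≠ p) ↔ (∀ p, h p ≠ p)) → ∃ k ∈ M24, k * g * k⁻¹ = h := by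
  have hoct : ∀ g : Equiv.Perm GolayPt, (Finset.univ.filter fun p => g p = p) ∈ octads →
      ¬ ∀ p, g p ≠ p := by
    intro g ho hno
    have hc : (Finset.univ.filter fun p => g p = p).card = 8 := ho.2
    have hne : (Finset.univ.filter fun p => g p = p).Nonempty := by
      rw [← Finset.card_pos, hc]; norm_num
    obtain ⟨p, hp⟩ := hne
    rw [Finset.mem_filter] at hp
    exact hno p hp.2
  refine ⟨?_, ⟨uA, uA_mem, uA_order, uA_fix⟩, ⟨uB, uB_mem, uB_order, uB_fix⟩, ?_⟩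
  · intro g hg hord
    rcases inv_normal g hg hord with h | h
    · exact Or.inr h.1
    · exact Or.inl h.1
  · intro g hg h hh hog hoh hiff
    have key : ∀ (u : Equiv.Perm GolayPt) (k1 k2 : Equiv.Perm GolayPt), k1 ∈ M24 → k2 ∈ M24 →
        k1 * g * k1⁻¹ = u → k2 * h * k2⁻¹ = u → ∃ k ∈ M24, k * g * k⁻¹ = h := by
      intro u k1 k2 hk1 hk2 h1 h2
      refine ⟨k2⁻¹ * k1, M24.mul_mem (M24.inv_mem hk2) hk1, ?_⟩
      have : h = k2⁻¹ * u * k2 := by
        rw [← h2]; group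
      rw [this, ← h1]
      group
    rcases inv_normal g hg hog with ⟨hg1, k1, hk1, hk1'⟩ | ⟨hg1, k1, hk1, hk1'⟩
    · rcases inv_normal h hh hoh with ⟨hh1, k2, hk2, hk2'⟩ | ⟨hh1, k2, hk2, hk2'⟩
      · exact key uB k1 k2 hk1 hk2 hk1' hk2'
      · exact absurd (hiff.mp hg1) (hoct h hh1)
    · rcases inv_normal h hh hoh with ⟨hh1, k2, hk2, hk2'⟩ | ⟨hh1, k2, hk2, hk2'⟩
      · exact absurd (hiff.mpr hh1) (hoct g hg1)
      · exact key uA k1 k2 hk1 hk2 hk1' hk2'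

end Cfsg.Agent.Lib.helper27
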