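import Cfsg.Agent.Lib.helper28.GolayM12
import Cfsg.Agent.Lib.helper28.GolayTrans

set_option autoImplicit false

namespace Cfsg.Agent.Lib.helper27

open Cfsg
open Cfsg.Agent.Lib.helper28
open scoped Pointwise

/-! The binary code of length 24 as a module for its group. -/

/-- The word with a given support. -/
def wordOfSet (s : Finset GolayPt) : GolayPt → ZMod 2 := fun p => if p ∈ s then 1 else 0

theorem card_golayPt24 : Fintype.card GolayPt = 24 := by decide

theorem mem_support₂_iff (w : GolayPt → ZMod 2) (p : GolayPt) : p ∈ support₂ w ↔ w p ≠ 0 := by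
  unfold support₂
  rw [Finset.mem_filter]
  simp

theorem wordOfSet_of_mem {s : Finset GolayPt} {p : GolayPt} (h : p ∈ s) : wordOfSet s p = 1 := by
  unfold wordOfSet
  exact if_pos h

theorem wordOfSet_of_not_mem {s : Finset GolayPt} {p : GolayPt} (h : p ∉ s) :
    wordOfSet s p = 0 := by
  unfold wordOfSet
  exact if_neg h

theorem support₂_wordOfSet (s : Finset GolayPt) : support₂ (wordOfSet s) = s := by
  ext p
  rw [mem_support₂_iff]
  by_cases h : p ∈ s
  · rw [wordOfSet_of_mem h]; simp [h]
  · rw [wordOfSet_of_not_mem h]; simp [h]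

theorem wordOfSet_support₂ (w : GolayPt → ZMod 2) : wordOfSet (support₂ w) = w := by
  funext p
  by_cases h : p ∈ support₂ w
  · rw [wordOfSet_of_mem h]
    rw [mem_support₂_iff] at h
    rcases zmod2_cases (w p) with h' | h'
    · exact absurd h' h
    · exact h'.symm
  · rw [wordOfSet_of_not_mem h]
    rw [mem_support₂_iff, not_not] at h
    exact h.symm

theorem wordOfSet_symmDiff (s t : Finset GolayPt) :
    wordOfSet (symmDiff s t) = wordOfSet s + wordOfSet t := by
  funext p
  rw [Pi.add_apply]
  by_cases hs : p ∈ s <;> by_cases ht : p ∈ t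
  · rw [wordOfSet_of_mem hs, wordOfSet_of_mem ht, wordOfSet_of_not_mem]
    · decide
    · rw [Finset.mem_symmDiff]; tauto
  · rw [wordOfSet_of_mem hs, wordOfSet_of_not_mem ht, wordOfSet_of_mem]
    · decide
    · rw [Finset.mem_symmDiff]; tauto
  · rw [wordOfSet_of_not_mem hs, wordOfSet_of_mem ht, wordOfSet_of_mem]
    · decide
    · rw [Finset.mem_symmDiff]; tauto
  · rw [wordOfSet_of_not_mem hs, wordOfSet_of_not_mem ht, wordOfSet_of_not_mem]
    · decide
    · rw [Finset.mem_symmDiff]; tauto

theorem wordOfSet_empty : wordOfSet ∅ = 0 := by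
  funext p
  exact wordOfSet_of_not_mem (Finset.notMem_empty p)

theorem wordOfSet_univ : wordOfSet Finset.univ = fun _ => (1 : ZMod 2) := by
  funext p
  exact wordOfSet_of_mem (Finset.mem_univ p)

theorem wordOfSet_compl (s : Finset GolayPt) :
    wordOfSet sᶜ = wordOfSet s + fun _ => (1 : ZMod 2) := by
  funext p
  rw [Pi.add_apply]
  by_cases hs : p ∈ s
  · rw [wordOfSet_of_mem hs, wordOfSet_of_not_mem]
    · decide
    · rw [Finset.mem_compl]; exact not_not.mpr hs
  · rw [wordOfSet_of_not_mem hs, wordOfSet_of_mem]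
    · decide
    · rw [Finset.mem_compl]; exact hs

theorem wordOfSet_smul (σ : Equiv.Perm GolayPt) (s : Finset GolayPt) :
    wordOfSet (σ • s) = fun p => wordOfSet s (σ.symm p) := by
  funext p
  show wordOfSet (σ • s) p = wordOfSet s (σ⁻¹ p)
  by_cases h : σ⁻¹ p ∈ s
  · rw [wordOfSet_of_mem h, wordOfSet_of_mem]
    rw [mem_smul_iff]; exact h
  · rw [wordOfSet_of_not_mem h, wordOfSet_of_not_mem]
    rw [mem_smul_iff]; exact h

theorem support₂_act (σ : Equiv.Perm GolayPt) (w : GolayPt → ZMod 2) :
    support₂ (fun p => w (σ.symm p)) = σ • support₂ w := by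
  ext p
  rw [mem_smul_iff, mem_support₂_iff, mem_support₂_iff]
  rfl

theorem wordOfSet_mem_golayCode {s : Finset GolayPt}
    (hs : s ∈ supports (golayCode : Set (GolayPt → ZMod 2))) : wordOfSet s ∈ golayCode := by
  obtain ⟨w, hw, rfl⟩ := hs
  rw [wordOfSet_support₂]
  exact hw

theorem one_mem_golayCode : (fun _ : GolayPt => (1 : ZMod 2)) ∈ golayCode :=
  Submodule.subset_span (Set.mem_union_right _ rfl)

/-- A submodule containing all octad words contains the code. -/
theorem golayCode_le_of_octads (W : Submodule (ZMod 2) (GolayPt → ZMod 2))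
    (h : ∀ o ∈ octads, wordOfSet o ∈ W) : golayCode ≤ W := by
  have key : ∀ s ∈ supports (golayCode : Set (GolayPt → ZMod 2)), wordOfSet s ∈ W := by
    apply supports_induction
    · rw [wordOfSet_empty]; exact W.zero_mem
    · exact h
    · intro s t hs ht
      rw [wordOfSet_symmDiff]
      exact W.add_mem hs ht
  intro c hc
  rw [← wordOfSet_support₂ c]
  exact key _ ⟨c, hc, rfl⟩

/-- An invariant submodule containing one octad word contains the code. -/
theorem golayCode_le_of_octad (W : Submodule (ZMod 2) (GolayPt → ZMod 2))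
    (hW : ∀ σ ∈ M24, ∀ w ∈ W, (fun p => w (σ.symm p)) ∈ W)
    {o : Finset GolayPt} (ho : o ∈ octads) (hoW : wordOfSet o ∈ W) : golayCode ≤ W := by
  apply golayCode_le_of_octads
  intro o' ho'
  obtain ⟨g, hg, rfl⟩ := exists_smul_octad_eq ho ho'
  rw [wordOfSet_smul]
  exact hW g hg _ hoW

theorem d1_mem : setOf 28637 ∈ dodecads := by
  rw [mem_dodecads_iff, maskS_setOf (by norm_num)]
  decide +kernel

theorem d2_mem : setOf 57274 ∈ dodecads := by
  rw [mem_dodecads_iff, maskS_setOf (by norm_num)]
  decide +kernel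

theorem d12_mem : symmDiff (setOf 28637) (setOf 57274) ∈ octads := by
  rw [← setOf_xor, mem_octads_iff, maskS_setOf (by decide)]
  decide +kernel

/-- An invariant submodule containing one dodecad word contains the code. -/
theorem golayCode_le_of_dodecad (W : Submodule (ZMod 2) (GolayPt → ZMod 2))
    (hW : ∀ σ ∈ M24, ∀ w ∈ W, (fun p => w (σ.symm p)) ∈ W)
    {d : Finset GolayPt} (hd : d ∈ dodecads) (hdW : wordOfSet d ∈ W) : golayCode ≤ W := by
  have hall : ∀ d' ∈ dodecads, wordOfSet d' ∈ W := by
    intro d' hd'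
    obtain ⟨g, hg, rfl⟩ := exists_smul_dodecad_eq hd hd'
    rw [wordOfSet_smul]
    exact hW g hg _ hdW
  apply golayCode_le_of_octad W hW d12_mem
  rw [wordOfSet_symmDiff]
  exact W.add_mem (hall _ d1_mem) (hall _ d2_mem)

theorem o1_mem : setOf 31554 ∈ octads := by
  rw [mem_octads_iff, maskS_setOf (by norm_num)]
  decide +kernel

theorem o2_mem : setOf 10558 ∈ octads := by
  rw [mem_octads_iff, maskS_setOf (by norm_num)]
  decide +kernel

theorem o12_mem : symmDiff (setOf 31554) (setOf 10558) ∈ octads := by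
  rw [← setOf_xor, mem_octads_iff, maskS_setOf (by decide)]
  decide +kernel

theorem smul_compl (g : Equiv.Perm GolayPt) (s : Finset GolayPt) : g • sᶜ = (g • s)ᶜ := by
  ext p
  rw [mem_smul_iff, Finset.mem_compl, Finset.mem_compl, mem_smul_iff]

/-- An invariant submodule containing the complement of an octad contains the code. -/
theorem golayCode_le_of_sixteen (W : Submodule (ZMod 2) (GolayPt → ZMod 2))
    (hW : ∀ σ ∈ M24, ∀ w ∈ W, (fun p => w (σ.symm p)) ∈ W)
    {o : Finset GolayPt} (ho : o ∈ octads) (hoW : wordOfSet oᶜ ∈ W) : golayCode ≤ W := by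
  have hall : ∀ o' ∈ octads, wordOfSet o'ᶜ ∈ W := by
    intro o' ho'
    obtain ⟨g, hg, rfl⟩ := exists_smul_octad_eq ho ho'
    rw [← smul_compl, wordOfSet_smul]
    exact hW g hg _ hoW
  apply golayCode_le_of_octad W hW o12_mem
  have h1 := hall _ o1_mem
  have h2 := hall _ o2_mem
  rw [wordOfSet_compl] at h1 h2
  have h3 := W.add_mem h1 h2
  have e : wordOfSet (setOf 31554) + (fun _ => (1 : ZMod 2)) +
      (wordOfSet (setOf 10558) + fun _ => (1 : ZMod 2)) =
      wordOfSet (setOf 31554) + wordOfSet (setOf 10558) := by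
    funext p
    simp only [Pi.add_apply]
    have h11 : (1 : ZMod 2) + 1 = 0 := by decide
    linear_combination h11
  rw [e] at h3
  rw [wordOfSet_symmDiff]
  exact h3

/-- An invariant submodule containing a code word other than 0 and the all-ones word contains
the code. -/
theorem golayCode_le_of_mem (W : Submodule (ZMod 2) (GolayPt → ZMod 2))
    (hW : ∀ σ ∈ M24, ∀ w ∈ W, (fun p => w (σ.symm p)) ∈ W)
    {w : GolayPt → ZMod 2} (hwC : w ∈ golayCode) (hwW : w ∈ W) (h0 : w ≠ 0)
    (h1 : w ≠ fun _ => (1 : ZMod 2)) : golayCode ≤ W := by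
  have hs : support₂ w ∈ supports (golayCode : Set (GolayPt → ZMod 2)) := ⟨w, hwC, rfl⟩
  have hw' : wordOfSet (support₂ w) ∈ W := by rw [wordOfSet_support₂]; exact hwW
  rcases card_of_mem_supports hs with h | h | h | h | h
  · exfalso
    apply h0
    rw [← wordOfSet_support₂ w, Finset.card_eq_zero.mp h, wordOfSet_empty]
  · exact golayCode_le_of_octad W hW ⟨hs, h⟩ hw'
  · exact golayCode_le_of_dodecad W hW ⟨hs, h⟩ hw'
  · have hc : (support₂ w)ᶜ ∈ octads := by
      refine ⟨compl_mem_supports hs, ?_⟩
      rw [Finset.card_compl, h, Cfsg.Agent.Lib.helper27.card_golayPt24]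
    apply golayCode_le_of_sixteen W hW hc
    rw [compl_compl]
    exact hw'
  · exfalso
    apply h1
    have hu : support₂ w = Finset.univ := by
      apply Finset.eq_univ_of_card
      rw [h]; decide
    rw [← wordOfSet_support₂ w, hu, wordOfSet_univ]

theorem irreducible_mod_one (W : Submodule (ZMod 2) (GolayPt → ZMod 2))
    (h1 : (fun _ => (1 : ZMod 2)) ∈ W) (hWC : W ≤ golayCode)
    (hW : ∀ σ ∈ M24, ∀ w ∈ W, (fun p => w (σ.symm p)) ∈ W) :
    W = Submodule.span (ZMod 2) {fun _ => (1 : ZMod 2)} ∨ W = golayCode := by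
  by_cases h : W ≤ Submodule.span (ZMod 2) {fun _ => (1 : ZMod 2)}
  · left
    apply le_antisymm h
    rw [Submodule.span_le]
    intro x hx
    rw [Set.mem_singleton_iff] at hx
    rw [hx]; exact h1
  · right
    apply le_antisymm hWC
    obtain ⟨w, hwW, hw⟩ := Set.not_subset.mp h
    apply golayCode_le_of_mem W hW (hWC hwW) hwW
    · intro h0
      apply hw
      rw [h0]
      exact Submodule.zero_mem _
    · intro h1'
      apply hw
      rw [h1']
      exact Submodule.subset_span rfl

end Cfsg.Agent.Lib.helper27
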