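import Cfsg.Agent.Lib.helper27.J1Simple

set_option autoImplicit false

/-! The centralizer of an involution of the Janko group `J₁` is `2 × A₅`. -/

namespace Cfsg.Agent.Lib.helper27.J1B

open Matrix

/-! ### Data -/

def a5perms : List (List ℕ) := [
  [0, 1, 2, 3, 4],
  [0, 1, 3, 4, 2],
  [0, 1, 4, 2, 3],
  [0, 2, 1, 4, 3],
  [0, 2, 3, 1, 4],
  [0, 2, 4, 3, 1],
  [0, 3, 1, 2, 4],
  [0, 3, 2, 4, 1],
  [0, 3, 4, 1, 2],
  [0, 4, 1, 3, 2],
  [0, 4, 2, 1, 3],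
  [0, 4, 3, 2, 1],
  [1, 0, 2, 4, 3],
  [1, 0, 3, 2, 4],
  [1, 0, 4, 3, 2],
  [1, 2, 0, 3, 4],
  [1, 2, 3, 4, 0],
  [1, 2, 4, 0, 3],
  [1, 3, 0, 4, 2],
  [1, 3, 2, 0, 4],
  [1, 3, 4, 2, 0],
  [1, 4, 0, 2, 3],
  [1, 4, 2, 3, 0],
  [1, 4, 3, 0, 2],
  [2, 0, 1, 3, 4],
  [2, 0, 3, 4, 1],
  [2, 0, 4, 1, 3],
  [2, 1, 0, 4, 3],
  [2, 1, 3, 0, 4],
  [2, 1, 4, 3, 0],
  [2, 3, 0, 1, 4],
  [2, 3, 1, 4, 0],
  [2, 3, 4, 0, 1],
  [2, 4, 0, 3, 1],
  [2, 4, 1, 0, 3],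
  [2, 4, 3, 1, 0],
  [3, 0, 1, 4, 2],
  [3, 0, 2, 1, 4],
  [3, 0, 4, 2, 1],
  [3, 1, 0, 2, 4],
  [3, 1, 2, 4, 0],
  [3, 1, 4, 0, 2],
  [3, 2, 0, 4, 1],
  [3, 2, 1, 0, 4],
  [3, 2, 4, 1, 0],
  [3, 4, 0, 1, 2],
  [3, 4, 1, 2, 0],
  [3, 4, 2, 0, 1],
  [4, 0, 1, 2, 3],
  [4, 0, 2, 3, 1],
  [4, 0, 3, 1, 2],
  [4, 1, 0, 3, 2],
  [4, 1, 2, 0, 3],
  [4, 1, 3, 2, 0],
  [4, 2, 0, 1, 3],
  [4, 2, 1, 3, 0],
  [4, 2, 3, 0, 1],
  [4, 3, 0, 2, 1],
  [4, 3, 1, 0, 2],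
  [4, 3, 2, 1, 0]]

def a5matL : List M7 := [
  (M7.mk (V7.mk 1 0 0 0 0 0 0) (V7.mk 0 1 0 0 0 0 0) (V7.mk 0 0 1 0 0 0 0) (V7.mk 0 0 0 1 0 0 0) (V7.mk 0 0 0 0 1 0 0) (V7.mk 0 0 0 0 0 1 0) (V7.mk 0 0 0 0 0 0 1)),
  (M7.mk (V7.mk 7 8 5 6 2 1 3) (V7.mk 0 4 2 9 1 7 9) (V7.mk 9 10 9 8 8 6 2) (V7.mk 1 3 3 10 8 2 10) (V7.mk 2 4 2 0 1 8 0) (V7.mk 7 0 10 4 8 3 4) (V7.mk 2 4 8 1 1 5 0)),
  (M7.mk (V7.mk 7 0 9 1 2 7 2) (V7.mk 8 4 10 3 4 0 4) (V7.mk 5 2 9 3 2 10 8) (V7.mk 6 9 8 10 0 4 1) (V7.mk 2 1 8 8 1 8 1) (V7.mk 1 7 6 2 8 3 5) (V7.mk 3 9 2 10 0 4 0)),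
  (M7.mk (V7.mk 5 2 4 1 9 4 1) (V7.mk 2 1 4 6 7 9 10) (V7.mk 4 4 0 9 0 9 4) (V7.mk 1 6 9 9 7 7 1) (V7.mk 9 7 0 7 2 0 4) (V7.mk 4 9 9 7 0 0 7) (V7.mk 1 10 4 1 4 7 4)),
  (M7.mk (V7.mk 3 5 9 2 1 2 3) (V7.mk 10 6 0 9 7 3 10) (V7.mk 3 9 1 10 8 8 1) (V7.mk 2 1 3 7 8 5 6) (V7.mk 1 8 0 2 4 2 0) (V7.mk 10 4 2 0 7 9 2) (V7.mk 8 3 4 7 0 10 4)),
  (M7.mk (V7.mk 10 10 2 8 6 2 1) (V7.mk 10 3 8 5 9 2 9) (V7.mk 9 3 1 3 6 9 9) (V7.mk 8 5 8 9 7 10 6) (V7.mk 5 2 6 4 10 9 6) (V7.mk 9 9 9 1 9 5 5) (V7.mk 10 2 9 5 6 5 7)),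
  (M7.mk (V7.mk 3 10 3 2 1 10 8) (V7.mk 5 6 9 1 8 4 3) (V7.mk 9 0 1 3 0 2 4) (V7.mk 2 9 10 7 2 0 7) (V7.mk 1 7 8 8 4 7 0) (V7.mk 2 3 8 5 2 9 10) (V7.mk 3 10 1 6 0 2 4)),
  (M7.mk (V7.mk 6 4 3 2 2 8 0) (V7.mk 2 3 3 9 7 7 3) (V7.mk 9 8 5 5 4 3 1) (V7.mk 8 0 1 8 4 3 1) (V7.mk 1 2 6 10 10 2 3) (V7.mk 2 6 2 1 8 9 3) (V7.mk 3 9 4 1 4 7 4)),
  (M7.mk (V7.mk 10 9 1 5 1 8 2) (V7.mk 9 4 2 8 4 8 3) (V7.mk 1 2 2 9 3 8 6) (V7.mk 5 8 9 6 7 10 8) (V7.mk 1 4 3 7 7 7 9) (V7.mk 8 8 8 10 7 10 0) (V7.mk 2 3 6 8 9 0 4)),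
  (M7.mk (V7.mk 10 10 9 8 5 9 10) (V7.mk 10 3 3 5 2 9 2) (V7.mk 2 8 1 8 6 9 9) (V7.mk 8 5 3 9 4 1 5) (V7.mk 6 9 6 7 10 9 6) (V7.mk 2 2 9 10 9 5 5) (V7.mk 1 9 9 6 6 5 7)),
  (M7.mk (V7.mk 6 2 9 8 1 2 3) (V7.mk 4 3 8 0 2 6 9) (V7.mk 3 3 5 1 6 2 4) (V7.mk 2 9 5 8 10 1 1) (V7.mk 2 7 4 4 10 8 4) (V7.mk 8 7 3 3 2 9 7) (V7.mk 0 3 1 1 3 3 4)),
  (M7.mk (V7.mk 10 8 3 7 0 3 1) (V7.mk 8 10 10 1 9 2 6) (V7.mk 3 10 2 8 6 2 9) (V7.mk 7 1 8 7 2 7 4) (V7.mk 0 9 6 2 4 3 8) (V7.mk 3 2 2 7 3 4 8) (V7.mk 1 6 9 4 8 8 6)),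
  (M7.mk (V7.mk 5 7 2 7 7 6 8) (V7.mk 7 1 3 4 3 4 0) (V7.mk 2 3 4 2 5 9 7) (V7.mk 7 4 2 8 7 5 5) (V7.mk 7 3 5 7 0 1 0) (V7.mk 6 4 9 5 1 9 6) (V7.mk 8 0 7 5 0 6 5)),
  (M7.mk (V7.mk 0 7 0 8 9 2 10) (V7.mk 7 0 4 3 4 10 3) (V7.mk 0 4 10 6 2 3 1) (V7.mk 8 3 6 1 4 5 9) (V7.mk 9 4 2 4 0 9 1) (V7.mk 2 10 3 5 9 2 8) (V7.mk 10 3 1 9 1 8 8)),
  (M7.mk (V7.mk 0 4 7 2 9 7 0) (V7.mk 4 4 1 10 7 10 4) (V7.mk 7 1 5 2 7 10 9) (V7.mk 2 10 2 1 7 5 7) (V7.mk 9 7 7 7 0 9 0) (V7.mk 7 10 10 5 9 9 4) (V7.mk 0 4 9 7 0 4 2)),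
  (M7.mk (V7.mk 6 8 10 7 2 8 5) (V7.mk 8 9 5 4 5 4 7) (V7.mk 1 1 4 3 3 2 7) (V7.mk 4 9 5 1 5 8 3) (V7.mk 6 0 2 8 1 6 5) (V7.mk 9 10 3 1 0 9 2) (V7.mk 3 2 8 9 6 0 4)),
  (M7.mk (V7.mk 0 9 6 9 7 3 3) (V7.mk 3 1 1 1 9 9 6) (V7.mk 3 2 2 4 8 4 3) (V7.mk 3 10 2 3 5 2 2) (V7.mk 1 6 9 7 3 8 5) (V7.mk 4 10 3 7 2 4 4) (V7.mk 1 3 8 7 0 8 1)),
  (M7.mk (V7.mk 5 9 2 3 9 10 8) (V7.mk 3 2 9 10 0 4 0) (V7.mk 5 9 8 1 0 7 10) (V7.mk 4 0 9 10 2 4 9) (V7.mk 2 10 3 8 10 8 1) (V7.mk 3 4 10 8 4 0 7) (V7.mk 1 4 5 2 3 3 5)),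
  (M7.mk (V7.mk 0 5 4 3 9 2 3) (V7.mk 1 9 3 6 5 7 3) (V7.mk 8 10 2 6 1 10 9) (V7.mk 4 3 2 7 1 7 7) (V7.mk 3 2 8 8 9 4 7) (V7.mk 1 8 0 10 8 7 3) (V7.mk 8 9 6 2 10 8 2)),
  (M7.mk (V7.mk 8 6 2 9 9 10 8) (V7.mk 2 1 9 5 6 2 9) (V7.mk 1 8 5 2 9 9 8) (V7.mk 2 5 6 5 4 1 2) (V7.mk 3 9 7 10 5 3 5) (V7.mk 9 8 6 2 10 1 10) (V7.mk 6 7 1 2 6 5 9)),
  (M7.mk (V7.mk 0 7 7 8 1 4 3) (V7.mk 6 3 7 4 4 5 2) (V7.mk 5 6 6 10 4 9 9) (V7.mk 8 7 6 7 4 5 9) (V7.mk 7 2 9 5 8 2 7) (V7.mk 0 4 7 0 3 1 5) (V7.mk 5 5 3 0 0 5 4)),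
  (M7.mk (V7.mk 4 5 9 8 5 3 1) (V7.mk 6 2 8 8 10 5 7) (V7.mk 6 1 0 6 2 5 8) (V7.mk 8 5 9 4 5 7 4) (V7.mk 9 0 10 9 3 2 1) (V7.mk 1 3 1 2 4 7 3) (V7.mk 3 6 2 0 8 4 9)),
  (M7.mk (V7.mk 7 3 7 3 3 9 2) (V7.mk 4 8 3 5 1 5 9) (V7.mk 4 0 3 1 1 8 8) (V7.mk 10 2 2 6 3 10 1) (V7.mk 8 6 9 2 3 1 2) (V7.mk 4 9 7 4 4 1 3) (V7.mk 2 4 8 3 0 2 6)),
  (M7.mk (V7.mk 1 2 5 6 9 5 7) (V7.mk 5 6 4 1 9 2 6) (V7.mk 9 2 9 10 3 8 5) (V7.mk 7 10 6 8 5 8 9) (V7.mk 2 6 6 2 2 2 10) (V7.mk 6 2 1 10 10 2 8) (V7.mk 5 2 2 2 8 10 8)),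
  (M7.mk (V7.mk 6 8 1 4 6 9 3) (V7.mk 8 9 1 9 0 10 2) (V7.mk 10 5 4 5 2 3 8) (V7.mk 7 4 3 1 8 1 9) (V7.mk 2 5 3 5 1 0 6) (V7.mk 8 4 2 8 6 9 0) (V7.mk 5 7 7 3 5 2 4)),
  (M7.mk (V7.mk 4 6 6 8 9 1 3) (V7.mk 5 2 1 5 0 3 6) (V7.mk 9 8 0 9 10 1 2) (V7.mk 8 8 6 4 9 2 0) (V7.mk 5 10 2 5 3 4 8) (V7.mk 3 5 5 7 2 7 4) (V7.mk 1 7 8 4 1 3 9)),
  (M7.mk (V7.mk 0 1 8 4 3 1 8) (V7.mk 5 9 10 3 2 8 9) (V7.mk 4 3 2 2 8 0 6) (V7.mk 3 6 6 7 8 10 2) (V7.mk 9 5 1 1 9 8 10) (V7.mk 2 7 10 7 4 7 8) (V7.mk 3 3 9 7 7 3 2)),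
  (M7.mk (V7.mk 4 3 9 9 8 0 6) (V7.mk 3 6 5 4 8 1 2) (V7.mk 9 5 10 10 9 3 10) (V7.mk 9 4 10 7 7 7 3) (V7.mk 8 8 9 7 4 3 9) (V7.mk 0 1 3 7 3 10 8) (V7.mk 6 2 10 3 9 8 2)),
  (M7.mk (V7.mk 9 8 9 1 2 0 10) (V7.mk 9 4 7 8 1 8 10) (V7.mk 0 8 4 2 3 5 9) (V7.mk 8 6 8 1 7 5 9) (V7.mk 3 10 5 4 6 9 3) (V7.mk 6 9 6 8 5 1 0) (V7.mk 4 6 4 4 3 5 9)),
  (M7.mk (V7.mk 3 8 0 10 4 4 4) (V7.mk 9 7 5 4 3 6 7) (V7.mk 2 1 6 4 6 2 6) (V7.mk 9 7 8 7 4 5 5) (V7.mk 4 6 4 8 2 9 9) (V7.mk 5 0 0 8 7 1 4) (V7.mk 4 0 5 0 6 5 8)),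
  (M7.mk (V7.mk 9 1 1 8 10 3 8) (V7.mk 1 1 3 10 8 3 2) (V7.mk 1 3 1 8 8 9 10) (V7.mk 8 10 8 3 9 10 1) (V7.mk 10 8 8 9 1 10 3) (V7.mk 3 3 9 10 10 3 10) (V7.mk 8 2 10 1 3 10 3)),
  (M7.mk (V7.mk 5 6 7 6 1 2 9) (V7.mk 8 2 5 10 9 8 9) (V7.mk 2 5 10 2 2 9 5) (V7.mk 1 2 3 9 6 8 2) (V7.mk 9 4 5 10 6 9 6) (V7.mk 8 5 9 8 7 6 1) (V7.mk 9 1 3 1 5 10 2)),
  (M7.mk (V7.mk 6 5 3 8 3 6 8) (V7.mk 5 4 3 5 0 4 8) (V7.mk 7 5 8 0 8 4 6) (V7.mk 5 6 6 7 7 1 6) (V7.mk 7 7 3 8 6 5 0) (V7.mk 5 10 6 6 4 5 4) (V7.mk 10 5 5 7 6 6 4)),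
  (M7.mk (V7.mk 0 2 4 7 7 0 9) (V7.mk 2 0 4 2 4 0 7) (V7.mk 4 4 4 10 1 7 1) (V7.mk 7 2 10 9 10 7 6) (V7.mk 7 4 1 10 5 2 9) (V7.mk 0 0 7 7 2 2 7) (V7.mk 9 7 1 6 9 7 1)),
  (M7.mk (V7.mk 9 2 10 3 1 6 10) (V7.mk 9 5 6 4 5 1 9) (V7.mk 9 8 2 6 1 9 3) (V7.mk 5 2 5 1 9 2 2) (V7.mk 9 10 9 3 9 5 8) (V7.mk 5 2 7 5 10 5 9) (V7.mk 1 8 5 2 3 7 5)),
  (M7.mk (V7.mk 9 1 4 8 7 10 8) (V7.mk 8 7 6 5 8 9 1) (V7.mk 6 5 9 1 6 0 8) (V7.mk 9 2 8 0 9 10 1) (V7.mk 0 3 8 5 4 9 2) (V7.mk 3 6 10 9 5 3 4) (V7.mk 4 3 6 5 4 9 4)),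
  (M7.mk (V7.mk 5 3 5 4 2 3 1) (V7.mk 9 2 9 0 10 4 4) (V7.mk 2 9 8 9 3 10 5) (V7.mk 3 10 1 10 8 8 2) (V7.mk 9 0 0 2 10 4 3) (V7.mk 10 4 7 4 8 0 3) (V7.mk 8 0 10 9 1 7 5)),
  (M7.mk (V7.mk 8 2 1 2 3 9 6) (V7.mk 6 1 8 5 9 8 7) (V7.mk 2 9 5 6 7 6 1) (V7.mk 9 5 2 5 10 2 2) (V7.mk 9 6 9 4 5 10 6) (V7.mk 10 2 9 1 3 1 5) (V7.mk 8 9 8 2 5 10 9)),
  (M7.mk (V7.mk 1 5 9 7 2 6 5) (V7.mk 2 6 2 10 6 2 2) (V7.mk 5 4 9 6 6 1 2) (V7.mk 6 1 10 8 2 10 2) (V7.mk 9 9 3 5 2 10 8) (V7.mk 5 2 8 8 2 2 10) (V7.mk 7 6 5 9 10 8 8)),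
  (M7.mk (V7.mk 9 9 0 8 3 6 4) (V7.mk 8 4 8 6 10 9 6) (V7.mk 9 7 4 8 5 6 4) (V7.mk 1 8 2 1 4 8 4) (V7.mk 2 1 3 7 6 5 3) (V7.mk 0 8 5 5 9 1 5) (V7.mk 10 10 9 9 3 0 9)),
  (M7.mk (V7.mk 6 6 9 1 3 7 3) (V7.mk 9 0 10 8 0 2 7) (V7.mk 2 2 1 4 2 0 4) (V7.mk 10 7 8 8 7 4 0) (V7.mk 2 8 3 6 2 9 1) (V7.mk 8 10 1 6 0 9 4) (V7.mk 8 10 3 2 10 1 8)),
  (M7.mk (V7.mk 9 2 6 5 6 10 7) (V7.mk 2 4 4 9 9 5 3) (V7.mk 6 4 5 5 8 0 0) (V7.mk 5 9 5 8 7 4 7) (V7.mk 6 9 8 7 5 4 4) (V7.mk 10 5 0 4 4 0 3) (V7.mk 7 3 0 7 4 3 1)),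
  (M7.mk (V7.mk 9 9 9 5 9 5 1) (V7.mk 2 5 8 2 10 2 8) (V7.mk 10 6 2 5 9 7 5) (V7.mk 3 4 6 1 3 5 2) (V7.mk 1 5 1 9 9 10 3) (V7.mk 6 1 9 2 5 5 7) (V7.mk 10 9 3 2 8 9 5)),
  (M7.mk (V7.mk 5 9 0 7 0 0 0) (V7.mk 9 7 0 5 0 0 0) (V7.mk 0 0 2 0 3 3 10) (V7.mk 7 5 0 9 0 0 0) (V7.mk 0 0 3 0 3 2 10) (V7.mk 0 0 3 0 2 3 10) (V7.mk 0 0 10 0 10 10 3)),
  (M7.mk (V7.mk 6 0 4 3 2 8 9) (V7.mk 6 7 4 3 2 6 7) (V7.mk 5 8 3 4 9 5 1) (V7.mk 0 2 9 2 1 8 10) (V7.mk 9 3 6 5 3 1 4) (V7.mk 8 9 4 10 10 7 8) (V7.mk 1 6 5 6 0 2 8)),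
  (M7.mk (V7.mk 6 5 7 5 7 5 10) (V7.mk 5 4 5 6 7 10 5) (V7.mk 3 3 8 6 3 6 5) (V7.mk 8 5 0 7 8 6 7) (V7.mk 3 0 8 7 6 4 6) (V7.mk 6 4 4 1 5 5 6) (V7.mk 8 8 6 6 0 4 4)),
  (M7.mk (V7.mk 3 1 9 8 5 5 4) (V7.mk 4 7 8 2 7 10 7) (V7.mk 3 1 8 0 1 8 4) (V7.mk 3 0 5 7 8 9 9) (V7.mk 9 8 10 9 5 1 1) (V7.mk 4 8 9 8 8 2 4) (V7.mk 9 3 2 6 2 1 8)),
  (M7.mk (V7.mk 9 2 5 5 5 1 4) (V7.mk 2 4 7 9 2 6 8) (V7.mk 5 7 5 6 8 0 0) (V7.mk 5 9 6 8 4 7 4) (V7.mk 5 2 8 4 5 4 4) (V7.mk 1 6 0 7 4 0 3) (V7.mk 4 8 0 4 4 3 1)),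
  (M7.mk (V7.mk 0 3 3 3 1 4 1) (V7.mk 9 1 2 10 6 10 3) (V7.mk 6 1 2 2 9 3 8) (V7.mk 9 1 4 3 7 7 7) (V7.mk 7 9 8 5 3 2 0) (V7.mk 3 9 4 2 8 4 8) (V7.mk 3 6 3 2 5 4 1)),
  (M7.mk (V7.mk 7 4 4 10 8 4 2) (V7.mk 3 8 0 2 6 9 4) (V7.mk 7 3 3 2 9 7 8) (V7.mk 3 5 1 6 2 4 3) (V7.mk 3 1 1 3 3 4 0) (V7.mk 9 5 8 10 1 1 2) (V7.mk 2 9 8 1 2 3 6)),
  (M7.mk (V7.mk 0 6 5 8 7 0 5) (V7.mk 7 3 6 7 2 4 5) (V7.mk 7 7 6 6 9 7 3) (V7.mk 8 4 10 7 5 0 0) (V7.mk 1 4 4 4 8 3 0) (V7.mk 4 5 9 5 2 1 5) (V7.mk 3 2 9 9 7 5 4)),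
  (M7.mk (V7.mk 3 9 2 9 4 5 4) (V7.mk 8 7 1 7 6 0 0) (V7.mk 0 5 6 8 4 0 5) (V7.mk 10 4 4 7 8 8 0) (V7.mk 4 3 6 4 2 7 6) (V7.mk 4 6 2 5 9 1 5) (V7.mk 4 7 6 5 9 4 8)),
  (M7.mk (V7.mk 6 9 2 10 2 8 8) (V7.mk 6 0 2 7 8 10 10) (V7.mk 9 10 1 8 3 1 3) (V7.mk 1 8 4 8 6 6 2) (V7.mk 3 0 2 7 2 0 10) (V7.mk 7 2 0 4 9 9 1) (V7.mk 3 7 4 0 1 4 8)),
  (M7.mk (V7.mk 0 7 3 9 8 9 6) (V7.mk 7 4 8 2 5 4 5) (V7.mk 3 8 4 2 5 1 5) (V7.mk 9 2 2 10 8 10 0) (V7.mk 8 5 5 8 1 4 9) (V7.mk 9 4 1 10 4 3 3) (V7.mk 6 5 5 0 9 3 10)),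
  (M7.mk (V7.mk 5 8 2 1 9 8 9) (V7.mk 6 2 5 2 4 5 1) (V7.mk 7 5 10 3 5 9 3) (V7.mk 6 10 2 9 10 8 1) (V7.mk 1 9 2 6 6 7 5) (V7.mk 2 8 9 8 9 6 10) (V7.mk 9 9 5 2 6 1 2)),
  (M7.mk (V7.mk 3 2 1 4 3 7 1) (V7.mk 2 0 8 3 5 7 9) (V7.mk 1 8 4 5 5 3 9) (V7.mk 4 3 5 1 9 6 3) (V7.mk 3 5 5 9 10 6 0) (V7.mk 7 7 3 6 6 4 2) (V7.mk 1 9 9 3 0 2 10)),
  (M7.mk (V7.mk 3 4 3 3 9 4 9) (V7.mk 1 7 1 0 8 8 3) (V7.mk 9 8 8 5 10 9 2) (V7.mk 8 2 0 7 9 8 6) (V7.mk 5 7 1 8 5 8 2) (V7.mk 5 10 8 9 1 2 1) (V7.mk 4 7 4 9 1 4 8)),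
  (M7.mk (V7.mk 9 8 6 9 0 3 4) (V7.mk 1 7 5 2 3 6 3) (V7.mk 4 6 9 8 8 10 6) (V7.mk 8 5 1 0 5 9 5) (V7.mk 7 8 6 9 4 5 4) (V7.mk 10 9 0 10 9 3 9) (V7.mk 8 1 8 1 2 4 4)),
  (M7.mk (V7.mk 6 6 5 0 9 8 1) (V7.mk 0 7 8 2 3 9 6) (V7.mk 4 4 3 9 6 4 5) (V7.mk 3 3 4 2 5 10 6) (V7.mk 2 2 9 1 3 10 0) (V7.mk 8 6 5 8 1 7 2) (V7.mk 9 7 1 10 4 8 8)),
  (M7.mk (V7.mk 1 9 6 5 9 5 4) (V7.mk 9 6 6 2 9 9 10) (V7.mk 6 6 4 1 2 9 6) (V7.mk 5 2 1 10 1 9 8) (V7.mk 9 9 2 1 3 8 6) (V7.mk 5 9 9 9 8 10 3) (V7.mk 4 10 6 8 6 3 9))]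

def a5wordL : List (List Bool) := [
  [],
  [false, false, true, true, false, false, true, false, false, false, false, true, true, false],
  [true, false, false, true, false, true, false, false, false, true, true, false, true, false, true, true],
  [false, false, false, false, false, true, true, false, true, true, false, false, false, true, true, false, false],
  [true, false, false, false, true, true, true, false, false, true, true, false, false, false, false, true],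
  [true, true, true, true, false, false, false, false, true, true, false, true, false, false, true, false, true, true, false],
  [true, true, true, false, false, false, false, true, false, false, false, false, true, true, false, false],
  [false, false, false, true, true, false, true, true, false, true, true, false, false, true, true, true, false, false, false],
  [false, false, false, true, true, true, true, false, true, true, true, false, false, true],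
  [true, true, false, false, true, true, true, false, false, false, true, true, false, false, true, true, true, false],
  [false, true, true, true, true, false, false, true, true, true, false, true, true, true, false, true, true, true, false, false],
  [false, false, true, true, false, true, false, false, true, false, true, true, true, false, true, true, false, false],
  [true, false, false, true, true, false, false, false, false, true, false, false, true, false, true, false, false, false, true],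
  [false, false, false, true, true, true, false, true, true, true, true, false, true, true, true, false, false, false, false],
  [true, false, true, false, true, false, true, false, true, false, false, false, false, true, false, true, true, false, true],
  [true, false, false, false, false, true, false, true, true, false, true, false, false, true, true, true, false],
  [true, true, true, true, false, true, true, false, true, false, false, false, false, true, true, false, false, true, false, false],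
  [true, false, false, false, true, true, true, false, true, false, true, true, false, true, false, false, true],
  [true, true, false, false, false, false, true, true, false, true, false, false, true, false, true, false, true],
  [false, true, true, true, false, false, true, true, false, false, false, true, true, false, true, false, false, true, true],
  [false, false, true, false, true, true, false, true, true, false, true, false, false, false, false, false, true, true, false],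
  [false, false, false, false, false, true, false, true, false, true, false, false, false, true, false],
  [true, false, true, true, false, true, false, false, false, true, false, true, false, true, false],
  [true, false, false, true, true, false, false, false, false, true, true, false, true, true, false, true, true],
  [true, true, false, false, false, false, false, true, true, false, true, false, false, false, false, true, false, false],
  [true, false, true, false, false, false, true, false, true, false, true, false, false, false, false, false],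
  [true, false, true, false, false, false, true, false, false, false, true, false, false, true, false, true, true, false],
  [true, true, true, false, true, true, false, true, false, true, true, false, true, true, false, false, false, true],
  [false, true, true, false, true, true, false, false, false, false, false, false, true, true, true, false, false, false],
  [true, false, true, true, false, false, true, true, false, true, true, true, false, true, false, false],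
  [true, false, true, true, true, false, false, false, false, false],
  [true, false, false, false, true, false, false, false, false, true, true, false],
  [true, true, true, true, false, true, false, true, true, false, false, false, true, true, false],
  [false, false, false, true, true, true, false, false, true, true, false, true, false, false, true, false, true, true, true],
  [true, true, true, false, false, true, true, true, false, true, false, true, false, true, true],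
  [true, true, true, false, false, true, false, false, true, true, false, false, false, false, true, true],
  [true, false, true, true, false, true, false, true, false, true, true, true, false, true, true, false, true, false],
  [false, false, true, true, false, false, false, true, false, true, true, false, true, false, false, true, true, true, false],
  [false, true, false, true, true, false, true, false, true, true, true, false, false, true, true, false, false, false, true],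
  [false, true, true, true, false, false, false, true, false, true, true, false, true, true, true, true],
  [false, false, false, true, true, false, true, false, false, true, true, true, false, true, true, false, true, false, false],
  [false, true, false, false, false, true, true, false, true, false, true, true, true, false],
  [true, true, false, false, true, false, false, false, false, true, true, false, true, false, false, false, true, true],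
  [true, true, false, true, true, false, false, false, false, true, true, false, false, false, false, true, false, true, false, false],
  [false, false, true, false, true, true, true, false, true, true, true, false, false, true, true, true, false, true, false],
  [true, true, true, true, false, false, false, true, true, false, true, false, true, false],
  [false, false, false, false, false, true, true, false, true, false, true, false, false, false, false, false, true, false, true],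
  [false, true, false, false, false, true, false, true, false, true, false, true, true, true, true, false, false],
  [false, true, true, true, false, false, true, false, true, false, false, true, false, false, true, false, false, false],
  [true, false, false, false, true, false, true, true, false, true, false],
  [false, true, true, false, false, true, true, false, false, true, true, false, true, false, true, true, false],
  [false, false, true, false, true, true, false, false, true, false, false, true, true, true, false],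
  [false, false, true, true, false, false, true, true, true, false, true, false, true, false, false, false, true, true, false, true],
  [true, true, false, false, true, true, false, false, false, true, false, true, false, true, false, true, true, true, false],
  [false, false, true, true, false, false, true, false, true, true, false, true, false],
  [true, true, true, false, false, false, true, false, false, false, false, true, false, true],
  [false, false, true, false, false, true, false, true, false, true, false, true, false, false, true, true],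
  [true, true, true, false, false, false, true, true, false, false, true, false, false, true],
  [true, true, false, false, false, false, false, true, true, false, false, true, false, false, false, false, true, true, false, true],
  [false, false, false, false, false, true, true, false, false, true, false, false, false, true, false, true]]

def fixL : List (ℕ × ℕ × ℕ × ℕ × ℕ) := [(0, 0, 0, 0, 0), (112, 0, 26, 15, 4), (147, 0, 27, 18, 4), (462, 0, 2, 10, 3), (514, 0, 48, 2, 2), (578, 0, 15, 14, 5), (661, 0, 13, 15, 0), (846, 0, 3, 15, 1), (986, 0, 49, 0, 0), (1010, 0, 25, 5, 4), (1012, 0, 38, 10, 3), (1034, 0, 51, 13, 3), (1035, 0, 12, 0, 1), (1193, 0, 24, 14, 2), (1262, 0, 1, 6, 4), (1314, 0, 39, 15, 1), (1326, 0, 36, 12, 5), (1400, 0, 14, 5, 2), (1401, 0, 37, 17, 4), (1409, 0, 50, 7, 0)]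


/-- The matrices of the subgroup `A₅`. -/
def a5mat (j : ℕ) : M7 := a5matL.getD j one7

/-- Words for the elements of the subgroup `A₅`. -/
def a5word (j : ℕ) : List Bool := a5wordL.getD j []

/-- The even permutations of five points, as lists of images. -/
def perm5 (j : ℕ) : List ℕ := a5perms.getD j []

/-- The involution, as a word. -/
def tword : List Bool := cword ++ cword ++ cword

/-- The matrix of the involution. -/
def tc : M7 := wordM tword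

/-- Powers of the involution. -/
def tpc (ε : ℕ) : M7 := if ε = 0 then one7 else tc

/-- Indices of the lines fixed by the involution. -/
def fixI : List ℕ := fixL.map (fun r => r.1)

/-- Composition of permutations given as lists of images. -/
def comp5 (p q : List ℕ) : List ℕ := q.map (fun i => p.getD i 0)

/-- The list of images of a permutation of five points. -/
def imgs5 (σ : Equiv.Perm (Fin 5)) : List ℕ :=
  [(σ 0).val, (σ 1).val, (σ 2).val, (σ 3).val, (σ 4).val]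

/-- The index of an even permutation in the table. -/
def idx5 (σ : Equiv.Perm (Fin 5)) : ℕ := a5perms.idxOf (imgs5 σ)

/-! ### Checks -/

set_option maxRecDepth 100000 in
theorem chkA : ∀ σ : Equiv.Perm (Fin 5), Equiv.Perm.sign σ = 1 → imgs5 σ ∈ a5perms := by
  decide +kernel

theorem chkN : a5perms.length = 60 := by decide +kernel

theorem chkB : ∀ a < 60, ∀ b < 60, a5perms.idxOf (comp5 (perm5 a) (perm5 b)) < 60 ∧
    a5mat (a5perms.idxOf (comp5 (perm5 a) (perm5 b))) = (a5mat a).mul (a5mat b) := by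
  decide +kernel

theorem chkW : ∀ j < 60, wordM (a5word j) = a5mat j := by decide +kernel

theorem chkT : ∀ j < 60, tc.mul (a5mat j) = (a5mat j).mul tc := by decide +kernel

theorem chkI : ∀ j < 60, (a5mat j = one7 → j = 0) ∧ tc.mul (a5mat j) ≠ one7 := by decide +kernel

theorem chkF : ∀ i < 1540, (tc.app ((tab i).app wc) = (tab i).app wc ∨
    tc.app ((tab i).app wc) = ((tab i).app wc).neg) → i ∈ fixI := by
  decide +kernel

theorem chkFC : ∀ r ∈ fixL, r.1 < 1540 ∧ r.2.1 < 2 ∧ r.2.2.1 < 60 ∧ r.2.2.2.1 < 19 ∧ r.2.2.2.2 < 6 ∧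
    (tpc r.2.1).mul (a5mat r.2.2.1) = (tab r.1).mul ((bP r.2.2.2.1).mul (cP r.2.2.2.2)) := by
  decide +kernel

theorem chkCK : ∀ e < 19, ∀ f < 6,
    ((bP e).mul (cP f)).mul tc = tc.mul ((bP e).mul (cP f)) → e = 0 := by
  decide +kernel

theorem chkC : cc = tc.mul (a5mat 7) := by decide +kernel

theorem chkT2 : wordM (List.replicate 2 tword).flatten = one7 ∧ wordM tword ≠ one7 := by
  decide +kernel


/-! ### Decomposition of the elements -/

theorem closure_decomp {G : Type*} [Group G] [Finite G] (S : Set G) (K : Subgroup G) (n : ℕ)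
    (f : ℕ → G) (hn : 0 < n) (h1 : f 0 = 1)
    (hstep : ∀ s ∈ S, ∀ i < n, ∃ j < n, ∃ k ∈ K, s * f i = f j * k) :
    ∀ g ∈ Subgroup.closure S, ∃ i < n, ∃ k ∈ K, g = f i * k := by
  let M : Submonoid G :=
    { carrier := {g | ∀ t : G, (∃ i < n, ∃ k ∈ K, t = f i * k) → ∃ i < n, ∃ k ∈ K, g * t = f i * k}
      mul_mem' := by
        intro a b ha hb t ht
        rw [mul_assoc]
        exact ha _ (hb t ht)
      one_mem' := by
        intro t ht
        rw [one_mul]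
        exact ht }
  have hSM : S ⊆ M := by
    intro s hs t ht
    obtain ⟨i, hi, k, hk, rfl⟩ := ht
    obtain ⟨j, hj, k', hk', e⟩ := hstep s hs i hi
    refine ⟨j, hj, k' * k, K.mul_mem hk' hk, ?_⟩
    rw [← mul_assoc, e, mul_assoc]
  intro g hg
  have hg' : g ∈ (Subgroup.closure S).toSubmonoid := hg
  rw [Subgroup.closure_toSubmonoid_of_finite] at hg'
  have hgM : g ∈ M := (Submonoid.closure_le.mpr hSM) hg'
  have h := hgM 1 ⟨0, hn, 1, K.one_mem, by rw [h1, one_mul]⟩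
  rwa [mul_one] at h

theorem J1_decomp : ∀ g ∈ Cfsg.Spor.J1, ∃ i < 1540, ∃ k ∈ KG, g = fU i * k := by
  refine closure_decomp ({Cfsg.Spor.jankoX, Cfsg.Spor.jankoY} : Set GL7) KG 1540 fU (by norm_num)
    ((fU_rep 0 (by norm_num)).eq (by rw [chk_tab0]; exact rep_one)) ?_
  intro s hs i hi
  simp only [Set.mem_insert_iff, Set.mem_singleton_iff] at hs
  rcases hs with rfl | rfl
  · obtain ⟨hj, he, hf, hc⟩ := chk_x i hi
    refine ⟨cjx i, hj, bG ^ cex i * cG ^ cfx i, ?_, ?_⟩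
    · exact Subgroup.mul_mem _ (Subgroup.pow_mem _ (Subgroup.subset_closure (by simp)) _)
        (Subgroup.pow_mem _ (Subgroup.subset_closure (by simp)) _)
    · exact (rep_x.mul (fU_rep i hi)).eq
        (by rw [hc]; exact (fU_rep _ hj).mul ((bG_pow_rep _ he).mul (cG_pow_rep _ hf)))
  · obtain ⟨hj, he, hf, hc⟩ := chk_y i hi
    refine ⟨cjy i, hj, bG ^ cey i * cG ^ cfy i, ?_, ?_⟩
    · exact Subgroup.mul_mem _ (Subgroup.pow_mem _ (Subgroup.subset_closure (by simp)) _)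
        (Subgroup.pow_mem _ (Subgroup.subset_closure (by simp)) _)
    · exact (rep_y.mul (fU_rep i hi)).eq
        (by rw [hc]; exact (fU_rep _ hj).mul ((bG_pow_rep _ he).mul (cG_pow_rep _ hf)))

theorem KG_elts : ∀ k ∈ KG, ∃ e < 19, ∃ f < 6, k = bG ^ e * cG ^ f := by
  have h := closure_decomp ({bG, cG} : Set GL7) ⊥ 114 (fun n => bG ^ (n / 6) * cG ^ (n % 6))
    (by norm_num) (by simp) ?_
  · intro k hk
    obtain ⟨i, hi, k', hk', e⟩ := h k hk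
    rw [Subgroup.mem_bot] at hk'
    rw [hk', mul_one] at e
    exact ⟨i / 6, by omega, i % 6, Nat.mod_lt _ (by norm_num), e⟩
  · intro s hs i hi
    simp only [Set.mem_insert_iff, Set.mem_singleton_iff] at hs
    rcases hs with rfl | rfl
    · refine ⟨6 * ((i / 6 + 1) % 19) + i % 6, by omega, 1, Subgroup.one_mem _, ?_⟩
      have e1 : (6 * ((i / 6 + 1) % 19) + i % 6) / 6 = (i / 6 + 1) % 19 := by omega
      have e2 : (6 * ((i / 6 + 1) % 19) + i % 6) % 6 = i % 6 := by omega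
      beta_reduce
      rw [e1, e2, mul_one, ← mul_assoc, ← pow_succ', pow_eq_pow_mod (i / 6 + 1) bG_pow19]
    · refine ⟨6 * ((8 * (i / 6)) % 19) + (i % 6 + 1) % 6, by omega, 1, Subgroup.one_mem _, ?_⟩
      have e1 : (6 * ((8 * (i / 6)) % 19) + (i % 6 + 1) % 6) / 6 = (8 * (i / 6)) % 19 := by omega
      have e2 : (6 * ((8 * (i / 6)) % 19) + (i % 6 + 1) % 6) % 6 = (i % 6 + 1) % 6 := by omega
      beta_reduce
      rw [e1, e2, mul_one, ← mul_assoc, cG_bG_pow, mul_assoc, ← pow_succ',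
        pow_eq_pow_mod (8 * (i / 6)) bG_pow19, pow_eq_pow_mod (i % 6 + 1) cG_pow6]

/-! ### Elements commuting with the involution fix few lines -/

/-- The involution, as an element of the ambient group. -/
def tG : GL7 := wordG tword

theorem rep_t : Rep tG tc := rep_wordG tword

theorem tG_mem_KG : tG ∈ KG := by
  have e : tG = cG * cG * cG := by
    unfold tG tword cG
    rw [wordG_append, wordG_append]
  rw [e]
  have hc : cG ∈ KG := Subgroup.subset_closure (by simp)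
  exact KG.mul_mem (KG.mul_mem hc hc) hc

theorem fix_index (g : GL7) (hg : g * tG = tG * g) (i : ℕ) (hi : i < 1540) (k : GL7)
    (hk : k ∈ KG) (e : g = fU i * k) : i ∈ fixI := by
  apply chkF i hi
  have hk' : k * tG * k⁻¹ ∈ KG := KG.mul_mem (KG.mul_mem hk tG_mem_KG) (KG.inv_mem hk)
  have h1 : tG * fU i = fU i * (k * tG * k⁻¹) := by
    have h2 : tG * (fU i * k) = fU i * k * tG := by rw [← e]; exact hg.symm
    calc tG * fU i = tG * (fU i * k) * k⁻¹ := by group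
      _ = fU i * k * tG * k⁻¹ := by rw [h2]
      _ = fU i * (k * tG * k⁻¹) := by group
  have h3 : (tG : Matrix (Fin 7) (Fin 7) (ZMod 11)) *ᵥ
      ((fU i : Matrix (Fin 7) (Fin 7) (ZMod 11)) *ᵥ wv) =
      (fU i : Matrix (Fin 7) (Fin 7) (ZMod 11)) *ᵥ
      (((k * tG * k⁻¹ : GL7) : Matrix (Fin 7) (Fin 7) (ZMod 11)) *ᵥ wv) := by
    rw [Matrix.mulVec_mulVec, Matrix.mulVec_mulVec, ← Units.val_mul, ← Units.val_mul, h1]
  have ri : (fU i : Matrix (Fin 7) (Fin 7) (ZMod 11)) *ᵥ wv = decV ((tab i).app wc) := by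
    rw [show (fU i : Matrix (Fin 7) (Fin 7) (ZMod 11)) = decM (tab i) from fU_rep i hi, decV_app]
    rfl
  have rt : ∀ v : V7, (tG : Matrix (Fin 7) (Fin 7) (ZMod 11)) *ᵥ decV v = decV (tc.app v) := by
    intro v
    rw [show (tG : Matrix (Fin 7) (Fin 7) (ZMod 11)) = decM tc from rep_t, decV_app]
  rw [ri, rt] at h3
  rcases KG_sign _ hk' with e1 | e1
  · left
    rw [e1, ri] at h3
    exact decV_inj (app_red _ _) (app_red _ _) h3
  · right
    rw [e1, Matrix.mulVec_neg, ri, ← decV_neg _ (app_red _ _)] at h3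
    exact decV_inj (app_red _ _) (neg_red _) h3

/-! ### The embedding of `2 × A₅` -/

theorem imgs5_get (σ : Equiv.Perm (Fin 5)) (j : Fin 5) : (imgs5 σ).getD j.val 0 = (σ j).val := by
  fin_cases j <;> rfl

theorem imgs5_inj {σ τ : Equiv.Perm (Fin 5)} (h : imgs5 σ = imgs5 τ) : σ = τ := by
  ext i
  rw [← imgs5_get σ i, ← imgs5_get τ i, h]

theorem imgs5_mul (σ τ : Equiv.Perm (Fin 5)) : imgs5 (σ * τ) = comp5 (imgs5 σ) (imgs5 τ) := by
  have h : ∀ j : Fin 5, ((σ * τ) j).val = (imgs5 σ).getD (τ j).val 0 := fun j => by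
    rw [imgs5_get, Equiv.Perm.mul_apply]
  show [((σ * τ) 0).val, ((σ * τ) 1).val, ((σ * τ) 2).val, ((σ * τ) 3).val, ((σ * τ) 4).val] = _
  rw [h 0, h 1, h 2, h 3, h 4]
  rfl

theorem mem_a5perms (σ : ↥(alternatingGroup (Fin 5))) : imgs5 σ.1 ∈ a5perms :=
  chkA σ.1 (Equiv.Perm.mem_alternatingGroup.mp σ.2)

theorem idx5_lt (σ : ↥(alternatingGroup (Fin 5))) : idx5 σ.1 < 60 := by
  unfold idx5
  rw [← chkN]
  exact List.idxOf_lt_length_of_mem (mem_a5perms σ)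

theorem perm5_idx5 (σ : ↥(alternatingGroup (Fin 5))) : perm5 (idx5 σ.1) = imgs5 σ.1 := by
  unfold perm5 idx5
  have hlt : a5perms.idxOf (imgs5 σ.1) < a5perms.length :=
    List.idxOf_lt_length_of_mem (mem_a5perms σ)
  rw [List.getD_eq_getElem _ _ hlt]
  exact List.getElem_idxOf hlt

theorem idx5_mul (σ τ : ↥(alternatingGroup (Fin 5))) :
    idx5 (σ * τ).1 = a5perms.idxOf (comp5 (perm5 (idx5 σ.1)) (perm5 (idx5 τ.1))) := by
  rw [perm5_idx5, perm5_idx5]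
  show a5perms.idxOf (imgs5 (σ.1 * τ.1)) = _
  rw [imgs5_mul]

/-- The embedding of `A₅`, as a function. -/
def psi0fun (σ : ↥(alternatingGroup (Fin 5))) : ↥Cfsg.Spor.J1 := wJ (a5word (idx5 σ.1))

theorem rep_psi0 (σ : ↥(alternatingGroup (Fin 5))) :
    Rep (psi0fun σ).1 (a5mat (idx5 σ.1)) := by
  have h := rep_wordG (a5word (idx5 σ.1))
  rw [chkW _ (idx5_lt σ)] at h
  exact h

theorem psi0_mul (σ τ : ↥(alternatingGroup (Fin 5))) :
    psi0fun (σ * τ) = psi0fun σ * psi0fun τ := by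
  apply Subtype.ext
  refine (rep_psi0 (σ * τ)).eq ?_
  rw [idx5_mul, (chkB _ (idx5_lt σ) _ (idx5_lt τ)).2]
  exact (rep_psi0 σ).mul (rep_psi0 τ)

/-- The embedding of `A₅`. -/
noncomputable def psi0 : ↥(alternatingGroup (Fin 5)) →* ↥Cfsg.Spor.J1 :=
  MonoidHom.mk' psi0fun psi0_mul

/-- The involution. -/
def tJ : ↥Cfsg.Spor.J1 := wJ tword

theorem tJ_sq : tJ ^ 2 = 1 := by
  unfold tJ
  rw [wJ_pow, ← wJ_nil]
  exact wJ_eq chkT2.1

theorem ord_tJ : orderOf tJ = 2 := by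
  haveI : Fact (Nat.Prime 2) := ⟨Nat.prime_two⟩
  exact orderOf_wJ tword 2 chkT2.1 chkT2.2

/-- The embedding of the group of order two. -/
noncomputable def fZ : Multiplicative (ZMod 2) →* ↥Cfsg.Spor.J1 :=
  MonoidHom.mk' (fun ε => tJ ^ (Multiplicative.toAdd ε).val) (by
    intro a b
    show tJ ^ (Multiplicative.toAdd a + Multiplicative.toAdd b).val = _
    rw [ZMod.val_add, ← pow_add, ← pow_eq_pow_mod _ tJ_sq])

theorem comm_t_psi0 (σ : ↥(alternatingGroup (Fin 5))) : Commute tJ (psi0 σ) := by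
  show tJ * psi0fun σ = psi0fun σ * tJ
  apply Subtype.ext
  refine (Rep.mul rep_t (rep_psi0 σ)).eq ?_
  rw [chkT _ (idx5_lt σ)]
  exact (rep_psi0 σ).mul rep_t

/-- The embedding of `2 × A₅`. -/
noncomputable def psi : Multiplicative (ZMod 2) × ↥(alternatingGroup (Fin 5)) →* ↥Cfsg.Spor.J1 :=
  MonoidHom.noncommCoprod fZ psi0 (fun _ n => (comm_t_psi0 n).pow_left _)

theorem psi_apply (x : Multiplicative (ZMod 2) × ↥(alternatingGroup (Fin 5))) :
    psi x = tJ ^ (Multiplicative.toAdd x.1).val * psi0fun x.2 :=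
  MonoidHom.noncommCoprod_apply _ _ _ _

theorem rep_tpow (k : ℕ) (hk : k < 2) : Rep (tJ ^ k).1 (tpc k) := by
  interval_cases k
  · rw [pow_zero]; exact rep_one
  · rw [pow_one]; exact rep_t

theorem psi_mem (x : Multiplicative (ZMod 2) × ↥(alternatingGroup (Fin 5))) :
    psi x ∈ Subgroup.centralizer ({tJ} : Set ↥Cfsg.Spor.J1) := by
  rw [Subgroup.mem_centralizer_iff]
  intro h hh
  rw [Set.mem_singleton_iff] at hh
  rw [hh, psi_apply]
  have c1 : Commute tJ (tJ ^ (Multiplicative.toAdd x.1).val) := (Commute.refl tJ).pow_right _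
  have c2 : Commute tJ (psi0fun x.2) := comm_t_psi0 x.2
  exact (c1.mul_right c2).eq

theorem a5mat_red (σ : ↥(alternatingGroup (Fin 5))) : (a5mat (idx5 σ.1)).red := by
  rw [← chkW _ (idx5_lt σ)]; exact wordM_red _

theorem psi_inj : Function.Injective psi := by
  rw [injective_iff_map_eq_one]
  rintro ⟨ε, σ⟩ h
  rw [psi_apply] at h
  have hk : (Multiplicative.toAdd ε).val < 2 := ZMod.val_lt _
  have hv : (Multiplicative.toAdd ε).val = 0 ∨ (Multiplicative.toAdd ε).val = 1 := by omega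
  rcases hv with hv | hv
  · have h' : psi0fun σ = 1 := by
      have h2 := h
      simp only [hv, pow_zero, one_mul] at h2
      exact h2
    have hcode : a5mat (idx5 σ.1) = one7 :=
      Rep.code_eq (rep_psi0 σ) (by rw [h']; exact rep_one) (a5mat_red σ) one7_red
    have hidx : idx5 σ.1 = 0 := (chkI _ (idx5_lt σ)).1 hcode
    have hσ : σ = 1 := by
      apply Subtype.ext
      apply imgs5_inj
      rw [← perm5_idx5 σ, hidx]
      rfl
    have hε : ε = 1 := (ZMod.val_eq_zero (Multiplicative.toAdd ε)).mp hv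
    rw [hσ, hε]
    rfl
  · exfalso
    have hr : Rep (tJ ^ (Multiplicative.toAdd ε).val * psi0fun σ).1
        ((tpc (Multiplicative.toAdd ε).val).mul (a5mat (idx5 σ.1))) :=
      (rep_tpow _ hk).mul (rep_psi0 σ)
    have hr1 : Rep (tJ ^ (Multiplicative.toAdd ε).val * psi0fun σ).1 one7 := by
      have h2 : tJ ^ (Multiplicative.toAdd (ε, σ).1).val * psi0fun (ε, σ).2 = 1 := h
      rw [show tJ ^ (Multiplicative.toAdd ε).val * psi0fun σ = 1 from h2]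
      exact rep_one
    have hcode := Rep.code_eq hr hr1 (mul_red _ _) one7_red
    rw [hv] at hcode
    exact (chkI _ (idx5_lt σ)).2 hcode

theorem card_A5 : Nat.card ↥(alternatingGroup (Fin 5)) = 60 := by
  have h := two_mul_card_alternatingGroup (α := Fin 5)
  rw [Fintype.card_perm, Fintype.card_fin] at h
  rw [Nat.card_eq_fintype_card]
  have h5 : Nat.factorial 5 = 120 := by decide
  omega

theorem exists_idx5 (a : ℕ) (ha : a < 60) :
    ∃ σ : ↥(alternatingGroup (Fin 5)), idx5 σ.1 = a := by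
  have hinj : Function.Injective
      (fun σ : ↥(alternatingGroup (Fin 5)) => (⟨idx5 σ.1, idx5_lt σ⟩ : Fin 60)) := by
    intro σ τ h
    have h' : idx5 σ.1 = idx5 τ.1 := congrArg Fin.val h
    apply Subtype.ext
    apply imgs5_inj
    rw [← perm5_idx5 σ, ← perm5_idx5 τ, h']
  have hbij := (Nat.bijective_iff_injective_and_card _).mpr
    ⟨hinj, by rw [card_A5, Nat.card_fin]⟩
  obtain ⟨σ, hσ⟩ := hbij.2 ⟨a, ha⟩
  exact ⟨σ, congrArg Fin.val hσ⟩

theorem psi_surj (g : ↥Cfsg.Spor.J1)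
    (hg : g ∈ Subgroup.centralizer ({tJ} : Set ↥Cfsg.Spor.J1)) : ∃ x, psi x = g := by
  have hcomm : tJ * g = g * tJ := Subgroup.mem_centralizer_iff.mp hg tJ rfl
  have hcomm' : g.1 * tG = tG * g.1 := (congrArg Subtype.val hcomm).symm
  obtain ⟨i, hi, k, hk, e⟩ := J1_decomp g.1 g.2
  have hfix := fix_index g.1 hcomm' i hi k hk e
  unfold fixI at hfix
  obtain ⟨r, hr, hri⟩ := List.mem_map.mp hfix
  have hri' : r.1 = i := hri
  obtain ⟨-, h2, h3, h4, h5, h6⟩ := chkFC r hr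
  obtain ⟨σ, hσ⟩ := exists_idx5 r.2.2.1 h3
  obtain ⟨x, hxdef⟩ : ∃ x : Multiplicative (ZMod 2) × ↥(alternatingGroup (Fin 5)),
      x = (Multiplicative.ofAdd ((r.2.1 : ℕ) : ZMod 2), σ) := ⟨_, rfl⟩
  have hxval : (Multiplicative.toAdd x.1).val = r.2.1 := by
    rw [hxdef]
    show (((r.2.1 : ℕ) : ZMod 2)).val = r.2.1
    rw [ZMod.val_natCast]; exact Nat.mod_eq_of_lt h2
  have hxrep : Rep (psi x).1 ((tab i).mul ((bP r.2.2.2.1).mul (cP r.2.2.2.2))) := by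
    rw [psi_apply, hxval, ← hri', ← h6]
    have h7 := (rep_tpow _ h2).mul (rep_psi0 σ)
    rw [hσ] at h7
    rw [hxdef]
    exact h7
  obtain ⟨k0, hk0⟩ : ∃ k0 : GL7, k0 = bG ^ r.2.2.2.1 * cG ^ r.2.2.2.2 := ⟨_, rfl⟩
  have hx1 : (psi x).1 = fU i * k0 := by
    rw [hk0]
    exact hxrep.eq ((fU_rep i hi).mul ((bG_pow_rep _ h4).mul (cG_pow_rep _ h5)))
  have hk0K : k0 ∈ KG := by
    rw [hk0]
    exact KG.mul_mem (KG.pow_mem (Subgroup.subset_closure (by simp)) _)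
      (KG.pow_mem (Subgroup.subset_closure (by simp)) _)
  have hdK : k0⁻¹ * k ∈ KG := KG.mul_mem (KG.inv_mem hk0K) hk
  have hgd : g.1 = (psi x).1 * (k0⁻¹ * k) := by rw [hx1, e]; group
  have hxcomm : (psi x).1 * tG = tG * (psi x).1 := by
    have h8 := Subgroup.mem_centralizer_iff.mp (psi_mem x) tJ rfl
    exact (congrArg Subtype.val h8).symm
  have hdcomm : (k0⁻¹ * k) * tG = tG * (k0⁻¹ * k) := by
    have e1 : k0⁻¹ * k = ((psi x).1)⁻¹ * g.1 := by rw [hgd]; group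
    rw [e1]
    calc ((psi x).1)⁻¹ * g.1 * tG = ((psi x).1)⁻¹ * (g.1 * tG) := by group
      _ = ((psi x).1)⁻¹ * (tG * g.1) := by rw [hcomm']
      _ = ((psi x).1)⁻¹ * (tG * (psi x).1) * (((psi x).1)⁻¹ * g.1) := by group
      _ = ((psi x).1)⁻¹ * ((psi x).1 * tG) * (((psi x).1)⁻¹ * g.1) := by rw [hxcomm]
      _ = tG * (((psi x).1)⁻¹ * g.1) := by group
  obtain ⟨e', he', f', hf', hd⟩ := KG_elts _ hdK
  have he0 : e' = 0 := by
    apply chkCK e' he' f' hf'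
    have r1 : Rep (k0⁻¹ * k) ((bP e').mul (cP f')) := by
      rw [hd]; exact (bG_pow_rep _ he').mul (cG_pow_rep _ hf')
    exact Rep.code_eq (r1.mul rep_t) (by rw [hdcomm]; exact rep_t.mul r1) (mul_red _ _)
      (mul_red _ _)
  rw [he0, pow_zero, one_mul] at hd
  obtain ⟨σc, hσc⟩ := exists_idx5 7 (by norm_num)
  obtain ⟨xc, hxcdef⟩ : ∃ xc : Multiplicative (ZMod 2) × ↥(alternatingGroup (Fin 5)),
      xc = (Multiplicative.ofAdd (1 : ZMod 2), σc) := ⟨_, rfl⟩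
  have hxc : (psi xc).1 = cG := by
    have hv : (Multiplicative.toAdd xc.1).val = 1 := by rw [hxcdef]; rfl
    have hr' : Rep (psi xc).1 (tc.mul (a5mat 7)) := by
      rw [psi_apply, hv]
      have h7 := (rep_tpow 1 (by norm_num)).mul (rep_psi0 σc)
      rw [hσc] at h7
      rw [hxcdef]
      exact h7
    rw [← chkC] at hr'
    exact hr'.eq rep_c
  refine ⟨x * xc ^ f', ?_⟩
  apply Subtype.ext
  rw [map_mul, map_pow]
  show (psi x).1 * (psi xc).1 ^ f' = g.1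
  rw [hxc, ← hd, ← hgd]

/-- The centralizer of an involution of `J₁` is `2 × A₅`. -/
theorem cent_J1 : ∃ t : ↥Cfsg.Spor.J1, orderOf t = 2 ∧
    Nonempty (↥(Subgroup.centralizer ({t} : Set ↥Cfsg.Spor.J1)) ≃*
      Multiplicative (ZMod 2) × ↥(alternatingGroup (Fin 5))) := by
  refine ⟨tJ, ord_tJ, ⟨(MulEquiv.ofBijective (psi.codRestrict _ psi_mem) ⟨?_, ?_⟩).symm⟩⟩
  · intro a b h
    exact psi_inj (congrArg Subtype.val h)
  · rintro ⟨g, hg⟩
    obtain ⟨x, hx⟩ := psi_surj g hg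
    exact ⟨x, Subtype.ext hx⟩

end Cfsg.Agent.Lib.helper27.J1B
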