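import Mathlib
import Cfsg.Prelude.Def_Spor_J1

set_option autoImplicit false

/-! Data for the Janko group `J₁` as a matrix group: residue vectors and matrices modulo 11 with
natural number entries, a transversal of the stabilizer of a line, and the certificates of a
Schreier–Sims verification. -/

namespace Cfsg.Agent.Lib.helper27.J1B

/-- A vector of length seven with natural number entries (residues modulo 11). -/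
structure V7 where
  a : ℕ
  b : ℕ
  c : ℕ
  d : ℕ
  e : ℕ
  f : ℕ
  g : ℕ
  deriving DecidableEq

/-- A 7 × 7 matrix, given by its rows. -/
structure M7 where
  r0 : V7
  r1 : V7
  r2 : V7
  r3 : V7
  r4 : V7
  r5 : V7
  r6 : V7
  deriving DecidableEq

/-- The dot product modulo 11. -/
def V7.dot (x y : V7) : ℕ :=
  (x.a * y.a + x.b * y.b + x.c * y.c + x.d * y.d + x.e * y.e + x.f * y.f + x.g * y.g) % 11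

/-- The row vector `x` times the matrix `B`, modulo 11. -/
def V7.comb (x : V7) (B : M7) : V7 :=
  V7.mk
    ((x.a * B.r0.a + x.b * B.r1.a + x.c * B.r2.a + x.d * B.r3.a + x.e * B.r4.a + x.f * B.r5.a + x.g * B.r6.a) % 11)
    ((x.a * B.r0.b + x.b * B.r1.b + x.c * B.r2.b + x.d * B.r3.b + x.e * B.r4.b + x.f * B.r5.b + x.g * B.r6.b) % 11)
    ((x.a * B.r0.c + x.b * B.r1.c + x.c * B.r2.c + x.d * B.r3.c + x.e * B.r4.c + x.f * B.r5.c + x.g * B.r6.c) % 11)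
    ((x.a * B.r0.d + x.b * B.r1.d + x.c * B.r2.d + x.d * B.r3.d + x.e * B.r4.d + x.f * B.r5.d + x.g * B.r6.d) % 11)
    ((x.a * B.r0.e + x.b * B.r1.e + x.c * B.r2.e + x.d * B.r3.e + x.e * B.r4.e + x.f * B.r5.e + x.g * B.r6.e) % 11)
    ((x.a * B.r0.f + x.b * B.r1.f + x.c * B.r2.f + x.d * B.r3.f + x.e * B.r4.f + x.f * B.r5.f + x.g * B.r6.f) % 11)
    ((x.a * B.r0.g + x.b * B.r1.g + x.c * B.r2.g + x.d * B.r3.g + x.e * B.r4.g + x.f * B.r5.g + x.g * B.r6.g) % 11)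

/-- The matrix product modulo 11. -/
def M7.mul (A B : M7) : M7 :=
  M7.mk (A.r0.comb B) (A.r1.comb B) (A.r2.comb B) (A.r3.comb B) (A.r4.comb B) (A.r5.comb B)
    (A.r6.comb B)

/-- The matrix `A` applied to the column vector `w`, modulo 11. -/
def M7.app (A : M7) (w : V7) : V7 :=
  V7.mk (A.r0.dot w) (A.r1.dot w) (A.r2.dot w) (A.r3.dot w) (A.r4.dot w) (A.r5.dot w) (A.r6.dot w)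

/-- The negative of a vector modulo 11. -/
def V7.neg (x : V7) : V7 :=
  V7.mk ((11 - x.a) % 11) ((11 - x.b) % 11) ((11 - x.c) % 11) ((11 - x.d) % 11) ((11 - x.e) % 11)
    ((11 - x.f) % 11) ((11 - x.g) % 11)

/-- A numerical code of a vector. -/
def V7.code (x : V7) : ℕ :=
  x.a + 11 * (x.b + 11 * (x.c + 11 * (x.d + 11 * (x.e + 11 * (x.f + 11 * x.g)))))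

/-- The identity matrix. -/
def one7 : M7 :=
  M7.mk (V7.mk 1 0 0 0 0 0 0) (V7.mk 0 1 0 0 0 0 0) (V7.mk 0 0 1 0 0 0 0) (V7.mk 0 0 0 1 0 0 0)
    (V7.mk 0 0 0 0 1 0 0) (V7.mk 0 0 0 0 0 1 0) (V7.mk 0 0 0 0 0 0 1)

/-- Powers of a matrix. -/
def mpow (m : M7) : ℕ → M7
  | 0 => one7
  | n + 1 => m.mul (mpow m n)

/-- Two-level table access. -/
def get2 {α : Type} (t : List (List α)) (d : α) (i : ℕ) : α := (t.getD (i / 64) []).getD (i % 64) d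

/-- A binary search tree with natural number keys and values. -/
inductive Tr where
  | leaf : Tr
  | node : Tr → ℕ → ℕ → Tr → Tr

/-- Lookup in a binary search tree. -/
def Tr.look : Tr → ℕ → ℕ
  | Tr.leaf, _ => 1000000
  | Tr.node l k v r, x => if x < k then l.look x else if k < x then r.look x else v

/-- The first generator. -/
def xc : M7 := (M7.mk (V7.mk 0 1 0 0 0 0 0) (V7.mk 0 0 1 0 0 0 0) (V7.mk 0 0 0 1 0 0 0) (V7.mk 0 0 0 0 1 0 0) (V7.mk 0 0 0 0 0 1 0) (V7.mk 0 0 0 0 0 0 1) (V7.mk 1 0 0 0 0 0 0))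

/-- The second generator. -/
def yc : M7 := (M7.mk (V7.mk 8 2 10 10 8 10 8) (V7.mk 9 1 1 3 1 3 3) (V7.mk 10 10 8 10 8 8 2) (V7.mk 10 8 10 8 8 2 10) (V7.mk 8 10 8 8 2 10 10) (V7.mk 1 3 3 9 1 1 3) (V7.mk 3 3 9 1 1 3 1))

/-- The generators, indexed by a number. -/
def genN (k : ℕ) : M7 := if k = 0 then xc else yc

/-- The generators, indexed by a Boolean. -/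
def genB (b : Bool) : M7 := if b then yc else xc

/-- The matrix of a word in the generators. -/
def wordM : List Bool → M7
  | [] => one7
  | b :: l => (genB b).mul (wordM l)

/-- A vector fixed by an element of order 19. -/
def wc : V7 := (V7.mk 1 4 0 0 6 0 1)

def bword : List Bool := [false, false, false, true]

def cword : List Bool := [false, false, true, false, true, false, true, true, false, false, true, false, false, true, false]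

def bc : M7 := wordM bword

def cc : M7 := wordM cword

def bPL : List M7 := [
  (M7.mk (V7.mk 1 0 0 0 0 0 0) (V7.mk 0 1 0 0 0 0 0) (V7.mk 0 0 1 0 0 0 0) (V7.mk 0 0 0 1 0 0 0) (V7.mk 0 0 0 0 1 0 0) (V7.mk 0 0 0 0 0 1 0) (V7.mk 0 0 0 0 0 0 1)),
  (M7.mk (V7.mk 10 8 10 8 8 2 10) (V7.mk 8 10 8 8 2 10 10) (V7.mk 1 3 3 9 1 1 3) (V7.mk 3 3 9 1 1 3 1) (V7.mk 8 2 10 10 8 10 8) (V7.mk 9 1 1 3 1 3 3) (V7.mk 10 10 8 10 8 8 2)),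
  (M7.mk (V7.mk 6 2 10 10 7 3 0) (V7.mk 2 7 3 0 8 3 3) (V7.mk 1 8 5 1 4 0 9) (V7.mk 1 0 1 5 4 9 8) (V7.mk 7 8 7 7 6 8 8) (V7.mk 8 8 0 9 3 4 8) (V7.mk 0 3 2 3 8 3 7)),
  (M7.mk (V7.mk 1 2 5 1 10 8 9) (V7.mk 2 1 5 9 3 3 2) (V7.mk 6 6 1 6 2 4 2) (V7.mk 10 2 6 4 9 6 5) (V7.mk 10 3 9 2 8 6 2) (V7.mk 3 8 4 6 5 9 1) (V7.mk 9 2 9 6 2 10 5)),
  (M7.mk (V7.mk 1 10 10 9 2 6 3) (V7.mk 10 9 8 5 9 2 3) (V7.mk 1 3 7 9 4 7 7) (V7.mk 2 6 9 4 3 8 0) (V7.mk 2 9 7 8 7 3 3) (V7.mk 5 9 7 8 8 6 10) (V7.mk 3 3 4 0 3 1 1)),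
  (M7.mk (V7.mk 7 7 9 2 5 3 2) (V7.mk 7 6 5 3 0 0 6) (V7.mk 2 6 8 4 4 7 5) (V7.mk 9 8 4 5 7 7 5) (V7.mk 5 0 7 4 0 8 1) (V7.mk 8 0 7 7 3 1 7) (V7.mk 2 6 6 6 1 4 2)),
  (M7.mk (V7.mk 8 5 9 10 8 9 2) (V7.mk 5 2 10 3 3 4 6) (V7.mk 2 1 6 9 9 9 6) (V7.mk 1 8 9 10 2 6 10) (V7.mk 8 3 2 9 1 6 2) (V7.mk 2 7 9 6 5 1 6) (V7.mk 2 6 5 1 2 5 7)),
  (M7.mk (V7.mk 5 7 1 3 6 8 9) (V7.mk 7 4 7 9 1 7 8) (V7.mk 10 4 10 0 8 3 3) (V7.mk 8 2 0 4 2 8 5) (V7.mk 6 1 3 9 1 9 1) (V7.mk 3 4 3 8 2 4 2) (V7.mk 9 8 8 6 1 9 9)),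
  (M7.mk (V7.mk 7 1 1 7 10 4 7) (V7.mk 1 2 10 7 5 7 9) (V7.mk 10 1 5 2 2 7 7) (V7.mk 4 4 2 2 4 0 0) (V7.mk 10 5 9 7 10 9 4) (V7.mk 7 4 7 0 2 0 9) (V7.mk 7 9 4 0 4 2 0)),
  (M7.mk (V7.mk 0 8 7 9 8 5 9) (V7.mk 8 10 6 7 5 9 3) (V7.mk 4 5 4 4 3 6 2) (V7.mk 2 4 4 3 10 8 10) (V7.mk 8 5 8 1 7 6 2) (V7.mk 6 2 6 8 5 10 0) (V7.mk 9 3 9 1 2 0 1)),
  (M7.mk (V7.mk 0 8 4 2 8 6 9) (V7.mk 8 10 5 4 5 2 3) (V7.mk 7 6 4 4 8 6 9) (V7.mk 9 7 4 3 1 8 1) (V7.mk 8 5 3 10 7 5 2) (V7.mk 5 9 6 8 6 10 0) (V7.mk 9 3 2 10 2 0 1)),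
  (M7.mk (V7.mk 7 1 10 4 10 7 7) (V7.mk 1 2 1 4 5 4 9) (V7.mk 1 10 5 2 9 7 4) (V7.mk 7 7 2 2 7 0 0) (V7.mk 10 5 2 4 10 2 4) (V7.mk 4 7 7 0 9 0 2) (V7.mk 7 9 7 0 4 9 0)),
  (M7.mk (V7.mk 5 7 10 8 6 3 9) (V7.mk 7 4 4 2 1 4 8) (V7.mk 1 7 10 0 3 3 8) (V7.mk 3 9 0 4 9 8 6) (V7.mk 6 1 8 2 1 2 1) (V7.mk 8 7 3 8 9 4 9) (V7.mk 9 8 3 5 1 2 9)),
  (M7.mk (V7.mk 8 5 2 1 8 2 2) (V7.mk 5 2 1 8 3 7 6) (V7.mk 9 10 6 9 2 9 5) (V7.mk 10 3 9 10 9 6 1) (V7.mk 8 3 9 2 1 5 2) (V7.mk 9 4 9 6 6 1 5) (V7.mk 2 6 6 10 2 6 7)),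
  (M7.mk (V7.mk 7 7 2 9 5 8 2) (V7.mk 7 6 6 8 0 0 6) (V7.mk 9 5 8 4 7 7 6) (V7.mk 2 3 4 5 4 7 6) (V7.mk 5 0 4 7 0 3 1) (V7.mk 3 0 7 7 8 1 4) (V7.mk 2 6 5 5 1 7 2)),
  (M7.mk (V7.mk 1 10 1 2 2 5 3) (V7.mk 10 9 3 6 9 9 3) (V7.mk 10 8 7 9 7 7 4) (V7.mk 9 5 9 4 8 8 0) (V7.mk 2 9 4 3 7 8 3) (V7.mk 6 2 7 8 3 6 1) (V7.mk 3 3 7 0 3 10 1)),
  (M7.mk (V7.mk 1 2 6 10 10 3 9) (V7.mk 2 1 6 2 3 8 2) (V7.mk 5 5 1 6 9 4 9) (V7.mk 1 9 6 4 2 6 6) (V7.mk 10 3 2 9 8 5 2) (V7.mk 8 3 4 6 6 9 10) (V7.mk 9 2 2 5 2 1 5)),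
  (M7.mk (V7.mk 6 2 1 1 7 8 0) (V7.mk 2 7 8 0 8 8 3) (V7.mk 10 3 5 1 7 0 2) (V7.mk 10 0 1 5 7 9 3) (V7.mk 7 8 4 4 6 3 8) (V7.mk 3 3 0 9 8 4 3) (V7.mk 0 3 9 8 8 8 7)),
  (M7.mk (V7.mk 10 8 1 3 8 9 10) (V7.mk 8 10 3 3 2 1 10) (V7.mk 10 8 3 9 10 1 8) (V7.mk 8 8 9 1 10 3 10) (V7.mk 8 2 1 1 8 1 8) (V7.mk 2 10 1 3 10 3 8) (V7.mk 10 10 3 1 8 3 2))]

def cPL : List M7 := [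
  (M7.mk (V7.mk 1 0 0 0 0 0 0) (V7.mk 0 1 0 0 0 0 0) (V7.mk 0 0 1 0 0 0 0) (V7.mk 0 0 0 1 0 0 0) (V7.mk 0 0 0 0 1 0 0) (V7.mk 0 0 0 0 0 1 0) (V7.mk 0 0 0 0 0 0 1)),
  (M7.mk (V7.mk 6 8 0 3 7 6 7) (V7.mk 7 8 8 6 5 0 4) (V7.mk 6 5 4 5 5 4 10) (V7.mk 4 8 5 0 4 3 6) (V7.mk 6 5 7 7 1 5 6) (V7.mk 10 5 6 4 5 7 6) (V7.mk 6 3 3 8 5 8 6)),
  (M7.mk (V7.mk 6 2 9 8 1 2 3) (V7.mk 4 3 8 0 2 6 9) (V7.mk 3 3 5 1 6 2 4) (V7.mk 2 9 5 8 10 1 1) (V7.mk 2 7 4 4 10 8 4) (V7.mk 8 7 3 3 2 9 7) (V7.mk 0 3 1 1 3 3 4)),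
  (M7.mk (V7.mk 4 10 10 4 1 7 4) (V7.mk 10 9 1 4 6 4 2) (V7.mk 10 1 5 2 2 7 7) (V7.mk 4 4 2 2 4 0 0) (V7.mk 1 6 2 4 1 2 7) (V7.mk 7 4 7 0 2 0 9) (V7.mk 4 2 7 0 7 9 0)),
  (M7.mk (V7.mk 6 4 3 2 2 8 0) (V7.mk 2 3 3 9 7 7 3) (V7.mk 9 8 5 5 4 3 1) (V7.mk 8 0 1 8 4 3 1) (V7.mk 1 2 6 10 10 2 3) (V7.mk 2 6 2 1 8 9 3) (V7.mk 3 9 4 1 4 7 4)),
  (M7.mk (V7.mk 6 7 6 4 6 10 6) (V7.mk 8 8 5 8 5 5 3) (V7.mk 0 8 4 5 7 6 3) (V7.mk 3 6 5 0 7 4 8) (V7.mk 7 5 5 4 1 5 5) (V7.mk 6 0 4 3 5 7 8) (V7.mk 7 4 10 6 6 6 6))]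

def bP (e : ℕ) : M7 := bPL.getD e one7

def cP (e : ℕ) : M7 := cPL.getD e one7

def tabC0 : List M7 := [
  (M7.mk (V7.mk 1 0 0 0 0 0 0) (V7.mk 0 1 0 0 0 0 0) (V7.mk 0 0 1 0 0 0 0) (V7.mk 0 0 0 1 0 0 0) (V7.mk 0 0 0 0 1 0 0) (V7.mk 0 0 0 0 0 1 0) (V7.mk 0 0 0 0 0 0 1)),
  (M7.mk (V7.mk 0 1 0 0 0 0 0) (V7.mk 0 0 1 0 0 0 0) (V7.mk 0 0 0 1 0 0 0) (V7.mk 0 0 0 0 1 0 0) (V7.mk 0 0 0 0 0 1 0) (V7.mk 0 0 0 0 0 0 1) (V7.mk 1 0 0 0 0 0 0)),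
  (M7.mk (V7.mk 8 2 10 10 8 10 8) (V7.mk 9 1 1 3 1 3 3) (V7.mk 10 10 8 10 8 8 2) (V7.mk 10 8 10 8 8 2 10) (V7.mk 8 10 8 8 2 10 10) (V7.mk 1 3 3 9 1 1 3) (V7.mk 3 3 9 1 1 3 1)),
  (M7.mk (V7.mk 0 0 1 0 0 0 0) (V7.mk 0 0 0 1 0 0 0) (V7.mk 0 0 0 0 1 0 0) (V7.mk 0 0 0 0 0 1 0) (V7.mk 0 0 0 0 0 0 1) (V7.mk 1 0 0 0 0 0 0) (V7.mk 0 1 0 0 0 0 0)),
  (M7.mk (V7.mk 8 8 2 10 10 8 10) (V7.mk 3 9 1 1 3 1 3) (V7.mk 2 10 10 8 10 8 8) (V7.mk 10 10 8 10 8 8 2) (V7.mk 10 8 10 8 8 2 10) (V7.mk 3 1 3 3 9 1 1) (V7.mk 1 3 3 9 1 1 3)),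
  (M7.mk (V7.mk 9 1 1 3 1 3 3) (V7.mk 10 10 8 10 8 8 2) (V7.mk 10 8 10 8 8 2 10) (V7.mk 8 10 8 8 2 10 10) (V7.mk 1 3 3 9 1 1 3) (V7.mk 3 3 9 1 1 3 1) (V7.mk 8 2 10 10 8 10 8)),
  (M7.mk (V7.mk 6 2 10 10 7 3 0) (V7.mk 9 4 8 0 3 8 8) (V7.mk 10 3 6 10 7 0 2) (V7.mk 10 0 10 6 7 2 3) (V7.mk 7 8 7 7 6 8 8) (V7.mk 8 8 0 9 3 4 8) (V7.mk 0 8 9 8 3 8 4)),
  (M7.mk (V7.mk 0 0 0 1 0 0 0) (V7.mk 0 0 0 0 1 0 0) (V7.mk 0 0 0 0 0 1 0) (V7.mk 0 0 0 0 0 0 1) (V7.mk 1 0 0 0 0 0 0) (V7.mk 0 1 0 0 0 0 0) (V7.mk 0 0 1 0 0 0 0)),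
  (M7.mk (V7.mk 10 8 8 2 10 10 8) (V7.mk 3 3 9 1 1 3 1) (V7.mk 8 2 10 10 8 10 8) (V7.mk 2 10 10 8 10 8 8) (V7.mk 10 10 8 10 8 8 2) (V7.mk 1 3 1 3 3 9 1) (V7.mk 3 1 3 3 9 1 1)),
  (M7.mk (V7.mk 3 9 1 1 3 1 3) (V7.mk 2 10 10 8 10 8 8) (V7.mk 10 10 8 10 8 8 2) (V7.mk 10 8 10 8 8 2 10) (V7.mk 3 1 3 3 9 1 1) (V7.mk 1 3 3 9 1 1 3) (V7.mk 8 8 2 10 10 8 10)),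
  (M7.mk (V7.mk 0 6 2 10 10 7 3) (V7.mk 8 9 4 8 0 3 8) (V7.mk 2 10 3 6 10 7 0) (V7.mk 3 10 0 10 6 7 2) (V7.mk 8 7 8 7 7 6 8) (V7.mk 8 8 8 0 9 3 4) (V7.mk 4 0 8 9 8 3 8)),
  (M7.mk (V7.mk 10 10 8 10 8 8 2) (V7.mk 10 8 10 8 8 2 10) (V7.mk 8 10 8 8 2 10 10) (V7.mk 1 3 3 9 1 1 3) (V7.mk 3 3 9 1 1 3 1) (V7.mk 8 2 10 10 8 10 8) (V7.mk 9 1 1 3 1 3 3)),
  (M7.mk (V7.mk 0 3 2 3 8 3 7) (V7.mk 5 9 1 1 4 8 0) (V7.mk 2 7 3 0 8 3 3) (V7.mk 10 3 6 10 7 0 2) (V7.mk 10 0 10 6 7 2 3) (V7.mk 4 3 4 4 5 3 3) (V7.mk 8 8 0 9 3 4 8)),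
  (M7.mk (V7.mk 9 4 8 0 3 8 8) (V7.mk 10 3 6 10 7 0 2) (V7.mk 10 0 10 6 7 2 3) (V7.mk 7 8 7 7 6 8 8) (V7.mk 8 8 0 9 3 4 8) (V7.mk 0 8 9 8 3 8 4) (V7.mk 6 2 10 10 7 3 0)),
  (M7.mk (V7.mk 6 9 10 10 7 8 0) (V7.mk 2 4 3 0 8 8 8) (V7.mk 10 8 6 10 7 0 9) (V7.mk 10 0 10 6 7 9 8) (V7.mk 7 3 7 7 6 3 3) (V7.mk 3 8 0 2 8 4 8) (V7.mk 0 8 2 3 8 8 4)),
  (M7.mk (V7.mk 8 10 8 8 2 10 10) (V7.mk 1 3 3 9 1 1 3) (V7.mk 8 8 2 10 10 8 10) (V7.mk 8 2 10 10 8 10 8) (V7.mk 2 10 10 8 10 8 8) (V7.mk 1 1 3 1 3 3 9) (V7.mk 1 3 1 3 3 9 1)),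
  (M7.mk (V7.mk 3 3 9 1 1 3 1) (V7.mk 8 2 10 10 8 10 8) (V7.mk 2 10 10 8 10 8 8) (V7.mk 10 10 8 10 8 8 2) (V7.mk 1 3 1 3 3 9 1) (V7.mk 3 1 3 3 9 1 1) (V7.mk 10 8 8 2 10 10 8)),
  (M7.mk (V7.mk 3 0 6 2 10 10 7) (V7.mk 8 8 9 4 8 0 3) (V7.mk 0 2 10 3 6 10 7) (V7.mk 2 3 10 0 10 6 7) (V7.mk 8 8 7 8 7 7 6) (V7.mk 4 8 8 8 0 9 3) (V7.mk 8 4 0 8 9 8 3)),
  (M7.mk (V7.mk 2 10 10 8 10 8 8) (V7.mk 10 10 8 10 8 8 2) (V7.mk 10 8 10 8 8 2 10) (V7.mk 3 1 3 3 9 1 1) (V7.mk 1 3 3 9 1 1 3) (V7.mk 8 8 2 10 10 8 10) (V7.mk 3 9 1 1 3 1 3)),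
  (M7.mk (V7.mk 7 0 3 2 3 8 3) (V7.mk 0 5 9 1 1 4 8) (V7.mk 3 2 7 3 0 8 3) (V7.mk 2 10 3 6 10 7 0) (V7.mk 3 10 0 10 6 7 2) (V7.mk 3 4 3 4 4 5 3) (V7.mk 8 8 8 0 9 3 4)),
  (M7.mk (V7.mk 8 9 4 8 0 3 8) (V7.mk 2 10 3 6 10 7 0) (V7.mk 3 10 0 10 6 7 2) (V7.mk 8 7 8 7 7 6 8) (V7.mk 8 8 8 0 9 3 4) (V7.mk 4 0 8 9 8 3 8) (V7.mk 0 6 2 10 10 7 3)),
  (M7.mk (V7.mk 0 6 9 10 10 7 8) (V7.mk 8 2 4 3 0 8 8) (V7.mk 9 10 8 6 10 7 0) (V7.mk 8 10 0 10 6 7 9) (V7.mk 3 7 3 7 7 6 3) (V7.mk 8 3 8 0 2 8 4) (V7.mk 4 0 8 2 3 8 8)),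
  (M7.mk (V7.mk 3 3 0 2 8 7 3) (V7.mk 0 8 9 8 3 8 4) (V7.mk 6 2 10 10 7 3 0) (V7.mk 2 7 3 0 8 3 3) (V7.mk 10 3 6 10 7 0 2) (V7.mk 1 0 1 5 4 9 8) (V7.mk 4 3 4 4 5 3 3)),
  (M7.mk (V7.mk 6 5 8 0 0 5 4) (V7.mk 6 8 7 4 4 6 9) (V7.mk 8 4 6 7 4 6 2) (V7.mk 0 7 7 0 3 10 6) (V7.mk 0 7 4 3 10 4 3) (V7.mk 6 6 5 1 7 9 9) (V7.mk 7 9 9 5 8 9 4)),
  (M7.mk (V7.mk 10 3 6 10 7 0 2) (V7.mk 10 0 10 6 7 2 3) (V7.mk 7 8 7 7 6 8 8) (V7.mk 8 8 0 9 3 4 8) (V7.mk 0 8 9 8 3 8 4) (V7.mk 6 2 10 10 7 3 0) (V7.mk 9 4 8 0 3 8 8)),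
  (M7.mk (V7.mk 0 3 9 8 3 3 7) (V7.mk 5 2 1 1 4 3 0) (V7.mk 9 7 8 0 3 3 3) (V7.mk 10 8 6 10 7 0 9) (V7.mk 10 0 10 6 7 9 8) (V7.mk 4 8 4 4 5 8 8) (V7.mk 3 8 0 2 8 4 8)),
  (M7.mk (V7.mk 2 4 3 0 8 8 8) (V7.mk 10 8 6 10 7 0 9) (V7.mk 10 0 10 6 7 9 8) (V7.mk 7 3 7 7 6 3 3) (V7.mk 3 8 0 2 8 4 8) (V7.mk 0 8 2 3 8 8 4) (V7.mk 6 9 10 10 7 8 0)),
  (M7.mk (V7.mk 8 9 10 10 8 1 3) (V7.mk 2 1 10 8 10 3 3) (V7.mk 10 1 8 10 8 3 9) (V7.mk 10 3 10 8 8 9 1) (V7.mk 8 1 8 8 2 1 1) (V7.mk 10 3 8 2 10 1 3) (V7.mk 8 3 2 10 10 3 1)),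
  (M7.mk (V7.mk 1 3 3 9 1 1 3) (V7.mk 8 8 2 10 10 8 10) (V7.mk 8 2 10 10 8 10 8) (V7.mk 2 10 10 8 10 8 8) (V7.mk 1 1 3 1 3 3 9) (V7.mk 1 3 1 3 3 9 1) (V7.mk 8 10 8 8 2 10 10)),
  (M7.mk (V7.mk 7 3 0 6 2 10 10) (V7.mk 3 8 8 9 4 8 0) (V7.mk 7 0 2 10 3 6 10) (V7.mk 7 2 3 10 0 10 6) (V7.mk 6 8 8 7 8 7 7) (V7.mk 3 4 8 8 8 0 9) (V7.mk 3 8 4 0 8 9 8)),
  (M7.mk (V7.mk 8 2 10 10 8 10 8) (V7.mk 2 10 10 8 10 8 8) (V7.mk 10 10 8 10 8 8 2) (V7.mk 1 3 1 3 3 9 1) (V7.mk 3 1 3 3 9 1 1) (V7.mk 10 8 8 2 10 10 8) (V7.mk 3 3 9 1 1 3 1)),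
  (M7.mk (V7.mk 3 7 0 3 2 3 8) (V7.mk 8 0 5 9 1 1 4) (V7.mk 3 3 2 7 3 0 8) (V7.mk 0 2 10 3 6 10 7) (V7.mk 2 3 10 0 10 6 7) (V7.mk 3 3 4 3 4 4 5) (V7.mk 4 8 8 8 0 9 3)),
  (M7.mk (V7.mk 8 8 9 4 8 0 3) (V7.mk 0 2 10 3 6 10 7) (V7.mk 2 3 10 0 10 6 7) (V7.mk 8 8 7 8 7 7 6) (V7.mk 4 8 8 8 0 9 3) (V7.mk 8 4 0 8 9 8 3) (V7.mk 3 0 6 2 10 10 7)),
  (M7.mk (V7.mk 8 0 6 9 10 10 7) (V7.mk 8 8 2 4 3 0 8) (V7.mk 0 9 10 8 6 10 7) (V7.mk 9 8 10 0 10 6 7) (V7.mk 3 3 7 3 7 7 6) (V7.mk 4 8 3 8 0 2 8) (V7.mk 8 4 0 8 2 3 8)),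
  (M7.mk (V7.mk 10 10 8 10 8 8 2) (V7.mk 10 8 10 8 8 2 10) (V7.mk 3 1 3 3 9 1 1) (V7.mk 1 3 3 9 1 1 3) (V7.mk 8 8 2 10 10 8 10) (V7.mk 3 9 1 1 3 1 3) (V7.mk 2 10 10 8 10 8 8)),
  (M7.mk (V7.mk 3 3 3 0 2 8 7) (V7.mk 4 0 8 9 8 3 8) (V7.mk 0 6 2 10 10 7 3) (V7.mk 3 2 7 3 0 8 3) (V7.mk 2 10 3 6 10 7 0) (V7.mk 8 1 0 1 5 4 9) (V7.mk 3 4 3 4 4 5 3)),
  (M7.mk (V7.mk 0 5 9 1 1 4 8) (V7.mk 3 2 7 3 0 8 3) (V7.mk 2 10 3 6 10 7 0) (V7.mk 3 10 0 10 6 7 2) (V7.mk 3 4 3 4 4 5 3) (V7.mk 8 8 8 0 9 3 4) (V7.mk 7 0 3 2 3 8 3)),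
  (M7.mk (V7.mk 4 6 5 8 0 0 5) (V7.mk 9 6 8 7 4 4 6) (V7.mk 2 8 4 6 7 4 6) (V7.mk 6 0 7 7 0 3 10) (V7.mk 3 0 7 4 3 10 4) (V7.mk 9 6 6 5 1 7 9) (V7.mk 4 7 9 9 5 8 9)),
  (M7.mk (V7.mk 2 10 3 6 10 7 0) (V7.mk 3 10 0 10 6 7 2) (V7.mk 8 7 8 7 7 6 8) (V7.mk 8 8 8 0 9 3 4) (V7.mk 4 0 8 9 8 3 8) (V7.mk 0 6 2 10 10 7 3) (V7.mk 8 9 4 8 0 3 8)),
  (M7.mk (V7.mk 7 0 3 9 8 3 3) (V7.mk 0 5 2 1 1 4 3) (V7.mk 3 9 7 8 0 3 3) (V7.mk 9 10 8 6 10 7 0) (V7.mk 8 10 0 10 6 7 9) (V7.mk 8 4 8 4 4 5 8) (V7.mk 8 3 8 0 2 8 4)),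
  (M7.mk (V7.mk 8 2 4 3 0 8 8) (V7.mk 9 10 8 6 10 7 0) (V7.mk 8 10 0 10 6 7 9) (V7.mk 3 7 3 7 7 6 3) (V7.mk 8 3 8 0 2 8 4) (V7.mk 4 0 8 2 3 8 8) (V7.mk 0 6 9 10 10 7 8)),
  (M7.mk (V7.mk 3 8 9 10 10 8 1) (V7.mk 3 2 1 10 8 10 3) (V7.mk 9 10 1 8 10 8 3) (V7.mk 1 10 3 10 8 8 9) (V7.mk 1 8 1 8 8 2 1) (V7.mk 3 10 3 8 2 10 1) (V7.mk 1 8 3 2 10 10 3)),
  (M7.mk (V7.mk 0 8 9 8 3 8 4) (V7.mk 6 2 10 10 7 3 0) (V7.mk 2 7 3 0 8 3 3) (V7.mk 10 3 6 10 7 0 2) (V7.mk 1 0 1 5 4 9 8) (V7.mk 4 3 4 4 5 3 3) (V7.mk 3 3 0 2 8 7 3)),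
  (M7.mk (V7.mk 6 2 7 8 4 4 6) (V7.mk 9 4 5 7 8 9 9) (V7.mk 7 6 0 0 3 7 10) (V7.mk 8 4 0 6 0 5 5) (V7.mk 4 3 3 0 10 7 4) (V7.mk 7 9 4 6 4 8 6) (V7.mk 5 9 1 6 7 6 9)),
  (M7.mk (V7.mk 6 8 7 4 4 6 9) (V7.mk 8 4 6 7 4 6 2) (V7.mk 0 7 7 0 3 10 6) (V7.mk 0 7 4 3 10 4 3) (V7.mk 6 6 5 1 7 9 9) (V7.mk 7 9 9 5 8 9 4) (V7.mk 6 5 8 0 0 5 4)),
  (M7.mk (V7.mk 3 2 10 9 6 10 1) (V7.mk 8 9 9 10 6 2 8) (V7.mk 4 2 6 6 1 6 2) (V7.mk 6 5 10 2 6 4 9) (V7.mk 5 9 1 8 2 9 3) (V7.mk 9 1 3 8 4 6 5) (V7.mk 1 6 2 9 2 5 9)),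
  (M7.mk (V7.mk 10 0 10 6 7 2 3) (V7.mk 7 8 7 7 6 8 8) (V7.mk 8 8 0 9 3 4 8) (V7.mk 0 8 9 8 3 8 4) (V7.mk 6 2 10 10 7 3 0) (V7.mk 9 4 8 0 3 8 8) (V7.mk 10 3 6 10 7 0 2)),
  (M7.mk (V7.mk 8 3 0 9 3 7 3) (V7.mk 0 8 2 3 8 8 4) (V7.mk 6 9 10 10 7 8 0) (V7.mk 9 7 8 0 3 3 3) (V7.mk 10 8 6 10 7 0 9) (V7.mk 1 0 1 5 4 2 3) (V7.mk 4 8 4 4 5 8 8)),
  (M7.mk (V7.mk 5 2 1 1 4 3 0) (V7.mk 9 7 8 0 3 3 3) (V7.mk 10 8 6 10 7 0 9) (V7.mk 10 0 10 6 7 9 8) (V7.mk 4 8 4 4 5 8 8) (V7.mk 3 8 0 2 8 4 8) (V7.mk 0 3 9 8 3 3 7)),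
  (M7.mk (V7.mk 3 3 4 6 5 2 10) (V7.mk 9 9 9 6 2 1 6) (V7.mk 10 2 6 10 1 8 9) (V7.mk 9 1 6 2 8 3 2) (V7.mk 6 5 1 6 2 7 9) (V7.mk 1 2 5 7 2 6 5) (V7.mk 10 8 9 2 8 5 9)),
  (M7.mk (V7.mk 10 8 6 10 7 0 9) (V7.mk 10 0 10 6 7 9 8) (V7.mk 7 3 7 7 6 3 3) (V7.mk 3 8 0 2 8 4 8) (V7.mk 0 8 2 3 8 8 4) (V7.mk 6 9 10 10 7 8 0) (V7.mk 2 4 3 0 8 8 8)),
  (M7.mk (V7.mk 3 8 9 1 1 8 10) (V7.mk 3 2 1 1 3 10 8) (V7.mk 9 10 1 3 1 8 8) (V7.mk 10 1 8 10 8 3 9) (V7.mk 10 3 10 8 8 9 1) (V7.mk 3 10 3 3 9 10 10) (V7.mk 10 3 8 2 10 1 3)),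
  (M7.mk (V7.mk 2 1 10 8 10 3 3) (V7.mk 10 1 8 10 8 3 9) (V7.mk 10 3 10 8 8 9 1) (V7.mk 8 1 8 8 2 1 1) (V7.mk 10 3 8 2 10 1 3) (V7.mk 8 3 2 10 10 3 1) (V7.mk 8 9 10 10 8 1 3)),
  (M7.mk (V7.mk 8 3 7 0 3 2 3) (V7.mk 4 8 0 5 9 1 1) (V7.mk 8 3 3 2 7 3 0) (V7.mk 7 0 2 10 3 6 10) (V7.mk 7 2 3 10 0 10 6) (V7.mk 5 3 3 4 3 4 4) (V7.mk 3 4 8 8 8 0 9)),
  (M7.mk (V7.mk 7 8 0 6 9 10 10) (V7.mk 8 8 8 2 4 3 0) (V7.mk 7 0 9 10 8 6 10) (V7.mk 7 9 8 10 0 10 6) (V7.mk 6 3 3 7 3 7 7) (V7.mk 8 4 8 3 8 0 2) (V7.mk 8 8 4 0 8 2 3)),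
  (M7.mk (V7.mk 7 3 3 3 0 2 8) (V7.mk 8 4 0 8 9 8 3) (V7.mk 3 0 6 2 10 10 7) (V7.mk 3 3 2 7 3 0 8) (V7.mk 0 2 10 3 6 10 7) (V7.mk 9 8 1 0 1 5 4) (V7.mk 3 3 4 3 4 4 5)),
  (M7.mk (V7.mk 8 0 5 9 1 1 4) (V7.mk 3 3 2 7 3 0 8) (V7.mk 0 2 10 3 6 10 7) (V7.mk 2 3 10 0 10 6 7) (V7.mk 3 3 4 3 4 4 5) (V7.mk 4 8 8 8 0 9 3) (V7.mk 3 7 0 3 2 3 8)),
  (M7.mk (V7.mk 5 4 6 5 8 0 0) (V7.mk 6 9 6 8 7 4 4) (V7.mk 6 2 8 4 6 7 4) (V7.mk 10 6 0 7 7 0 3) (V7.mk 4 3 0 7 4 3 10) (V7.mk 9 9 6 6 5 1 7) (V7.mk 9 4 7 9 9 5 8)),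
  (M7.mk (V7.mk 0 2 10 3 6 10 7) (V7.mk 2 3 10 0 10 6 7) (V7.mk 8 8 7 8 7 7 6) (V7.mk 4 8 8 8 0 9 3) (V7.mk 8 4 0 8 9 8 3) (V7.mk 3 0 6 2 10 10 7) (V7.mk 8 8 9 4 8 0 3)),
  (M7.mk (V7.mk 3 7 0 3 9 8 3) (V7.mk 3 0 5 2 1 1 4) (V7.mk 3 3 9 7 8 0 3) (V7.mk 0 9 10 8 6 10 7) (V7.mk 9 8 10 0 10 6 7) (V7.mk 8 8 4 8 4 4 5) (V7.mk 4 8 3 8 0 2 8)),
  (M7.mk (V7.mk 8 8 2 4 3 0 8) (V7.mk 0 9 10 8 6 10 7) (V7.mk 9 8 10 0 10 6 7) (V7.mk 3 3 7 3 7 7 6) (V7.mk 4 8 3 8 0 2 8) (V7.mk 8 4 0 8 2 3 8) (V7.mk 8 0 6 9 10 10 7)),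
  (M7.mk (V7.mk 1 3 8 9 10 10 8) (V7.mk 3 3 2 1 10 8 10) (V7.mk 3 9 10 1 8 10 8) (V7.mk 9 1 10 3 10 8 8) (V7.mk 1 1 8 1 8 8 2) (V7.mk 1 3 10 3 8 2 10) (V7.mk 3 1 8 3 2 10 10)),
  (M7.mk (V7.mk 10 8 10 8 8 2 10) (V7.mk 3 1 3 3 9 1 1) (V7.mk 1 3 3 9 1 1 3) (V7.mk 8 8 2 10 10 8 10) (V7.mk 3 9 1 1 3 1 3) (V7.mk 2 10 10 8 10 8 8) (V7.mk 10 10 8 10 8 8 2)),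
  (M7.mk (V7.mk 8 7 8 7 7 6 8) (V7.mk 8 8 8 0 9 3 4) (V7.mk 7 0 3 2 3 8 3) (V7.mk 0 6 2 10 10 7 3) (V7.mk 3 2 7 3 0 8 3) (V7.mk 9 1 8 5 1 4 0) (V7.mk 8 1 0 1 5 4 9))]

def tabC1 : List M7 := [
  (M7.mk (V7.mk 4 0 8 9 8 3 8) (V7.mk 0 6 2 10 10 7 3) (V7.mk 3 2 7 3 0 8 3) (V7.mk 2 10 3 6 10 7 0) (V7.mk 8 1 0 1 5 4 9) (V7.mk 3 4 3 4 4 5 3) (V7.mk 3 3 3 0 2 8 7)),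
  (M7.mk (V7.mk 6 6 2 7 8 4 4) (V7.mk 9 9 4 5 7 8 9) (V7.mk 10 7 6 0 0 3 7) (V7.mk 5 8 4 0 6 0 5) (V7.mk 4 4 3 3 0 10 7) (V7.mk 6 7 9 4 6 4 8) (V7.mk 9 5 9 1 6 7 6)),
  (M7.mk (V7.mk 3 2 7 3 0 8 3) (V7.mk 2 10 3 6 10 7 0) (V7.mk 3 10 0 10 6 7 2) (V7.mk 3 4 3 4 4 5 3) (V7.mk 8 8 8 0 9 3 4) (V7.mk 7 0 3 2 3 8 3) (V7.mk 0 5 9 1 1 4 8)),
  (M7.mk (V7.mk 7 4 2 2 6 3 2) (V7.mk 7 5 6 3 0 0 6) (V7.mk 2 5 3 4 7 7 5) (V7.mk 2 8 4 6 7 4 6) (V7.mk 6 0 7 7 0 3 10) (V7.mk 8 0 4 7 8 1 7) (V7.mk 9 6 6 5 1 7 9)),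
  (M7.mk (V7.mk 9 6 8 7 4 4 6) (V7.mk 2 8 4 6 7 4 6) (V7.mk 6 0 7 7 0 3 10) (V7.mk 3 0 7 4 3 10 4) (V7.mk 9 6 6 5 1 7 9) (V7.mk 4 7 9 9 5 8 9) (V7.mk 4 6 5 8 0 0 5)),
  (M7.mk (V7.mk 1 3 2 10 9 6 10) (V7.mk 8 8 9 9 10 6 2) (V7.mk 2 4 2 6 6 1 6) (V7.mk 9 6 5 10 2 6 4) (V7.mk 3 5 9 1 8 2 9) (V7.mk 5 9 1 3 8 4 6) (V7.mk 9 1 6 2 9 2 5)),
  (M7.mk (V7.mk 3 8 3 0 9 3 7) (V7.mk 4 0 8 2 3 8 8) (V7.mk 0 6 9 10 10 7 8) (V7.mk 3 9 7 8 0 3 3) (V7.mk 9 10 8 6 10 7 0) (V7.mk 3 1 0 1 5 4 2) (V7.mk 8 4 8 4 4 5 8)),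
  (M7.mk (V7.mk 0 5 2 1 1 4 3) (V7.mk 3 9 7 8 0 3 3) (V7.mk 9 10 8 6 10 7 0) (V7.mk 8 10 0 10 6 7 9) (V7.mk 8 4 8 4 4 5 8) (V7.mk 8 3 8 0 2 8 4) (V7.mk 7 0 3 9 8 3 3)),
  (M7.mk (V7.mk 10 3 3 4 6 5 2) (V7.mk 6 9 9 9 6 2 1) (V7.mk 9 10 2 6 10 1 8) (V7.mk 2 9 1 6 2 8 3) (V7.mk 9 6 5 1 6 2 7) (V7.mk 5 1 2 5 7 2 6) (V7.mk 9 10 8 9 2 8 5)),
  (M7.mk (V7.mk 9 10 8 6 10 7 0) (V7.mk 8 10 0 10 6 7 9) (V7.mk 3 7 3 7 7 6 3) (V7.mk 8 3 8 0 2 8 4) (V7.mk 4 0 8 2 3 8 8) (V7.mk 0 6 9 10 10 7 8) (V7.mk 8 2 4 3 0 8 8)),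
  (M7.mk (V7.mk 3 2 1 10 8 10 3) (V7.mk 9 10 1 8 10 8 3) (V7.mk 1 10 3 10 8 8 9) (V7.mk 1 8 1 8 8 2 1) (V7.mk 3 10 3 8 2 10 1) (V7.mk 1 8 3 2 10 10 3) (V7.mk 3 8 9 10 10 8 1)),
  (M7.mk (V7.mk 6 2 10 10 7 3 0) (V7.mk 2 7 3 0 8 3 3) (V7.mk 10 3 6 10 7 0 2) (V7.mk 1 0 1 5 4 9 8) (V7.mk 4 3 4 4 5 3 3) (V7.mk 3 3 0 2 8 7 3) (V7.mk 0 8 9 8 3 8 4)),
  (M7.mk (V7.mk 6 2 10 5 4 5 2) (V7.mk 5 9 4 3 7 7 5) (V7.mk 2 7 6 4 3 2 2) (V7.mk 7 6 0 0 3 7 10) (V7.mk 8 4 0 6 0 5 5) (V7.mk 7 8 8 0 1 4 7) (V7.mk 7 9 4 6 4 8 6)),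
  (M7.mk (V7.mk 9 4 5 7 8 9 9) (V7.mk 7 6 0 0 3 7 10) (V7.mk 8 4 0 6 0 5 5) (V7.mk 4 3 3 0 10 7 4) (V7.mk 7 9 4 6 4 8 6) (V7.mk 5 9 1 6 7 6 9) (V7.mk 6 2 7 8 4 4 6)),
  (M7.mk (V7.mk 6 2 6 4 1 2 6) (V7.mk 2 9 9 1 2 6 5) (V7.mk 10 9 2 6 6 5 4) (V7.mk 10 1 9 3 6 2 10) (V7.mk 1 3 8 5 2 9 9) (V7.mk 9 8 10 8 6 9 2) (V7.mk 3 5 8 9 4 1 6)),
  (M7.mk (V7.mk 8 4 6 7 4 6 2) (V7.mk 0 7 7 0 3 10 6) (V7.mk 0 7 4 3 10 4 3) (V7.mk 6 6 5 1 7 9 9) (V7.mk 7 9 9 5 8 9 4) (V7.mk 6 5 8 0 0 5 4) (V7.mk 6 8 7 4 4 6 9)),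
  (M7.mk (V7.mk 10 5 9 2 9 6 2) (V7.mk 8 9 1 2 5 1 10) (V7.mk 3 2 2 1 5 9 3) (V7.mk 4 2 6 6 1 6 2) (V7.mk 6 5 10 2 6 4 9) (V7.mk 6 2 10 3 9 2 8) (V7.mk 9 1 3 8 4 6 5)),
  (M7.mk (V7.mk 8 9 9 10 6 2 8) (V7.mk 4 2 6 6 1 6 2) (V7.mk 6 5 10 2 6 4 9) (V7.mk 5 9 1 8 2 9 3) (V7.mk 9 1 3 8 4 6 5) (V7.mk 1 6 2 9 2 5 9) (V7.mk 3 2 10 9 6 10 1)),
  (M7.mk (V7.mk 3 3 4 3 4 4 5) (V7.mk 4 8 8 8 0 9 3) (V7.mk 8 4 0 8 9 8 3) (V7.mk 8 0 5 9 1 1 4) (V7.mk 8 8 9 4 8 0 3) (V7.mk 0 9 1 8 5 1 4) (V7.mk 9 8 1 0 1 5 4)),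
  (M7.mk (V7.mk 7 8 7 7 6 8 8) (V7.mk 8 8 0 9 3 4 8) (V7.mk 0 8 9 8 3 8 4) (V7.mk 6 2 10 10 7 3 0) (V7.mk 9 4 8 0 3 8 8) (V7.mk 10 3 6 10 7 0 2) (V7.mk 10 0 10 6 7 2 3)),
  (M7.mk (V7.mk 7 3 7 7 6 3 3) (V7.mk 3 8 0 2 8 4 8) (V7.mk 0 3 9 8 3 3 7) (V7.mk 6 9 10 10 7 8 0) (V7.mk 9 7 8 0 3 3 3) (V7.mk 1 3 5 1 4 0 2) (V7.mk 1 0 1 5 4 2 3)),
  (M7.mk (V7.mk 0 8 2 3 8 8 4) (V7.mk 6 9 10 10 7 8 0) (V7.mk 9 7 8 0 3 3 3) (V7.mk 10 8 6 10 7 0 9) (V7.mk 1 0 1 5 4 2 3) (V7.mk 4 8 4 4 5 8 8) (V7.mk 8 3 0 9 3 7 3)),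
  (M7.mk (V7.mk 6 9 10 10 1 2 8) (V7.mk 9 9 2 10 8 8 5) (V7.mk 6 2 2 9 8 1 3) (V7.mk 4 10 6 3 5 3 2) (V7.mk 1 9 6 6 2 5 7) (V7.mk 9 6 6 9 2 9 1) (V7.mk 5 5 7 1 2 2 6)),
  (M7.mk (V7.mk 9 7 8 0 3 3 3) (V7.mk 10 8 6 10 7 0 9) (V7.mk 10 0 10 6 7 9 8) (V7.mk 4 8 4 4 5 8 8) (V7.mk 3 8 0 2 8 4 8) (V7.mk 0 3 9 8 3 3 7) (V7.mk 5 2 1 1 4 3 0)),
  (M7.mk (V7.mk 1 3 2 9 3 6 2) (V7.mk 8 8 7 5 6 9 1) (V7.mk 2 2 2 5 9 10 5) (V7.mk 10 2 6 10 1 8 9) (V7.mk 9 1 6 2 8 3 2) (V7.mk 5 6 10 5 9 4 2) (V7.mk 1 2 5 7 2 6 5)),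
  (M7.mk (V7.mk 9 9 9 6 2 1 6) (V7.mk 10 2 6 10 1 8 9) (V7.mk 9 1 6 2 8 3 2) (V7.mk 6 5 1 6 2 7 9) (V7.mk 1 2 5 7 2 6 5) (V7.mk 10 8 9 2 8 5 9) (V7.mk 3 3 4 6 5 2 10)),
  (M7.mk (V7.mk 7 9 3 6 3 9 0) (V7.mk 2 10 2 10 5 10 8) (V7.mk 3 9 7 9 8 7 8) (V7.mk 6 1 9 9 9 8 8) (V7.mk 3 6 8 9 5 7 1) (V7.mk 2 10 4 3 4 7 4) (V7.mk 0 8 3 3 10 4 10)),
  (M7.mk (V7.mk 10 0 10 6 7 9 8) (V7.mk 7 3 7 7 6 3 3) (V7.mk 3 8 0 2 8 4 8) (V7.mk 0 8 2 3 8 8 4) (V7.mk 6 9 10 10 7 8 0) (V7.mk 2 4 3 0 8 8 8) (V7.mk 10 8 6 10 7 0 9)),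
  (M7.mk (V7.mk 1 8 3 9 1 10 8) (V7.mk 8 3 2 10 10 3 1) (V7.mk 8 9 10 10 8 1 3) (V7.mk 9 10 1 3 1 8 8) (V7.mk 10 1 8 10 8 3 9) (V7.mk 1 8 1 3 3 2 10) (V7.mk 3 10 3 3 9 10 10)),
  (M7.mk (V7.mk 3 2 1 1 3 10 8) (V7.mk 9 10 1 3 1 8 8) (V7.mk 10 1 8 10 8 3 9) (V7.mk 10 3 10 8 8 9 1) (V7.mk 3 10 3 3 9 10 10) (V7.mk 10 3 8 2 10 1 3) (V7.mk 3 8 9 1 1 8 10)),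
  (M7.mk (V7.mk 3 7 8 8 8 0 2) (V7.mk 8 8 7 0 3 9 8) (V7.mk 4 3 0 5 9 10 10) (V7.mk 3 3 8 9 4 3 0) (V7.mk 4 0 9 1 8 6 10) (V7.mk 7 9 3 10 0 1 5) (V7.mk 6 3 8 7 8 4 4)),
  (M7.mk (V7.mk 10 1 8 10 8 3 9) (V7.mk 10 3 10 8 8 9 1) (V7.mk 8 1 8 8 2 1 1) (V7.mk 10 3 8 2 10 1 3) (V7.mk 8 3 2 10 10 3 1) (V7.mk 8 9 10 10 8 1 3) (V7.mk 2 1 10 8 10 3 3)),
  (M7.mk (V7.mk 4 8 0 5 9 1 1) (V7.mk 8 3 3 2 7 3 0) (V7.mk 7 0 2 10 3 6 10) (V7.mk 7 2 3 10 0 10 6) (V7.mk 5 3 3 4 3 4 4) (V7.mk 3 4 8 8 8 0 9) (V7.mk 8 3 7 0 3 2 3)),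
  (M7.mk (V7.mk 0 5 4 6 5 8 0) (V7.mk 4 6 9 6 8 7 4) (V7.mk 4 6 2 8 4 6 7) (V7.mk 3 10 6 0 7 7 0) (V7.mk 10 4 3 0 7 4 3) (V7.mk 7 9 9 6 6 5 1) (V7.mk 8 9 4 7 9 9 5)),
  (M7.mk (V7.mk 8 8 8 2 4 3 0) (V7.mk 7 0 9 10 8 6 10) (V7.mk 7 9 8 10 0 10 6) (V7.mk 6 3 3 7 3 7 7) (V7.mk 8 4 8 3 8 0 2) (V7.mk 8 8 4 0 8 2 3) (V7.mk 7 8 0 6 9 10 10)),
  (M7.mk (V7.mk 8 1 3 8 9 10 10) (V7.mk 10 3 3 2 1 10 8) (V7.mk 8 3 9 10 1 8 10) (V7.mk 8 9 1 10 3 10 8) (V7.mk 2 1 1 8 1 8 8) (V7.mk 10 1 3 10 3 8 2) (V7.mk 10 3 1 8 3 2 10)),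
  (M7.mk (V7.mk 8 4 0 8 9 8 3) (V7.mk 3 0 6 2 10 10 7) (V7.mk 3 3 2 7 3 0 8) (V7.mk 0 2 10 3 6 10 7) (V7.mk 9 8 1 0 1 5 4) (V7.mk 3 3 4 3 4 4 5) (V7.mk 7 3 3 3 0 2 8)),
  (M7.mk (V7.mk 4 6 6 2 7 8 4) (V7.mk 9 9 9 4 5 7 8) (V7.mk 7 10 7 6 0 0 3) (V7.mk 5 5 8 4 0 6 0) (V7.mk 7 4 4 3 3 0 10) (V7.mk 8 6 7 9 4 6 4) (V7.mk 6 9 5 9 1 6 7)),
  (M7.mk (V7.mk 3 3 2 7 3 0 8) (V7.mk 0 2 10 3 6 10 7) (V7.mk 2 3 10 0 10 6 7) (V7.mk 3 3 4 3 4 4 5) (V7.mk 4 8 8 8 0 9 3) (V7.mk 3 7 0 3 2 3 8) (V7.mk 8 0 5 9 1 1 4)),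
  (M7.mk (V7.mk 2 7 4 2 2 6 3) (V7.mk 6 7 5 6 3 0 0) (V7.mk 5 2 5 3 4 7 7) (V7.mk 6 2 8 4 6 7 4) (V7.mk 10 6 0 7 7 0 3) (V7.mk 7 8 0 4 7 8 1) (V7.mk 9 9 6 6 5 1 7)),
  (M7.mk (V7.mk 6 9 6 8 7 4 4) (V7.mk 6 2 8 4 6 7 4) (V7.mk 10 6 0 7 7 0 3) (V7.mk 4 3 0 7 4 3 10) (V7.mk 9 9 6 6 5 1 7) (V7.mk 9 4 7 9 9 5 8) (V7.mk 5 4 6 5 8 0 0)),
  (M7.mk (V7.mk 10 1 3 2 10 9 6) (V7.mk 2 8 8 9 9 10 6) (V7.mk 6 2 4 2 6 6 1) (V7.mk 4 9 6 5 10 2 6) (V7.mk 9 3 5 9 1 8 2) (V7.mk 6 5 9 1 3 8 4) (V7.mk 5 9 1 6 2 9 2)),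
  (M7.mk (V7.mk 2 3 10 0 10 6 7) (V7.mk 8 8 7 8 7 7 6) (V7.mk 4 8 8 8 0 9 3) (V7.mk 8 4 0 8 9 8 3) (V7.mk 3 0 6 2 10 10 7) (V7.mk 8 8 9 4 8 0 3) (V7.mk 0 2 10 3 6 10 7)),
  (M7.mk (V7.mk 7 3 8 3 0 9 3) (V7.mk 8 4 0 8 2 3 8) (V7.mk 8 0 6 9 10 10 7) (V7.mk 3 3 9 7 8 0 3) (V7.mk 0 9 10 8 6 10 7) (V7.mk 2 3 1 0 1 5 4) (V7.mk 8 8 4 8 4 4 5)),
  (M7.mk (V7.mk 3 0 5 2 1 1 4) (V7.mk 3 3 9 7 8 0 3) (V7.mk 0 9 10 8 6 10 7) (V7.mk 9 8 10 0 10 6 7) (V7.mk 8 8 4 8 4 4 5) (V7.mk 4 8 3 8 0 2 8) (V7.mk 3 7 0 3 9 8 3)),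
  (M7.mk (V7.mk 2 10 3 3 4 6 5) (V7.mk 1 6 9 9 9 6 2) (V7.mk 8 9 10 2 6 10 1) (V7.mk 3 2 9 1 6 2 8) (V7.mk 7 9 6 5 1 6 2) (V7.mk 6 5 1 2 5 7 2) (V7.mk 5 9 10 8 9 2 8)),
  (M7.mk (V7.mk 0 9 10 8 6 10 7) (V7.mk 9 8 10 0 10 6 7) (V7.mk 3 3 7 3 7 7 6) (V7.mk 4 8 3 8 0 2 8) (V7.mk 8 4 0 8 2 3 8) (V7.mk 8 0 6 9 10 10 7) (V7.mk 8 8 2 4 3 0 8)),
  (M7.mk (V7.mk 8 10 3 8 9 1 1) (V7.mk 10 8 3 2 1 1 3) (V7.mk 8 8 9 10 1 3 1) (V7.mk 3 9 10 1 8 10 8) (V7.mk 9 1 10 3 10 8 8) (V7.mk 10 10 3 10 3 3 9) (V7.mk 1 3 10 3 8 2 10)),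
  (M7.mk (V7.mk 3 3 2 1 10 8 10) (V7.mk 3 9 10 1 8 10 8) (V7.mk 9 1 10 3 10 8 8) (V7.mk 1 1 8 1 8 8 2) (V7.mk 1 3 10 3 8 2 10) (V7.mk 3 1 8 3 2 10 10) (V7.mk 1 3 8 9 10 10 8)),
  (M7.mk (V7.mk 8 8 8 0 9 3 4) (V7.mk 7 0 3 2 3 8 3) (V7.mk 0 6 2 10 10 7 3) (V7.mk 3 2 7 3 0 8 3) (V7.mk 9 1 8 5 1 4 0) (V7.mk 8 1 0 1 5 4 9) (V7.mk 8 7 8 7 7 6 8)),
  (M7.mk (V7.mk 9 1 2 5 1 10 8) (V7.mk 9 9 10 6 2 8 8) (V7.mk 9 5 5 10 5 9 7) (V7.mk 6 1 9 5 7 2 5) (V7.mk 2 10 3 9 2 8 6) (V7.mk 1 3 8 4 6 5 9) (V7.mk 6 2 9 2 5 9 1)),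
  (M7.mk (V7.mk 0 6 2 10 10 7 3) (V7.mk 3 2 7 3 0 8 3) (V7.mk 2 10 3 6 10 7 0) (V7.mk 8 1 0 1 5 4 9) (V7.mk 3 4 3 4 4 5 3) (V7.mk 3 3 3 0 2 8 7) (V7.mk 4 0 8 9 8 3 8)),
  (M7.mk (V7.mk 2 6 2 10 5 4 5) (V7.mk 5 5 9 4 3 7 7) (V7.mk 2 2 7 6 4 3 2) (V7.mk 10 7 6 0 0 3 7) (V7.mk 5 8 4 0 6 0 5) (V7.mk 7 7 8 8 0 1 4) (V7.mk 6 7 9 4 6 4 8)),
  (M7.mk (V7.mk 9 9 4 5 7 8 9) (V7.mk 10 7 6 0 0 3 7) (V7.mk 5 8 4 0 6 0 5) (V7.mk 4 4 3 3 0 10 7) (V7.mk 6 7 9 4 6 4 8) (V7.mk 9 5 9 1 6 7 6) (V7.mk 6 6 2 7 8 4 4)),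
  (M7.mk (V7.mk 6 6 2 6 4 1 2) (V7.mk 5 2 9 9 1 2 6) (V7.mk 4 10 9 2 6 6 5) (V7.mk 10 10 1 9 3 6 2) (V7.mk 9 1 3 8 5 2 9) (V7.mk 2 9 8 10 8 6 9) (V7.mk 6 3 5 8 9 4 1)),
  (M7.mk (V7.mk 2 10 3 6 10 7 0) (V7.mk 3 10 0 10 6 7 2) (V7.mk 3 4 3 4 4 5 3) (V7.mk 8 8 8 0 9 3 4) (V7.mk 7 0 3 2 3 8 3) (V7.mk 0 5 9 1 1 4 8) (V7.mk 3 2 7 3 0 8 3)),
  (M7.mk (V7.mk 2 5 5 6 10 4 2) (V7.mk 4 7 9 9 5 8 9) (V7.mk 4 6 5 8 0 0 5) (V7.mk 2 5 3 4 7 7 5) (V7.mk 2 8 4 6 7 4 6) (V7.mk 5 0 4 4 0 8 1) (V7.mk 8 0 4 7 8 1 7)),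
  (M7.mk (V7.mk 7 5 6 3 0 0 6) (V7.mk 2 5 3 4 7 7 5) (V7.mk 2 8 4 6 7 4 6) (V7.mk 6 0 7 7 0 3 10) (V7.mk 8 0 4 7 8 1 7) (V7.mk 9 6 6 5 1 7 9) (V7.mk 7 4 2 2 6 3 2)),
  (M7.mk (V7.mk 2 0 0 2 1 4 8) (V7.mk 3 0 10 9 10 7 6) (V7.mk 9 2 2 0 10 7 4) (V7.mk 8 1 1 10 3 8 9) (V7.mk 10 4 4 7 8 0 3) (V7.mk 5 3 6 7 2 8 1) (V7.mk 2 9 3 2 3 1 5)),
  (M7.mk (V7.mk 2 8 4 6 7 4 6) (V7.mk 6 0 7 7 0 3 10) (V7.mk 3 0 7 4 3 10 4) (V7.mk 9 6 6 5 1 7 9) (V7.mk 4 7 9 9 5 8 9) (V7.mk 4 6 5 8 0 0 5) (V7.mk 9 6 8 7 4 4 6)),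
  (M7.mk (V7.mk 2 10 5 9 2 9 6) (V7.mk 10 8 9 1 2 5 1) (V7.mk 3 3 2 2 1 5 9) (V7.mk 2 4 2 6 6 1 6) (V7.mk 9 6 5 10 2 6 4) (V7.mk 8 6 2 10 3 9 2) (V7.mk 5 9 1 3 8 4 6)),
  (M7.mk (V7.mk 8 8 9 9 10 6 2) (V7.mk 2 4 2 6 6 1 6) (V7.mk 9 6 5 10 2 6 4) (V7.mk 3 5 9 1 8 2 9) (V7.mk 5 9 1 3 8 4 6) (V7.mk 9 1 6 2 9 2 5) (V7.mk 1 3 2 10 9 6 10)),
  (M7.mk (V7.mk 5 3 3 4 3 4 4) (V7.mk 3 4 8 8 8 0 9) (V7.mk 3 8 4 0 8 9 8) (V7.mk 4 8 0 5 9 1 1) (V7.mk 3 8 8 9 4 8 0) (V7.mk 4 0 9 1 8 5 1) (V7.mk 4 9 8 1 0 1 5)),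
  (M7.mk (V7.mk 4 0 8 2 3 8 8) (V7.mk 0 6 9 10 10 7 8) (V7.mk 3 9 7 8 0 3 3) (V7.mk 9 10 8 6 10 7 0) (V7.mk 3 1 0 1 5 4 2) (V7.mk 8 4 8 4 4 5 8) (V7.mk 3 8 3 0 9 3 7))]

def tabC2 : List M7 := [
  (M7.mk (V7.mk 8 6 9 10 10 1 2) (V7.mk 5 9 9 2 10 8 8) (V7.mk 3 6 2 2 9 8 1) (V7.mk 2 4 10 6 3 5 3) (V7.mk 7 1 9 6 6 2 5) (V7.mk 1 9 6 6 9 2 9) (V7.mk 6 5 5 7 1 2 2)),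
  (M7.mk (V7.mk 3 9 7 8 0 3 3) (V7.mk 9 10 8 6 10 7 0) (V7.mk 8 10 0 10 6 7 9) (V7.mk 8 4 8 4 4 5 8) (V7.mk 8 3 8 0 2 8 4) (V7.mk 7 0 3 9 8 3 3) (V7.mk 0 5 2 1 1 4 3)),
  (M7.mk (V7.mk 2 1 3 2 9 3 6) (V7.mk 1 8 8 7 5 6 9) (V7.mk 5 2 2 2 5 9 10) (V7.mk 9 10 2 6 10 1 8) (V7.mk 2 9 1 6 2 8 3) (V7.mk 2 5 6 10 5 9 4) (V7.mk 5 1 2 5 7 2 6)),
  (M7.mk (V7.mk 6 9 9 9 6 2 1) (V7.mk 9 10 2 6 10 1 8) (V7.mk 2 9 1 6 2 8 3) (V7.mk 9 6 5 1 6 2 7) (V7.mk 5 1 2 5 7 2 6) (V7.mk 9 10 8 9 2 8 5) (V7.mk 10 3 3 4 6 5 2)),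
  (M7.mk (V7.mk 0 7 9 3 6 3 9) (V7.mk 8 2 10 2 10 5 10) (V7.mk 8 3 9 7 9 8 7) (V7.mk 8 6 1 9 9 9 8) (V7.mk 1 3 6 8 9 5 7) (V7.mk 4 2 10 4 3 4 7) (V7.mk 10 0 8 3 3 10 4)),
  (M7.mk (V7.mk 8 10 0 10 6 7 9) (V7.mk 3 7 3 7 7 6 3) (V7.mk 8 3 8 0 2 8 4) (V7.mk 4 0 8 2 3 8 8) (V7.mk 0 6 9 10 10 7 8) (V7.mk 8 2 4 3 0 8 8) (V7.mk 9 10 8 6 10 7 0)),
  (M7.mk (V7.mk 8 1 8 3 9 1 10) (V7.mk 1 8 3 2 10 10 3) (V7.mk 3 8 9 10 10 8 1) (V7.mk 8 9 10 1 3 1 8) (V7.mk 9 10 1 8 10 8 3) (V7.mk 10 1 8 1 3 3 2) (V7.mk 10 3 10 3 3 9 10)),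
  (M7.mk (V7.mk 9 10 1 8 10 8 3) (V7.mk 1 10 3 10 8 8 9) (V7.mk 1 8 1 8 8 2 1) (V7.mk 3 10 3 8 2 10 1) (V7.mk 1 8 3 2 10 10 3) (V7.mk 3 8 9 10 10 8 1) (V7.mk 3 2 1 10 8 10 3)),
  (M7.mk (V7.mk 2 7 3 0 8 3 3) (V7.mk 10 3 6 10 7 0 2) (V7.mk 1 0 1 5 4 9 8) (V7.mk 4 3 4 4 5 3 3) (V7.mk 3 3 0 2 8 7 3) (V7.mk 0 8 9 8 3 8 4) (V7.mk 6 2 10 10 7 3 0)),
  (M7.mk (V7.mk 4 2 7 5 7 3 5) (V7.mk 5 9 1 6 7 6 9) (V7.mk 6 2 7 8 4 4 6) (V7.mk 2 7 6 4 3 2 2) (V7.mk 7 6 0 0 3 7 10) (V7.mk 3 7 0 5 0 6 6) (V7.mk 7 8 8 0 1 4 7)),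
  (M7.mk (V7.mk 5 9 4 3 7 7 5) (V7.mk 2 7 6 4 3 2 2) (V7.mk 7 6 0 0 3 7 10) (V7.mk 8 4 0 6 0 5 5) (V7.mk 7 8 8 0 1 4 7) (V7.mk 7 9 4 6 4 8 6) (V7.mk 6 2 10 5 4 5 2)),
  (M7.mk (V7.mk 8 7 7 6 5 2 7) (V7.mk 0 8 4 10 4 6 0) (V7.mk 0 10 7 7 4 8 8) (V7.mk 5 7 6 2 5 2 10) (V7.mk 7 3 2 9 2 4 5) (V7.mk 5 0 5 6 8 7 0) (V7.mk 6 7 3 6 4 9 4)),
  (M7.mk (V7.mk 8 6 3 2 7 10 5) (V7.mk 5 9 5 7 10 9 5) (V7.mk 9 2 2 10 9 5 6) (V7.mk 10 9 2 6 6 5 4) (V7.mk 10 1 9 3 6 2 10) (V7.mk 10 8 3 6 9 2 2) (V7.mk 9 8 10 8 6 9 2)),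
  (M7.mk (V7.mk 2 9 9 1 2 6 5) (V7.mk 10 9 2 6 6 5 4) (V7.mk 10 1 9 3 6 2 10) (V7.mk 1 3 8 5 2 9 9) (V7.mk 9 8 10 8 6 9 2) (V7.mk 3 5 8 9 4 1 6) (V7.mk 6 2 6 4 1 2 6)),
  (M7.mk (V7.mk 0 7 7 0 3 10 6) (V7.mk 0 7 4 3 10 4 3) (V7.mk 6 6 5 1 7 9 9) (V7.mk 7 9 9 5 8 9 4) (V7.mk 6 5 8 0 0 5 4) (V7.mk 6 8 7 4 4 6 9) (V7.mk 8 4 6 7 4 6 2)),
  (M7.mk (V7.mk 2 10 8 3 7 5 6) (V7.mk 1 6 2 9 2 5 9) (V7.mk 3 2 10 9 6 10 1) (V7.mk 3 2 2 1 5 9 3) (V7.mk 4 2 6 6 1 6 2) (V7.mk 5 6 1 9 5 7 2) (V7.mk 6 2 10 3 9 2 8)),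
  (M7.mk (V7.mk 8 9 1 2 5 1 10) (V7.mk 3 2 2 1 5 9 3) (V7.mk 4 2 6 6 1 6 2) (V7.mk 6 5 10 2 6 4 9) (V7.mk 6 2 10 3 9 2 8) (V7.mk 9 1 3 8 4 6 5) (V7.mk 10 5 9 2 9 6 2)),
  (M7.mk (V7.mk 5 1 6 2 4 3 3) (V7.mk 10 10 8 8 7 0 8) (V7.mk 6 3 1 10 10 9 2) (V7.mk 2 3 10 9 8 5 9) (V7.mk 4 4 10 8 4 2 7) (V7.mk 8 0 2 6 9 4 3) (V7.mk 8 8 9 2 4 3 4)),
  (M7.mk (V7.mk 4 2 6 6 1 6 2) (V7.mk 6 5 10 2 6 4 9) (V7.mk 5 9 1 8 2 9 3) (V7.mk 9 1 3 8 4 6 5) (V7.mk 1 6 2 9 2 5 9) (V7.mk 3 2 10 9 6 10 1) (V7.mk 8 9 9 10 6 2 8)),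
  (M7.mk (V7.mk 2 3 10 0 10 6 7) (V7.mk 8 8 7 8 7 7 6) (V7.mk 7 3 3 3 0 2 8) (V7.mk 8 4 0 8 9 8 3) (V7.mk 8 0 5 9 1 1 4) (V7.mk 3 3 2 7 3 0 8) (V7.mk 0 9 1 8 5 1 4)),
  (M7.mk (V7.mk 4 8 8 8 0 9 3) (V7.mk 8 4 0 8 9 8 3) (V7.mk 8 0 5 9 1 1 4) (V7.mk 8 8 9 4 8 0 3) (V7.mk 0 9 1 8 5 1 4) (V7.mk 9 8 1 0 1 5 4) (V7.mk 3 3 4 3 4 4 5)),
  (M7.mk (V7.mk 8 8 0 9 3 4 8) (V7.mk 0 8 9 8 3 8 4) (V7.mk 6 2 10 10 7 3 0) (V7.mk 9 4 8 0 3 8 8) (V7.mk 10 3 6 10 7 0 2) (V7.mk 10 0 10 6 7 2 3) (V7.mk 7 8 7 7 6 8 8)),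
  (M7.mk (V7.mk 10 0 10 6 7 9 8) (V7.mk 4 8 4 4 5 8 8) (V7.mk 8 3 0 9 3 7 3) (V7.mk 0 3 9 8 3 3 7) (V7.mk 6 9 10 10 7 8 0) (V7.mk 2 4 3 0 8 8 8) (V7.mk 1 3 5 1 4 0 2)),
  (M7.mk (V7.mk 3 8 0 2 8 4 8) (V7.mk 0 3 9 8 3 3 7) (V7.mk 6 9 10 10 7 8 0) (V7.mk 9 7 8 0 3 3 3) (V7.mk 1 3 5 1 4 0 2) (V7.mk 1 0 1 5 4 2 3) (V7.mk 7 3 7 7 6 3 3)),
  (M7.mk (V7.mk 3 4 5 4 7 6 2) (V7.mk 0 4 7 0 3 1 5) (V7.mk 0 7 7 8 1 4 3) (V7.mk 6 5 5 1 7 2 2) (V7.mk 7 2 9 5 8 2 7) (V7.mk 6 6 8 0 0 6 7) (V7.mk 5 8 4 7 7 6 9)),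
  (M7.mk (V7.mk 6 9 10 10 7 8 0) (V7.mk 9 7 8 0 3 3 3) (V7.mk 10 8 6 10 7 0 9) (V7.mk 1 0 1 5 4 2 3) (V7.mk 4 8 4 4 5 8 8) (V7.mk 8 3 0 9 3 7 3) (V7.mk 0 8 2 3 8 8 4)),
  (M7.mk (V7.mk 6 6 4 10 9 9 5) (V7.mk 5 2 1 1 10 9 3) (V7.mk 2 2 9 1 3 3 6) (V7.mk 6 2 2 9 8 1 3) (V7.mk 4 10 6 3 5 3 2) (V7.mk 10 2 5 5 9 6 4) (V7.mk 9 6 6 9 2 9 1)),
  (M7.mk (V7.mk 9 9 2 10 8 8 5) (V7.mk 6 2 2 9 8 1 3) (V7.mk 4 10 6 3 5 3 2) (V7.mk 1 9 6 6 2 5 7) (V7.mk 9 6 6 9 2 9 1) (V7.mk 5 5 7 1 2 2 6) (V7.mk 6 9 10 10 1 2 8)),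
  (M7.mk (V7.mk 7 8 9 3 8 9 7) (V7.mk 3 10 3 0 10 8 4) (V7.mk 9 8 9 6 9 1 8) (V7.mk 3 0 6 7 3 9 9) (V7.mk 8 1 9 3 5 6 7) (V7.mk 2 8 10 2 5 10 10) (V7.mk 4 4 3 2 4 10 7)),
  (M7.mk (V7.mk 10 8 6 10 7 0 9) (V7.mk 10 0 10 6 7 9 8) (V7.mk 4 8 4 4 5 8 8) (V7.mk 3 8 0 2 8 4 8) (V7.mk 0 3 9 8 3 3 7) (V7.mk 5 2 1 1 4 3 0) (V7.mk 9 7 8 0 3 3 3)),
  (M7.mk (V7.mk 10 9 6 4 9 5 6) (V7.mk 10 8 9 2 8 5 9) (V7.mk 3 3 4 6 5 2 10) (V7.mk 2 2 2 5 9 10 5) (V7.mk 10 2 6 10 1 8 9) (V7.mk 2 10 5 9 3 8 9) (V7.mk 5 6 10 5 9 4 2)),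
  (M7.mk (V7.mk 8 8 7 5 6 9 1) (V7.mk 2 2 2 5 9 10 5) (V7.mk 10 2 6 10 1 8 9) (V7.mk 9 1 6 2 8 3 2) (V7.mk 5 6 10 5 9 4 2) (V7.mk 1 2 5 7 2 6 5) (V7.mk 1 3 2 9 3 6 2)),
  (M7.mk (V7.mk 10 10 1 2 9 6 3) (V7.mk 10 2 8 5 9 9 8) (V7.mk 1 8 7 9 4 4 4) (V7.mk 2 5 9 4 3 3 0) (V7.mk 9 9 4 3 4 3 3) (V7.mk 6 9 4 3 3 6 10) (V7.mk 3 8 4 0 3 10 10)),
  (M7.mk (V7.mk 10 2 6 10 1 8 9) (V7.mk 9 1 6 2 8 3 2) (V7.mk 6 5 1 6 2 7 9) (V7.mk 1 2 5 7 2 6 5) (V7.mk 10 8 9 2 8 5 9) (V7.mk 3 3 4 6 5 2 10) (V7.mk 9 9 9 6 2 1 6)),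
  (M7.mk (V7.mk 0 3 8 8 1 7 1) (V7.mk 4 2 8 5 8 2 0) (V7.mk 9 1 9 1 6 1 3) (V7.mk 3 9 7 9 8 7 8) (V7.mk 6 1 9 9 9 8 8) (V7.mk 8 5 3 2 6 4 10) (V7.mk 2 10 4 3 4 7 4)),
  (M7.mk (V7.mk 2 10 2 10 5 10 8) (V7.mk 3 9 7 9 8 7 8) (V7.mk 6 1 9 9 9 8 8) (V7.mk 3 6 8 9 5 7 1) (V7.mk 2 10 4 3 4 7 4) (V7.mk 0 8 3 3 10 4 10) (V7.mk 7 9 3 6 3 9 0)),
  (M7.mk (V7.mk 7 3 7 7 6 3 3) (V7.mk 3 8 0 2 8 4 8) (V7.mk 0 8 2 3 8 8 4) (V7.mk 6 9 10 10 7 8 0) (V7.mk 2 4 3 0 8 8 8) (V7.mk 10 8 6 10 7 0 9) (V7.mk 10 0 10 6 7 9 8)),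
  (M7.mk (V7.mk 8 1 8 8 2 1 1) (V7.mk 10 3 8 2 10 1 3) (V7.mk 3 8 9 1 1 8 10) (V7.mk 8 9 10 10 8 1 3) (V7.mk 9 10 1 3 1 8 8) (V7.mk 1 10 3 1 3 8 2) (V7.mk 1 8 1 3 3 2 10)),
  (M7.mk (V7.mk 8 3 2 10 10 3 1) (V7.mk 8 9 10 10 8 1 3) (V7.mk 9 10 1 3 1 8 8) (V7.mk 10 1 8 10 8 3 9) (V7.mk 1 8 1 3 3 2 10) (V7.mk 3 10 3 3 9 10 10) (V7.mk 1 8 3 9 1 10 8)),
  (M7.mk (V7.mk 0 10 5 4 9 3 10) (V7.mk 8 4 7 6 8 3 4) (V7.mk 8 0 9 3 4 3 3) (V7.mk 8 2 8 3 8 7 0) (V7.mk 9 10 1 4 8 0 6) (V7.mk 7 8 0 8 3 8 9) (V7.mk 3 5 10 7 0 9 1)),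
  (M7.mk (V7.mk 9 10 1 3 1 8 8) (V7.mk 10 1 8 10 8 3 9) (V7.mk 10 3 10 8 8 9 1) (V7.mk 3 10 3 3 9 10 10) (V7.mk 10 3 8 2 10 1 3) (V7.mk 3 8 9 1 1 8 10) (V7.mk 3 2 1 1 3 10 8)),
  (M7.mk (V7.mk 5 8 3 4 3 7 7) (V7.mk 8 4 3 3 3 0 9) (V7.mk 3 3 4 0 8 2 3) (V7.mk 4 3 0 5 9 10 10) (V7.mk 3 3 8 9 4 3 0) (V7.mk 7 0 2 10 3 5 1) (V7.mk 7 9 3 10 0 1 5)),
  (M7.mk (V7.mk 8 8 7 0 3 9 8) (V7.mk 4 3 0 5 9 10 10) (V7.mk 3 3 8 9 4 3 0) (V7.mk 4 0 9 1 8 6 10) (V7.mk 7 9 3 10 0 1 5) (V7.mk 6 3 8 7 8 4 4) (V7.mk 3 7 8 8 8 0 2)),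
  (M7.mk (V7.mk 7 4 5 5 9 7 8) (V7.mk 3 9 2 2 7 5 7) (V7.mk 8 7 1 4 5 0 0) (V7.mk 0 5 6 3 7 0 6) (V7.mk 1 7 7 7 8 3 0) (V7.mk 7 8 5 4 2 4 6) (V7.mk 4 6 2 6 2 1 6)),
  (M7.mk (V7.mk 10 3 10 8 8 9 1) (V7.mk 8 1 8 8 2 1 1) (V7.mk 10 3 8 2 10 1 3) (V7.mk 8 3 2 10 10 3 1) (V7.mk 8 9 10 10 8 1 3) (V7.mk 2 1 10 8 10 3 3) (V7.mk 10 1 8 10 8 3 9)),
  (M7.mk (V7.mk 8 3 3 2 7 3 0) (V7.mk 7 0 2 10 3 6 10) (V7.mk 7 2 3 10 0 10 6) (V7.mk 5 3 3 4 3 4 4) (V7.mk 3 4 8 8 8 0 9) (V7.mk 8 3 7 0 3 2 3) (V7.mk 4 8 0 5 9 1 1)),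
  (M7.mk (V7.mk 3 2 7 4 2 2 6) (V7.mk 0 6 7 5 6 3 0) (V7.mk 7 5 2 5 3 4 7) (V7.mk 4 6 2 8 4 6 7) (V7.mk 3 10 6 0 7 7 0) (V7.mk 1 7 8 0 4 7 8) (V7.mk 7 9 9 6 6 5 1)),
  (M7.mk (V7.mk 4 6 9 6 8 7 4) (V7.mk 4 6 2 8 4 6 7) (V7.mk 3 10 6 0 7 7 0) (V7.mk 10 4 3 0 7 4 3) (V7.mk 7 9 9 6 6 5 1) (V7.mk 8 9 4 7 9 9 5) (V7.mk 0 5 4 6 5 8 0)),
  (M7.mk (V7.mk 6 10 1 3 2 10 9) (V7.mk 6 2 8 8 9 9 10) (V7.mk 1 6 2 4 2 6 6) (V7.mk 6 4 9 6 5 10 2) (V7.mk 2 9 3 5 9 1 8) (V7.mk 4 6 5 9 1 3 8) (V7.mk 2 5 9 1 6 2 9)),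
  (M7.mk (V7.mk 7 0 9 10 8 6 10) (V7.mk 7 9 8 10 0 10 6) (V7.mk 6 3 3 7 3 7 7) (V7.mk 8 4 8 3 8 0 2) (V7.mk 8 8 4 0 8 2 3) (V7.mk 7 8 0 6 9 10 10) (V7.mk 8 8 8 2 4 3 0)),
  (M7.mk (V7.mk 1 8 10 3 8 9 1) (V7.mk 3 10 8 3 2 1 1) (V7.mk 1 8 8 9 10 1 3) (V7.mk 8 3 9 10 1 8 10) (V7.mk 8 9 1 10 3 10 8) (V7.mk 9 10 10 3 10 3 3) (V7.mk 10 1 3 10 3 8 2)),
  (M7.mk (V7.mk 10 3 3 2 1 10 8) (V7.mk 8 3 9 10 1 8 10) (V7.mk 8 9 1 10 3 10 8) (V7.mk 2 1 1 8 1 8 8) (V7.mk 10 1 3 10 3 8 2) (V7.mk 10 3 1 8 3 2 10) (V7.mk 8 1 3 8 9 10 10)),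
  (M7.mk (V7.mk 3 0 6 2 10 10 7) (V7.mk 3 3 2 7 3 0 8) (V7.mk 0 2 10 3 6 10 7) (V7.mk 9 8 1 0 1 5 4) (V7.mk 3 3 4 3 4 4 5) (V7.mk 7 3 3 3 0 2 8) (V7.mk 8 4 0 8 9 8 3)),
  (M7.mk (V7.mk 5 2 6 2 10 5 4) (V7.mk 7 5 5 9 4 3 7) (V7.mk 2 2 2 7 6 4 3) (V7.mk 7 10 7 6 0 0 3) (V7.mk 5 5 8 4 0 6 0) (V7.mk 4 7 7 8 8 0 1) (V7.mk 8 6 7 9 4 6 4)),
  (M7.mk (V7.mk 9 9 9 4 5 7 8) (V7.mk 7 10 7 6 0 0 3) (V7.mk 5 5 8 4 0 6 0) (V7.mk 7 4 4 3 3 0 10) (V7.mk 8 6 7 9 4 6 4) (V7.mk 6 9 5 9 1 6 7) (V7.mk 4 6 6 2 7 8 4)),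
  (M7.mk (V7.mk 2 6 6 2 6 4 1) (V7.mk 6 5 2 9 9 1 2) (V7.mk 5 4 10 9 2 6 6) (V7.mk 2 10 10 1 9 3 6) (V7.mk 9 9 1 3 8 5 2) (V7.mk 9 2 9 8 10 8 6) (V7.mk 1 6 3 5 8 9 4)),
  (M7.mk (V7.mk 0 2 10 3 6 10 7) (V7.mk 2 3 10 0 10 6 7) (V7.mk 3 3 4 3 4 4 5) (V7.mk 4 8 8 8 0 9 3) (V7.mk 3 7 0 3 2 3 8) (V7.mk 8 0 5 9 1 1 4) (V7.mk 3 3 2 7 3 0 8)),
  (M7.mk (V7.mk 2 2 5 5 6 10 4) (V7.mk 9 4 7 9 9 5 8) (V7.mk 5 4 6 5 8 0 0) (V7.mk 5 2 5 3 4 7 7) (V7.mk 6 2 8 4 6 7 4) (V7.mk 1 5 0 4 4 0 8) (V7.mk 7 8 0 4 7 8 1)),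
  (M7.mk (V7.mk 6 7 5 6 3 0 0) (V7.mk 5 2 5 3 4 7 7) (V7.mk 6 2 8 4 6 7 4) (V7.mk 10 6 0 7 7 0 3) (V7.mk 7 8 0 4 7 8 1) (V7.mk 9 9 6 6 5 1 7) (V7.mk 2 7 4 2 2 6 3)),
  (M7.mk (V7.mk 8 2 0 0 2 1 4) (V7.mk 6 3 0 10 9 10 7) (V7.mk 4 9 2 2 0 10 7) (V7.mk 9 8 1 1 10 3 8) (V7.mk 3 10 4 4 7 8 0) (V7.mk 1 5 3 6 7 2 8) (V7.mk 5 2 9 3 2 3 1)),
  (M7.mk (V7.mk 6 2 8 4 6 7 4) (V7.mk 10 6 0 7 7 0 3) (V7.mk 4 3 0 7 4 3 10) (V7.mk 9 9 6 6 5 1 7) (V7.mk 9 4 7 9 9 5 8) (V7.mk 5 4 6 5 8 0 0) (V7.mk 6 9 6 8 7 4 4)),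
  (M7.mk (V7.mk 6 2 10 5 9 2 9) (V7.mk 1 10 8 9 1 2 5) (V7.mk 9 3 3 2 2 1 5) (V7.mk 6 2 4 2 6 6 1) (V7.mk 4 9 6 5 10 2 6) (V7.mk 2 8 6 2 10 3 9) (V7.mk 6 5 9 1 3 8 4)),
  (M7.mk (V7.mk 2 8 8 9 9 10 6) (V7.mk 6 2 4 2 6 6 1) (V7.mk 4 9 6 5 10 2 6) (V7.mk 9 3 5 9 1 8 2) (V7.mk 6 5 9 1 3 8 4) (V7.mk 5 9 1 6 2 9 2) (V7.mk 10 1 3 2 10 9 6)),
  (M7.mk (V7.mk 4 5 3 3 4 3 4) (V7.mk 9 3 4 8 8 8 0) (V7.mk 8 3 8 4 0 8 9) (V7.mk 1 4 8 0 5 9 1) (V7.mk 0 3 8 8 9 4 8) (V7.mk 1 4 0 9 1 8 5) (V7.mk 5 4 9 8 1 0 1))]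

def tabC3 : List M7 := [
  (M7.mk (V7.mk 8 8 7 8 7 7 6) (V7.mk 4 8 8 8 0 9 3) (V7.mk 8 4 0 8 9 8 3) (V7.mk 3 0 6 2 10 10 7) (V7.mk 8 8 9 4 8 0 3) (V7.mk 0 2 10 3 6 10 7) (V7.mk 2 3 10 0 10 6 7)),
  (M7.mk (V7.mk 3 3 7 3 7 7 6) (V7.mk 4 8 3 8 0 2 8) (V7.mk 3 7 0 3 9 8 3) (V7.mk 8 0 6 9 10 10 7) (V7.mk 3 3 9 7 8 0 3) (V7.mk 0 2 1 3 5 1 4) (V7.mk 2 3 1 0 1 5 4)),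
  (M7.mk (V7.mk 8 4 0 8 2 3 8) (V7.mk 8 0 6 9 10 10 7) (V7.mk 3 3 9 7 8 0 3) (V7.mk 0 9 10 8 6 10 7) (V7.mk 2 3 1 0 1 5 4) (V7.mk 8 8 4 8 4 4 5) (V7.mk 7 3 8 3 0 9 3)),
  (M7.mk (V7.mk 2 8 6 9 10 10 1) (V7.mk 8 5 9 9 2 10 8) (V7.mk 1 3 6 2 2 9 8) (V7.mk 3 2 4 10 6 3 5) (V7.mk 5 7 1 9 6 6 2) (V7.mk 9 1 9 6 6 9 2) (V7.mk 2 6 5 5 7 1 2)),
  (M7.mk (V7.mk 3 3 9 7 8 0 3) (V7.mk 0 9 10 8 6 10 7) (V7.mk 9 8 10 0 10 6 7) (V7.mk 8 8 4 8 4 4 5) (V7.mk 4 8 3 8 0 2 8) (V7.mk 3 7 0 3 9 8 3) (V7.mk 3 0 5 2 1 1 4)),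
  (M7.mk (V7.mk 6 2 1 3 2 9 3) (V7.mk 9 1 8 8 7 5 6) (V7.mk 10 5 2 2 2 5 9) (V7.mk 8 9 10 2 6 10 1) (V7.mk 3 2 9 1 6 2 8) (V7.mk 4 2 5 6 10 5 9) (V7.mk 6 5 1 2 5 7 2)),
  (M7.mk (V7.mk 1 6 9 9 9 6 2) (V7.mk 8 9 10 2 6 10 1) (V7.mk 3 2 9 1 6 2 8) (V7.mk 7 9 6 5 1 6 2) (V7.mk 6 5 1 2 5 7 2) (V7.mk 5 9 10 8 9 2 8) (V7.mk 2 10 3 3 4 6 5)),
  (M7.mk (V7.mk 9 0 7 9 3 6 3) (V7.mk 10 8 2 10 2 10 5) (V7.mk 7 8 3 9 7 9 8) (V7.mk 8 8 6 1 9 9 9) (V7.mk 7 1 3 6 8 9 5) (V7.mk 7 4 2 10 4 3 4) (V7.mk 4 10 0 8 3 3 10)),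
  (M7.mk (V7.mk 9 8 10 0 10 6 7) (V7.mk 3 3 7 3 7 7 6) (V7.mk 4 8 3 8 0 2 8) (V7.mk 8 4 0 8 2 3 8) (V7.mk 8 0 6 9 10 10 7) (V7.mk 8 8 2 4 3 0 8) (V7.mk 0 9 10 8 6 10 7)),
  (M7.mk (V7.mk 10 8 1 8 3 9 1) (V7.mk 3 1 8 3 2 10 10) (V7.mk 1 3 8 9 10 10 8) (V7.mk 8 8 9 10 1 3 1) (V7.mk 3 9 10 1 8 10 8) (V7.mk 2 10 1 8 1 3 3) (V7.mk 10 10 3 10 3 3 9)),
  (M7.mk (V7.mk 10 8 3 2 1 1 3) (V7.mk 8 8 9 10 1 3 1) (V7.mk 3 9 10 1 8 10 8) (V7.mk 9 1 10 3 10 8 8) (V7.mk 10 10 3 10 3 3 9) (V7.mk 1 3 10 3 8 2 10) (V7.mk 8 10 3 8 9 1 1)),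
  (M7.mk (V7.mk 0 2 3 7 8 8 8) (V7.mk 9 8 8 8 7 0 3) (V7.mk 10 10 4 3 0 5 9) (V7.mk 3 0 3 3 8 9 4) (V7.mk 6 10 4 0 9 1 8) (V7.mk 1 5 7 9 3 10 0) (V7.mk 4 4 6 3 8 7 8)),
  (M7.mk (V7.mk 3 9 10 1 8 10 8) (V7.mk 9 1 10 3 10 8 8) (V7.mk 1 1 8 1 8 8 2) (V7.mk 1 3 10 3 8 2 10) (V7.mk 3 1 8 3 2 10 10) (V7.mk 1 3 8 9 10 10 8) (V7.mk 3 3 2 1 10 8 10)),
  (M7.mk (V7.mk 5 9 2 9 6 2 10) (V7.mk 2 10 9 6 10 1 3) (V7.mk 2 2 1 5 9 3 3) (V7.mk 9 5 5 10 5 9 7) (V7.mk 6 1 9 5 7 2 5) (V7.mk 9 1 8 2 9 3 5) (V7.mk 1 3 8 4 6 5 9)),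
  (M7.mk (V7.mk 9 9 10 6 2 8 8) (V7.mk 9 5 5 10 5 9 7) (V7.mk 6 1 9 5 7 2 5) (V7.mk 2 10 3 9 2 8 6) (V7.mk 1 3 8 4 6 5 9) (V7.mk 6 2 9 2 5 9 1) (V7.mk 9 1 2 5 1 10 8)),
  (M7.mk (V7.mk 6 3 0 0 6 7 5) (V7.mk 8 7 4 4 6 9 6) (V7.mk 7 5 4 7 5 9 3) (V7.mk 4 4 0 8 1 5 0) (V7.mk 4 7 8 1 7 8 0) (V7.mk 6 5 1 7 9 9 6) (V7.mk 9 9 5 8 9 4 7)),
  (M7.mk (V7.mk 5 4 2 7 5 7 3) (V7.mk 9 5 9 1 6 7 6) (V7.mk 6 6 2 7 8 4 4) (V7.mk 2 2 7 6 4 3 2) (V7.mk 10 7 6 0 0 3 7) (V7.mk 6 3 7 0 5 0 6) (V7.mk 7 7 8 8 0 1 4)),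
  (M7.mk (V7.mk 5 5 9 4 3 7 7) (V7.mk 2 2 7 6 4 3 2) (V7.mk 10 7 6 0 0 3 7) (V7.mk 5 8 4 0 6 0 5) (V7.mk 7 7 8 8 0 1 4) (V7.mk 6 7 9 4 6 4 8) (V7.mk 2 6 2 10 5 4 5)),
  (M7.mk (V7.mk 7 8 7 7 6 5 2) (V7.mk 0 0 8 4 10 4 6) (V7.mk 8 0 10 7 7 4 8) (V7.mk 10 5 7 6 2 5 2) (V7.mk 5 7 3 2 9 2 4) (V7.mk 0 5 0 5 6 8 7) (V7.mk 4 6 7 3 6 4 9)),
  (M7.mk (V7.mk 10 7 6 0 0 3 7) (V7.mk 5 8 4 0 6 0 5) (V7.mk 4 4 3 3 0 10 7) (V7.mk 6 7 9 4 6 4 8) (V7.mk 9 5 9 1 6 7 6) (V7.mk 6 6 2 7 8 4 4) (V7.mk 9 9 4 5 7 8 9)),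
  (M7.mk (V7.mk 5 8 6 3 2 7 10) (V7.mk 5 5 9 5 7 10 9) (V7.mk 6 9 2 2 10 9 5) (V7.mk 4 10 9 2 6 6 5) (V7.mk 10 10 1 9 3 6 2) (V7.mk 2 10 8 3 6 9 2) (V7.mk 2 9 8 10 8 6 9)),
  (M7.mk (V7.mk 5 2 9 9 1 2 6) (V7.mk 4 10 9 2 6 6 5) (V7.mk 10 10 1 9 3 6 2) (V7.mk 9 1 3 8 5 2 9) (V7.mk 2 9 8 10 8 6 9) (V7.mk 6 3 5 8 9 4 1) (V7.mk 6 6 2 6 4 1 2)),
  (M7.mk (V7.mk 3 10 0 10 6 7 2) (V7.mk 3 4 3 4 4 5 3) (V7.mk 8 8 8 0 9 3 4) (V7.mk 7 0 3 2 3 8 3) (V7.mk 0 5 9 1 1 4 8) (V7.mk 3 2 7 3 0 8 3) (V7.mk 2 10 3 6 10 7 0)),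
  (M7.mk (V7.mk 3 0 7 4 3 10 4) (V7.mk 9 6 6 5 1 7 9) (V7.mk 7 4 2 2 6 3 2) (V7.mk 4 6 5 8 0 0 5) (V7.mk 2 5 3 4 7 7 5) (V7.mk 9 3 7 5 4 7 5) (V7.mk 5 0 4 4 0 8 1)),
  (M7.mk (V7.mk 4 7 9 9 5 8 9) (V7.mk 4 6 5 8 0 0 5) (V7.mk 2 5 3 4 7 7 5) (V7.mk 2 8 4 6 7 4 6) (V7.mk 5 0 4 4 0 8 1) (V7.mk 8 0 4 7 8 1 7) (V7.mk 2 5 5 6 10 4 2)),
  (M7.mk (V7.mk 5 8 0 0 5 7 6) (V7.mk 7 4 8 1 4 8 0) (V7.mk 8 7 7 7 6 2 6) (V7.mk 5 6 1 7 2 9 5) (V7.mk 7 5 7 4 5 2 3) (V7.mk 9 9 6 3 9 7 7) (V7.mk 4 4 0 3 1 6 0)),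
  (M7.mk (V7.mk 9 2 8 9 8 10 6) (V7.mk 9 0 0 9 10 7 3) (V7.mk 8 0 1 2 1 4 5) (V7.mk 9 2 2 0 10 7 4) (V7.mk 8 1 1 10 3 8 9) (V7.mk 1 7 7 4 3 0 8) (V7.mk 5 3 6 7 2 8 1)),
  (M7.mk (V7.mk 3 0 10 9 10 7 6) (V7.mk 9 2 2 0 10 7 4) (V7.mk 8 1 1 10 3 8 9) (V7.mk 10 4 4 7 8 0 3) (V7.mk 5 3 6 7 2 8 1) (V7.mk 2 9 3 2 3 1 5) (V7.mk 2 0 0 2 1 4 8)),
  (M7.mk (V7.mk 8 10 1 1 2 9 5) (V7.mk 8 1 2 3 6 2 9) (V7.mk 7 1 3 7 9 4 7) (V7.mk 0 2 6 9 4 3 8) (V7.mk 8 9 2 4 3 4 8) (V7.mk 10 5 9 7 8 8 6) (V7.mk 10 8 8 7 0 8 10)),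
  (M7.mk (V7.mk 6 0 7 7 0 3 10) (V7.mk 3 0 7 4 3 10 4) (V7.mk 9 6 6 5 1 7 9) (V7.mk 4 7 9 9 5 8 9) (V7.mk 4 6 5 8 0 0 5) (V7.mk 9 6 8 7 4 4 6) (V7.mk 2 8 4 6 7 4 6)),
  (M7.mk (V7.mk 6 2 10 8 3 7 5) (V7.mk 9 1 6 2 9 2 5) (V7.mk 1 3 2 10 9 6 10) (V7.mk 3 3 2 2 1 5 9) (V7.mk 2 4 2 6 6 1 6) (V7.mk 2 5 6 1 9 5 7) (V7.mk 8 6 2 10 3 9 2)),
  (M7.mk (V7.mk 10 8 9 1 2 5 1) (V7.mk 3 3 2 2 1 5 9) (V7.mk 2 4 2 6 6 1 6) (V7.mk 9 6 5 10 2 6 4) (V7.mk 8 6 2 10 3 9 2) (V7.mk 5 9 1 3 8 4 6) (V7.mk 2 10 5 9 2 9 6)),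
  (M7.mk (V7.mk 3 5 1 6 2 4 3) (V7.mk 8 10 10 8 8 7 0) (V7.mk 2 6 3 1 10 10 9) (V7.mk 9 2 3 10 9 8 5) (V7.mk 7 4 4 10 8 4 2) (V7.mk 3 8 0 2 6 9 4) (V7.mk 4 8 8 9 2 4 3)),
  (M7.mk (V7.mk 2 4 2 6 6 1 6) (V7.mk 9 6 5 10 2 6 4) (V7.mk 3 5 9 1 8 2 9) (V7.mk 5 9 1 3 8 4 6) (V7.mk 9 1 6 2 9 2 5) (V7.mk 1 3 2 10 9 6 10) (V7.mk 8 8 9 9 10 6 2)),
  (M7.mk (V7.mk 7 2 3 10 0 10 6) (V7.mk 6 8 8 7 8 7 7) (V7.mk 8 7 3 3 3 0 2) (V7.mk 3 8 4 0 8 9 8) (V7.mk 4 8 0 5 9 1 1) (V7.mk 8 3 3 2 7 3 0) (V7.mk 4 0 9 1 8 5 1)),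
  (M7.mk (V7.mk 0 6 9 10 10 7 8) (V7.mk 3 9 7 8 0 3 3) (V7.mk 9 10 8 6 10 7 0) (V7.mk 3 1 0 1 5 4 2) (V7.mk 8 4 8 4 4 5 8) (V7.mk 3 8 3 0 9 3 7) (V7.mk 4 0 8 2 3 8 8)),
  (M7.mk (V7.mk 5 6 6 4 10 9 9) (V7.mk 3 5 2 1 1 10 9) (V7.mk 6 2 2 9 1 3 3) (V7.mk 3 6 2 2 9 8 1) (V7.mk 2 4 10 6 3 5 3) (V7.mk 4 10 2 5 5 9 6) (V7.mk 1 9 6 6 9 2 9)),
  (M7.mk (V7.mk 5 9 9 2 10 8 8) (V7.mk 3 6 2 2 9 8 1) (V7.mk 2 4 10 6 3 5 3) (V7.mk 7 1 9 6 6 2 5) (V7.mk 1 9 6 6 9 2 9) (V7.mk 6 5 5 7 1 2 2) (V7.mk 8 6 9 10 10 1 2)),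
  (M7.mk (V7.mk 7 7 8 9 3 8 9) (V7.mk 4 3 10 3 0 10 8) (V7.mk 8 9 8 9 6 9 1) (V7.mk 9 3 0 6 7 3 9) (V7.mk 7 8 1 9 3 5 6) (V7.mk 10 2 8 10 2 5 10) (V7.mk 7 4 4 3 2 4 10)),
  (M7.mk (V7.mk 6 10 9 6 4 9 5) (V7.mk 9 10 8 9 2 8 5) (V7.mk 10 3 3 4 6 5 2) (V7.mk 5 2 2 2 5 9 10) (V7.mk 9 10 2 6 10 1 8) (V7.mk 9 2 10 5 9 3 8) (V7.mk 2 5 6 10 5 9 4)),
  (M7.mk (V7.mk 1 8 8 7 5 6 9) (V7.mk 5 2 2 2 5 9 10) (V7.mk 9 10 2 6 10 1 8) (V7.mk 2 9 1 6 2 8 3) (V7.mk 2 5 6 10 5 9 4) (V7.mk 5 1 2 5 7 2 6) (V7.mk 2 1 3 2 9 3 6)),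
  (M7.mk (V7.mk 3 10 10 1 2 9 6) (V7.mk 8 10 2 8 5 9 9) (V7.mk 4 1 8 7 9 4 4) (V7.mk 0 2 5 9 4 3 3) (V7.mk 3 9 9 4 3 4 3) (V7.mk 10 6 9 4 3 3 6) (V7.mk 10 3 8 4 0 3 10)),
  (M7.mk (V7.mk 9 10 2 6 10 1 8) (V7.mk 2 9 1 6 2 8 3) (V7.mk 9 6 5 1 6 2 7) (V7.mk 5 1 2 5 7 2 6) (V7.mk 9 10 8 9 2 8 5) (V7.mk 10 3 3 4 6 5 2) (V7.mk 6 9 9 9 6 2 1)),
  (M7.mk (V7.mk 1 0 3 8 8 1 7) (V7.mk 0 4 2 8 5 8 2) (V7.mk 3 9 1 9 1 6 1) (V7.mk 8 3 9 7 9 8 7) (V7.mk 8 6 1 9 9 9 8) (V7.mk 10 8 5 3 2 6 4) (V7.mk 4 2 10 4 3 4 7)),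
  (M7.mk (V7.mk 8 2 10 2 10 5 10) (V7.mk 8 3 9 7 9 8 7) (V7.mk 8 6 1 9 9 9 8) (V7.mk 1 3 6 8 9 5 7) (V7.mk 4 2 10 4 3 4 7) (V7.mk 10 0 8 3 3 10 4) (V7.mk 0 7 9 3 6 3 9)),
  (M7.mk (V7.mk 7 7 8 8 0 1 4) (V7.mk 6 7 9 4 6 4 8) (V7.mk 9 5 9 1 6 7 6) (V7.mk 5 5 9 4 3 7 7) (V7.mk 9 9 4 5 7 8 9) (V7.mk 1 4 5 0 0 8 4) (V7.mk 6 3 7 0 5 0 6)),
  (M7.mk (V7.mk 3 7 3 7 7 6 3) (V7.mk 8 3 8 0 2 8 4) (V7.mk 4 0 8 2 3 8 8) (V7.mk 0 6 9 10 10 7 8) (V7.mk 8 2 4 3 0 8 8) (V7.mk 9 10 8 6 10 7 0) (V7.mk 8 10 0 10 6 7 9)),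
  (M7.mk (V7.mk 1 8 1 8 8 2 1) (V7.mk 3 10 3 8 2 10 1) (V7.mk 10 3 8 9 1 1 8) (V7.mk 3 8 9 10 10 8 1) (V7.mk 8 9 10 1 3 1 8) (V7.mk 2 1 10 3 1 3 8) (V7.mk 10 1 8 1 3 3 2)),
  (M7.mk (V7.mk 1 8 3 2 10 10 3) (V7.mk 3 8 9 10 10 8 1) (V7.mk 8 9 10 1 3 1 8) (V7.mk 9 10 1 8 10 8 3) (V7.mk 10 1 8 1 3 3 2) (V7.mk 10 3 10 3 3 9 10) (V7.mk 8 1 8 3 9 1 10)),
  (M7.mk (V7.mk 10 0 10 5 4 9 3) (V7.mk 4 8 4 7 6 8 3) (V7.mk 3 8 0 9 3 4 3) (V7.mk 0 8 2 8 3 8 7) (V7.mk 6 9 10 1 4 8 0) (V7.mk 9 7 8 0 8 3 8) (V7.mk 1 3 5 10 7 0 9)),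
  (M7.mk (V7.mk 1 10 3 10 8 8 9) (V7.mk 1 8 1 8 8 2 1) (V7.mk 3 10 3 8 2 10 1) (V7.mk 1 8 3 2 10 10 3) (V7.mk 3 8 9 10 10 8 1) (V7.mk 3 2 1 10 8 10 3) (V7.mk 9 10 1 8 10 8 3)),
  (M7.mk (V7.mk 4 3 3 0 10 7 4) (V7.mk 7 9 4 6 4 8 6) (V7.mk 6 2 10 5 4 5 2) (V7.mk 6 2 7 8 4 4 6) (V7.mk 2 7 6 4 3 2 2) (V7.mk 4 5 0 0 8 4 1) (V7.mk 3 7 0 5 0 6 6)),
  (M7.mk (V7.mk 5 9 1 6 7 6 9) (V7.mk 6 2 7 8 4 4 6) (V7.mk 2 7 6 4 3 2 2) (V7.mk 7 6 0 0 3 7 10) (V7.mk 3 7 0 5 0 6 6) (V7.mk 7 8 8 0 1 4 7) (V7.mk 4 2 7 5 7 3 5)),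
  (M7.mk (V7.mk 0 9 10 2 7 2 4) (V7.mk 2 2 3 9 1 3 5) (V7.mk 10 8 3 1 8 1 9) (V7.mk 2 2 1 0 4 0 8) (V7.mk 7 10 8 4 0 4 3) (V7.mk 9 3 10 0 7 10 6) (V7.mk 7 5 2 3 8 6 1)),
  (M7.mk (V7.mk 2 7 6 4 3 2 2) (V7.mk 7 6 0 0 3 7 10) (V7.mk 8 4 0 6 0 5 5) (V7.mk 7 8 8 0 1 4 7) (V7.mk 7 9 4 6 4 8 6) (V7.mk 6 2 10 5 4 5 2) (V7.mk 5 9 4 3 7 7 5)),
  (M7.mk (V7.mk 5 4 8 5 7 2 7) (V7.mk 3 4 4 5 6 9 4) (V7.mk 0 3 7 1 7 5 0) (V7.mk 0 10 7 7 4 8 8) (V7.mk 5 7 6 2 5 2 10) (V7.mk 4 8 9 2 9 7 6) (V7.mk 5 0 5 6 8 7 0)),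
  (M7.mk (V7.mk 0 8 4 10 4 6 0) (V7.mk 0 10 7 7 4 8 8) (V7.mk 5 7 6 2 5 2 10) (V7.mk 7 3 2 9 2 4 5) (V7.mk 5 0 5 6 8 7 0) (V7.mk 6 7 3 6 4 9 4) (V7.mk 8 7 7 6 5 2 7)),
  (M7.mk (V7.mk 4 3 9 8 2 5 0) (V7.mk 6 5 8 1 7 2 8) (V7.mk 7 8 2 5 7 6 7) (V7.mk 4 10 1 7 3 3 2) (V7.mk 8 7 9 6 1 5 8) (V7.mk 6 5 0 9 8 1 6) (V7.mk 2 9 1 3 10 0 2)),
  (M7.mk (V7.mk 5 9 5 7 10 9 5) (V7.mk 9 2 2 10 9 5 6) (V7.mk 10 9 2 6 6 5 4) (V7.mk 10 1 9 3 6 2 10) (V7.mk 10 8 3 6 9 2 2) (V7.mk 9 8 10 8 6 9 2) (V7.mk 8 6 3 2 7 10 5)),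
  (M7.mk (V7.mk 10 9 3 8 5 9 2) (V7.mk 7 9 0 10 8 0 2) (V7.mk 7 3 1 10 5 0 2) (V7.mk 7 9 9 10 7 9 0) (V7.mk 3 3 1 8 9 1 10) (V7.mk 0 10 7 8 8 7 4) (V7.mk 3 6 6 9 1 3 7)),
  (M7.mk (V7.mk 10 9 2 6 6 5 4) (V7.mk 10 1 9 3 6 2 10) (V7.mk 1 3 8 5 2 9 9) (V7.mk 9 8 10 8 6 9 2) (V7.mk 3 5 8 9 4 1 6) (V7.mk 6 2 6 4 1 2 6) (V7.mk 2 9 9 1 2 6 5)),
  (M7.mk (V7.mk 5 9 1 8 2 9 3) (V7.mk 9 1 3 8 4 6 5) (V7.mk 10 5 9 2 9 6 2) (V7.mk 3 2 10 9 6 10 1) (V7.mk 3 2 2 1 5 9 3) (V7.mk 7 9 5 5 10 5 9) (V7.mk 5 6 1 9 5 7 2)),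
  (M7.mk (V7.mk 1 6 2 9 2 5 9) (V7.mk 3 2 10 9 6 10 1) (V7.mk 3 2 2 1 5 9 3) (V7.mk 4 2 6 6 1 6 2) (V7.mk 5 6 1 9 5 7 2) (V7.mk 6 2 10 3 9 2 8) (V7.mk 2 10 8 3 7 5 6)),
  (M7.mk (V7.mk 10 4 7 7 3 0 8) (V7.mk 2 9 8 2 8 10 6) (V7.mk 3 0 1 9 1 4 5) (V7.mk 8 1 10 10 8 3 2) (V7.mk 5 3 5 7 9 3 10) (V7.mk 2 0 0 2 10 7 3) (V7.mk 9 2 9 0 1 4 7))]

def tabC4 : List M7 := [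
  (M7.mk (V7.mk 3 2 2 1 5 9 3) (V7.mk 4 2 6 6 1 6 2) (V7.mk 6 5 10 2 6 4 9) (V7.mk 6 2 10 3 9 2 8) (V7.mk 9 1 3 8 4 6 5) (V7.mk 10 5 9 2 9 6 2) (V7.mk 8 9 1 2 5 1 10)),
  (M7.mk (V7.mk 3 3 2 9 7 8 7) (V7.mk 6 10 5 9 7 8 8) (V7.mk 1 1 3 3 4 0 3) (V7.mk 6 3 1 10 10 9 2) (V7.mk 2 3 10 9 8 5 9) (V7.mk 7 7 1 3 7 9 4) (V7.mk 8 0 2 6 9 4 3)),
  (M7.mk (V7.mk 10 10 8 8 7 0 8) (V7.mk 6 3 1 10 10 9 2) (V7.mk 2 3 10 9 8 5 9) (V7.mk 4 4 10 8 4 2 7) (V7.mk 8 0 2 6 9 4 3) (V7.mk 8 8 9 2 4 3 4) (V7.mk 5 1 6 2 4 3 3)),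
  (M7.mk (V7.mk 8 8 5 10 6 2 4) (V7.mk 9 4 4 7 10 8 4) (V7.mk 0 3 10 1 8 8 7) (V7.mk 4 3 3 0 9 5 2) (V7.mk 9 2 5 3 10 1 1) (V7.mk 8 7 8 3 9 2 4) (V7.mk 5 9 9 3 1 2 3)),
  (M7.mk (V7.mk 6 5 10 2 6 4 9) (V7.mk 5 9 1 8 2 9 3) (V7.mk 9 1 3 8 4 6 5) (V7.mk 1 6 2 9 2 5 9) (V7.mk 3 2 10 9 6 10 1) (V7.mk 8 9 9 10 6 2 8) (V7.mk 4 2 6 6 1 6 2)),
  (M7.mk (V7.mk 0 2 10 3 6 10 7) (V7.mk 9 8 1 0 1 5 4) (V7.mk 3 3 4 3 4 4 5) (V7.mk 7 3 3 3 0 2 8) (V7.mk 8 4 0 8 9 8 3) (V7.mk 3 0 6 2 10 10 7) (V7.mk 3 3 2 7 3 0 8)),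
  (M7.mk (V7.mk 8 8 7 8 7 7 6) (V7.mk 7 3 3 3 0 2 8) (V7.mk 8 4 0 8 9 8 3) (V7.mk 8 0 5 9 1 1 4) (V7.mk 3 3 2 7 3 0 8) (V7.mk 0 9 1 8 5 1 4) (V7.mk 2 3 10 0 10 6 7)),
  (M7.mk (V7.mk 1 3 5 2 9 2 3) (V7.mk 8 9 4 1 6 3 5) (V7.mk 5 7 10 9 5 5 9) (V7.mk 2 10 9 5 6 9 2) (V7.mk 9 5 5 6 7 1 2) (V7.mk 9 3 6 2 10 10 1) (V7.mk 8 5 2 9 9 1 3)),
  (M7.mk (V7.mk 8 4 0 8 9 8 3) (V7.mk 8 0 5 9 1 1 4) (V7.mk 8 8 9 4 8 0 3) (V7.mk 0 9 1 8 5 1 4) (V7.mk 9 8 1 0 1 5 4) (V7.mk 3 3 4 3 4 4 5) (V7.mk 4 8 8 8 0 9 3)),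
  (M7.mk (V7.mk 10 8 6 10 7 0 9) (V7.mk 1 0 1 5 4 2 3) (V7.mk 7 3 7 7 6 3 3) (V7.mk 8 3 0 9 3 7 3) (V7.mk 0 3 9 8 3 3 7) (V7.mk 5 2 1 1 4 3 0) (V7.mk 2 4 3 0 8 8 8)),
  (M7.mk (V7.mk 4 8 4 4 5 8 8) (V7.mk 8 3 0 9 3 7 3) (V7.mk 0 3 9 8 3 3 7) (V7.mk 6 9 10 10 7 8 0) (V7.mk 2 4 3 0 8 8 8) (V7.mk 1 3 5 1 4 0 2) (V7.mk 10 0 10 6 7 9 8)),
  (M7.mk (V7.mk 2 3 9 6 8 2 1) (V7.mk 7 6 1 5 2 5 2) (V7.mk 6 2 3 4 5 10 3) (V7.mk 10 8 10 6 1 9 2) (V7.mk 6 7 6 1 2 9 5) (V7.mk 2 5 10 9 8 9 8) (V7.mk 6 1 9 9 2 6 9)),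
  (M7.mk (V7.mk 6 3 7 4 4 5 2) (V7.mk 8 7 6 7 4 5 9) (V7.mk 0 7 4 0 8 10 6) (V7.mk 0 7 7 8 1 4 3) (V7.mk 6 5 5 1 7 2 2) (V7.mk 4 9 2 6 3 9 4) (V7.mk 6 6 8 0 0 6 7)),
  (M7.mk (V7.mk 0 4 7 0 3 1 5) (V7.mk 0 7 7 8 1 4 3) (V7.mk 6 5 5 1 7 2 2) (V7.mk 7 2 9 5 8 2 7) (V7.mk 6 6 8 0 0 6 7) (V7.mk 5 8 4 7 7 6 9) (V7.mk 3 4 5 4 7 6 2)),
  (M7.mk (V7.mk 9 3 6 9 9 3 10) (V7.mk 8 7 9 7 7 4 10) (V7.mk 6 2 7 3 3 0 2) (V7.mk 9 4 3 7 8 3 2) (V7.mk 9 4 3 8 5 10 5) (V7.mk 8 4 0 8 1 10 8) (V7.mk 1 10 9 9 6 8 10)),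
  (M7.mk (V7.mk 9 7 8 0 3 3 3) (V7.mk 10 8 6 10 7 0 9) (V7.mk 1 0 1 5 4 2 3) (V7.mk 4 8 4 4 5 8 8) (V7.mk 8 3 0 9 3 7 3) (V7.mk 0 8 2 3 8 8 4) (V7.mk 6 9 10 10 7 8 0)),
  (M7.mk (V7.mk 2 5 5 2 9 2 10) (V7.mk 5 5 7 1 2 2 6) (V7.mk 6 9 10 10 1 2 8) (V7.mk 2 2 9 1 3 3 6) (V7.mk 6 2 2 9 8 1 3) (V7.mk 7 1 5 8 6 8 9) (V7.mk 10 2 5 5 9 6 4)),
  (M7.mk (V7.mk 5 2 1 1 10 9 3) (V7.mk 2 2 9 1 3 3 6) (V7.mk 6 2 2 9 8 1 3) (V7.mk 4 10 6 3 5 3 2) (V7.mk 10 2 5 5 9 6 4) (V7.mk 9 6 6 9 2 9 1) (V7.mk 6 6 4 10 9 9 5)),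
  (M7.mk (V7.mk 1 9 4 9 7 0 2) (V7.mk 8 10 3 10 2 1 3) (V7.mk 8 4 0 4 3 7 10) (V7.mk 2 3 8 6 1 7 5) (V7.mk 8 2 10 8 6 9 9) (V7.mk 1 0 4 0 8 2 2) (V7.mk 1 0 4 1 5 2 8)),
  (M7.mk (V7.mk 6 2 2 9 8 1 3) (V7.mk 4 10 6 3 5 3 2) (V7.mk 1 9 6 6 2 5 7) (V7.mk 9 6 6 9 2 9 1) (V7.mk 5 5 7 1 2 2 6) (V7.mk 6 9 10 10 1 2 8) (V7.mk 9 9 2 10 8 8 5)),
  (M7.mk (V7.mk 7 7 8 9 7 1 4) (V7.mk 4 3 2 8 3 2 4) (V7.mk 8 1 8 0 1 3 7) (V7.mk 9 8 9 6 9 1 8) (V7.mk 3 0 6 7 3 9 9) (V7.mk 3 10 2 8 6 5 4) (V7.mk 2 8 10 2 5 10 10)),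
  (M7.mk (V7.mk 3 10 3 0 10 8 4) (V7.mk 9 8 9 6 9 1 8) (V7.mk 3 0 6 7 3 9 9) (V7.mk 8 1 9 3 5 6 7) (V7.mk 2 8 10 2 5 10 10) (V7.mk 4 4 3 2 4 10 7) (V7.mk 7 8 9 3 8 9 7)),
  (M7.mk (V7.mk 10 0 10 6 7 9 8) (V7.mk 4 8 4 4 5 8 8) (V7.mk 3 8 0 2 8 4 8) (V7.mk 0 3 9 8 3 3 7) (V7.mk 5 2 1 1 4 3 0) (V7.mk 9 7 8 0 3 3 3) (V7.mk 10 8 6 10 7 0 9)),
  (M7.mk (V7.mk 6 5 1 6 2 7 9) (V7.mk 1 2 5 7 2 6 5) (V7.mk 1 3 2 9 3 6 2) (V7.mk 3 3 4 6 5 2 10) (V7.mk 2 2 2 5 9 10 5) (V7.mk 1 9 5 1 10 3 2) (V7.mk 2 10 5 9 3 8 9)),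
  (M7.mk (V7.mk 4 5 7 4 8 5 9) (V7.mk 8 5 3 1 4 5 9) (V7.mk 9 3 2 1 9 0 10) (V7.mk 8 10 5 7 6 2 8) (V7.mk 2 4 7 3 1 3 1) (V7.mk 6 2 5 8 6 1 0) (V7.mk 0 8 4 9 3 6 2)),
  (M7.mk (V7.mk 2 2 2 5 9 10 5) (V7.mk 10 2 6 10 1 8 9) (V7.mk 9 1 6 2 8 3 2) (V7.mk 5 6 10 5 9 4 2) (V7.mk 1 2 5 7 2 6 5) (V7.mk 1 3 2 9 3 6 2) (V7.mk 8 8 7 5 6 9 1)),
  (M7.mk (V7.mk 8 3 7 0 8 1 1) (V7.mk 1 1 10 9 2 5 8) (V7.mk 1 9 3 6 2 2 3) (V7.mk 1 8 7 9 4 4 4) (V7.mk 2 5 9 4 3 3 0) (V7.mk 2 2 7 8 7 8 8) (V7.mk 6 9 4 3 3 6 10)),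
  (M7.mk (V7.mk 10 2 8 5 9 9 8) (V7.mk 1 8 7 9 4 4 4) (V7.mk 2 5 9 4 3 3 0) (V7.mk 9 9 4 3 4 3 3) (V7.mk 6 9 4 3 3 6 10) (V7.mk 3 8 4 0 3 10 10) (V7.mk 10 10 1 2 9 6 3)),
  (M7.mk (V7.mk 0 0 2 1 4 3 9) (V7.mk 0 10 2 1 4 6 3) (V7.mk 2 9 0 10 7 7 2) (V7.mk 1 10 10 3 8 2 3) (V7.mk 4 7 7 8 0 8 1) (V7.mk 8 6 4 9 3 1 5) (V7.mk 2 3 9 8 10 5 2)),
  (M7.mk (V7.mk 9 1 6 2 8 3 2) (V7.mk 6 5 1 6 2 7 9) (V7.mk 1 2 5 7 2 6 5) (V7.mk 10 8 9 2 8 5 9) (V7.mk 3 3 4 6 5 2 10) (V7.mk 9 9 9 6 2 1 6) (V7.mk 10 2 6 10 1 8 9)),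
  (M7.mk (V7.mk 9 1 7 8 7 4 7) (V7.mk 0 8 3 3 10 4 10) (V7.mk 7 9 3 6 3 9 0) (V7.mk 9 1 9 1 6 1 3) (V7.mk 3 9 7 9 8 7 8) (V7.mk 5 10 2 2 2 3 3) (V7.mk 8 5 3 2 6 4 10)),
  (M7.mk (V7.mk 4 2 8 5 8 2 0) (V7.mk 9 1 9 1 6 1 3) (V7.mk 3 9 7 9 8 7 8) (V7.mk 6 1 9 9 9 8 8) (V7.mk 8 5 3 2 6 4 10) (V7.mk 2 10 4 3 4 7 4) (V7.mk 0 3 8 8 1 7 1)),
  (M7.mk (V7.mk 3 9 7 9 8 7 8) (V7.mk 6 1 9 9 9 8 8) (V7.mk 3 6 8 9 5 7 1) (V7.mk 2 10 4 3 4 7 4) (V7.mk 0 8 3 3 10 4 10) (V7.mk 7 9 3 6 3 9 0) (V7.mk 2 10 2 10 5 10 8)),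
  (M7.mk (V7.mk 3 8 0 2 8 4 8) (V7.mk 0 8 2 3 8 8 4) (V7.mk 6 9 10 10 7 8 0) (V7.mk 2 4 3 0 8 8 8) (V7.mk 10 8 6 10 7 0 9) (V7.mk 10 0 10 6 7 9 8) (V7.mk 7 3 7 7 6 3 3)),
  (M7.mk (V7.mk 10 3 10 8 8 9 1) (V7.mk 3 10 3 3 9 10 10) (V7.mk 1 8 3 9 1 10 8) (V7.mk 3 8 9 1 1 8 10) (V7.mk 8 9 10 10 8 1 3) (V7.mk 2 1 10 8 10 3 3) (V7.mk 1 10 3 1 3 8 2)),
  (M7.mk (V7.mk 10 3 8 2 10 1 3) (V7.mk 3 8 9 1 1 8 10) (V7.mk 8 9 10 10 8 1 3) (V7.mk 9 10 1 3 1 8 8) (V7.mk 1 10 3 1 3 8 2) (V7.mk 1 8 1 3 3 2 10) (V7.mk 8 1 8 8 2 1 1)),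
  (M7.mk (V7.mk 9 10 8 5 1 7 0) (V7.mk 3 1 0 10 6 4 9) (V7.mk 3 7 3 4 4 6 8) (V7.mk 8 3 8 0 9 8 7) (V7.mk 4 0 8 9 8 8 3) (V7.mk 0 5 2 10 10 4 8) (V7.mk 3 9 7 3 0 3 8)),
  (M7.mk (V7.mk 8 9 10 10 8 1 3) (V7.mk 9 10 1 3 1 8 8) (V7.mk 10 1 8 10 8 3 9) (V7.mk 1 8 1 3 3 2 10) (V7.mk 3 10 3 3 9 10 10) (V7.mk 1 8 3 9 1 10 8) (V7.mk 8 3 2 10 10 3 1)),
  (M7.mk (V7.mk 8 6 1 4 0 2 10) (V7.mk 0 1 6 7 2 8 1) (V7.mk 3 7 4 5 3 8 7) (V7.mk 8 0 9 3 4 3 3) (V7.mk 8 2 8 3 8 7 0) (V7.mk 2 1 10 7 3 0 5) (V7.mk 7 8 0 8 3 8 9)),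
  (M7.mk (V7.mk 8 4 7 6 8 3 4) (V7.mk 8 0 9 3 4 3 3) (V7.mk 8 2 8 3 8 7 0) (V7.mk 9 10 1 4 8 0 6) (V7.mk 7 8 0 8 3 8 9) (V7.mk 3 5 10 7 0 9 1) (V7.mk 0 10 5 4 9 3 10)),
  (M7.mk (V7.mk 1 0 4 8 5 7 0) (V7.mk 2 6 6 4 2 6 1) (V7.mk 6 6 3 0 7 5 0) (V7.mk 5 8 5 7 9 4 7) (V7.mk 7 0 7 1 8 7 3) (V7.mk 2 7 2 3 7 9 5) (V7.mk 5 6 4 7 2 8 4)),
  (M7.mk (V7.mk 10 1 8 10 8 3 9) (V7.mk 10 3 10 8 8 9 1) (V7.mk 3 10 3 3 9 10 10) (V7.mk 10 3 8 2 10 1 3) (V7.mk 3 8 9 1 1 8 10) (V7.mk 3 2 1 1 3 10 8) (V7.mk 9 10 1 3 1 8 8)),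
  (M7.mk (V7.mk 4 2 8 1 0 10 6) (V7.mk 6 3 8 7 8 4 4) (V7.mk 3 7 8 8 8 0 2) (V7.mk 3 3 4 0 8 2 3) (V7.mk 4 3 0 5 9 10 10) (V7.mk 8 8 3 2 7 8 0) (V7.mk 7 0 2 10 3 5 1)),
  (M7.mk (V7.mk 8 4 3 3 3 0 9) (V7.mk 3 3 4 0 8 2 3) (V7.mk 4 3 0 5 9 10 10) (V7.mk 3 3 8 9 4 3 0) (V7.mk 7 0 2 10 3 5 1) (V7.mk 7 9 3 10 0 1 5) (V7.mk 5 8 3 4 3 7 7)),
  (M7.mk (V7.mk 1 8 2 10 9 5 1) (V7.mk 3 8 2 2 1 6 2) (V7.mk 2 7 2 6 6 10 5) (V7.mk 9 5 5 10 2 5 7) (V7.mk 3 6 9 1 8 9 2) (V7.mk 6 9 10 8 3 4 6) (V7.mk 2 1 5 9 2 2 5)),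
  (M7.mk (V7.mk 4 3 0 5 9 10 10) (V7.mk 3 3 8 9 4 3 0) (V7.mk 4 0 9 1 8 6 10) (V7.mk 7 9 3 10 0 1 5) (V7.mk 6 3 8 7 8 4 4) (V7.mk 3 7 8 8 8 0 2) (V7.mk 8 8 7 0 3 9 8)),
  (M7.mk (V7.mk 7 5 9 5 9 10 5) (V7.mk 4 7 6 6 2 4 3) (V7.mk 8 2 9 9 4 6 4) (V7.mk 8 7 1 4 5 0 0) (V7.mk 0 5 6 3 7 0 6) (V7.mk 10 4 4 4 3 8 0) (V7.mk 7 8 5 4 2 4 6)),
  (M7.mk (V7.mk 3 9 2 2 7 5 7) (V7.mk 8 7 1 4 5 0 0) (V7.mk 0 5 6 3 7 0 6) (V7.mk 1 7 7 7 8 3 0) (V7.mk 7 8 5 4 2 4 6) (V7.mk 4 6 2 6 2 1 6) (V7.mk 7 4 5 5 9 7 8)),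
  (M7.mk (V7.mk 10 2 5 5 9 6 4) (V7.mk 9 6 6 9 2 9 1) (V7.mk 5 5 7 1 2 2 6) (V7.mk 5 2 1 1 10 9 3) (V7.mk 9 9 2 10 8 8 5) (V7.mk 5 9 9 2 3 10 8) (V7.mk 7 1 5 8 6 8 9)),
  (M7.mk (V7.mk 7 0 2 10 3 6 10) (V7.mk 7 2 3 10 0 10 6) (V7.mk 5 3 3 4 3 4 4) (V7.mk 3 4 8 8 8 0 9) (V7.mk 8 3 7 0 3 2 3) (V7.mk 4 8 0 5 9 1 1) (V7.mk 8 3 3 2 7 3 0)),
  (M7.mk (V7.mk 4 2 2 5 5 6 10) (V7.mk 8 9 4 7 9 9 5) (V7.mk 0 5 4 6 5 8 0) (V7.mk 7 5 2 5 3 4 7) (V7.mk 4 6 2 8 4 6 7) (V7.mk 8 1 5 0 4 4 0) (V7.mk 1 7 8 0 4 7 8)),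
  (M7.mk (V7.mk 0 6 7 5 6 3 0) (V7.mk 7 5 2 5 3 4 7) (V7.mk 4 6 2 8 4 6 7) (V7.mk 3 10 6 0 7 7 0) (V7.mk 1 7 8 0 4 7 8) (V7.mk 7 9 9 6 6 5 1) (V7.mk 3 2 7 4 2 2 6)),
  (M7.mk (V7.mk 9 6 2 10 5 9 2) (V7.mk 5 1 10 8 9 1 2) (V7.mk 5 9 3 3 2 2 1) (V7.mk 1 6 2 4 2 6 6) (V7.mk 6 4 9 6 5 10 2) (V7.mk 9 2 8 6 2 10 3) (V7.mk 4 6 5 9 1 3 8)),
  (M7.mk (V7.mk 6 2 8 8 9 9 10) (V7.mk 1 6 2 4 2 6 6) (V7.mk 6 4 9 6 5 10 2) (V7.mk 2 9 3 5 9 1 8) (V7.mk 4 6 5 9 1 3 8) (V7.mk 2 5 9 1 6 2 9) (V7.mk 6 10 1 3 2 10 9)),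
  (M7.mk (V7.mk 4 4 5 3 3 4 3) (V7.mk 0 9 3 4 8 8 8) (V7.mk 9 8 3 8 4 0 8) (V7.mk 1 1 4 8 0 5 9) (V7.mk 8 0 3 8 8 9 4) (V7.mk 5 1 4 0 9 1 8) (V7.mk 1 5 4 9 8 1 0)),
  (M7.mk (V7.mk 7 9 8 10 0 10 6) (V7.mk 6 3 3 7 3 7 7) (V7.mk 8 4 8 3 8 0 2) (V7.mk 8 8 4 0 8 2 3) (V7.mk 7 8 0 6 9 10 10) (V7.mk 8 8 8 2 4 3 0) (V7.mk 7 0 9 10 8 6 10)),
  (M7.mk (V7.mk 1 10 8 1 8 3 9) (V7.mk 10 3 1 8 3 2 10) (V7.mk 8 1 3 8 9 10 10) (V7.mk 1 8 8 9 10 1 3) (V7.mk 8 3 9 10 1 8 10) (V7.mk 3 2 10 1 8 1 3) (V7.mk 9 10 10 3 10 3 3)),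
  (M7.mk (V7.mk 3 10 8 3 2 1 1) (V7.mk 1 8 8 9 10 1 3) (V7.mk 8 3 9 10 1 8 10) (V7.mk 8 9 1 10 3 10 8) (V7.mk 9 10 10 3 10 3 3) (V7.mk 10 1 3 10 3 8 2) (V7.mk 1 8 10 3 8 9 1)),
  (M7.mk (V7.mk 8 0 2 3 7 8 8) (V7.mk 3 9 8 8 8 7 0) (V7.mk 9 10 10 4 3 0 5) (V7.mk 4 3 0 3 3 8 9) (V7.mk 8 6 10 4 0 9 1) (V7.mk 0 1 5 7 9 3 10) (V7.mk 8 4 4 6 3 8 7)),
  (M7.mk (V7.mk 3 3 2 7 3 0 8) (V7.mk 0 2 10 3 6 10 7) (V7.mk 9 8 1 0 1 5 4) (V7.mk 3 3 4 3 4 4 5) (V7.mk 7 3 3 3 0 2 8) (V7.mk 8 4 0 8 9 8 3) (V7.mk 3 0 6 2 10 10 7)),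
  (M7.mk (V7.mk 3 5 4 2 7 5 7) (V7.mk 6 9 5 9 1 6 7) (V7.mk 4 6 6 2 7 8 4) (V7.mk 2 2 2 7 6 4 3) (V7.mk 7 10 7 6 0 0 3) (V7.mk 6 6 3 7 0 5 0) (V7.mk 4 7 7 8 8 0 1)),
  (M7.mk (V7.mk 7 5 5 9 4 3 7) (V7.mk 2 2 2 7 6 4 3) (V7.mk 7 10 7 6 0 0 3) (V7.mk 5 5 8 4 0 6 0) (V7.mk 4 7 7 8 8 0 1) (V7.mk 8 6 7 9 4 6 4) (V7.mk 5 2 6 2 10 5 4)),
  (M7.mk (V7.mk 2 7 8 7 7 6 5) (V7.mk 6 0 0 8 4 10 4) (V7.mk 8 8 0 10 7 7 4) (V7.mk 2 10 5 7 6 2 5) (V7.mk 4 5 7 3 2 9 2) (V7.mk 7 0 5 0 5 6 8) (V7.mk 9 4 6 7 3 6 4)),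
  (M7.mk (V7.mk 7 10 7 6 0 0 3) (V7.mk 5 5 8 4 0 6 0) (V7.mk 7 4 4 3 3 0 10) (V7.mk 8 6 7 9 4 6 4) (V7.mk 6 9 5 9 1 6 7) (V7.mk 4 6 6 2 7 8 4) (V7.mk 9 9 9 4 5 7 8))]

def tabC5 : List M7 := [
  (M7.mk (V7.mk 6 5 2 9 9 1 2) (V7.mk 5 4 10 9 2 6 6) (V7.mk 2 10 10 1 9 3 6) (V7.mk 9 9 1 3 8 5 2) (V7.mk 9 2 9 8 10 8 6) (V7.mk 1 6 3 5 8 9 4) (V7.mk 2 6 6 2 6 4 1)),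
  (M7.mk (V7.mk 2 3 10 0 10 6 7) (V7.mk 3 3 4 3 4 4 5) (V7.mk 4 8 8 8 0 9 3) (V7.mk 3 7 0 3 2 3 8) (V7.mk 8 0 5 9 1 1 4) (V7.mk 3 3 2 7 3 0 8) (V7.mk 0 2 10 3 6 10 7)),
  (M7.mk (V7.mk 4 3 0 7 4 3 10) (V7.mk 9 9 6 6 5 1 7) (V7.mk 2 7 4 2 2 6 3) (V7.mk 5 4 6 5 8 0 0) (V7.mk 5 2 5 3 4 7 7) (V7.mk 5 9 3 7 5 4 7) (V7.mk 1 5 0 4 4 0 8)),
  (M7.mk (V7.mk 9 4 7 9 9 5 8) (V7.mk 5 4 6 5 8 0 0) (V7.mk 5 2 5 3 4 7 7) (V7.mk 6 2 8 4 6 7 4) (V7.mk 1 5 0 4 4 0 8) (V7.mk 7 8 0 4 7 8 1) (V7.mk 2 2 5 5 6 10 4)),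
  (M7.mk (V7.mk 6 5 8 0 0 5 7) (V7.mk 0 7 4 8 1 4 8) (V7.mk 6 8 7 7 7 6 2) (V7.mk 5 5 6 1 7 2 9) (V7.mk 3 7 5 7 4 5 2) (V7.mk 7 9 9 6 3 9 7) (V7.mk 0 4 4 0 3 1 6)),
  (M7.mk (V7.mk 5 2 5 3 4 7 7) (V7.mk 6 2 8 4 6 7 4) (V7.mk 10 6 0 7 7 0 3) (V7.mk 7 8 0 4 7 8 1) (V7.mk 9 9 6 6 5 1 7) (V7.mk 2 7 4 2 2 6 3) (V7.mk 6 7 5 6 3 0 0)),
  (M7.mk (V7.mk 6 9 2 8 9 8 10) (V7.mk 3 9 0 0 9 10 7) (V7.mk 5 8 0 1 2 1 4) (V7.mk 4 9 2 2 0 10 7) (V7.mk 9 8 1 1 10 3 8) (V7.mk 8 1 7 7 4 3 0) (V7.mk 1 5 3 6 7 2 8)),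
  (M7.mk (V7.mk 6 3 0 10 9 10 7) (V7.mk 4 9 2 2 0 10 7) (V7.mk 9 8 1 1 10 3 8) (V7.mk 3 10 4 4 7 8 0) (V7.mk 1 5 3 6 7 2 8) (V7.mk 5 2 9 3 2 3 1) (V7.mk 8 2 0 0 2 1 4)),
  (M7.mk (V7.mk 5 8 10 1 1 2 9) (V7.mk 9 8 1 2 3 6 2) (V7.mk 7 7 1 3 7 9 4) (V7.mk 8 0 2 6 9 4 3) (V7.mk 8 8 9 2 4 3 4) (V7.mk 6 10 5 9 7 8 8) (V7.mk 10 10 8 8 7 0 8)),
  (M7.mk (V7.mk 10 6 0 7 7 0 3) (V7.mk 4 3 0 7 4 3 10) (V7.mk 9 9 6 6 5 1 7) (V7.mk 9 4 7 9 9 5 8) (V7.mk 5 4 6 5 8 0 0) (V7.mk 6 9 6 8 7 4 4) (V7.mk 6 2 8 4 6 7 4)),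
  (M7.mk (V7.mk 5 6 2 10 8 3 7) (V7.mk 5 9 1 6 2 9 2) (V7.mk 10 1 3 2 10 9 6) (V7.mk 9 3 3 2 2 1 5) (V7.mk 6 2 4 2 6 6 1) (V7.mk 7 2 5 6 1 9 5) (V7.mk 2 8 6 2 10 3 9)),
  (M7.mk (V7.mk 1 10 8 9 1 2 5) (V7.mk 9 3 3 2 2 1 5) (V7.mk 6 2 4 2 6 6 1) (V7.mk 4 9 6 5 10 2 6) (V7.mk 2 8 6 2 10 3 9) (V7.mk 6 5 9 1 3 8 4) (V7.mk 6 2 10 5 9 2 9)),
  (M7.mk (V7.mk 3 3 5 1 6 2 4) (V7.mk 0 8 10 10 8 8 7) (V7.mk 9 2 6 3 1 10 10) (V7.mk 5 9 2 3 10 9 8) (V7.mk 2 7 4 4 10 8 4) (V7.mk 4 3 8 0 2 6 9) (V7.mk 3 4 8 8 9 2 4)),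
  (M7.mk (V7.mk 6 2 4 2 6 6 1) (V7.mk 4 9 6 5 10 2 6) (V7.mk 9 3 5 9 1 8 2) (V7.mk 6 5 9 1 3 8 4) (V7.mk 5 9 1 6 2 9 2) (V7.mk 10 1 3 2 10 9 6) (V7.mk 2 8 8 9 9 10 6)),
  (M7.mk (V7.mk 4 8 8 8 0 9 3) (V7.mk 8 4 0 8 9 8 3) (V7.mk 3 0 6 2 10 10 7) (V7.mk 8 8 9 4 8 0 3) (V7.mk 0 2 10 3 6 10 7) (V7.mk 2 3 10 0 10 6 7) (V7.mk 8 8 7 8 7 7 6)),
  (M7.mk (V7.mk 9 8 10 0 10 6 7) (V7.mk 8 8 4 8 4 4 5) (V7.mk 7 3 8 3 0 9 3) (V7.mk 3 7 0 3 9 8 3) (V7.mk 8 0 6 9 10 10 7) (V7.mk 8 8 2 4 3 0 8) (V7.mk 0 2 1 3 5 1 4)),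
  (M7.mk (V7.mk 4 8 3 8 0 2 8) (V7.mk 3 7 0 3 9 8 3) (V7.mk 8 0 6 9 10 10 7) (V7.mk 3 3 9 7 8 0 3) (V7.mk 0 2 1 3 5 1 4) (V7.mk 2 3 1 0 1 5 4) (V7.mk 3 3 7 3 7 7 6)),
  (M7.mk (V7.mk 6 2 3 4 5 4 7) (V7.mk 1 5 0 4 7 0 3) (V7.mk 4 3 0 7 7 8 1) (V7.mk 2 2 6 5 5 1 7) (V7.mk 2 7 7 2 9 5 8) (V7.mk 6 7 6 6 8 0 0) (V7.mk 6 9 5 8 4 7 7)),
  (M7.mk (V7.mk 8 0 6 9 10 10 7) (V7.mk 3 3 9 7 8 0 3) (V7.mk 0 9 10 8 6 10 7) (V7.mk 2 3 1 0 1 5 4) (V7.mk 8 8 4 8 4 4 5) (V7.mk 7 3 8 3 0 9 3) (V7.mk 8 4 0 8 2 3 8)),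
  (M7.mk (V7.mk 9 5 6 6 4 10 9) (V7.mk 9 3 5 2 1 1 10) (V7.mk 3 6 2 2 9 1 3) (V7.mk 1 3 6 2 2 9 8) (V7.mk 3 2 4 10 6 3 5) (V7.mk 6 4 10 2 5 5 9) (V7.mk 9 1 9 6 6 9 2)),
  (M7.mk (V7.mk 8 5 9 9 2 10 8) (V7.mk 1 3 6 2 2 9 8) (V7.mk 3 2 4 10 6 3 5) (V7.mk 5 7 1 9 6 6 2) (V7.mk 9 1 9 6 6 9 2) (V7.mk 2 6 5 5 7 1 2) (V7.mk 2 8 6 9 10 10 1)),
  (M7.mk (V7.mk 9 7 7 8 9 3 8) (V7.mk 8 4 3 10 3 0 10) (V7.mk 1 8 9 8 9 6 9) (V7.mk 9 9 3 0 6 7 3) (V7.mk 6 7 8 1 9 3 5) (V7.mk 10 10 2 8 10 2 5) (V7.mk 10 7 4 4 3 2 4)),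
  (M7.mk (V7.mk 0 9 10 8 6 10 7) (V7.mk 9 8 10 0 10 6 7) (V7.mk 8 8 4 8 4 4 5) (V7.mk 4 8 3 8 0 2 8) (V7.mk 3 7 0 3 9 8 3) (V7.mk 3 0 5 2 1 1 4) (V7.mk 3 3 9 7 8 0 3)),
  (M7.mk (V7.mk 5 6 10 9 6 4 9) (V7.mk 5 9 10 8 9 2 8) (V7.mk 2 10 3 3 4 6 5) (V7.mk 10 5 2 2 2 5 9) (V7.mk 8 9 10 2 6 10 1) (V7.mk 8 9 2 10 5 9 3) (V7.mk 4 2 5 6 10 5 9)),
  (M7.mk (V7.mk 9 1 8 8 7 5 6) (V7.mk 10 5 2 2 2 5 9) (V7.mk 8 9 10 2 6 10 1) (V7.mk 3 2 9 1 6 2 8) (V7.mk 4 2 5 6 10 5 9) (V7.mk 6 5 1 2 5 7 2) (V7.mk 6 2 1 3 2 9 3)),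
  (M7.mk (V7.mk 6 3 10 10 1 2 9) (V7.mk 9 8 10 2 8 5 9) (V7.mk 4 4 1 8 7 9 4) (V7.mk 3 0 2 5 9 4 3) (V7.mk 3 3 9 9 4 3 4) (V7.mk 6 10 6 9 4 3 3) (V7.mk 10 10 3 8 4 0 3)),
  (M7.mk (V7.mk 8 9 10 2 6 10 1) (V7.mk 3 2 9 1 6 2 8) (V7.mk 7 9 6 5 1 6 2) (V7.mk 6 5 1 2 5 7 2) (V7.mk 5 9 10 8 9 2 8) (V7.mk 2 10 3 3 4 6 5) (V7.mk 1 6 9 9 9 6 2)),
  (M7.mk (V7.mk 7 1 0 3 8 8 1) (V7.mk 2 0 4 2 8 5 8) (V7.mk 1 3 9 1 9 1 6) (V7.mk 7 8 3 9 7 9 8) (V7.mk 8 8 6 1 9 9 9) (V7.mk 4 10 8 5 3 2 6) (V7.mk 7 4 2 10 4 3 4)),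
  (M7.mk (V7.mk 10 8 2 10 2 10 5) (V7.mk 7 8 3 9 7 9 8) (V7.mk 8 8 6 1 9 9 9) (V7.mk 7 1 3 6 8 9 5) (V7.mk 7 4 2 10 4 3 4) (V7.mk 4 10 0 8 3 3 10) (V7.mk 9 0 7 9 3 6 3)),
  (M7.mk (V7.mk 4 7 7 8 8 0 1) (V7.mk 8 6 7 9 4 6 4) (V7.mk 6 9 5 9 1 6 7) (V7.mk 7 5 5 9 4 3 7) (V7.mk 9 9 9 4 5 7 8) (V7.mk 4 1 4 5 0 0 8) (V7.mk 6 6 3 7 0 5 0)),
  (M7.mk (V7.mk 3 3 7 3 7 7 6) (V7.mk 4 8 3 8 0 2 8) (V7.mk 8 4 0 8 2 3 8) (V7.mk 8 0 6 9 10 10 7) (V7.mk 8 8 2 4 3 0 8) (V7.mk 0 9 10 8 6 10 7) (V7.mk 9 8 10 0 10 6 7)),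
  (M7.mk (V7.mk 1 1 8 1 8 8 2) (V7.mk 1 3 10 3 8 2 10) (V7.mk 8 10 3 8 9 1 1) (V7.mk 1 3 8 9 10 10 8) (V7.mk 8 8 9 10 1 3 1) (V7.mk 8 2 1 10 3 1 3) (V7.mk 2 10 1 8 1 3 3)),
  (M7.mk (V7.mk 3 1 8 3 2 10 10) (V7.mk 1 3 8 9 10 10 8) (V7.mk 8 8 9 10 1 3 1) (V7.mk 3 9 10 1 8 10 8) (V7.mk 2 10 1 8 1 3 3) (V7.mk 10 10 3 10 3 3 9) (V7.mk 10 8 1 8 3 9 1)),
  (M7.mk (V7.mk 3 10 0 10 5 4 9) (V7.mk 3 4 8 4 7 6 8) (V7.mk 3 3 8 0 9 3 4) (V7.mk 7 0 8 2 8 3 8) (V7.mk 0 6 9 10 1 4 8) (V7.mk 8 9 7 8 0 8 3) (V7.mk 9 1 3 5 10 7 0)),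
  (M7.mk (V7.mk 8 8 9 10 1 3 1) (V7.mk 3 9 10 1 8 10 8) (V7.mk 9 1 10 3 10 8 8) (V7.mk 10 10 3 10 3 3 9) (V7.mk 1 3 10 3 8 2 10) (V7.mk 8 10 3 8 9 1 1) (V7.mk 10 8 3 2 1 1 3)),
  (M7.mk (V7.mk 7 7 5 8 3 4 3) (V7.mk 0 9 8 4 3 3 3) (V7.mk 2 3 3 3 4 0 8) (V7.mk 10 10 4 3 0 5 9) (V7.mk 3 0 3 3 8 9 4) (V7.mk 5 1 7 0 2 10 3) (V7.mk 1 5 7 9 3 10 0)),
  (M7.mk (V7.mk 9 8 8 8 7 0 3) (V7.mk 10 10 4 3 0 5 9) (V7.mk 3 0 3 3 8 9 4) (V7.mk 6 10 4 0 9 1 8) (V7.mk 1 5 7 9 3 10 0) (V7.mk 4 4 6 3 8 7 8) (V7.mk 0 2 3 7 8 8 8)),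
  (M7.mk (V7.mk 7 8 7 4 5 5 9) (V7.mk 5 7 3 9 2 2 7) (V7.mk 0 0 8 7 1 4 5) (V7.mk 0 6 0 5 6 3 7) (V7.mk 3 0 1 7 7 7 8) (V7.mk 4 6 7 8 5 4 2) (V7.mk 1 6 4 6 2 6 2)),
  (M7.mk (V7.mk 9 1 10 3 10 8 8) (V7.mk 1 1 8 1 8 8 2) (V7.mk 1 3 10 3 8 2 10) (V7.mk 3 1 8 3 2 10 10) (V7.mk 1 3 8 9 10 10 8) (V7.mk 3 3 2 1 10 8 10) (V7.mk 3 9 10 1 8 10 8)),
  (M7.mk (V7.mk 2 10 9 6 10 1 3) (V7.mk 2 2 1 5 9 3 3) (V7.mk 9 5 5 10 5 9 7) (V7.mk 6 1 9 5 7 2 5) (V7.mk 9 1 8 2 9 3 5) (V7.mk 1 3 8 4 6 5 9) (V7.mk 5 9 2 9 6 2 10)),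
  (M7.mk (V7.mk 3 6 2 7 6 4 7) (V7.mk 2 0 1 2 8 9 10) (V7.mk 1 3 1 2 4 7 3) (V7.mk 3 6 2 0 8 4 9) (V7.mk 7 6 2 3 6 8 10) (V7.mk 6 2 8 8 10 5 7) (V7.mk 5 10 0 5 9 6 3)),
  (M7.mk (V7.mk 9 5 5 10 5 9 7) (V7.mk 6 1 9 5 7 2 5) (V7.mk 2 10 3 9 2 8 6) (V7.mk 1 3 8 4 6 5 9) (V7.mk 6 2 9 2 5 9 1) (V7.mk 9 1 2 5 1 10 8) (V7.mk 9 9 10 6 2 8 8)),
  (M7.mk (V7.mk 2 2 6 3 2 7 4) (V7.mk 5 8 0 0 5 4 6) (V7.mk 3 4 7 7 5 2 5) (V7.mk 7 5 4 7 5 9 3) (V7.mk 4 4 0 8 1 5 0) (V7.mk 7 4 3 10 4 3 0) (V7.mk 6 5 1 7 9 9 6)),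
  (M7.mk (V7.mk 8 7 4 4 6 9 6) (V7.mk 7 5 4 7 5 9 3) (V7.mk 4 4 0 8 1 5 0) (V7.mk 4 7 8 1 7 8 0) (V7.mk 6 5 1 7 9 9 6) (V7.mk 9 9 5 8 9 4 7) (V7.mk 6 3 0 0 6 7 5)),
  (M7.mk (V7.mk 9 5 9 1 6 7 6) (V7.mk 6 6 2 7 8 4 4) (V7.mk 2 2 7 6 4 3 2) (V7.mk 10 7 6 0 0 3 7) (V7.mk 6 3 7 0 5 0 6) (V7.mk 7 7 8 8 0 1 4) (V7.mk 5 4 2 7 5 7 3)),
  (M7.mk (V7.mk 4 0 9 10 2 7 2) (V7.mk 5 2 2 3 9 1 3) (V7.mk 9 10 8 3 1 8 1) (V7.mk 8 2 2 1 0 4 0) (V7.mk 3 7 10 8 4 0 4) (V7.mk 6 9 3 10 0 7 10) (V7.mk 1 7 5 2 3 8 6)),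
  (M7.mk (V7.mk 7 5 4 8 5 7 2) (V7.mk 4 3 4 4 5 6 9) (V7.mk 0 0 3 7 1 7 5) (V7.mk 8 0 10 7 7 4 8) (V7.mk 10 5 7 6 2 5 2) (V7.mk 6 4 8 9 2 9 7) (V7.mk 0 5 0 5 6 8 7)),
  (M7.mk (V7.mk 0 4 3 9 8 2 5) (V7.mk 8 6 5 8 1 7 2) (V7.mk 7 7 8 2 5 7 6) (V7.mk 2 4 10 1 7 3 3) (V7.mk 8 8 7 9 6 1 5) (V7.mk 6 6 5 0 9 8 1) (V7.mk 2 2 9 1 3 10 0)),
  (M7.mk (V7.mk 5 8 4 0 6 0 5) (V7.mk 4 4 3 3 0 10 7) (V7.mk 6 7 9 4 6 4 8) (V7.mk 9 5 9 1 6 7 6) (V7.mk 6 6 2 7 8 4 4) (V7.mk 9 9 4 5 7 8 9) (V7.mk 10 7 6 0 0 3 7)),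
  (M7.mk (V7.mk 9 2 3 1 3 5 2) (V7.mk 6 3 5 8 9 4 1) (V7.mk 6 6 2 6 4 1 2) (V7.mk 6 9 2 2 10 9 5) (V7.mk 4 10 9 2 6 6 5) (V7.mk 1 1 10 2 8 5 9) (V7.mk 2 10 8 3 6 9 2)),
  (M7.mk (V7.mk 5 5 9 5 7 10 9) (V7.mk 6 9 2 2 10 9 5) (V7.mk 4 10 9 2 6 6 5) (V7.mk 10 10 1 9 3 6 2) (V7.mk 2 10 8 3 6 9 2) (V7.mk 2 9 8 10 8 6 9) (V7.mk 5 8 6 3 2 7 10)),
  (M7.mk (V7.mk 2 10 9 3 8 5 9) (V7.mk 2 7 9 0 10 8 0) (V7.mk 2 7 3 1 10 5 0) (V7.mk 0 7 9 9 10 7 9) (V7.mk 10 3 3 1 8 9 1) (V7.mk 4 0 10 7 8 8 7) (V7.mk 7 3 6 6 9 1 3)),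
  (M7.mk (V7.mk 4 10 9 2 6 6 5) (V7.mk 10 10 1 9 3 6 2) (V7.mk 9 1 3 8 5 2 9) (V7.mk 2 9 8 10 8 6 9) (V7.mk 6 3 5 8 9 4 1) (V7.mk 6 6 2 6 4 1 2) (V7.mk 5 2 9 9 1 2 6)),
  (M7.mk (V7.mk 3 4 3 4 4 5 3) (V7.mk 8 8 8 0 9 3 4) (V7.mk 7 0 3 2 3 8 3) (V7.mk 0 5 9 1 1 4 8) (V7.mk 3 2 7 3 0 8 3) (V7.mk 2 10 3 6 10 7 0) (V7.mk 3 10 0 10 6 7 2)),
  (M7.mk (V7.mk 6 0 7 7 0 3 10) (V7.mk 8 0 4 7 8 1 7) (V7.mk 2 5 5 6 10 4 2) (V7.mk 7 4 2 2 6 3 2) (V7.mk 4 6 5 8 0 0 5) (V7.mk 9 6 8 7 4 4 6) (V7.mk 9 3 7 5 4 7 5)),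
  (M7.mk (V7.mk 9 6 6 5 1 7 9) (V7.mk 7 4 2 2 6 3 2) (V7.mk 4 6 5 8 0 0 5) (V7.mk 2 5 3 4 7 7 5) (V7.mk 9 3 7 5 4 7 5) (V7.mk 5 0 4 4 0 8 1) (V7.mk 3 0 7 4 3 10 4)),
  (M7.mk (V7.mk 1 6 0 3 6 6 9) (V7.mk 0 9 1 10 9 9 8) (V7.mk 6 7 9 2 0 3 3) (V7.mk 2 6 3 4 8 6 1) (V7.mk 5 4 2 7 4 8 6) (V7.mk 3 4 10 8 2 1 7) (V7.mk 5 8 2 10 8 4 6)),
  (M7.mk (V7.mk 4 6 5 8 0 0 5) (V7.mk 2 5 3 4 7 7 5) (V7.mk 2 8 4 6 7 4 6) (V7.mk 5 0 4 4 0 8 1) (V7.mk 8 0 4 7 8 1 7) (V7.mk 2 5 5 6 10 4 2) (V7.mk 4 7 9 9 5 8 9)),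
  (M7.mk (V7.mk 7 7 0 8 10 5 0) (V7.mk 6 3 0 0 6 4 5) (V7.mk 4 7 3 10 7 3 0) (V7.mk 8 7 7 7 6 2 6) (V7.mk 5 6 1 7 2 9 5) (V7.mk 4 6 4 7 6 9 8) (V7.mk 9 9 6 3 9 7 7)),
  (M7.mk (V7.mk 7 4 8 1 4 8 0) (V7.mk 8 7 7 7 6 2 6) (V7.mk 5 6 1 7 2 9 5) (V7.mk 7 5 7 4 5 2 3) (V7.mk 9 9 6 3 9 7 7) (V7.mk 4 4 0 3 1 6 0) (V7.mk 5 8 0 0 5 7 6)),
  (M7.mk (V7.mk 10 1 3 8 2 8 10) (V7.mk 0 2 10 7 8 9 0) (V7.mk 7 4 8 0 8 10 7) (V7.mk 10 9 1 4 6 8 0) (V7.mk 6 7 9 3 1 6 3) (V7.mk 2 0 1 4 4 2 2) (V7.mk 8 9 3 1 6 2 2)),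
  (M7.mk (V7.mk 9 0 0 9 10 7 3) (V7.mk 8 0 1 2 1 4 5) (V7.mk 9 2 2 0 10 7 4) (V7.mk 8 1 1 10 3 8 9) (V7.mk 1 7 7 4 3 0 8) (V7.mk 5 3 6 7 2 8 1) (V7.mk 9 2 8 9 8 10 6)),
  (M7.mk (V7.mk 0 6 0 0 0 2 7) (V7.mk 8 0 9 3 10 0 0) (V7.mk 9 0 8 3 10 0 0) (V7.mk 1 0 1 10 3 0 0) (V7.mk 0 2 0 0 0 4 5) (V7.mk 0 4 0 0 0 6 9) (V7.mk 8 0 8 2 10 0 0)),
  (M7.mk (V7.mk 1 3 3 4 0 3 1) (V7.mk 3 1 10 10 9 2 6) (V7.mk 3 10 9 8 5 9 2) (V7.mk 7 1 3 7 9 4 7) (V7.mk 0 2 6 9 4 3 8) (V7.mk 3 2 9 7 8 7 3) (V7.mk 10 5 9 7 8 8 6))]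

def tabC6 : List M7 := [
  (M7.mk (V7.mk 8 1 2 3 6 2 9) (V7.mk 7 1 3 7 9 4 7) (V7.mk 0 2 6 9 4 3 8) (V7.mk 8 9 2 4 3 4 8) (V7.mk 10 5 9 7 8 8 6) (V7.mk 10 8 8 7 0 8 10) (V7.mk 8 10 1 1 2 9 5)),
  (M7.mk (V7.mk 9 1 8 2 9 3 5) (V7.mk 1 3 8 4 6 5 9) (V7.mk 6 2 9 2 5 9 1) (V7.mk 2 10 9 6 10 1 3) (V7.mk 9 9 10 6 2 8 8) (V7.mk 2 6 6 1 6 2 4) (V7.mk 5 10 2 6 4 9 6)),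
  (M7.mk (V7.mk 3 0 7 4 3 10 4) (V7.mk 9 6 6 5 1 7 9) (V7.mk 4 7 9 9 5 8 9) (V7.mk 4 6 5 8 0 0 5) (V7.mk 9 6 8 7 4 4 6) (V7.mk 2 8 4 6 7 4 6) (V7.mk 6 0 7 7 0 3 10)),
  (M7.mk (V7.mk 3 5 9 1 8 2 9) (V7.mk 5 9 1 3 8 4 6) (V7.mk 2 10 5 9 2 9 6) (V7.mk 1 3 2 10 9 6 10) (V7.mk 3 3 2 2 1 5 9) (V7.mk 9 7 9 5 5 10 5) (V7.mk 2 5 6 1 9 5 7)),
  (M7.mk (V7.mk 8 10 4 7 7 3 0) (V7.mk 6 2 9 8 2 8 10) (V7.mk 5 3 0 1 9 1 4) (V7.mk 2 8 1 10 10 8 3) (V7.mk 10 5 3 5 7 9 3) (V7.mk 3 2 0 0 2 10 7) (V7.mk 7 9 2 9 0 1 4)),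
  (M7.mk (V7.mk 3 3 2 2 1 5 9) (V7.mk 2 4 2 6 6 1 6) (V7.mk 9 6 5 10 2 6 4) (V7.mk 8 6 2 10 3 9 2) (V7.mk 5 9 1 3 8 4 6) (V7.mk 2 10 5 9 2 9 6) (V7.mk 10 8 9 1 2 5 1)),
  (M7.mk (V7.mk 7 3 3 2 9 7 8) (V7.mk 8 6 10 5 9 7 8) (V7.mk 3 1 1 3 3 4 0) (V7.mk 2 6 3 1 10 10 9) (V7.mk 9 2 3 10 9 8 5) (V7.mk 4 7 7 1 3 7 9) (V7.mk 3 8 0 2 6 9 4)),
  (M7.mk (V7.mk 8 10 10 8 8 7 0) (V7.mk 2 6 3 1 10 10 9) (V7.mk 9 2 3 10 9 8 5) (V7.mk 7 4 4 10 8 4 2) (V7.mk 3 8 0 2 6 9 4) (V7.mk 4 8 8 9 2 4 3) (V7.mk 3 5 1 6 2 4 3)),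
  (M7.mk (V7.mk 4 8 8 5 10 6 2) (V7.mk 4 9 4 4 7 10 8) (V7.mk 7 0 3 10 1 8 8) (V7.mk 2 4 3 3 0 9 5) (V7.mk 1 9 2 5 3 10 1) (V7.mk 4 8 7 8 3 9 2) (V7.mk 3 5 9 9 3 1 2)),
  (M7.mk (V7.mk 9 6 5 10 2 6 4) (V7.mk 3 5 9 1 8 2 9) (V7.mk 5 9 1 3 8 4 6) (V7.mk 9 1 6 2 9 2 5) (V7.mk 1 3 2 10 9 6 10) (V7.mk 8 8 9 9 10 6 2) (V7.mk 2 4 2 6 6 1 6)),
  (M7.mk (V7.mk 6 8 8 7 8 7 7) (V7.mk 8 7 3 3 3 0 2) (V7.mk 3 8 4 0 8 9 8) (V7.mk 4 8 0 5 9 1 1) (V7.mk 8 3 3 2 7 3 0) (V7.mk 4 0 9 1 8 5 1) (V7.mk 7 2 3 10 0 10 6)),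
  (M7.mk (V7.mk 3 1 3 5 2 9 2) (V7.mk 5 8 9 4 1 6 3) (V7.mk 9 5 7 10 9 5 5) (V7.mk 2 2 10 9 5 6 9) (V7.mk 2 9 5 5 6 7 1) (V7.mk 1 9 3 6 2 10 10) (V7.mk 3 8 5 2 9 9 1)),
  (M7.mk (V7.mk 3 9 7 8 0 3 3) (V7.mk 9 10 8 6 10 7 0) (V7.mk 3 1 0 1 5 4 2) (V7.mk 8 4 8 4 4 5 8) (V7.mk 3 8 3 0 9 3 7) (V7.mk 4 0 8 2 3 8 8) (V7.mk 0 6 9 10 10 7 8)),
  (M7.mk (V7.mk 10 2 5 5 2 9 2) (V7.mk 6 5 5 7 1 2 2) (V7.mk 8 6 9 10 10 1 2) (V7.mk 6 2 2 9 1 3 3) (V7.mk 3 6 2 2 9 8 1) (V7.mk 9 7 1 5 8 6 8) (V7.mk 4 10 2 5 5 9 6)),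
  (M7.mk (V7.mk 3 5 2 1 1 10 9) (V7.mk 6 2 2 9 1 3 3) (V7.mk 3 6 2 2 9 8 1) (V7.mk 2 4 10 6 3 5 3) (V7.mk 4 10 2 5 5 9 6) (V7.mk 1 9 6 6 9 2 9) (V7.mk 5 6 6 4 10 9 9)),
  (M7.mk (V7.mk 2 1 9 4 9 7 0) (V7.mk 3 8 10 3 10 2 1) (V7.mk 10 8 4 0 4 3 7) (V7.mk 5 2 3 8 6 1 7) (V7.mk 9 8 2 10 8 6 9) (V7.mk 2 1 0 4 0 8 2) (V7.mk 8 1 0 4 1 5 2)),
  (M7.mk (V7.mk 3 6 2 2 9 8 1) (V7.mk 2 4 10 6 3 5 3) (V7.mk 7 1 9 6 6 2 5) (V7.mk 1 9 6 6 9 2 9) (V7.mk 6 5 5 7 1 2 2) (V7.mk 8 6 9 10 10 1 2) (V7.mk 5 9 9 2 10 8 8)),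
  (M7.mk (V7.mk 4 7 7 8 9 7 1) (V7.mk 4 4 3 2 8 3 2) (V7.mk 7 8 1 8 0 1 3) (V7.mk 8 9 8 9 6 9 1) (V7.mk 9 3 0 6 7 3 9) (V7.mk 4 3 10 2 8 6 5) (V7.mk 10 2 8 10 2 5 10)),
  (M7.mk (V7.mk 4 3 10 3 0 10 8) (V7.mk 8 9 8 9 6 9 1) (V7.mk 9 3 0 6 7 3 9) (V7.mk 7 8 1 9 3 5 6) (V7.mk 10 2 8 10 2 5 10) (V7.mk 7 4 4 3 2 4 10) (V7.mk 7 7 8 9 3 8 9)),
  (M7.mk (V7.mk 6 1 9 6 5 7 9) (V7.mk 6 0 6 5 3 0 7) (V7.mk 7 4 5 3 5 7 9) (V7.mk 4 8 7 0 7 1 8) (V7.mk 9 5 9 7 9 8 4) (V7.mk 8 4 6 6 7 4 9) (V7.mk 4 0 1 0 4 8 5)),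
  (M7.mk (V7.mk 9 10 8 9 2 8 5) (V7.mk 10 3 3 4 6 5 2) (V7.mk 5 2 2 2 5 9 10) (V7.mk 9 10 2 6 10 1 8) (V7.mk 9 2 10 5 9 3 8) (V7.mk 2 5 6 10 5 9 4) (V7.mk 6 10 9 6 4 9 5)),
  (M7.mk (V7.mk 9 4 5 7 4 8 5) (V7.mk 9 8 5 3 1 4 5) (V7.mk 10 9 3 2 1 9 0) (V7.mk 8 8 10 5 7 6 2) (V7.mk 1 2 4 7 3 1 3) (V7.mk 0 6 2 5 8 6 1) (V7.mk 2 0 8 4 9 3 6)),
  (M7.mk (V7.mk 5 2 2 2 5 9 10) (V7.mk 9 10 2 6 10 1 8) (V7.mk 2 9 1 6 2 8 3) (V7.mk 2 5 6 10 5 9 4) (V7.mk 5 1 2 5 7 2 6) (V7.mk 2 1 3 2 9 3 6) (V7.mk 1 8 8 7 5 6 9)),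
  (M7.mk (V7.mk 1 8 3 7 0 8 1) (V7.mk 8 1 1 10 9 2 5) (V7.mk 3 1 9 3 6 2 2) (V7.mk 4 1 8 7 9 4 4) (V7.mk 0 2 5 9 4 3 3) (V7.mk 8 2 2 7 8 7 8) (V7.mk 10 6 9 4 3 3 6)),
  (M7.mk (V7.mk 8 10 2 8 5 9 9) (V7.mk 4 1 8 7 9 4 4) (V7.mk 0 2 5 9 4 3 3) (V7.mk 3 9 9 4 3 4 3) (V7.mk 10 6 9 4 3 3 6) (V7.mk 10 3 8 4 0 3 10) (V7.mk 3 10 10 1 2 9 6)),
  (M7.mk (V7.mk 2 9 1 6 2 8 3) (V7.mk 9 6 5 1 6 2 7) (V7.mk 5 1 2 5 7 2 6) (V7.mk 9 10 8 9 2 8 5) (V7.mk 10 3 3 4 6 5 2) (V7.mk 6 9 9 9 6 2 1) (V7.mk 9 10 2 6 10 1 8)),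
  (M7.mk (V7.mk 0 4 2 8 5 8 2) (V7.mk 3 9 1 9 1 6 1) (V7.mk 8 3 9 7 9 8 7) (V7.mk 8 6 1 9 9 9 8) (V7.mk 10 8 5 3 2 6 4) (V7.mk 4 2 10 4 3 4 7) (V7.mk 1 0 3 8 8 1 7)),
  (M7.mk (V7.mk 8 3 9 7 9 8 7) (V7.mk 8 6 1 9 9 9 8) (V7.mk 1 3 6 8 9 5 7) (V7.mk 4 2 10 4 3 4 7) (V7.mk 10 0 8 3 3 10 4) (V7.mk 0 7 9 3 6 3 9) (V7.mk 8 2 10 2 10 5 10)),
  (M7.mk (V7.mk 5 8 4 0 6 0 5) (V7.mk 4 4 3 3 0 10 7) (V7.mk 5 4 2 7 5 7 3) (V7.mk 9 5 9 1 6 7 6) (V7.mk 5 5 9 4 3 7 7) (V7.mk 2 2 7 6 4 3 2) (V7.mk 1 4 5 0 0 8 4)),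
  (M7.mk (V7.mk 6 7 9 4 6 4 8) (V7.mk 9 5 9 1 6 7 6) (V7.mk 5 5 9 4 3 7 7) (V7.mk 9 9 4 5 7 8 9) (V7.mk 1 4 5 0 0 8 4) (V7.mk 6 3 7 0 5 0 6) (V7.mk 7 7 8 8 0 1 4)),
  (M7.mk (V7.mk 8 3 8 0 2 8 4) (V7.mk 4 0 8 2 3 8 8) (V7.mk 0 6 9 10 10 7 8) (V7.mk 8 2 4 3 0 8 8) (V7.mk 9 10 8 6 10 7 0) (V7.mk 8 10 0 10 6 7 9) (V7.mk 3 7 3 7 7 6 3)),
  (M7.mk (V7.mk 3 10 3 8 2 10 1) (V7.mk 10 3 8 9 1 1 8) (V7.mk 3 8 9 10 10 8 1) (V7.mk 8 9 10 1 3 1 8) (V7.mk 2 1 10 3 1 3 8) (V7.mk 10 1 8 1 3 3 2) (V7.mk 1 8 1 8 8 2 1)),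
  (M7.mk (V7.mk 0 9 10 8 5 1 7) (V7.mk 9 3 1 0 10 6 4) (V7.mk 8 3 7 3 4 4 6) (V7.mk 7 8 3 8 0 9 8) (V7.mk 3 4 0 8 9 8 8) (V7.mk 8 0 5 2 10 10 4) (V7.mk 8 3 9 7 3 0 3)),
  (M7.mk (V7.mk 10 8 6 1 4 0 2) (V7.mk 1 0 1 6 7 2 8) (V7.mk 7 3 7 4 5 3 8) (V7.mk 3 8 0 9 3 4 3) (V7.mk 0 8 2 8 3 8 7) (V7.mk 5 2 1 10 7 3 0) (V7.mk 9 7 8 0 8 3 8)),
  (M7.mk (V7.mk 4 8 4 7 6 8 3) (V7.mk 3 8 0 9 3 4 3) (V7.mk 0 8 2 8 3 8 7) (V7.mk 6 9 10 1 4 8 0) (V7.mk 9 7 8 0 8 3 8) (V7.mk 1 3 5 10 7 0 9) (V7.mk 10 0 10 5 4 9 3)),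
  (M7.mk (V7.mk 0 1 0 4 8 5 7) (V7.mk 1 2 6 6 4 2 6) (V7.mk 0 6 6 3 0 7 5) (V7.mk 7 5 8 5 7 9 4) (V7.mk 3 7 0 7 1 8 7) (V7.mk 5 2 7 2 3 7 9) (V7.mk 4 5 6 4 7 2 8)),
  (M7.mk (V7.mk 7 9 4 6 4 8 6) (V7.mk 6 2 10 5 4 5 2) (V7.mk 6 2 7 8 4 4 6) (V7.mk 2 7 6 4 3 2 2) (V7.mk 4 5 0 0 8 4 1) (V7.mk 3 7 0 5 0 6 6) (V7.mk 4 3 3 0 10 7 4)),
  (M7.mk (V7.mk 4 2 8 5 8 2 0) (V7.mk 2 10 2 10 5 10 8) (V7.mk 8 2 4 2 3 4 3) (V7.mk 5 10 2 2 2 3 3) (V7.mk 8 5 3 2 6 4 10) (V7.mk 2 10 4 3 4 7 4) (V7.mk 0 8 3 3 10 4 10)),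
  (M7.mk (V7.mk 6 2 7 8 4 4 6) (V7.mk 2 7 6 4 3 2 2) (V7.mk 7 6 0 0 3 7 10) (V7.mk 3 7 0 5 0 6 6) (V7.mk 7 8 8 0 1 4 7) (V7.mk 4 2 7 5 7 3 5) (V7.mk 5 9 1 6 7 6 9)),
  (M7.mk (V7.mk 4 6 9 8 3 5 10) (V7.mk 0 2 1 9 4 9 7) (V7.mk 9 9 8 2 10 8 6) (V7.mk 10 8 3 1 8 1 9) (V7.mk 2 2 1 0 4 0 8) (V7.mk 4 1 3 7 0 7 8) (V7.mk 9 3 10 0 7 10 6)),
  (M7.mk (V7.mk 2 2 3 9 1 3 5) (V7.mk 10 8 3 1 8 1 9) (V7.mk 2 2 1 0 4 0 8) (V7.mk 7 10 8 4 0 4 3) (V7.mk 9 3 10 0 7 10 6) (V7.mk 7 5 2 3 8 6 1) (V7.mk 0 9 10 2 7 2 4)),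
  (M7.mk (V7.mk 7 7 9 1 4 3 7) (V7.mk 7 10 0 8 8 8 10) (V7.mk 9 0 4 2 3 6 8) (V7.mk 1 8 2 10 9 1 5) (V7.mk 4 8 3 9 4 2 8) (V7.mk 3 8 6 1 2 2 9) (V7.mk 7 10 8 5 8 9 6)),
  (M7.mk (V7.mk 7 6 0 0 3 7 10) (V7.mk 8 4 0 6 0 5 5) (V7.mk 7 8 8 0 1 4 7) (V7.mk 7 9 4 6 4 8 6) (V7.mk 6 2 10 5 4 5 2) (V7.mk 5 9 4 3 7 7 5) (V7.mk 2 7 6 4 3 2 2)),
  (M7.mk (V7.mk 6 0 6 5 3 4 0) (V7.mk 6 7 3 6 4 9 4) (V7.mk 8 7 7 6 5 2 7) (V7.mk 0 3 7 1 7 5 0) (V7.mk 0 10 7 7 4 8 8) (V7.mk 6 4 5 9 6 9 1) (V7.mk 4 8 9 2 9 7 6)),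
  (M7.mk (V7.mk 3 4 4 5 6 9 4) (V7.mk 0 3 7 1 7 5 0) (V7.mk 0 10 7 7 4 8 8) (V7.mk 5 7 6 2 5 2 10) (V7.mk 4 8 9 2 9 7 6) (V7.mk 5 0 5 6 8 7 0) (V7.mk 5 4 8 5 7 2 7)),
  (M7.mk (V7.mk 0 10 7 7 4 8 8) (V7.mk 5 7 6 2 5 2 10) (V7.mk 7 3 2 9 2 4 5) (V7.mk 5 0 5 6 8 7 0) (V7.mk 6 7 3 6 4 9 4) (V7.mk 8 7 7 6 5 2 7) (V7.mk 0 8 4 10 4 6 0)),
  (M7.mk (V7.mk 9 2 10 8 1 0 9) (V7.mk 7 8 2 3 9 6 0) (V7.mk 5 6 3 10 4 9 3) (V7.mk 7 8 2 5 7 6 7) (V7.mk 4 10 1 7 3 3 2) (V7.mk 3 4 2 5 10 6 3) (V7.mk 6 5 0 9 8 1 6)),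
  (M7.mk (V7.mk 6 5 8 1 7 2 8) (V7.mk 7 8 2 5 7 6 7) (V7.mk 4 10 1 7 3 3 2) (V7.mk 8 7 9 6 1 5 8) (V7.mk 6 5 0 9 8 1 6) (V7.mk 2 9 1 3 10 0 2) (V7.mk 4 3 9 8 2 5 0)),
  (M7.mk (V7.mk 7 9 0 10 8 0 2) (V7.mk 7 3 1 10 5 0 2) (V7.mk 7 9 9 10 7 9 0) (V7.mk 3 3 1 8 9 1 10) (V7.mk 0 10 7 8 8 7 4) (V7.mk 3 6 6 9 1 3 7) (V7.mk 10 9 3 8 5 9 2)),
  (M7.mk (V7.mk 7 8 8 5 6 0 7) (V7.mk 5 6 7 5 5 7 10) (V7.mk 7 3 6 0 4 8 6) (V7.mk 6 5 7 4 10 5 5) (V7.mk 1 6 5 4 5 4 6) (V7.mk 6 3 3 3 6 8 5) (V7.mk 6 8 0 8 4 6 4)),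
  (M7.mk (V7.mk 10 1 9 3 6 2 10) (V7.mk 1 3 8 5 2 9 9) (V7.mk 9 8 10 8 6 9 2) (V7.mk 3 5 8 9 4 1 6) (V7.mk 6 2 6 4 1 2 6) (V7.mk 2 9 9 1 2 6 5) (V7.mk 10 9 2 6 6 5 4)),
  (M7.mk (V7.mk 3 8 3 7 0 3 2) (V7.mk 1 4 8 0 5 9 1) (V7.mk 0 3 8 8 9 4 8) (V7.mk 10 7 0 2 10 3 6) (V7.mk 5 4 9 8 1 0 1) (V7.mk 7 6 8 8 7 8 7) (V7.mk 2 8 7 3 3 3 0)),
  (M7.mk (V7.mk 9 1 3 8 4 6 5) (V7.mk 10 5 9 2 9 6 2) (V7.mk 3 2 10 9 6 10 1) (V7.mk 3 2 2 1 5 9 3) (V7.mk 7 9 5 5 10 5 9) (V7.mk 5 6 1 9 5 7 2) (V7.mk 5 9 1 8 2 9 3)),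
  (M7.mk (V7.mk 3 1 3 1 2 4 7) (V7.mk 2 8 5 9 0 3 7) (V7.mk 10 7 6 2 3 6 8) (V7.mk 4 5 9 3 3 1 6) (V7.mk 8 6 1 0 6 2 5) (V7.mk 4 8 5 9 4 5 7) (V7.mk 10 2 0 1 2 8 9)),
  (M7.mk (V7.mk 3 2 10 9 6 10 1) (V7.mk 3 2 2 1 5 9 3) (V7.mk 4 2 6 6 1 6 2) (V7.mk 5 6 1 9 5 7 2) (V7.mk 6 2 10 3 9 2 8) (V7.mk 2 10 8 3 7 5 6) (V7.mk 1 6 2 9 2 5 9)),
  (M7.mk (V7.mk 2 9 2 0 10 7 4) (V7.mk 1 7 4 4 8 0 3) (V7.mk 9 2 3 9 3 1 5) (V7.mk 3 0 1 9 1 4 5) (V7.mk 8 1 10 10 8 3 2) (V7.mk 6 8 6 4 2 8 1) (V7.mk 2 0 0 2 10 7 3)),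
  (M7.mk (V7.mk 2 9 8 2 8 10 6) (V7.mk 3 0 1 9 1 4 5) (V7.mk 8 1 10 10 8 3 2) (V7.mk 5 3 5 7 9 3 10) (V7.mk 2 0 0 2 10 7 3) (V7.mk 9 2 9 0 1 4 7) (V7.mk 10 4 7 7 3 0 8)),
  (M7.mk (V7.mk 7 1 8 7 2 7 4) (V7.mk 3 2 2 7 3 4 8) (V7.mk 1 3 8 4 0 8 10) (V7.mk 3 10 2 8 6 2 9) (V7.mk 0 2 5 9 7 8 3) (V7.mk 10 5 2 7 3 3 5) (V7.mk 3 1 1 10 2 9 5)),
  (M7.mk (V7.mk 4 2 6 6 1 6 2) (V7.mk 6 5 10 2 6 4 9) (V7.mk 6 2 10 3 9 2 8) (V7.mk 9 1 3 8 4 6 5) (V7.mk 10 5 9 2 9 6 2) (V7.mk 8 9 1 2 5 1 10) (V7.mk 3 2 2 1 5 9 3)),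
  (M7.mk (V7.mk 3 0 9 5 2 7 8) (V7.mk 8 8 9 2 4 3 4) (V7.mk 5 1 6 2 4 3 3) (V7.mk 1 1 3 3 4 0 3) (V7.mk 6 3 1 10 10 9 2) (V7.mk 9 8 1 2 3 6 2) (V7.mk 7 7 1 3 7 9 4)),
  (M7.mk (V7.mk 6 10 5 9 7 8 8) (V7.mk 1 1 3 3 4 0 3) (V7.mk 6 3 1 10 10 9 2) (V7.mk 2 3 10 9 8 5 9) (V7.mk 7 7 1 3 7 9 4) (V7.mk 8 0 2 6 9 4 3) (V7.mk 3 3 2 9 7 8 7)),
  (M7.mk (V7.mk 3 2 7 7 9 2 5) (V7.mk 0 5 4 5 6 8 0) (V7.mk 4 6 9 5 3 7 7) (V7.mk 4 6 2 3 7 6 4) (V7.mk 8 1 5 0 7 4 0) (V7.mk 1 7 8 0 7 7 3) (V7.mk 7 9 9 5 5 5 10)),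
  (M7.mk (V7.mk 6 3 1 10 10 9 2) (V7.mk 2 3 10 9 8 5 9) (V7.mk 4 4 10 8 4 2 7) (V7.mk 8 0 2 6 9 4 3) (V7.mk 8 8 9 2 4 3 4) (V7.mk 5 1 6 2 4 3 3) (V7.mk 10 10 8 8 7 0 8)),
  (M7.mk (V7.mk 6 2 2 8 10 9 8) (V7.mk 3 3 6 1 5 9 7) (V7.mk 2 7 7 4 1 3 7) (V7.mk 0 3 10 1 8 8 7) (V7.mk 4 3 3 0 9 5 2) (V7.mk 2 9 6 8 1 10 10) (V7.mk 8 7 8 3 9 2 4))]

def tabC7 : List M7 := [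
  (M7.mk (V7.mk 9 4 4 7 10 8 4) (V7.mk 0 3 10 1 8 8 7) (V7.mk 4 3 3 0 9 5 2) (V7.mk 9 2 5 3 10 1 1) (V7.mk 8 7 8 3 9 2 4) (V7.mk 5 9 9 3 1 2 3) (V7.mk 8 8 5 10 6 2 4)),
  (M7.mk (V7.mk 6 4 7 6 9 8 4) (V7.mk 9 6 3 9 7 7 9) (V7.mk 4 0 3 1 6 0 4) (V7.mk 3 0 0 6 4 5 6) (V7.mk 4 8 1 4 8 0 7) (V7.mk 4 4 4 5 9 5 3) (V7.mk 5 10 4 9 2 6 6)),
  (M7.mk (V7.mk 5 9 1 8 2 9 3) (V7.mk 9 1 3 8 4 6 5) (V7.mk 1 6 2 9 2 5 9) (V7.mk 3 2 10 9 6 10 1) (V7.mk 8 9 9 10 6 2 8) (V7.mk 4 2 6 6 1 6 2) (V7.mk 6 5 10 2 6 4 9)),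
  (M7.mk (V7.mk 8 8 9 4 8 0 3) (V7.mk 0 9 1 8 5 1 4) (V7.mk 2 3 10 0 10 6 7) (V7.mk 3 3 4 3 4 4 5) (V7.mk 7 3 3 3 0 2 8) (V7.mk 3 7 0 3 2 3 8) (V7.mk 3 0 6 2 10 10 7)),
  (M7.mk (V7.mk 9 8 1 0 1 5 4) (V7.mk 3 3 4 3 4 4 5) (V7.mk 7 3 3 3 0 2 8) (V7.mk 8 4 0 8 9 8 3) (V7.mk 3 0 6 2 10 10 7) (V7.mk 3 3 2 7 3 0 8) (V7.mk 0 2 10 3 6 10 7)),
  (M7.mk (V7.mk 8 9 4 1 6 3 5) (V7.mk 5 7 10 9 5 5 9) (V7.mk 2 10 9 5 6 9 2) (V7.mk 9 5 5 6 7 1 2) (V7.mk 9 3 6 2 10 10 1) (V7.mk 8 5 2 9 9 1 3) (V7.mk 1 3 5 2 9 2 3)),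
  (M7.mk (V7.mk 1 2 6 5 7 2 5) (V7.mk 0 6 6 8 0 7 6) (V7.mk 4 6 3 5 7 2 4) (V7.mk 8 4 0 7 1 3 7) (V7.mk 5 2 7 9 8 7 2) (V7.mk 7 6 5 4 7 9 8) (V7.mk 0 1 0 7 3 5 4)),
  (M7.mk (V7.mk 8 3 0 9 3 7 3) (V7.mk 0 3 9 8 3 3 7) (V7.mk 6 9 10 10 7 8 0) (V7.mk 2 4 3 0 8 8 8) (V7.mk 1 3 5 1 4 0 2) (V7.mk 10 0 10 6 7 9 8) (V7.mk 4 8 4 4 5 8 8)),
  (M7.mk (V7.mk 5 10 2 2 9 5 2) (V7.mk 9 8 2 5 3 9 10) (V7.mk 4 5 10 6 9 6 9) (V7.mk 6 2 3 4 5 10 3) (V7.mk 10 8 10 6 1 9 2) (V7.mk 5 4 5 10 9 2 6) (V7.mk 2 5 10 9 8 9 8)),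
  (M7.mk (V7.mk 7 6 1 5 2 5 2) (V7.mk 6 2 3 4 5 10 3) (V7.mk 10 8 10 6 1 9 2) (V7.mk 6 7 6 1 2 9 5) (V7.mk 2 5 10 9 8 9 8) (V7.mk 6 1 9 9 2 6 9) (V7.mk 2 3 9 6 8 2 1)),
  (M7.mk (V7.mk 9 8 6 9 9 8 1) (V7.mk 3 7 2 4 4 4 10) (V7.mk 6 9 7 3 3 0 9) (V7.mk 9 7 3 7 8 8 9) (V7.mk 9 7 3 8 5 1 6) (V7.mk 3 4 0 3 10 10 8) (V7.mk 10 10 2 2 5 8 10)),
  (M7.mk (V7.mk 8 7 6 7 4 5 9) (V7.mk 0 7 4 0 8 10 6) (V7.mk 0 7 7 8 1 4 3) (V7.mk 6 5 5 1 7 2 2) (V7.mk 4 9 2 6 3 9 4) (V7.mk 6 6 8 0 0 6 7) (V7.mk 6 3 7 4 4 5 2)),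
  (M7.mk (V7.mk 2 4 5 7 7 3 5) (V7.mk 10 2 8 9 1 9 0) (V7.mk 1 9 7 4 3 1 8) (V7.mk 9 0 8 4 2 8 6) (V7.mk 9 3 6 8 1 4 6) (V7.mk 3 8 10 5 4 5 2) (V7.mk 0 6 2 5 3 5 1)),
  (M7.mk (V7.mk 0 7 7 8 1 4 3) (V7.mk 6 5 5 1 7 2 2) (V7.mk 7 2 9 5 8 2 7) (V7.mk 6 6 8 0 0 6 7) (V7.mk 5 8 4 7 7 6 9) (V7.mk 3 4 5 4 7 6 2) (V7.mk 0 4 7 0 3 1 5)),
  (M7.mk (V7.mk 10 1 2 2 5 3 1) (V7.mk 2 8 5 2 2 8 1) (V7.mk 3 4 2 4 4 7 1) (V7.mk 6 2 7 3 3 0 2) (V7.mk 9 4 3 7 8 3 2) (V7.mk 2 7 8 3 6 1 6) (V7.mk 8 4 0 8 1 10 8)),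
  (M7.mk (V7.mk 8 7 9 7 7 4 10) (V7.mk 6 2 7 3 3 0 2) (V7.mk 9 4 3 7 8 3 2) (V7.mk 9 4 3 8 5 10 5) (V7.mk 8 4 0 8 1 10 8) (V7.mk 1 10 9 9 6 8 10) (V7.mk 9 3 6 9 9 3 10)),
  (M7.mk (V7.mk 10 8 6 10 7 0 9) (V7.mk 1 0 1 5 4 2 3) (V7.mk 4 8 4 4 5 8 8) (V7.mk 8 3 0 9 3 7 3) (V7.mk 0 8 2 3 8 8 4) (V7.mk 6 9 10 10 7 8 0) (V7.mk 9 7 8 0 3 3 3)),
  (M7.mk (V7.mk 1 9 6 6 2 5 7) (V7.mk 9 6 6 9 2 9 1) (V7.mk 6 6 4 10 9 9 5) (V7.mk 6 9 10 10 1 2 8) (V7.mk 2 2 9 1 3 3 6) (V7.mk 5 9 9 2 3 10 8) (V7.mk 7 1 5 8 6 8 9)),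
  (M7.mk (V7.mk 5 5 7 1 2 2 6) (V7.mk 6 9 10 10 1 2 8) (V7.mk 2 2 9 1 3 3 6) (V7.mk 6 2 2 9 8 1 3) (V7.mk 7 1 5 8 6 8 9) (V7.mk 10 2 5 5 9 6 4) (V7.mk 2 5 5 2 9 2 10)),
  (M7.mk (V7.mk 7 4 9 1 4 8 4) (V7.mk 4 10 0 3 3 8 10) (V7.mk 9 0 4 2 3 5 3) (V7.mk 1 3 2 10 9 10 6) (V7.mk 4 3 3 9 4 9 3) (V7.mk 8 8 5 10 9 2 9) (V7.mk 4 10 3 6 3 9 6)),
  (M7.mk (V7.mk 2 2 9 1 3 3 6) (V7.mk 6 2 2 9 8 1 3) (V7.mk 4 10 6 3 5 3 2) (V7.mk 10 2 5 5 9 6 4) (V7.mk 9 6 6 9 2 9 1) (V7.mk 6 6 4 10 9 9 5) (V7.mk 5 2 1 1 10 9 3)),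
  (M7.mk (V7.mk 10 0 7 10 6 9 3) (V7.mk 10 2 7 2 4 0 9) (V7.mk 3 1 8 1 9 10 8) (V7.mk 8 4 0 4 3 7 10) (V7.mk 2 3 8 6 1 7 5) (V7.mk 3 9 1 3 5 2 2) (V7.mk 1 0 4 0 8 2 2)),
  (M7.mk (V7.mk 8 10 3 10 2 1 3) (V7.mk 8 4 0 4 3 7 10) (V7.mk 2 3 8 6 1 7 5) (V7.mk 8 2 10 8 6 9 9) (V7.mk 1 0 4 0 8 2 2) (V7.mk 1 0 4 1 5 2 8) (V7.mk 1 9 4 9 7 0 2)),
  (M7.mk (V7.mk 8 2 6 0 4 8 9) (V7.mk 1 7 9 3 6 6 8) (V7.mk 6 4 6 7 4 8 9) (V7.mk 4 8 3 2 7 10 10) (V7.mk 6 1 6 3 8 4 9) (V7.mk 2 3 1 6 5 5 0) (V7.mk 3 10 0 9 2 2 1)),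
  (M7.mk (V7.mk 4 10 6 3 5 3 2) (V7.mk 1 9 6 6 2 5 7) (V7.mk 9 6 6 9 2 9 1) (V7.mk 5 5 7 1 2 2 6) (V7.mk 6 9 10 10 1 2 8) (V7.mk 9 9 2 10 8 8 5) (V7.mk 6 2 2 9 8 1 3)),
  (M7.mk (V7.mk 4 3 2 8 3 2 4) (V7.mk 8 1 8 0 1 3 7) (V7.mk 9 8 9 6 9 1 8) (V7.mk 3 0 6 7 3 9 9) (V7.mk 3 10 2 8 6 5 4) (V7.mk 2 8 10 2 5 10 10) (V7.mk 7 7 8 9 7 1 4)),
  (M7.mk (V7.mk 7 8 1 3 0 1 8) (V7.mk 10 2 8 1 9 5 1) (V7.mk 8 9 8 2 5 9 10) (V7.mk 7 4 4 8 9 4 1) (V7.mk 2 8 0 6 7 8 9) (V7.mk 4 4 3 9 3 3 9) (V7.mk 7 8 1 2 8 5 5)),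
  (M7.mk (V7.mk 9 8 9 6 9 1 8) (V7.mk 3 0 6 7 3 9 9) (V7.mk 8 1 9 3 5 6 7) (V7.mk 2 8 10 2 5 10 10) (V7.mk 4 4 3 2 4 10 7) (V7.mk 7 8 9 3 8 9 7) (V7.mk 3 10 3 0 10 8 4)),
  (M7.mk (V7.mk 9 1 6 2 8 3 2) (V7.mk 5 6 10 5 9 4 2) (V7.mk 10 9 6 4 9 5 6) (V7.mk 1 3 2 9 3 6 2) (V7.mk 3 3 4 6 5 2 10) (V7.mk 9 9 9 6 2 1 6) (V7.mk 1 9 5 1 10 3 2)),
  (M7.mk (V7.mk 1 2 5 7 2 6 5) (V7.mk 1 3 2 9 3 6 2) (V7.mk 3 3 4 6 5 2 10) (V7.mk 2 2 2 5 9 10 5) (V7.mk 1 9 5 1 10 3 2) (V7.mk 2 10 5 9 3 8 9) (V7.mk 6 5 1 6 2 7 9)),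
  (M7.mk (V7.mk 0 4 8 4 10 3 4) (V7.mk 10 8 5 2 9 3 2) (V7.mk 4 1 6 9 8 10 0) (V7.mk 8 1 2 1 8 8 1) (V7.mk 3 5 1 7 6 2 8) (V7.mk 4 0 3 9 2 10 0) (V7.mk 7 2 7 0 9 1 2)),
  (M7.mk (V7.mk 8 10 6 4 6 9 8) (V7.mk 9 7 7 3 10 3 10) (V7.mk 6 2 6 3 6 10 0) (V7.mk 0 8 7 2 3 5 2) (V7.mk 4 5 4 7 8 6 9) (V7.mk 3 6 3 1 7 5 2) (V7.mk 2 8 2 1 2 0 1)),
  (M7.mk (V7.mk 5 2 7 8 8 5 1) (V7.mk 3 8 4 0 3 10 10) (V7.mk 10 10 1 2 9 6 3) (V7.mk 1 9 3 6 2 2 3) (V7.mk 1 8 7 9 4 4 4) (V7.mk 9 6 2 7 8 8 0) (V7.mk 2 2 7 8 7 8 8)),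
  (M7.mk (V7.mk 1 1 10 9 2 5 8) (V7.mk 1 9 3 6 2 2 3) (V7.mk 1 8 7 9 4 4 4) (V7.mk 2 5 9 4 3 3 0) (V7.mk 2 2 7 8 7 8 8) (V7.mk 6 9 4 3 3 6 10) (V7.mk 8 3 7 0 8 1 1)),
  (M7.mk (V7.mk 5 9 9 7 4 10 1) (V7.mk 4 0 7 2 0 7 9) (V7.mk 9 2 4 0 0 7 7) (V7.mk 10 7 10 7 7 4 10) (V7.mk 9 4 1 9 7 10 5) (V7.mk 1 7 5 4 9 10 9) (V7.mk 7 0 9 0 2 7 4)),
  (M7.mk (V7.mk 1 8 7 9 4 4 4) (V7.mk 2 5 9 4 3 3 0) (V7.mk 9 9 4 3 4 3 3) (V7.mk 6 9 4 3 3 6 10) (V7.mk 3 8 4 0 3 10 10) (V7.mk 10 10 1 2 9 6 3) (V7.mk 10 2 8 5 9 9 8)),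
  (M7.mk (V7.mk 9 8 2 3 1 6 9) (V7.mk 0 0 9 10 7 8 2) (V7.mk 0 1 9 10 7 5 8) (V7.mk 2 9 0 10 7 7 2) (V7.mk 1 10 10 3 8 2 3) (V7.mk 7 4 4 3 0 3 10) (V7.mk 8 6 4 9 3 1 5)),
  (M7.mk (V7.mk 0 10 2 1 4 6 3) (V7.mk 2 9 0 10 7 7 2) (V7.mk 1 10 10 3 8 2 3) (V7.mk 4 7 7 8 0 8 1) (V7.mk 8 6 4 9 3 1 5) (V7.mk 2 3 9 8 10 5 2) (V7.mk 0 0 2 1 4 3 9)),
  (M7.mk (V7.mk 4 9 2 6 3 9 4) (V7.mk 6 6 8 0 0 6 7) (V7.mk 5 8 4 7 7 6 9) (V7.mk 8 7 6 7 4 5 9) (V7.mk 0 4 7 0 3 1 5) (V7.mk 0 4 4 3 10 7 8) (V7.mk 5 6 6 10 4 9 9)),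
  (M7.mk (V7.mk 6 5 1 6 2 7 9) (V7.mk 1 2 5 7 2 6 5) (V7.mk 10 8 9 2 8 5 9) (V7.mk 3 3 4 6 5 2 10) (V7.mk 9 9 9 6 2 1 6) (V7.mk 10 2 6 10 1 8 9) (V7.mk 9 1 6 2 8 3 2)),
  (M7.mk (V7.mk 3 6 8 9 5 7 1) (V7.mk 2 10 4 3 4 7 4) (V7.mk 0 3 8 8 1 7 1) (V7.mk 7 9 3 6 3 9 0) (V7.mk 9 1 9 1 6 1 3) (V7.mk 8 2 4 2 3 4 3) (V7.mk 5 10 2 2 2 3 3)),
  (M7.mk (V7.mk 0 8 3 3 10 4 10) (V7.mk 7 9 3 6 3 9 0) (V7.mk 9 1 9 1 6 1 3) (V7.mk 3 9 7 9 8 7 8) (V7.mk 5 10 2 2 2 3 3) (V7.mk 8 5 3 2 6 4 10) (V7.mk 9 1 7 8 7 4 7)),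
  (M7.mk (V7.mk 7 6 7 6 1 5 5) (V7.mk 3 6 8 6 5 3 8) (V7.mk 8 4 6 7 5 8 0) (V7.mk 5 6 0 4 4 8 3) (V7.mk 6 6 4 10 5 5 7) (V7.mk 0 7 3 6 7 8 6) (V7.mk 4 10 5 6 5 5 4)),
  (M7.mk (V7.mk 9 1 9 1 6 1 3) (V7.mk 3 9 7 9 8 7 8) (V7.mk 6 1 9 9 9 8 8) (V7.mk 8 5 3 2 6 4 10) (V7.mk 2 10 4 3 4 7 4) (V7.mk 0 3 8 8 1 7 1) (V7.mk 4 2 8 5 8 2 0)),
  (M7.mk (V7.mk 6 1 9 9 9 8 8) (V7.mk 3 6 8 9 5 7 1) (V7.mk 2 10 4 3 4 7 4) (V7.mk 0 8 3 3 10 4 10) (V7.mk 7 9 3 6 3 9 0) (V7.mk 2 10 2 10 5 10 8) (V7.mk 3 9 7 9 8 7 8)),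
  (M7.mk (V7.mk 7 6 0 0 3 7 10) (V7.mk 3 7 0 5 0 6 6) (V7.mk 7 8 8 0 1 4 7) (V7.mk 4 2 7 5 7 3 5) (V7.mk 5 9 1 6 7 6 9) (V7.mk 6 2 7 8 4 4 6) (V7.mk 2 7 6 4 3 2 2)),
  (M7.mk (V7.mk 0 8 2 3 8 8 4) (V7.mk 6 9 10 10 7 8 0) (V7.mk 2 4 3 0 8 8 8) (V7.mk 10 8 6 10 7 0 9) (V7.mk 10 0 10 6 7 9 8) (V7.mk 7 3 7 7 6 3 3) (V7.mk 3 8 0 2 8 4 8)),
  (M7.mk (V7.mk 10 1 8 10 8 3 9) (V7.mk 1 8 1 3 3 2 10) (V7.mk 8 1 8 8 2 1 1) (V7.mk 1 8 3 9 1 10 8) (V7.mk 3 8 9 1 1 8 10) (V7.mk 3 2 1 1 3 10 8) (V7.mk 2 1 10 8 10 3 3)),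
  (M7.mk (V7.mk 3 10 3 3 9 10 10) (V7.mk 1 8 3 9 1 10 8) (V7.mk 3 8 9 1 1 8 10) (V7.mk 8 9 10 10 8 1 3) (V7.mk 2 1 10 8 10 3 3) (V7.mk 1 10 3 1 3 8 2) (V7.mk 10 3 10 8 8 9 1)),
  (M7.mk (V7.mk 9 3 3 8 4 0 3) (V7.mk 10 1 7 3 0 5 9) (V7.mk 8 0 3 8 8 2 7) (V7.mk 5 10 4 0 9 10 3) (V7.mk 1 6 4 9 8 10 0) (V7.mk 7 4 6 8 8 4 3) (V7.mk 0 9 8 7 3 8 8)),
  (M7.mk (V7.mk 8 2 4 8 0 8 3) (V7.mk 2 1 3 6 10 4 0) (V7.mk 8 10 0 1 5 7 2) (V7.mk 3 7 3 4 4 6 8) (V7.mk 8 3 8 0 9 8 7) (V7.mk 7 0 3 2 3 3 8) (V7.mk 0 5 2 10 10 4 8)),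
  (M7.mk (V7.mk 3 1 0 10 6 4 9) (V7.mk 3 7 3 4 4 6 8) (V7.mk 8 3 8 0 9 8 7) (V7.mk 4 0 8 9 8 8 3) (V7.mk 0 5 2 10 10 4 8) (V7.mk 3 9 7 3 0 3 8) (V7.mk 9 10 8 5 1 7 0)),
  (M7.mk (V7.mk 2 7 6 10 6 2 6) (V7.mk 3 6 2 8 7 5 1) (V7.mk 9 1 3 10 6 10 9) (V7.mk 6 5 4 6 1 9 9) (V7.mk 8 2 5 1 2 8 2) (V7.mk 2 5 10 9 9 9 6) (V7.mk 1 2 3 2 5 8 9)),
  (M7.mk (V7.mk 4 3 0 3 8 3 2) (V7.mk 3 5 10 7 0 9 1) (V7.mk 0 10 5 4 9 3 10) (V7.mk 3 7 4 5 3 8 7) (V7.mk 8 0 9 3 4 3 3) (V7.mk 3 9 3 8 3 4 0) (V7.mk 2 1 10 7 3 0 5)),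
  (M7.mk (V7.mk 0 1 6 7 2 8 1) (V7.mk 3 7 4 5 3 8 7) (V7.mk 8 0 9 3 4 3 3) (V7.mk 8 2 8 3 8 7 0) (V7.mk 2 1 10 7 3 0 5) (V7.mk 7 8 0 8 3 8 9) (V7.mk 8 6 1 4 0 2 10)),
  (M7.mk (V7.mk 6 1 6 9 5 9 7) (V7.mk 2 3 7 6 10 8 6) (V7.mk 3 1 6 1 2 2 1) (V7.mk 4 5 1 2 2 5 5) (V7.mk 5 10 2 3 9 3 2) (V7.mk 10 2 9 2 5 9 5) (V7.mk 3 9 5 3 2 10 2)),
  (M7.mk (V7.mk 8 0 9 3 4 3 3) (V7.mk 8 2 8 3 8 7 0) (V7.mk 9 10 1 4 8 0 6) (V7.mk 7 8 0 8 3 8 9) (V7.mk 3 5 10 7 0 9 1) (V7.mk 0 10 5 4 9 3 10) (V7.mk 8 4 7 6 8 3 4)),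
  (M7.mk (V7.mk 6 5 7 4 9 3 7) (V7.mk 10 0 7 3 6 4 0) (V7.mk 9 5 5 7 9 5 10) (V7.mk 6 6 3 0 7 5 0) (V7.mk 5 8 5 7 9 4 7) (V7.mk 4 0 4 10 3 4 8) (V7.mk 2 7 2 3 7 9 5)),
  (M7.mk (V7.mk 2 6 6 4 2 6 1) (V7.mk 6 6 3 0 7 5 0) (V7.mk 5 8 5 7 9 4 7) (V7.mk 7 0 7 1 8 7 3) (V7.mk 2 7 2 3 7 9 5) (V7.mk 5 6 4 7 2 8 4) (V7.mk 1 0 4 8 5 7 0)),
  (M7.mk (V7.mk 7 6 1 5 2 5 2) (V7.mk 5 9 8 7 6 1 8) (V7.mk 1 3 1 5 10 2 9) (V7.mk 5 4 5 10 9 2 6) (V7.mk 2 5 10 9 8 9 8) (V7.mk 6 1 9 9 2 6 9) (V7.mk 9 8 2 5 3 9 10)),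
  (M7.mk (V7.mk 10 3 10 8 8 9 1) (V7.mk 3 10 3 3 9 10 10) (V7.mk 10 3 8 2 10 1 3) (V7.mk 3 8 9 1 1 8 10) (V7.mk 3 2 1 1 3 10 8) (V7.mk 9 10 1 3 1 8 8) (V7.mk 10 1 8 10 8 3 9)),
  (M7.mk (V7.mk 4 0 9 1 8 6 10) (V7.mk 7 9 3 10 0 1 5) (V7.mk 5 8 3 4 3 7 7) (V7.mk 3 7 8 8 8 0 2) (V7.mk 3 3 4 0 8 2 3) (V7.mk 7 8 0 6 2 1 1) (V7.mk 8 8 3 2 7 8 0)),
  (M7.mk (V7.mk 6 3 8 7 8 4 4) (V7.mk 3 7 8 8 8 0 2) (V7.mk 3 3 4 0 8 2 3) (V7.mk 4 3 0 5 9 10 10) (V7.mk 8 8 3 2 7 8 0) (V7.mk 7 0 2 10 3 5 1) (V7.mk 4 2 8 1 0 10 6)),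
  (M7.mk (V7.mk 8 6 4 0 1 0 7) (V7.mk 4 9 5 10 2 6 5) (V7.mk 0 4 6 0 6 6 8) (V7.mk 7 2 7 4 5 8 6) (V7.mk 1 3 4 8 7 0 4) (V7.mk 3 4 2 6 2 7 9) (V7.mk 7 9 3 7 5 6 7))]

def tabC8 : List M7 := [
  (M7.mk (V7.mk 9 10 6 2 9 9 6) (V7.mk 10 3 9 1 2 6 10) (V7.mk 8 3 9 9 10 5 9) (V7.mk 2 7 2 6 6 10 5) (V7.mk 9 5 5 10 2 5 7) (V7.mk 8 5 2 10 3 2 9) (V7.mk 6 9 10 8 3 4 6)),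
  (M7.mk (V7.mk 3 8 2 2 1 6 2) (V7.mk 2 7 2 6 6 10 5) (V7.mk 9 5 5 10 2 5 7) (V7.mk 3 6 9 1 8 9 2) (V7.mk 6 9 10 8 3 4 6) (V7.mk 2 1 5 9 2 2 5) (V7.mk 1 8 2 10 9 5 1)),
  (M7.mk (V7.mk 4 5 5 8 0 0 6) (V7.mk 2 6 3 4 7 4 6) (V7.mk 2 3 4 6 7 7 5) (V7.mk 6 0 7 7 0 8 1) (V7.mk 3 0 7 4 3 1 7) (V7.mk 2 6 5 6 10 7 9) (V7.mk 7 7 2 2 6 8 9)),
  (M7.mk (V7.mk 3 3 8 9 4 3 0) (V7.mk 4 0 9 1 8 6 10) (V7.mk 7 9 3 10 0 1 5) (V7.mk 6 3 8 7 8 4 4) (V7.mk 3 7 8 8 8 0 2) (V7.mk 8 8 7 0 3 9 8) (V7.mk 4 3 0 5 9 10 10)),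
  (M7.mk (V7.mk 6 2 4 3 4 7 6) (V7.mk 7 6 0 0 3 4 10) (V7.mk 7 8 3 0 1 7 7) (V7.mk 6 2 1 6 4 6 2) (V7.mk 9 4 6 4 8 2 9) (V7.mk 3 7 0 6 0 5 6) (V7.mk 7 9 7 5 4 3 6)),
  (M7.mk (V7.mk 8 7 1 4 5 0 0) (V7.mk 0 5 6 3 7 0 6) (V7.mk 1 7 7 7 8 3 0) (V7.mk 7 8 5 4 2 4 6) (V7.mk 4 6 2 6 2 1 6) (V7.mk 7 4 5 5 9 7 8) (V7.mk 3 9 2 2 7 5 7)),
  (M7.mk (V7.mk 4 10 6 3 5 3 2) (V7.mk 1 9 6 6 2 5 7) (V7.mk 2 5 5 2 9 2 10) (V7.mk 5 5 7 1 2 2 6) (V7.mk 5 2 1 1 10 9 3) (V7.mk 2 2 9 1 3 3 6) (V7.mk 5 9 9 2 3 10 8)),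
  (M7.mk (V7.mk 9 6 6 9 2 9 1) (V7.mk 5 5 7 1 2 2 6) (V7.mk 5 2 1 1 10 9 3) (V7.mk 9 9 2 10 8 8 5) (V7.mk 5 9 9 2 3 10 8) (V7.mk 7 1 5 8 6 8 9) (V7.mk 10 2 5 5 9 6 4)),
  (M7.mk (V7.mk 10 4 3 0 7 4 3) (V7.mk 7 9 9 6 6 5 1) (V7.mk 3 2 7 4 2 2 6) (V7.mk 0 5 4 6 5 8 0) (V7.mk 7 5 2 5 3 4 7) (V7.mk 7 5 9 3 7 5 4) (V7.mk 8 1 5 0 4 4 0)),
  (M7.mk (V7.mk 7 5 2 5 3 4 7) (V7.mk 4 6 2 8 4 6 7) (V7.mk 3 10 6 0 7 7 0) (V7.mk 1 7 8 0 4 7 8) (V7.mk 7 9 9 6 6 5 1) (V7.mk 3 2 7 4 2 2 6) (V7.mk 0 6 7 5 6 3 0)),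
  (M7.mk (V7.mk 10 6 9 2 8 9 8) (V7.mk 7 3 9 0 0 9 10) (V7.mk 4 5 8 0 1 2 1) (V7.mk 7 4 9 2 2 0 10) (V7.mk 8 9 8 1 1 10 3) (V7.mk 0 8 1 7 7 4 3) (V7.mk 8 1 5 3 6 7 2)),
  (M7.mk (V7.mk 5 1 10 8 9 1 2) (V7.mk 5 9 3 3 2 2 1) (V7.mk 1 6 2 4 2 6 6) (V7.mk 6 4 9 6 5 10 2) (V7.mk 9 2 8 6 2 10 3) (V7.mk 4 6 5 9 1 3 8) (V7.mk 9 6 2 10 5 9 2)),
  (M7.mk (V7.mk 1 6 2 4 2 6 6) (V7.mk 6 4 9 6 5 10 2) (V7.mk 2 9 3 5 9 1 8) (V7.mk 4 6 5 9 1 3 8) (V7.mk 2 5 9 1 6 2 9) (V7.mk 6 10 1 3 2 10 9) (V7.mk 6 2 8 8 9 9 10)),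
  (M7.mk (V7.mk 0 9 3 4 8 8 8) (V7.mk 9 8 3 8 4 0 8) (V7.mk 1 1 4 8 0 5 9) (V7.mk 8 0 3 8 8 9 4) (V7.mk 5 1 4 0 9 1 8) (V7.mk 1 5 4 9 8 1 0) (V7.mk 4 4 5 3 3 4 3)),
  (M7.mk (V7.mk 9 3 10 0 10 5 4) (V7.mk 8 3 4 8 4 7 6) (V7.mk 4 3 3 8 0 9 3) (V7.mk 8 7 0 8 2 8 3) (V7.mk 8 0 6 9 10 1 4) (V7.mk 3 8 9 7 8 0 8) (V7.mk 0 9 1 3 5 10 7)),
  (M7.mk (V7.mk 1 8 8 9 10 1 3) (V7.mk 8 3 9 10 1 8 10) (V7.mk 8 9 1 10 3 10 8) (V7.mk 9 10 10 3 10 3 3) (V7.mk 10 1 3 10 3 8 2) (V7.mk 1 8 10 3 8 9 1) (V7.mk 3 10 8 3 2 1 1)),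
  (M7.mk (V7.mk 3 7 7 5 8 3 4) (V7.mk 3 0 9 8 4 3 3) (V7.mk 8 2 3 3 3 4 0) (V7.mk 9 10 10 4 3 0 5) (V7.mk 4 3 0 3 3 8 9) (V7.mk 3 5 1 7 0 2 10) (V7.mk 0 1 5 7 9 3 10)),
  (M7.mk (V7.mk 3 9 8 8 8 7 0) (V7.mk 9 10 10 4 3 0 5) (V7.mk 4 3 0 3 3 8 9) (V7.mk 8 6 10 4 0 9 1) (V7.mk 0 1 5 7 9 3 10) (V7.mk 8 4 4 6 3 8 7) (V7.mk 8 0 2 3 7 8 8)),
  (M7.mk (V7.mk 9 7 8 7 4 5 5) (V7.mk 7 5 7 3 9 2 2) (V7.mk 5 0 0 8 7 1 4) (V7.mk 7 0 6 0 5 6 3) (V7.mk 8 3 0 1 7 7 7) (V7.mk 2 4 6 7 8 5 4) (V7.mk 2 1 6 4 6 2 6)),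
  (M7.mk (V7.mk 6 9 5 9 1 6 7) (V7.mk 4 6 6 2 7 8 4) (V7.mk 2 2 2 7 6 4 3) (V7.mk 7 10 7 6 0 0 3) (V7.mk 6 6 3 7 0 5 0) (V7.mk 4 7 7 8 8 0 1) (V7.mk 3 5 4 2 7 5 7)),
  (M7.mk (V7.mk 2 4 0 9 10 2 7) (V7.mk 3 5 2 2 3 9 1) (V7.mk 1 9 10 8 3 1 8) (V7.mk 0 8 2 2 1 0 4) (V7.mk 4 3 7 10 8 4 0) (V7.mk 10 6 9 3 10 0 7) (V7.mk 6 1 7 5 2 3 8)),
  (M7.mk (V7.mk 2 2 2 7 6 4 3) (V7.mk 7 10 7 6 0 0 3) (V7.mk 5 5 8 4 0 6 0) (V7.mk 4 7 7 8 8 0 1) (V7.mk 8 6 7 9 4 6 4) (V7.mk 5 2 6 2 10 5 4) (V7.mk 7 5 5 9 4 3 7)),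
  (M7.mk (V7.mk 2 7 5 4 8 5 7) (V7.mk 9 4 3 4 4 5 6) (V7.mk 5 0 0 3 7 1 7) (V7.mk 8 8 0 10 7 7 4) (V7.mk 2 10 5 7 6 2 5) (V7.mk 7 6 4 8 9 2 9) (V7.mk 7 0 5 0 5 6 8)),
  (M7.mk (V7.mk 5 0 4 3 9 8 2) (V7.mk 2 8 6 5 8 1 7) (V7.mk 6 7 7 8 2 5 7) (V7.mk 3 2 4 10 1 7 3) (V7.mk 5 8 8 7 9 6 1) (V7.mk 1 6 6 5 0 9 8) (V7.mk 0 2 2 9 1 3 10)),
  (M7.mk (V7.mk 2 9 2 3 1 3 5) (V7.mk 1 6 3 5 8 9 4) (V7.mk 2 6 6 2 6 4 1) (V7.mk 5 6 9 2 2 10 9) (V7.mk 5 4 10 9 2 6 6) (V7.mk 9 1 1 10 2 8 5) (V7.mk 2 2 10 8 3 6 9)),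
  (M7.mk (V7.mk 5 4 10 9 2 6 6) (V7.mk 2 10 10 1 9 3 6) (V7.mk 9 9 1 3 8 5 2) (V7.mk 9 2 9 8 10 8 6) (V7.mk 1 6 3 5 8 9 4) (V7.mk 2 6 6 2 6 4 1) (V7.mk 6 5 2 9 9 1 2)),
  (M7.mk (V7.mk 10 6 0 7 7 0 3) (V7.mk 7 8 0 4 7 8 1) (V7.mk 2 2 5 5 6 10 4) (V7.mk 2 7 4 2 2 6 3) (V7.mk 5 4 6 5 8 0 0) (V7.mk 6 9 6 8 7 4 4) (V7.mk 5 9 3 7 5 4 7)),
  (M7.mk (V7.mk 9 9 6 6 5 1 7) (V7.mk 2 7 4 2 2 6 3) (V7.mk 5 4 6 5 8 0 0) (V7.mk 5 2 5 3 4 7 7) (V7.mk 5 9 3 7 5 4 7) (V7.mk 1 5 0 4 4 0 8) (V7.mk 4 3 0 7 4 3 10)),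
  (M7.mk (V7.mk 5 4 6 5 8 0 0) (V7.mk 5 2 5 3 4 7 7) (V7.mk 6 2 8 4 6 7 4) (V7.mk 1 5 0 4 4 0 8) (V7.mk 7 8 0 4 7 8 1) (V7.mk 2 2 5 5 6 10 4) (V7.mk 9 4 7 9 9 5 8)),
  (M7.mk (V7.mk 0 7 7 0 8 10 5) (V7.mk 5 6 3 0 0 6 4) (V7.mk 0 4 7 3 10 7 3) (V7.mk 6 8 7 7 7 6 2) (V7.mk 5 5 6 1 7 2 9) (V7.mk 8 4 6 4 7 6 9) (V7.mk 7 9 9 6 3 9 7)),
  (M7.mk (V7.mk 0 7 4 8 1 4 8) (V7.mk 6 8 7 7 7 6 2) (V7.mk 5 5 6 1 7 2 9) (V7.mk 3 7 5 7 4 5 2) (V7.mk 7 9 9 6 3 9 7) (V7.mk 0 4 4 0 3 1 6) (V7.mk 6 5 8 0 0 5 7)),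
  (M7.mk (V7.mk 10 10 1 3 8 2 8) (V7.mk 0 0 2 10 7 8 9) (V7.mk 7 7 4 8 0 8 10) (V7.mk 0 10 9 1 4 6 8) (V7.mk 3 6 7 9 3 1 6) (V7.mk 2 2 0 1 4 4 2) (V7.mk 2 8 9 3 1 6 2)),
  (M7.mk (V7.mk 6 2 8 4 6 7 4) (V7.mk 10 6 0 7 7 0 3) (V7.mk 7 8 0 4 7 8 1) (V7.mk 9 9 6 6 5 1 7) (V7.mk 2 7 4 2 2 6 3) (V7.mk 6 7 5 6 3 0 0) (V7.mk 5 2 5 3 4 7 7)),
  (M7.mk (V7.mk 10 6 8 5 4 9 3) (V7.mk 5 2 9 3 2 3 1) (V7.mk 8 2 0 0 2 1 4) (V7.mk 5 8 0 1 2 1 4) (V7.mk 4 9 2 2 0 10 7) (V7.mk 2 3 10 10 1 8 3) (V7.mk 8 1 7 7 4 3 0)),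
  (M7.mk (V7.mk 3 9 0 0 9 10 7) (V7.mk 5 8 0 1 2 1 4) (V7.mk 4 9 2 2 0 10 7) (V7.mk 9 8 1 1 10 3 8) (V7.mk 8 1 7 7 4 3 0) (V7.mk 1 5 3 6 7 2 8) (V7.mk 6 9 2 8 9 8 10)),
  (M7.mk (V7.mk 7 0 6 0 0 0 2) (V7.mk 0 8 0 9 3 10 0) (V7.mk 0 9 0 8 3 10 0) (V7.mk 0 1 0 1 10 3 0) (V7.mk 5 0 2 0 0 0 4) (V7.mk 9 0 4 0 0 0 6) (V7.mk 0 8 0 8 2 10 0)),
  (M7.mk (V7.mk 1 1 3 3 4 0 3) (V7.mk 6 3 1 10 10 9 2) (V7.mk 2 3 10 9 8 5 9) (V7.mk 7 7 1 3 7 9 4) (V7.mk 8 0 2 6 9 4 3) (V7.mk 3 3 2 9 7 8 7) (V7.mk 6 10 5 9 7 8 8)),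
  (M7.mk (V7.mk 9 8 1 2 3 6 2) (V7.mk 7 7 1 3 7 9 4) (V7.mk 8 0 2 6 9 4 3) (V7.mk 8 8 9 2 4 3 4) (V7.mk 6 10 5 9 7 8 8) (V7.mk 10 10 8 8 7 0 8) (V7.mk 5 8 10 1 1 2 9)),
  (M7.mk (V7.mk 4 3 0 7 4 3 10) (V7.mk 9 9 6 6 5 1 7) (V7.mk 9 4 7 9 9 5 8) (V7.mk 5 4 6 5 8 0 0) (V7.mk 6 9 6 8 7 4 4) (V7.mk 6 2 8 4 6 7 4) (V7.mk 10 6 0 7 7 0 3)),
  (M7.mk (V7.mk 9 3 5 9 1 8 2) (V7.mk 6 5 9 1 3 8 4) (V7.mk 6 2 10 5 9 2 9) (V7.mk 10 1 3 2 10 9 6) (V7.mk 9 3 3 2 2 1 5) (V7.mk 5 9 7 9 5 5 10) (V7.mk 7 2 5 6 1 9 5)),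
  (M7.mk (V7.mk 5 9 1 6 2 9 2) (V7.mk 10 1 3 2 10 9 6) (V7.mk 9 3 3 2 2 1 5) (V7.mk 6 2 4 2 6 6 1) (V7.mk 7 2 5 6 1 9 5) (V7.mk 2 8 6 2 10 3 9) (V7.mk 5 6 2 10 8 3 7)),
  (M7.mk (V7.mk 0 8 10 4 7 7 3) (V7.mk 10 6 2 9 8 2 8) (V7.mk 4 5 3 0 1 9 1) (V7.mk 3 2 8 1 10 10 8) (V7.mk 3 10 5 3 5 7 9) (V7.mk 7 3 2 0 0 2 10) (V7.mk 4 7 9 2 9 0 1)),
  (M7.mk (V7.mk 9 3 3 2 2 1 5) (V7.mk 6 2 4 2 6 6 1) (V7.mk 4 9 6 5 10 2 6) (V7.mk 2 8 6 2 10 3 9) (V7.mk 6 5 9 1 3 8 4) (V7.mk 6 2 10 5 9 2 9) (V7.mk 1 10 8 9 1 2 5)),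
  (M7.mk (V7.mk 8 7 3 3 2 9 7) (V7.mk 8 8 6 10 5 9 7) (V7.mk 0 3 1 1 3 3 4) (V7.mk 9 2 6 3 1 10 10) (V7.mk 5 9 2 3 10 9 8) (V7.mk 9 4 7 7 1 3 7) (V7.mk 4 3 8 0 2 6 9)),
  (M7.mk (V7.mk 0 8 10 10 8 8 7) (V7.mk 9 2 6 3 1 10 10) (V7.mk 5 9 2 3 10 9 8) (V7.mk 2 7 4 4 10 8 4) (V7.mk 4 3 8 0 2 6 9) (V7.mk 3 4 8 8 9 2 4) (V7.mk 3 3 5 1 6 2 4)),
  (M7.mk (V7.mk 2 4 8 8 5 10 6) (V7.mk 8 4 9 4 4 7 10) (V7.mk 8 7 0 3 10 1 8) (V7.mk 5 2 4 3 3 0 9) (V7.mk 1 1 9 2 5 3 10) (V7.mk 2 4 8 7 8 3 9) (V7.mk 2 3 5 9 9 3 1)),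
  (M7.mk (V7.mk 4 9 6 5 10 2 6) (V7.mk 9 3 5 9 1 8 2) (V7.mk 6 5 9 1 3 8 4) (V7.mk 5 9 1 6 2 9 2) (V7.mk 10 1 3 2 10 9 6) (V7.mk 2 8 8 9 9 10 6) (V7.mk 6 2 4 2 6 6 1)),
  (M7.mk (V7.mk 8 4 0 8 9 8 3) (V7.mk 3 0 6 2 10 10 7) (V7.mk 8 8 9 4 8 0 3) (V7.mk 0 2 10 3 6 10 7) (V7.mk 2 3 10 0 10 6 7) (V7.mk 8 8 7 8 7 7 6) (V7.mk 4 8 8 8 0 9 3)),
  (M7.mk (V7.mk 0 9 10 8 6 10 7) (V7.mk 2 3 1 0 1 5 4) (V7.mk 3 3 7 3 7 7 6) (V7.mk 7 3 8 3 0 9 3) (V7.mk 3 7 0 3 9 8 3) (V7.mk 3 0 5 2 1 1 4) (V7.mk 8 8 2 4 3 0 8)),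
  (M7.mk (V7.mk 2 1 2 3 9 6 8) (V7.mk 5 2 7 6 1 5 2) (V7.mk 10 3 6 2 3 4 5) (V7.mk 9 2 10 8 10 6 1) (V7.mk 9 5 6 7 6 1 2) (V7.mk 9 8 2 5 10 9 8) (V7.mk 6 9 6 1 9 9 2)),
  (M7.mk (V7.mk 5 2 6 3 7 4 4) (V7.mk 5 9 8 7 6 7 4) (V7.mk 10 6 0 7 4 0 8) (V7.mk 4 3 0 7 7 8 1) (V7.mk 2 2 6 5 5 1 7) (V7.mk 9 4 4 9 2 6 3) (V7.mk 6 7 6 6 8 0 0)),
  (M7.mk (V7.mk 1 5 0 4 7 0 3) (V7.mk 4 3 0 7 7 8 1) (V7.mk 2 2 6 5 5 1 7) (V7.mk 2 7 7 2 9 5 8) (V7.mk 6 7 6 6 8 0 0) (V7.mk 6 9 5 8 4 7 7) (V7.mk 6 2 3 4 5 4 7)),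
  (M7.mk (V7.mk 3 10 9 3 6 9 9) (V7.mk 4 10 8 7 9 7 7) (V7.mk 0 2 6 2 7 3 3) (V7.mk 3 2 9 4 3 7 8) (V7.mk 10 5 9 4 3 8 5) (V7.mk 10 8 8 4 0 8 1) (V7.mk 8 10 1 10 9 9 6)),
  (M7.mk (V7.mk 3 3 9 7 8 0 3) (V7.mk 0 9 10 8 6 10 7) (V7.mk 2 3 1 0 1 5 4) (V7.mk 8 8 4 8 4 4 5) (V7.mk 7 3 8 3 0 9 3) (V7.mk 8 4 0 8 2 3 8) (V7.mk 8 0 6 9 10 10 7)),
  (M7.mk (V7.mk 2 10 2 5 5 2 9) (V7.mk 2 6 5 5 7 1 2) (V7.mk 2 8 6 9 10 10 1) (V7.mk 3 6 2 2 9 1 3) (V7.mk 1 3 6 2 2 9 8) (V7.mk 8 9 7 1 5 8 6) (V7.mk 6 4 10 2 5 5 9)),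
  (M7.mk (V7.mk 0 2 1 9 4 9 7) (V7.mk 1 3 8 10 3 10 2) (V7.mk 7 10 8 4 0 4 3) (V7.mk 7 5 2 3 8 6 1) (V7.mk 9 9 8 2 10 8 6) (V7.mk 2 2 1 0 4 0 8) (V7.mk 2 8 1 0 4 1 5)),
  (M7.mk (V7.mk 1 3 6 2 2 9 8) (V7.mk 3 2 4 10 6 3 5) (V7.mk 5 7 1 9 6 6 2) (V7.mk 9 1 9 6 6 9 2) (V7.mk 2 6 5 5 7 1 2) (V7.mk 2 8 6 9 10 10 1) (V7.mk 8 5 9 9 2 10 8)),
  (M7.mk (V7.mk 1 4 7 7 8 9 7) (V7.mk 2 4 4 3 2 8 3) (V7.mk 3 7 8 1 8 0 1) (V7.mk 1 8 9 8 9 6 9) (V7.mk 9 9 3 0 6 7 3) (V7.mk 5 4 3 10 2 8 6) (V7.mk 10 10 2 8 10 2 5)),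
  (M7.mk (V7.mk 8 4 3 10 3 0 10) (V7.mk 1 8 9 8 9 6 9) (V7.mk 9 9 3 0 6 7 3) (V7.mk 6 7 8 1 9 3 5) (V7.mk 10 10 2 8 10 2 5) (V7.mk 10 7 4 4 3 2 4) (V7.mk 9 7 7 8 9 3 8)),
  (M7.mk (V7.mk 7 9 6 5 1 6 2) (V7.mk 6 5 1 2 5 7 2) (V7.mk 6 2 1 3 2 9 3) (V7.mk 2 10 3 3 4 6 5) (V7.mk 10 5 2 2 2 5 9) (V7.mk 3 2 1 9 5 1 10) (V7.mk 8 9 2 10 5 9 3)),
  (M7.mk (V7.mk 5 9 10 8 9 2 8) (V7.mk 2 10 3 3 4 6 5) (V7.mk 10 5 2 2 2 5 9) (V7.mk 8 9 10 2 6 10 1) (V7.mk 8 9 2 10 5 9 3) (V7.mk 4 2 5 6 10 5 9) (V7.mk 5 6 10 9 6 4 9)),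
  (M7.mk (V7.mk 5 9 4 5 7 4 8) (V7.mk 5 9 8 5 3 1 4) (V7.mk 0 10 9 3 2 1 9) (V7.mk 2 8 8 10 5 7 6) (V7.mk 3 1 2 4 7 3 1) (V7.mk 1 0 6 2 5 8 6) (V7.mk 6 2 0 8 4 9 3)),
  (M7.mk (V7.mk 10 5 2 2 2 5 9) (V7.mk 8 9 10 2 6 10 1) (V7.mk 3 2 9 1 6 2 8) (V7.mk 4 2 5 6 10 5 9) (V7.mk 6 5 1 2 5 7 2) (V7.mk 6 2 1 3 2 9 3) (V7.mk 9 1 8 8 7 5 6)),
  (M7.mk (V7.mk 1 1 8 3 7 0 8) (V7.mk 5 8 1 1 10 9 2) (V7.mk 2 3 1 9 3 6 2) (V7.mk 4 4 1 8 7 9 4) (V7.mk 3 0 2 5 9 4 3) (V7.mk 8 8 2 2 7 8 7) (V7.mk 6 10 6 9 4 3 3))]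

def tabC9 : List M7 := [
  (M7.mk (V7.mk 9 8 10 2 8 5 9) (V7.mk 4 4 1 8 7 9 4) (V7.mk 3 0 2 5 9 4 3) (V7.mk 3 3 9 9 4 3 4) (V7.mk 6 10 6 9 4 3 3) (V7.mk 10 10 3 8 4 0 3) (V7.mk 6 3 10 10 1 2 9)),
  (M7.mk (V7.mk 3 9 0 0 2 1 4) (V7.mk 6 3 0 10 2 1 4) (V7.mk 7 2 2 9 0 10 7) (V7.mk 2 3 1 10 10 3 8) (V7.mk 8 1 4 7 7 8 0) (V7.mk 1 5 8 6 4 9 3) (V7.mk 5 2 2 3 9 8 10)),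
  (M7.mk (V7.mk 3 2 9 1 6 2 8) (V7.mk 7 9 6 5 1 6 2) (V7.mk 6 5 1 2 5 7 2) (V7.mk 5 9 10 8 9 2 8) (V7.mk 2 10 3 3 4 6 5) (V7.mk 1 6 9 9 9 6 2) (V7.mk 8 9 10 2 6 10 1)),
  (M7.mk (V7.mk 4 7 9 1 7 8 7) (V7.mk 4 10 0 8 3 3 10) (V7.mk 9 0 7 9 3 6 3) (V7.mk 1 3 9 1 9 1 6) (V7.mk 7 8 3 9 7 9 8) (V7.mk 3 3 5 10 2 2 2) (V7.mk 4 10 8 5 3 2 6)),
  (M7.mk (V7.mk 2 0 4 2 8 5 8) (V7.mk 1 3 9 1 9 1 6) (V7.mk 7 8 3 9 7 9 8) (V7.mk 8 8 6 1 9 9 9) (V7.mk 4 10 8 5 3 2 6) (V7.mk 7 4 2 10 4 3 4) (V7.mk 7 1 0 3 8 8 1)),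
  (M7.mk (V7.mk 3 6 8 2 0 4 9) (V7.mk 7 9 3 4 8 8 9) (V7.mk 3 2 5 7 10 3 5) (V7.mk 8 8 10 4 1 0 3) (V7.mk 2 10 6 1 8 9 10) (V7.mk 2 2 9 8 3 6 10) (V7.mk 4 3 7 4 4 9 10)),
  (M7.mk (V7.mk 7 8 3 9 7 9 8) (V7.mk 8 8 6 1 9 9 9) (V7.mk 7 1 3 6 8 9 5) (V7.mk 7 4 2 10 4 3 4) (V7.mk 4 10 0 8 3 3 10) (V7.mk 9 0 7 9 3 6 3) (V7.mk 10 8 2 10 2 10 5)),
  (M7.mk (V7.mk 5 5 8 4 0 6 0) (V7.mk 7 4 4 3 3 0 10) (V7.mk 3 5 4 2 7 5 7) (V7.mk 6 9 5 9 1 6 7) (V7.mk 7 5 5 9 4 3 7) (V7.mk 2 2 2 7 6 4 3) (V7.mk 4 1 4 5 0 0 8)),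
  (M7.mk (V7.mk 8 6 7 9 4 6 4) (V7.mk 6 9 5 9 1 6 7) (V7.mk 7 5 5 9 4 3 7) (V7.mk 9 9 9 4 5 7 8) (V7.mk 4 1 4 5 0 0 8) (V7.mk 6 6 3 7 0 5 0) (V7.mk 4 7 7 8 8 0 1)),
  (M7.mk (V7.mk 4 8 3 8 0 2 8) (V7.mk 8 4 0 8 2 3 8) (V7.mk 8 0 6 9 10 10 7) (V7.mk 8 8 2 4 3 0 8) (V7.mk 0 9 10 8 6 10 7) (V7.mk 9 8 10 0 10 6 7) (V7.mk 3 3 7 3 7 7 6)),
  (M7.mk (V7.mk 1 3 10 3 8 2 10) (V7.mk 8 10 3 8 9 1 1) (V7.mk 1 3 8 9 10 10 8) (V7.mk 8 8 9 10 1 3 1) (V7.mk 8 2 1 10 3 1 3) (V7.mk 2 10 1 8 1 3 3) (V7.mk 1 1 8 1 8 8 2)),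
  (M7.mk (V7.mk 7 0 9 10 8 5 1) (V7.mk 4 9 3 1 0 10 6) (V7.mk 6 8 3 7 3 4 4) (V7.mk 8 7 8 3 8 0 9) (V7.mk 8 3 4 0 8 9 8) (V7.mk 4 8 0 5 2 10 10) (V7.mk 3 8 3 9 7 3 0)),
  (M7.mk (V7.mk 1 3 8 9 10 10 8) (V7.mk 8 8 9 10 1 3 1) (V7.mk 3 9 10 1 8 10 8) (V7.mk 2 10 1 8 1 3 3) (V7.mk 10 10 3 10 3 3 9) (V7.mk 10 8 1 8 3 9 1) (V7.mk 3 1 8 3 2 10 10)),
  (M7.mk (V7.mk 2 10 8 6 1 4 0) (V7.mk 8 1 0 1 6 7 2) (V7.mk 8 7 3 7 4 5 3) (V7.mk 3 3 8 0 9 3 4) (V7.mk 7 0 8 2 8 3 8) (V7.mk 0 5 2 1 10 7 3) (V7.mk 8 9 7 8 0 8 3)),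
  (M7.mk (V7.mk 3 4 8 4 7 6 8) (V7.mk 3 3 8 0 9 3 4) (V7.mk 7 0 8 2 8 3 8) (V7.mk 0 6 9 10 1 4 8) (V7.mk 8 9 7 8 0 8 3) (V7.mk 9 1 3 5 10 7 0) (V7.mk 3 10 0 10 5 4 9)),
  (M7.mk (V7.mk 3 9 10 1 8 10 8) (V7.mk 9 1 10 3 10 8 8) (V7.mk 10 10 3 10 3 3 9) (V7.mk 1 3 10 3 8 2 10) (V7.mk 8 10 3 8 9 1 1) (V7.mk 10 8 3 2 1 1 3) (V7.mk 8 8 9 10 1 3 1)),
  (M7.mk (V7.mk 0 9 8 4 3 3 3) (V7.mk 2 3 3 3 4 0 8) (V7.mk 10 10 4 3 0 5 9) (V7.mk 3 0 3 3 8 9 4) (V7.mk 5 1 7 0 2 10 3) (V7.mk 1 5 7 9 3 10 0) (V7.mk 7 7 5 8 3 4 3)),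
  (M7.mk (V7.mk 5 1 1 8 2 10 9) (V7.mk 6 2 3 8 2 2 1) (V7.mk 10 5 2 7 2 6 6) (V7.mk 5 7 9 5 5 10 2) (V7.mk 9 2 3 6 9 1 8) (V7.mk 4 6 6 9 10 8 3) (V7.mk 2 5 2 1 5 9 2)),
  (M7.mk (V7.mk 10 10 4 3 0 5 9) (V7.mk 3 0 3 3 8 9 4) (V7.mk 6 10 4 0 9 1 8) (V7.mk 1 5 7 9 3 10 0) (V7.mk 4 4 6 3 8 7 8) (V7.mk 0 2 3 7 8 8 8) (V7.mk 9 8 8 8 7 0 3)),
  (M7.mk (V7.mk 10 5 7 5 9 5 9) (V7.mk 4 3 4 7 6 6 2) (V7.mk 6 4 8 2 9 9 4) (V7.mk 0 0 8 7 1 4 5) (V7.mk 0 6 0 5 6 3 7) (V7.mk 8 0 10 4 4 4 3) (V7.mk 4 6 7 8 5 4 2)),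
  (M7.mk (V7.mk 2 2 1 5 9 3 3) (V7.mk 9 5 5 10 5 9 7) (V7.mk 6 1 9 5 7 2 5) (V7.mk 9 1 8 2 9 3 5) (V7.mk 1 3 8 4 6 5 9) (V7.mk 5 9 2 9 6 2 10) (V7.mk 2 10 9 6 10 1 3)),
  (M7.mk (V7.mk 6 1 0 6 2 5 8) (V7.mk 8 5 9 4 5 7 4) (V7.mk 9 0 10 9 3 2 1) (V7.mk 1 3 1 2 4 7 3) (V7.mk 3 6 2 0 8 4 9) (V7.mk 4 5 9 8 5 3 1) (V7.mk 6 2 8 8 10 5 7)),
  (M7.mk (V7.mk 2 0 1 2 8 9 10) (V7.mk 1 3 1 2 4 7 3) (V7.mk 3 6 2 0 8 4 9) (V7.mk 7 6 2 3 6 8 10) (V7.mk 6 2 8 8 10 5 7) (V7.mk 5 10 0 5 9 6 3) (V7.mk 3 6 2 7 6 4 7)),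
  (M7.mk (V7.mk 4 0 1 4 8 3 7) (V7.mk 2 7 8 10 10 6 0) (V7.mk 4 8 6 6 2 1 8) (V7.mk 0 4 9 9 1 7 2) (V7.mk 2 10 2 8 8 6 9) (V7.mk 1 8 3 1 3 9 10) (V7.mk 2 7 2 0 10 3 0)),
  (M7.mk (V7.mk 6 1 9 5 7 2 5) (V7.mk 2 10 3 9 2 8 6) (V7.mk 1 3 8 4 6 5 9) (V7.mk 6 2 9 2 5 9 1) (V7.mk 9 1 2 5 1 10 8) (V7.mk 9 9 10 6 2 8 8) (V7.mk 9 5 5 10 5 9 7)),
  (M7.mk (V7.mk 5 6 10 4 2 2 5) (V7.mk 9 9 5 8 9 4 7) (V7.mk 6 3 0 0 6 7 5) (V7.mk 3 4 7 7 5 2 5) (V7.mk 7 5 4 7 5 9 3) (V7.mk 7 7 0 3 10 6 0) (V7.mk 7 4 3 10 4 3 0)),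
  (M7.mk (V7.mk 5 8 0 0 5 4 6) (V7.mk 3 4 7 7 5 2 5) (V7.mk 7 5 4 7 5 9 3) (V7.mk 4 4 0 8 1 5 0) (V7.mk 7 4 3 10 4 3 0) (V7.mk 6 5 1 7 9 9 6) (V7.mk 2 2 6 3 2 7 4)),
  (M7.mk (V7.mk 1 3 9 10 4 8 7) (V7.mk 2 10 8 4 6 5 8) (V7.mk 0 3 6 6 9 1 6) (V7.mk 10 1 2 2 3 0 2) (V7.mk 9 2 0 3 3 6 7) (V7.mk 8 7 3 5 10 9 5) (V7.mk 9 4 7 3 5 6 7)),
  (M7.mk (V7.mk 7 5 4 7 5 9 3) (V7.mk 4 4 0 8 1 5 0) (V7.mk 4 7 8 1 7 8 0) (V7.mk 6 5 1 7 9 9 6) (V7.mk 9 9 5 8 9 4 7) (V7.mk 6 3 0 0 6 7 5) (V7.mk 8 7 4 4 6 9 6)),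
  (M7.mk (V7.mk 6 6 2 7 8 4 4) (V7.mk 2 2 7 6 4 3 2) (V7.mk 10 7 6 0 0 3 7) (V7.mk 6 3 7 0 5 0 6) (V7.mk 7 7 8 8 0 1 4) (V7.mk 5 4 2 7 5 7 3) (V7.mk 9 5 9 1 6 7 6)),
  (M7.mk (V7.mk 10 4 6 9 8 3 5) (V7.mk 7 0 2 1 9 4 9) (V7.mk 6 9 9 8 2 10 8) (V7.mk 9 10 8 3 1 8 1) (V7.mk 8 2 2 1 0 4 0) (V7.mk 8 4 1 3 7 0 7) (V7.mk 6 9 3 10 0 7 10)),
  (M7.mk (V7.mk 9 1 9 5 5 9 9) (V7.mk 9 3 5 9 10 1 1) (V7.mk 10 8 5 2 2 2 8) (V7.mk 5 7 1 2 5 6 9) (V7.mk 9 5 6 5 7 10 2) (V7.mk 8 5 9 2 9 10 3) (V7.mk 3 2 4 1 5 3 6)),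
  (M7.mk (V7.mk 4 8 7 0 7 1 8) (V7.mk 9 5 9 7 9 8 4) (V7.mk 8 4 6 6 7 4 9) (V7.mk 4 0 1 0 4 8 5) (V7.mk 6 1 9 6 5 7 9) (V7.mk 6 0 6 5 3 0 7) (V7.mk 7 4 5 3 5 7 9)),
  (M7.mk (V7.mk 4 4 3 3 0 10 7) (V7.mk 6 7 9 4 6 4 8) (V7.mk 9 5 9 1 6 7 6) (V7.mk 6 6 2 7 8 4 4) (V7.mk 9 9 4 5 7 8 9) (V7.mk 10 7 6 0 0 3 7) (V7.mk 5 8 4 0 6 0 5)),
  (M7.mk (V7.mk 9 1 3 8 5 2 9) (V7.mk 2 9 8 10 8 6 9) (V7.mk 5 8 6 3 2 7 10) (V7.mk 6 6 2 6 4 1 2) (V7.mk 6 9 2 2 10 9 5) (V7.mk 7 1 2 9 5 5 6) (V7.mk 1 1 10 2 8 5 9)),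
  (M7.mk (V7.mk 6 3 5 8 9 4 1) (V7.mk 6 6 2 6 4 1 2) (V7.mk 6 9 2 2 10 9 5) (V7.mk 4 10 9 2 6 6 5) (V7.mk 1 1 10 2 8 5 9) (V7.mk 2 10 8 3 6 9 2) (V7.mk 9 2 3 1 3 5 2)),
  (M7.mk (V7.mk 9 1 2 10 6 10 3) (V7.mk 3 9 4 2 8 4 8) (V7.mk 5 10 9 9 2 8 3) (V7.mk 3 6 3 2 5 4 1) (V7.mk 2 10 7 8 4 4 4) (V7.mk 0 8 8 8 10 7 10) (V7.mk 4 2 3 6 8 9 0)),
  (M7.mk (V7.mk 6 9 2 2 10 9 5) (V7.mk 4 10 9 2 6 6 5) (V7.mk 10 10 1 9 3 6 2) (V7.mk 2 10 8 3 6 9 2) (V7.mk 2 9 8 10 8 6 9) (V7.mk 5 8 6 3 2 7 10) (V7.mk 5 5 9 5 7 10 9)),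
  (M7.mk (V7.mk 4 8 5 5 2 10 8) (V7.mk 9 1 2 8 3 6 2) (V7.mk 9 4 2 0 1 3 0) (V7.mk 2 7 3 1 10 5 0) (V7.mk 0 7 9 9 10 7 9) (V7.mk 1 8 8 10 3 2 10) (V7.mk 4 0 10 7 8 8 7)),
  (M7.mk (V7.mk 2 7 9 0 10 8 0) (V7.mk 2 7 3 1 10 5 0) (V7.mk 0 7 9 9 10 7 9) (V7.mk 10 3 3 1 8 9 1) (V7.mk 4 0 10 7 8 8 7) (V7.mk 7 3 6 6 9 1 3) (V7.mk 2 10 9 3 8 5 9)),
  (M7.mk (V7.mk 7 7 8 8 5 6 0) (V7.mk 10 5 6 7 5 5 7) (V7.mk 6 7 3 6 0 4 8) (V7.mk 5 6 5 7 4 10 5) (V7.mk 6 1 6 5 4 5 4) (V7.mk 5 6 3 3 3 6 8) (V7.mk 4 6 8 0 8 4 6)),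
  (M7.mk (V7.mk 10 10 1 9 3 6 2) (V7.mk 9 1 3 8 5 2 9) (V7.mk 2 9 8 10 8 6 9) (V7.mk 6 3 5 8 9 4 1) (V7.mk 6 6 2 6 4 1 2) (V7.mk 5 2 9 9 1 2 6) (V7.mk 4 10 9 2 6 6 5)),
  (M7.mk (V7.mk 2 3 8 3 7 0 3) (V7.mk 1 1 4 8 0 5 9) (V7.mk 8 0 3 8 8 9 4) (V7.mk 6 10 7 0 2 10 3) (V7.mk 1 5 4 9 8 1 0) (V7.mk 7 7 6 8 8 7 8) (V7.mk 0 2 8 7 3 3 3)),
  (M7.mk (V7.mk 8 8 8 0 9 3 4) (V7.mk 7 0 3 2 3 8 3) (V7.mk 0 5 9 1 1 4 8) (V7.mk 3 2 7 3 0 8 3) (V7.mk 2 10 3 6 10 7 0) (V7.mk 3 10 0 10 6 7 2) (V7.mk 3 4 3 4 4 5 3)),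
  (M7.mk (V7.mk 8 0 4 7 8 1 7) (V7.mk 2 5 5 6 10 4 2) (V7.mk 7 4 2 2 6 3 2) (V7.mk 4 6 5 8 0 0 5) (V7.mk 9 6 8 7 4 4 6) (V7.mk 9 3 7 5 4 7 5) (V7.mk 6 0 7 7 0 3 10)),
  (M7.mk (V7.mk 7 2 2 5 6 5 10) (V7.mk 0 6 7 5 5 8 0) (V7.mk 7 6 2 8 7 5 7) (V7.mk 10 7 8 0 7 4 8) (V7.mk 3 9 4 7 2 2 5) (V7.mk 7 6 9 6 3 4 4) (V7.mk 8 10 6 0 4 4 0)),
  (M7.mk (V7.mk 6 3 9 1 3 7 5) (V7.mk 10 5 0 8 5 5 2) (V7.mk 0 2 10 1 2 2 3) (V7.mk 6 7 9 2 0 3 3) (V7.mk 2 6 3 4 8 6 1) (V7.mk 6 7 9 4 7 3 5) (V7.mk 3 4 10 8 2 1 7)),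
  (M7.mk (V7.mk 0 9 1 10 9 9 8) (V7.mk 6 7 9 2 0 3 3) (V7.mk 2 6 3 4 8 6 1) (V7.mk 5 4 2 7 4 8 6) (V7.mk 3 4 10 8 2 1 7) (V7.mk 5 8 2 10 8 4 6) (V7.mk 1 6 0 3 6 6 9)),
  (M7.mk (V7.mk 0 2 1 1 9 9 8) (V7.mk 6 7 2 2 0 8 8) (V7.mk 9 5 3 7 8 6 1) (V7.mk 6 7 2 4 4 8 6) (V7.mk 8 7 10 3 2 1 7) (V7.mk 5 8 9 10 3 7 5) (V7.mk 1 6 0 3 5 5 2)),
  (M7.mk (V7.mk 2 5 3 4 7 7 5) (V7.mk 2 8 4 6 7 4 6) (V7.mk 5 0 4 4 0 8 1) (V7.mk 8 0 4 7 8 1 7) (V7.mk 2 5 5 6 10 4 2) (V7.mk 4 7 9 9 5 8 9) (V7.mk 4 6 5 8 0 0 5)),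
  (M7.mk (V7.mk 2 2 5 8 2 4 4) (V7.mk 4 4 0 3 1 6 0) (V7.mk 5 8 0 0 5 7 6) (V7.mk 4 7 3 10 7 3 0) (V7.mk 8 7 7 7 6 2 6) (V7.mk 6 5 10 4 9 2 6) (V7.mk 4 6 4 7 6 9 8)),
  (M7.mk (V7.mk 6 3 0 0 6 4 5) (V7.mk 4 7 3 10 7 3 0) (V7.mk 8 7 7 7 6 2 6) (V7.mk 5 6 1 7 2 9 5) (V7.mk 4 6 4 7 6 9 8) (V7.mk 9 9 6 3 9 7 7) (V7.mk 7 7 0 8 10 5 0)),
  (M7.mk (V7.mk 10 8 9 10 7 8 4) (V7.mk 9 2 0 8 3 5 7) (V7.mk 2 10 3 7 6 6 8) (V7.mk 8 7 8 6 10 2 5) (V7.mk 0 8 6 6 2 1 5) (V7.mk 2 7 7 3 6 6 4) (V7.mk 10 1 9 9 3 0 2)),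
  (M7.mk (V7.mk 0 2 10 7 8 9 0) (V7.mk 7 4 8 0 8 10 7) (V7.mk 10 9 1 4 6 8 0) (V7.mk 6 7 9 3 1 6 3) (V7.mk 2 0 1 4 4 2 2) (V7.mk 8 9 3 1 6 2 2) (V7.mk 10 1 3 8 2 8 10)),
  (M7.mk (V7.mk 8 0 1 2 1 4 5) (V7.mk 9 2 2 0 10 7 4) (V7.mk 8 1 1 10 3 8 9) (V7.mk 1 7 7 4 3 0 8) (V7.mk 5 3 6 7 2 8 1) (V7.mk 9 2 8 9 8 10 6) (V7.mk 9 0 0 9 10 7 3)),
  (M7.mk (V7.mk 3 0 3 9 1 0 0) (V7.mk 0 5 0 0 0 9 4) (V7.mk 3 0 2 8 1 0 0) (V7.mk 9 0 8 3 10 0 0) (V7.mk 1 0 1 10 3 0 0) (V7.mk 0 9 0 0 0 7 6) (V7.mk 0 4 0 0 0 6 9)),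
  (M7.mk (V7.mk 8 0 9 3 10 0 0) (V7.mk 9 0 8 3 10 0 0) (V7.mk 1 0 1 10 3 0 0) (V7.mk 0 2 0 0 0 4 5) (V7.mk 0 4 0 0 0 6 9) (V7.mk 8 0 8 2 10 0 0) (V7.mk 0 6 0 0 0 2 7)),
  (M7.mk (V7.mk 4 5 7 9 10 9 10) (V7.mk 0 2 0 9 4 7 7) (V7.mk 2 9 4 4 10 1 6) (V7.mk 0 7 9 0 7 9 7) (V7.mk 9 4 0 0 7 7 2) (V7.mk 7 1 7 4 7 1 10) (V7.mk 4 10 9 4 1 6 9)),
  (M7.mk (V7.mk 3 1 10 10 9 2 6) (V7.mk 3 10 9 8 5 9 2) (V7.mk 7 1 3 7 9 4 7) (V7.mk 0 2 6 9 4 3 8) (V7.mk 3 2 9 7 8 7 3) (V7.mk 10 5 9 7 8 8 6) (V7.mk 1 3 3 4 0 3 1)),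
  (M7.mk (V7.mk 4 3 0 4 4 8 10) (V7.mk 9 9 5 5 5 10 7) (V7.mk 2 7 7 9 2 5 3) (V7.mk 6 7 6 5 3 0 0) (V7.mk 6 9 5 3 7 7 4) (V7.mk 5 9 8 4 5 7 7) (V7.mk 10 6 0 4 7 0 3)),
  (M7.mk (V7.mk 7 1 3 7 9 4 7) (V7.mk 0 2 6 9 4 3 8) (V7.mk 8 9 2 4 3 4 8) (V7.mk 10 5 9 7 8 8 6) (V7.mk 10 8 8 7 0 8 10) (V7.mk 8 10 1 1 2 9 5) (V7.mk 8 1 2 3 6 2 9)),
  (M7.mk (V7.mk 6 1 9 5 7 2 5) (V7.mk 2 10 3 9 2 8 6) (V7.mk 10 8 3 7 5 6 2) (V7.mk 6 2 9 2 5 9 1) (V7.mk 2 10 9 6 10 1 3) (V7.mk 2 2 1 5 9 3 3) (V7.mk 2 6 6 1 6 2 4)),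
  (M7.mk (V7.mk 1 3 8 4 6 5 9) (V7.mk 6 2 9 2 5 9 1) (V7.mk 2 10 9 6 10 1 3) (V7.mk 9 9 10 6 2 8 8) (V7.mk 2 6 6 1 6 2 4) (V7.mk 5 10 2 6 4 9 6) (V7.mk 9 1 8 2 9 3 5)),
  (M7.mk (V7.mk 9 6 6 5 1 7 9) (V7.mk 4 7 9 9 5 8 9) (V7.mk 4 6 5 8 0 0 5) (V7.mk 9 6 8 7 4 4 6) (V7.mk 2 8 4 6 7 4 6) (V7.mk 6 0 7 7 0 3 10) (V7.mk 3 0 7 4 3 10 4))]

def tabC10 : List M7 := [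
  (M7.mk (V7.mk 5 9 1 3 8 4 6) (V7.mk 2 10 5 9 2 9 6) (V7.mk 1 3 2 10 9 6 10) (V7.mk 3 3 2 2 1 5 9) (V7.mk 9 7 9 5 5 10 5) (V7.mk 2 5 6 1 9 5 7) (V7.mk 3 5 9 1 8 2 9)),
  (M7.mk (V7.mk 7 3 1 3 1 2 4) (V7.mk 7 2 8 5 9 0 3) (V7.mk 8 10 7 6 2 3 6) (V7.mk 6 4 5 9 3 3 1) (V7.mk 5 8 6 1 0 6 2) (V7.mk 7 4 8 5 9 4 5) (V7.mk 9 10 2 0 1 2 8)),
  (M7.mk (V7.mk 6 2 9 8 2 8 10) (V7.mk 5 3 0 1 9 1 4) (V7.mk 2 8 1 10 10 8 3) (V7.mk 10 5 3 5 7 9 3) (V7.mk 3 2 0 0 2 10 7) (V7.mk 7 9 2 9 0 1 4) (V7.mk 8 10 4 7 7 3 0)),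
  (M7.mk (V7.mk 4 7 1 8 7 2 7) (V7.mk 8 3 2 2 7 3 4) (V7.mk 10 1 3 8 4 0 8) (V7.mk 9 3 10 2 8 6 2) (V7.mk 3 0 2 5 9 7 8) (V7.mk 5 10 5 2 7 3 3) (V7.mk 5 3 1 1 10 2 9)),
  (M7.mk (V7.mk 2 4 2 6 6 1 6) (V7.mk 9 6 5 10 2 6 4) (V7.mk 8 6 2 10 3 9 2) (V7.mk 5 9 1 3 8 4 6) (V7.mk 2 10 5 9 2 9 6) (V7.mk 10 8 9 1 2 5 1) (V7.mk 3 3 2 2 1 5 9)),
  (M7.mk (V7.mk 8 6 10 5 9 7 8) (V7.mk 3 1 1 3 3 4 0) (V7.mk 2 6 3 1 10 10 9) (V7.mk 9 2 3 10 9 8 5) (V7.mk 4 7 7 1 3 7 9) (V7.mk 3 8 0 2 6 9 4) (V7.mk 7 3 3 2 9 7 8)),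
  (M7.mk (V7.mk 5 3 2 7 7 9 2) (V7.mk 0 0 5 4 5 6 8) (V7.mk 7 4 6 9 5 3 7) (V7.mk 4 4 6 2 3 7 6) (V7.mk 0 8 1 5 0 7 4) (V7.mk 3 1 7 8 0 7 7) (V7.mk 10 7 9 9 5 5 5)),
  (M7.mk (V7.mk 2 6 3 1 10 10 9) (V7.mk 9 2 3 10 9 8 5) (V7.mk 7 4 4 10 8 4 2) (V7.mk 3 8 0 2 6 9 4) (V7.mk 4 8 8 9 2 4 3) (V7.mk 3 5 1 6 2 4 3) (V7.mk 8 10 10 8 8 7 0)),
  (M7.mk (V7.mk 8 6 2 2 8 10 9) (V7.mk 7 3 3 6 1 5 9) (V7.mk 7 2 7 7 4 1 3) (V7.mk 7 0 3 10 1 8 8) (V7.mk 2 4 3 3 0 9 5) (V7.mk 10 2 9 6 8 1 10) (V7.mk 4 8 7 8 3 9 2)),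
  (M7.mk (V7.mk 4 6 4 7 6 9 8) (V7.mk 9 9 6 3 9 7 7) (V7.mk 4 4 0 3 1 6 0) (V7.mk 6 3 0 0 6 4 5) (V7.mk 7 4 8 1 4 8 0) (V7.mk 3 4 4 4 5 9 5) (V7.mk 6 5 10 4 9 2 6)),
  (M7.mk (V7.mk 8 3 6 9 2 2 10) (V7.mk 8 10 8 6 9 2 9) (V7.mk 6 3 2 7 10 5 8) (V7.mk 9 5 7 10 9 5 5) (V7.mk 2 2 10 9 5 6 9) (V7.mk 9 2 6 6 5 4 10) (V7.mk 1 9 3 6 2 10 10)),
  (M7.mk (V7.mk 5 8 9 4 1 6 3) (V7.mk 9 5 7 10 9 5 5) (V7.mk 2 2 10 9 5 6 9) (V7.mk 2 9 5 5 6 7 1) (V7.mk 1 9 3 6 2 10 10) (V7.mk 3 8 5 2 9 9 1) (V7.mk 3 1 3 5 2 9 2)),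
  (M7.mk (V7.mk 7 1 3 2 1 4 3) (V7.mk 6 0 3 5 5 9 10) (V7.mk 4 2 9 0 3 8 6) (V7.mk 4 2 7 7 3 6 6) (V7.mk 8 2 10 3 7 6 6) (V7.mk 9 1 10 2 2 8 0) (V7.mk 5 8 7 8 6 10 2)),
  (M7.mk (V7.mk 7 1 9 6 6 2 5) (V7.mk 1 9 6 6 9 2 9) (V7.mk 5 6 6 4 10 9 9) (V7.mk 8 6 9 10 10 1 2) (V7.mk 6 2 2 9 1 3 3) (V7.mk 8 5 9 9 2 3 10) (V7.mk 9 7 1 5 8 6 8)),
  (M7.mk (V7.mk 6 5 5 7 1 2 2) (V7.mk 8 6 9 10 10 1 2) (V7.mk 6 2 2 9 1 3 3) (V7.mk 3 6 2 2 9 8 1) (V7.mk 9 7 1 5 8 6 8) (V7.mk 4 10 2 5 5 9 6) (V7.mk 10 2 5 5 2 9 2)),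
  (M7.mk (V7.mk 4 7 4 9 1 4 8) (V7.mk 10 4 10 0 3 3 8) (V7.mk 3 9 0 4 2 3 5) (V7.mk 6 1 3 2 10 9 10) (V7.mk 3 4 3 3 9 4 9) (V7.mk 9 8 8 5 10 9 2) (V7.mk 6 4 10 3 6 3 9)),
  (M7.mk (V7.mk 6 2 2 9 1 3 3) (V7.mk 3 6 2 2 9 8 1) (V7.mk 2 4 10 6 3 5 3) (V7.mk 4 10 2 5 5 9 6) (V7.mk 1 9 6 6 9 2 9) (V7.mk 5 6 6 4 10 9 9) (V7.mk 3 5 2 1 1 10 9)),
  (M7.mk (V7.mk 3 10 0 7 10 6 9) (V7.mk 9 10 2 7 2 4 0) (V7.mk 8 3 1 8 1 9 10) (V7.mk 10 8 4 0 4 3 7) (V7.mk 5 2 3 8 6 1 7) (V7.mk 2 3 9 1 3 5 2) (V7.mk 2 1 0 4 0 8 2)),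
  (M7.mk (V7.mk 3 8 10 3 10 2 1) (V7.mk 10 8 4 0 4 3 7) (V7.mk 5 2 3 8 6 1 7) (V7.mk 9 8 2 10 8 6 9) (V7.mk 2 1 0 4 0 8 2) (V7.mk 8 1 0 4 1 5 2) (V7.mk 2 1 9 4 9 7 0)),
  (M7.mk (V7.mk 9 8 2 6 0 4 8) (V7.mk 8 1 7 9 3 6 6) (V7.mk 9 6 4 6 7 4 8) (V7.mk 10 4 8 3 2 7 10) (V7.mk 9 6 1 6 3 8 4) (V7.mk 0 2 3 1 6 5 5) (V7.mk 1 3 10 0 9 2 2)),
  (M7.mk (V7.mk 2 4 10 6 3 5 3) (V7.mk 7 1 9 6 6 2 5) (V7.mk 1 9 6 6 9 2 9) (V7.mk 6 5 5 7 1 2 2) (V7.mk 8 6 9 10 10 1 2) (V7.mk 5 9 9 2 10 8 8) (V7.mk 3 6 2 2 9 8 1)),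
  (M7.mk (V7.mk 1 9 3 1 9 6 1) (V7.mk 7 4 4 3 2 4 10) (V7.mk 7 7 8 9 3 8 9) (V7.mk 7 8 1 8 0 1 3) (V7.mk 8 9 8 9 6 9 1) (V7.mk 2 8 0 5 4 8 2) (V7.mk 4 3 10 2 8 6 5)),
  (M7.mk (V7.mk 4 4 3 2 8 3 2) (V7.mk 7 8 1 8 0 1 3) (V7.mk 8 9 8 9 6 9 1) (V7.mk 9 3 0 6 7 3 9) (V7.mk 4 3 10 2 8 6 5) (V7.mk 10 2 8 10 2 5 10) (V7.mk 4 7 7 8 9 7 1)),
  (M7.mk (V7.mk 8 7 8 1 3 0 1) (V7.mk 1 10 2 8 1 9 5) (V7.mk 10 8 9 8 2 5 9) (V7.mk 1 7 4 4 8 9 4) (V7.mk 9 2 8 0 6 7 8) (V7.mk 9 4 4 3 9 3 3) (V7.mk 5 7 8 1 2 8 5)),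
  (M7.mk (V7.mk 7 0 10 0 7 3 6) (V7.mk 5 10 2 5 6 4 2) (V7.mk 5 0 5 6 8 0 4) (V7.mk 7 4 5 3 5 7 9) (V7.mk 4 8 7 0 7 1 8) (V7.mk 2 6 2 4 2 3 7) (V7.mk 8 4 6 6 7 4 9)),
  (M7.mk (V7.mk 6 0 6 5 3 0 7) (V7.mk 7 4 5 3 5 7 9) (V7.mk 4 8 7 0 7 1 8) (V7.mk 9 5 9 7 9 8 4) (V7.mk 8 4 6 6 7 4 9) (V7.mk 4 0 1 0 4 8 5) (V7.mk 6 1 9 6 5 7 9)),
  (M7.mk (V7.mk 10 3 3 4 6 5 2) (V7.mk 5 2 2 2 5 9 10) (V7.mk 9 10 2 6 10 1 8) (V7.mk 9 2 10 5 9 3 8) (V7.mk 2 5 6 10 5 9 4) (V7.mk 6 10 9 6 4 9 5) (V7.mk 9 10 8 9 2 8 5)),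
  (M7.mk (V7.mk 9 0 3 7 2 8 5) (V7.mk 2 7 6 4 7 3 6) (V7.mk 2 3 6 8 10 7 6) (V7.mk 10 9 3 2 1 9 0) (V7.mk 8 8 10 5 7 6 2) (V7.mk 10 9 7 4 8 10 8) (V7.mk 0 6 2 5 8 6 1)),
  (M7.mk (V7.mk 9 8 5 3 1 4 5) (V7.mk 10 9 3 2 1 9 0) (V7.mk 8 8 10 5 7 6 2) (V7.mk 1 2 4 7 3 1 3) (V7.mk 0 6 2 5 8 6 1) (V7.mk 2 0 8 4 9 3 6) (V7.mk 9 4 5 7 4 8 5)),
  (M7.mk (V7.mk 9 10 2 6 10 1 8) (V7.mk 2 9 1 6 2 8 3) (V7.mk 2 5 6 10 5 9 4) (V7.mk 5 1 2 5 7 2 6) (V7.mk 2 1 3 2 9 3 6) (V7.mk 1 8 8 7 5 6 9) (V7.mk 5 2 2 2 5 9 10)),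
  (M7.mk (V7.mk 1 5 2 7 8 8 5) (V7.mk 10 3 8 4 0 3 10) (V7.mk 3 10 10 1 2 9 6) (V7.mk 3 1 9 3 6 2 2) (V7.mk 4 1 8 7 9 4 4) (V7.mk 0 9 6 2 7 8 8) (V7.mk 8 2 2 7 8 7 8)),
  (M7.mk (V7.mk 8 1 1 10 9 2 5) (V7.mk 3 1 9 3 6 2 2) (V7.mk 4 1 8 7 9 4 4) (V7.mk 0 2 5 9 4 3 3) (V7.mk 8 2 2 7 8 7 8) (V7.mk 10 6 9 4 3 3 6) (V7.mk 1 8 3 7 0 8 1)),
  (M7.mk (V7.mk 1 5 9 9 7 4 10) (V7.mk 9 4 0 7 2 0 7) (V7.mk 7 9 2 4 0 0 7) (V7.mk 10 10 7 10 7 7 4) (V7.mk 5 9 4 1 9 7 10) (V7.mk 9 1 7 5 4 9 10) (V7.mk 4 7 0 9 0 2 7)),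
  (M7.mk (V7.mk 4 1 8 7 9 4 4) (V7.mk 0 2 5 9 4 3 3) (V7.mk 3 9 9 4 3 4 3) (V7.mk 10 6 9 4 3 3 6) (V7.mk 10 3 8 4 0 3 10) (V7.mk 3 10 10 1 2 9 6) (V7.mk 8 10 2 8 5 9 9)),
  (M7.mk (V7.mk 9 6 5 1 6 2 7) (V7.mk 5 1 2 5 7 2 6) (V7.mk 9 10 8 9 2 8 5) (V7.mk 10 3 3 4 6 5 2) (V7.mk 6 9 9 9 6 2 1) (V7.mk 9 10 2 6 10 1 8) (V7.mk 2 9 1 6 2 8 3)),
  (M7.mk (V7.mk 1 3 6 8 9 5 7) (V7.mk 4 2 10 4 3 4 7) (V7.mk 1 0 3 8 8 1 7) (V7.mk 0 7 9 3 6 3 9) (V7.mk 3 9 1 9 1 6 1) (V7.mk 3 8 2 4 2 3 4) (V7.mk 3 5 10 2 2 2 3)),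
  (M7.mk (V7.mk 3 9 1 9 1 6 1) (V7.mk 8 3 9 7 9 8 7) (V7.mk 8 6 1 9 9 9 8) (V7.mk 10 8 5 3 2 6 4) (V7.mk 4 2 10 4 3 4 7) (V7.mk 1 0 3 8 8 1 7) (V7.mk 0 4 2 8 5 8 2)),
  (M7.mk (V7.mk 8 4 7 7 2 1 7) (V7.mk 5 3 9 0 7 2 8) (V7.mk 2 8 7 3 3 2 4) (V7.mk 2 5 7 10 3 5 3) (V7.mk 8 10 4 1 0 3 8) (V7.mk 1 5 10 3 2 1 9) (V7.mk 2 9 8 3 6 10 2)),
  (M7.mk (V7.mk 10 7 6 0 0 3 7) (V7.mk 6 3 7 0 5 0 6) (V7.mk 7 7 8 8 0 1 4) (V7.mk 5 4 2 7 5 7 3) (V7.mk 9 5 9 1 6 7 6) (V7.mk 6 6 2 7 8 4 4) (V7.mk 2 2 7 6 4 3 2)),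
  (M7.mk (V7.mk 4 4 3 3 0 10 7) (V7.mk 5 4 2 7 5 7 3) (V7.mk 9 5 9 1 6 7 6) (V7.mk 5 5 9 4 3 7 7) (V7.mk 2 2 7 6 4 3 2) (V7.mk 1 4 5 0 0 8 4) (V7.mk 5 8 4 0 6 0 5)),
  (M7.mk (V7.mk 3 1 0 2 2 2 10) (V7.mk 7 8 3 2 4 1 10) (V7.mk 3 2 6 0 7 3 9) (V7.mk 5 1 6 3 3 7 9) (V7.mk 1 4 2 8 6 6 3) (V7.mk 2 8 10 5 5 5 0) (V7.mk 5 4 6 7 7 3 9)),
  (M7.mk (V7.mk 9 5 9 1 6 7 6) (V7.mk 5 5 9 4 3 7 7) (V7.mk 9 9 4 5 7 8 9) (V7.mk 1 4 5 0 0 8 4) (V7.mk 6 3 7 0 5 0 6) (V7.mk 7 7 8 8 0 1 4) (V7.mk 6 7 9 4 6 4 8)),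
  (M7.mk (V7.mk 3 8 2 4 8 0 8) (V7.mk 0 2 1 3 6 10 4) (V7.mk 2 8 10 0 1 5 7) (V7.mk 8 3 7 3 4 4 6) (V7.mk 7 8 3 8 0 9 8) (V7.mk 8 7 0 3 2 3 3) (V7.mk 8 0 5 2 10 10 4)),
  (M7.mk (V7.mk 9 3 1 0 10 6 4) (V7.mk 8 3 7 3 4 4 6) (V7.mk 7 8 3 8 0 9 8) (V7.mk 3 4 0 8 9 8 8) (V7.mk 8 0 5 2 10 10 4) (V7.mk 8 3 9 7 3 0 3) (V7.mk 0 9 10 8 5 1 7)),
  (M7.mk (V7.mk 6 2 7 6 10 6 2) (V7.mk 1 3 6 2 8 7 5) (V7.mk 9 9 1 3 10 6 10) (V7.mk 9 6 5 4 6 1 9) (V7.mk 2 8 2 5 1 2 8) (V7.mk 6 2 5 10 9 9 9) (V7.mk 9 1 2 3 2 5 8)),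
  (M7.mk (V7.mk 1 0 1 6 7 2 8) (V7.mk 7 3 7 4 5 3 8) (V7.mk 3 8 0 9 3 4 3) (V7.mk 0 8 2 8 3 8 7) (V7.mk 5 2 1 10 7 3 0) (V7.mk 9 7 8 0 8 3 8) (V7.mk 10 8 6 1 4 0 2)),
  (M7.mk (V7.mk 7 6 1 6 9 5 9) (V7.mk 6 2 3 7 6 10 8) (V7.mk 1 3 1 6 1 2 2) (V7.mk 5 4 5 1 2 2 5) (V7.mk 2 5 10 2 3 9 3) (V7.mk 5 10 2 9 2 5 9) (V7.mk 2 3 9 5 3 2 10)),
  (M7.mk (V7.mk 3 8 0 9 3 4 3) (V7.mk 0 8 2 8 3 8 7) (V7.mk 6 9 10 1 4 8 0) (V7.mk 9 7 8 0 8 3 8) (V7.mk 1 3 5 10 7 0 9) (V7.mk 10 0 10 5 4 9 3) (V7.mk 4 8 4 7 6 8 3)),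
  (M7.mk (V7.mk 7 6 5 7 4 9 3) (V7.mk 0 10 0 7 3 6 4) (V7.mk 10 9 5 5 7 9 5) (V7.mk 0 6 6 3 0 7 5) (V7.mk 7 5 8 5 7 9 4) (V7.mk 8 4 0 4 10 3 4) (V7.mk 5 2 7 2 3 7 9)),
  (M7.mk (V7.mk 1 2 6 6 4 2 6) (V7.mk 0 6 6 3 0 7 5) (V7.mk 7 5 8 5 7 9 4) (V7.mk 3 7 0 7 1 8 7) (V7.mk 5 2 7 2 3 7 9) (V7.mk 4 5 6 4 7 2 8) (V7.mk 0 1 0 4 8 5 7)),
  (M7.mk (V7.mk 2 7 6 1 5 2 5) (V7.mk 8 5 9 8 7 6 1) (V7.mk 9 1 3 1 5 10 2) (V7.mk 6 5 4 5 10 9 2) (V7.mk 8 2 5 10 9 8 9) (V7.mk 9 6 1 9 9 2 6) (V7.mk 10 9 8 2 5 3 9)),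
  (M7.mk (V7.mk 0 3 8 8 1 7 1) (V7.mk 7 9 3 6 3 9 0) (V7.mk 9 1 9 1 6 1 3) (V7.mk 8 2 4 2 3 4 3) (V7.mk 5 10 2 2 2 3 3) (V7.mk 3 6 8 9 5 7 1) (V7.mk 2 10 4 3 4 7 4)),
  (M7.mk (V7.mk 2 10 2 10 5 10 8) (V7.mk 8 2 4 2 3 4 3) (V7.mk 5 10 2 2 2 3 3) (V7.mk 8 5 3 2 6 4 10) (V7.mk 2 10 4 3 4 7 4) (V7.mk 0 8 3 3 10 4 10) (V7.mk 4 2 8 5 8 2 0)),
  (M7.mk (V7.mk 8 8 7 5 6 9 1) (V7.mk 9 9 9 6 2 1 6) (V7.mk 1 9 5 1 10 3 2) (V7.mk 2 10 5 9 3 8 9) (V7.mk 5 6 10 5 9 4 2) (V7.mk 1 2 5 7 2 6 5) (V7.mk 10 8 9 2 8 5 9)),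
  (M7.mk (V7.mk 2 7 6 4 3 2 2) (V7.mk 7 6 0 0 3 7 10) (V7.mk 3 7 0 5 0 6 6) (V7.mk 7 8 8 0 1 4 7) (V7.mk 4 2 7 5 7 3 5) (V7.mk 5 9 1 6 7 6 9) (V7.mk 6 2 7 8 4 4 6)),
  (M7.mk (V7.mk 0 2 1 9 4 9 7) (V7.mk 9 9 8 2 10 8 6) (V7.mk 10 8 3 1 8 1 9) (V7.mk 2 2 1 0 4 0 8) (V7.mk 4 1 3 7 0 7 8) (V7.mk 9 3 10 0 7 10 6) (V7.mk 4 6 9 8 3 5 10)),
  (M7.mk (V7.mk 9 8 5 6 3 1 7) (V7.mk 6 4 7 8 2 6 4) (V7.mk 3 9 4 10 1 4 8) (V7.mk 5 3 8 7 9 5 10) (V7.mk 10 6 5 6 0 9 8) (V7.mk 0 2 9 2 10 3 10) (V7.mk 5 0 4 3 9 3 9)),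
  (M7.mk (V7.mk 10 8 3 1 8 1 9) (V7.mk 2 2 1 0 4 0 8) (V7.mk 7 10 8 4 0 4 3) (V7.mk 9 3 10 0 7 10 6) (V7.mk 7 5 2 3 8 6 1) (V7.mk 0 9 10 2 7 2 4) (V7.mk 2 2 3 9 1 3 5)),
  (M7.mk (V7.mk 4 1 3 6 3 2 5) (V7.mk 4 4 2 10 7 8 4) (V7.mk 4 1 0 3 3 3 1) (V7.mk 9 0 4 2 3 6 8) (V7.mk 1 8 2 10 9 1 5) (V7.mk 7 3 8 2 7 9 3) (V7.mk 3 8 6 1 2 2 9)),
  (M7.mk (V7.mk 8 4 0 6 0 5 5) (V7.mk 7 8 8 0 1 4 7) (V7.mk 7 9 4 6 4 8 6) (V7.mk 6 2 10 5 4 5 2) (V7.mk 5 9 4 3 7 7 5) (V7.mk 2 7 6 4 3 2 2) (V7.mk 7 6 0 0 3 7 10)),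
  (M7.mk (V7.mk 7 3 2 9 2 4 5) (V7.mk 5 0 5 6 8 7 0) (V7.mk 5 4 8 5 7 2 7) (V7.mk 8 7 7 6 5 2 7) (V7.mk 0 3 7 1 7 5 0) (V7.mk 0 1 4 4 7 3 3) (V7.mk 6 4 5 9 6 9 1)),
  (M7.mk (V7.mk 6 7 3 6 4 9 4) (V7.mk 8 7 7 6 5 2 7) (V7.mk 0 3 7 1 7 5 0) (V7.mk 0 10 7 7 4 8 8) (V7.mk 6 4 5 9 6 9 1) (V7.mk 4 8 9 2 9 7 6) (V7.mk 6 0 6 5 3 4 0)),
  (M7.mk (V7.mk 1 1 9 9 8 0 2) (V7.mk 10 3 2 1 7 8 7) (V7.mk 9 9 0 3 3 5 4) (V7.mk 9 10 3 7 5 5 8) (V7.mk 8 4 3 5 10 2 6) (V7.mk 0 8 6 6 9 10 5) (V7.mk 9 7 7 3 5 5 4)),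
  (M7.mk (V7.mk 0 3 7 1 7 5 0) (V7.mk 0 10 7 7 4 8 8) (V7.mk 5 7 6 2 5 2 10) (V7.mk 4 8 9 2 9 7 6) (V7.mk 5 0 5 6 8 7 0) (V7.mk 5 4 8 5 7 2 7) (V7.mk 3 4 4 5 6 9 4))]

def tabC11 : List M7 := [
  (M7.mk (V7.mk 9 7 10 6 8 5 8) (V7.mk 10 2 6 6 2 2 2) (V7.mk 8 6 2 1 10 10 2) (V7.mk 8 5 2 2 2 8 10) (V7.mk 7 1 2 5 6 9 5) (V7.mk 6 5 6 4 1 9 2) (V7.mk 5 9 2 9 10 3 8)),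
  (M7.mk (V7.mk 5 7 6 2 5 2 10) (V7.mk 7 3 2 9 2 4 5) (V7.mk 5 0 5 6 8 7 0) (V7.mk 6 7 3 6 4 9 4) (V7.mk 8 7 7 6 5 2 7) (V7.mk 0 8 4 10 4 6 0) (V7.mk 0 10 7 7 4 8 8)),
  (M7.mk (V7.mk 5 6 0 2 3 10 5) (V7.mk 2 9 1 3 10 0 2) (V7.mk 4 3 9 8 2 5 0) (V7.mk 5 6 3 10 4 9 3) (V7.mk 7 8 2 5 7 6 7) (V7.mk 7 1 10 4 8 8 9) (V7.mk 3 4 2 5 10 6 3)),
  (M7.mk (V7.mk 7 8 2 3 9 6 0) (V7.mk 5 6 3 10 4 9 3) (V7.mk 7 8 2 5 7 6 7) (V7.mk 4 10 1 7 3 3 2) (V7.mk 3 4 2 5 10 6 3) (V7.mk 6 5 0 9 8 1 6) (V7.mk 9 2 10 8 1 0 9)),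
  (M7.mk (V7.mk 8 2 8 2 5 1 2) (V7.mk 2 5 9 6 1 2 2) (V7.mk 8 9 1 2 3 2 5) (V7.mk 9 5 9 4 5 1 5) (V7.mk 6 10 8 5 9 3 4) (V7.mk 1 2 2 10 8 1 5) (V7.mk 9 9 6 5 4 6 1)),
  (M7.mk (V7.mk 7 8 2 5 7 6 7) (V7.mk 4 10 1 7 3 3 2) (V7.mk 8 7 9 6 1 5 8) (V7.mk 6 5 0 9 8 1 6) (V7.mk 2 9 1 3 10 0 2) (V7.mk 4 3 9 8 2 5 0) (V7.mk 6 5 8 1 7 2 8)),
  (M7.mk (V7.mk 7 3 1 10 5 0 2) (V7.mk 7 9 9 10 7 9 0) (V7.mk 3 3 1 8 9 1 10) (V7.mk 0 10 7 8 8 7 4) (V7.mk 3 6 6 9 1 3 7) (V7.mk 10 9 3 8 5 9 2) (V7.mk 7 9 0 10 8 0 2)),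
  (M7.mk (V7.mk 5 3 0 3 7 5 7) (V7.mk 4 3 3 6 5 0 4) (V7.mk 6 5 4 6 6 4 1) (V7.mk 7 3 6 0 4 8 6) (V7.mk 6 5 7 4 10 5 5) (V7.mk 10 5 6 7 6 7 5) (V7.mk 6 3 3 3 6 8 5)),
  (M7.mk (V7.mk 5 6 7 5 5 7 10) (V7.mk 7 3 6 0 4 8 6) (V7.mk 6 5 7 4 10 5 5) (V7.mk 1 6 5 4 5 4 6) (V7.mk 6 3 3 3 6 8 5) (V7.mk 6 8 0 8 4 6 4) (V7.mk 7 8 8 5 6 0 7)),
  (M7.mk (V7.mk 4 1 3 7 0 7 8) (V7.mk 9 3 10 0 7 10 6) (V7.mk 7 5 2 3 8 6 1) (V7.mk 0 2 1 9 4 9 7) (V7.mk 2 2 3 9 1 3 5) (V7.mk 1 3 8 10 3 10 2) (V7.mk 9 9 10 0 7 0 3)),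
  (M7.mk (V7.mk 1 3 8 5 2 9 9) (V7.mk 9 8 10 8 6 9 2) (V7.mk 3 5 8 9 4 1 6) (V7.mk 6 2 6 4 1 2 6) (V7.mk 2 9 9 1 2 6 5) (V7.mk 10 9 2 6 6 5 4) (V7.mk 10 1 9 3 6 2 10)),
  (M7.mk (V7.mk 1 4 8 0 5 9 1) (V7.mk 0 3 8 8 9 4 8) (V7.mk 10 7 0 2 10 3 6) (V7.mk 5 4 9 8 1 0 1) (V7.mk 7 6 8 8 7 8 7) (V7.mk 2 8 7 3 3 3 0) (V7.mk 3 8 3 7 0 3 2)),
  (M7.mk (V7.mk 10 9 9 5 5 7 5) (V7.mk 2 3 9 8 9 5 1) (V7.mk 9 2 5 2 6 10 9) (V7.mk 5 3 2 1 9 3 2) (V7.mk 5 2 6 9 7 5 1) (V7.mk 4 5 1 8 6 9 3) (V7.mk 6 1 2 9 10 3 10)),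
  (M7.mk (V7.mk 1 9 0 10 9 3 2) (V7.mk 8 10 8 10 9 7 4) (V7.mk 9 3 6 2 0 8 4) (V7.mk 10 7 6 2 3 6 8) (V7.mk 4 5 9 3 3 1 6) (V7.mk 3 5 10 0 5 9 6) (V7.mk 4 8 5 9 4 5 7)),
  (M7.mk (V7.mk 2 8 5 9 0 3 7) (V7.mk 10 7 6 2 3 6 8) (V7.mk 4 5 9 3 3 1 6) (V7.mk 8 6 1 0 6 2 5) (V7.mk 4 8 5 9 4 5 7) (V7.mk 10 2 0 1 2 8 9) (V7.mk 3 1 3 1 2 4 7)),
  (M7.mk (V7.mk 0 2 0 9 4 7 7) (V7.mk 2 9 4 4 10 1 6) (V7.mk 0 4 2 0 4 2 4) (V7.mk 9 4 0 0 7 7 2) (V7.mk 4 10 4 7 4 10 1) (V7.mk 7 1 2 7 10 5 2) (V7.mk 7 6 4 2 1 2 1)),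
  (M7.mk (V7.mk 3 2 2 1 5 9 3) (V7.mk 4 2 6 6 1 6 2) (V7.mk 5 6 1 9 5 7 2) (V7.mk 6 2 10 3 9 2 8) (V7.mk 2 10 8 3 7 5 6) (V7.mk 1 6 2 9 2 5 9) (V7.mk 3 2 10 9 6 10 1)),
  (M7.mk (V7.mk 9 0 0 9 1 4 8) (V7.mk 9 2 9 0 1 4 7) (V7.mk 10 4 7 7 3 0 8) (V7.mk 9 2 3 9 3 1 5) (V7.mk 3 0 1 9 1 4 5) (V7.mk 3 10 1 1 3 8 9) (V7.mk 6 8 6 4 2 8 1)),
  (M7.mk (V7.mk 1 7 4 4 8 0 3) (V7.mk 9 2 3 9 3 1 5) (V7.mk 3 0 1 9 1 4 5) (V7.mk 8 1 10 10 8 3 2) (V7.mk 6 8 6 4 2 8 1) (V7.mk 2 0 0 2 10 7 3) (V7.mk 2 9 2 0 10 7 4)),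
  (M7.mk (V7.mk 3 0 1 9 1 4 5) (V7.mk 8 1 10 10 8 3 2) (V7.mk 5 3 5 7 9 3 10) (V7.mk 2 0 0 2 10 7 3) (V7.mk 9 2 9 0 1 4 7) (V7.mk 10 4 7 7 3 0 8) (V7.mk 2 9 8 2 8 10 6)),
  (M7.mk (V7.mk 8 10 10 1 9 2 6) (V7.mk 4 10 3 4 9 4 7) (V7.mk 8 9 9 4 8 7 3) (V7.mk 1 3 8 4 0 8 10) (V7.mk 3 10 2 8 6 2 9) (V7.mk 0 9 6 2 4 3 8) (V7.mk 10 5 2 7 3 3 5)),
  (M7.mk (V7.mk 3 2 2 7 3 4 8) (V7.mk 1 3 8 4 0 8 10) (V7.mk 3 10 2 8 6 2 9) (V7.mk 0 2 5 9 7 8 3) (V7.mk 10 5 2 7 3 3 5) (V7.mk 3 1 1 10 2 9 5) (V7.mk 7 1 8 7 2 7 4)),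
  (M7.mk (V7.mk 6 5 10 2 6 4 9) (V7.mk 6 2 10 3 9 2 8) (V7.mk 9 1 3 8 4 6 5) (V7.mk 10 5 9 2 9 6 2) (V7.mk 8 9 1 2 5 1 10) (V7.mk 3 2 2 1 5 9 3) (V7.mk 4 2 6 6 1 6 2)),
  (M7.mk (V7.mk 4 4 10 8 4 2 7) (V7.mk 8 0 2 6 9 4 3) (V7.mk 3 3 2 9 7 8 7) (V7.mk 5 1 6 2 4 3 3) (V7.mk 1 1 3 3 4 0 3) (V7.mk 5 8 10 1 1 2 9) (V7.mk 9 8 1 2 3 6 2)),
  (M7.mk (V7.mk 8 9 8 9 6 10 2) (V7.mk 9 5 2 6 1 2 9) (V7.mk 8 2 1 9 8 9 5) (V7.mk 2 5 2 4 5 1 6) (V7.mk 5 10 3 5 9 3 7) (V7.mk 10 2 9 10 8 1 6) (V7.mk 9 2 6 6 7 5 1)),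
  (M7.mk (V7.mk 4 2 2 6 6 6 1) (V7.mk 8 9 4 4 2 9 6) (V7.mk 0 6 7 6 5 3 0) (V7.mk 4 6 9 5 3 7 7) (V7.mk 4 6 2 3 7 6 4) (V7.mk 3 10 6 0 4 7 0) (V7.mk 1 7 8 0 7 7 3)),
  (M7.mk (V7.mk 0 5 4 5 6 8 0) (V7.mk 4 6 9 5 3 7 7) (V7.mk 4 6 2 3 7 6 4) (V7.mk 8 1 5 0 7 4 0) (V7.mk 1 7 8 0 7 7 3) (V7.mk 7 9 9 5 5 5 10) (V7.mk 3 2 7 7 9 2 5)),
  (M7.mk (V7.mk 3 10 3 10 9 7 7) (V7.mk 9 8 6 9 0 3 4) (V7.mk 1 7 5 2 3 6 3) (V7.mk 7 5 2 3 3 1 5) (V7.mk 8 5 1 0 5 9 5) (V7.mk 4 3 5 2 7 6 7) (V7.mk 1 2 0 1 2 8 2)),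
  (M7.mk (V7.mk 2 3 10 9 8 5 9) (V7.mk 4 4 10 8 4 2 7) (V7.mk 8 0 2 6 9 4 3) (V7.mk 8 8 9 2 4 3 4) (V7.mk 5 1 6 2 4 3 3) (V7.mk 10 10 8 8 7 0 8) (V7.mk 6 3 1 10 10 9 2)),
  (M7.mk (V7.mk 3 4 3 8 2 9 7) (V7.mk 5 9 9 3 1 2 3) (V7.mk 8 8 5 10 6 2 4) (V7.mk 2 7 7 4 1 3 7) (V7.mk 0 3 10 1 8 8 7) (V7.mk 7 8 8 0 2 6 9) (V7.mk 2 9 6 8 1 10 10)),
  (M7.mk (V7.mk 3 6 5 0 4 4 3) (V7.mk 5 0 7 3 5 4 8) (V7.mk 5 4 5 4 6 1 6) (V7.mk 0 8 4 6 4 6 8) (V7.mk 4 6 6 4 1 6 5) (V7.mk 7 4 10 5 5 6 5) (V7.mk 8 8 5 3 6 5 8)),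
  (M7.mk (V7.mk 0 3 10 1 8 8 7) (V7.mk 4 3 3 0 9 5 2) (V7.mk 9 2 5 3 10 1 1) (V7.mk 8 7 8 3 9 2 4) (V7.mk 5 9 9 3 1 2 3) (V7.mk 8 8 5 10 6 2 4) (V7.mk 9 4 4 7 10 8 4)),
  (M7.mk (V7.mk 6 1 7 2 9 5 5) (V7.mk 5 7 4 5 2 3 7) (V7.mk 2 5 8 2 4 4 2) (V7.mk 4 0 3 1 6 0 4) (V7.mk 3 0 0 6 4 5 6) (V7.mk 7 3 10 7 3 0 4) (V7.mk 4 4 4 5 9 5 3)),
  (M7.mk (V7.mk 9 6 3 9 7 7 9) (V7.mk 4 0 3 1 6 0 4) (V7.mk 3 0 0 6 4 5 6) (V7.mk 4 8 1 4 8 0 7) (V7.mk 4 4 4 5 9 5 3) (V7.mk 5 10 4 9 2 6 6) (V7.mk 6 4 7 6 9 8 4)),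
  (M7.mk (V7.mk 9 1 3 8 4 6 5) (V7.mk 1 6 2 9 2 5 9) (V7.mk 3 2 10 9 6 10 1) (V7.mk 8 9 9 10 6 2 8) (V7.mk 4 2 6 6 1 6 2) (V7.mk 6 5 10 2 6 4 9) (V7.mk 5 9 1 8 2 9 3)),
  (M7.mk (V7.mk 0 9 1 8 5 1 4) (V7.mk 2 3 10 0 10 6 7) (V7.mk 3 3 4 3 4 4 5) (V7.mk 7 3 3 3 0 2 8) (V7.mk 3 7 0 3 2 3 8) (V7.mk 3 0 6 2 10 10 7) (V7.mk 8 8 9 4 8 0 3)),
  (M7.mk (V7.mk 4 5 0 5 6 8 0) (V7.mk 9 7 4 5 3 5 7) (V7.mk 3 7 3 4 0 4 10) (V7.mk 7 2 6 2 4 2 3) (V7.mk 2 3 7 5 5 4 7) (V7.mk 5 4 0 1 0 4 8) (V7.mk 9 6 1 9 6 5 7)),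
  (M7.mk (V7.mk 5 7 10 9 5 5 9) (V7.mk 2 10 9 5 6 9 2) (V7.mk 9 5 5 6 7 1 2) (V7.mk 9 3 6 2 10 10 1) (V7.mk 8 5 2 9 9 1 3) (V7.mk 1 3 5 2 9 2 3) (V7.mk 8 9 4 1 6 3 5)),
  (M7.mk (V7.mk 3 4 3 5 1 9 6) (V7.mk 10 8 9 10 7 8 4) (V7.mk 0 8 6 6 2 1 5) (V7.mk 2 9 0 3 8 6 4) (V7.mk 2 7 7 3 6 6 4) (V7.mk 9 1 8 4 5 5 3) (V7.mk 1 10 2 2 8 0 9)),
  (M7.mk (V7.mk 7 3 9 3 8 2 4) (V7.mk 8 10 8 0 1 8 4) (V7.mk 9 3 9 6 9 10 3) (V7.mk 3 0 6 7 3 2 2) (V7.mk 8 10 9 3 5 5 4) (V7.mk 9 8 1 9 6 10 10) (V7.mk 7 4 8 9 7 10 7)),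
  (M7.mk (V7.mk 0 3 9 8 3 3 7) (V7.mk 6 9 10 10 7 8 0) (V7.mk 2 4 3 0 8 8 8) (V7.mk 1 3 5 1 4 0 2) (V7.mk 10 0 10 6 7 9 8) (V7.mk 4 8 4 4 5 8 8) (V7.mk 8 3 0 9 3 7 3)),
  (M7.mk (V7.mk 9 6 1 2 3 2 3) (V7.mk 6 1 9 9 2 6 9) (V7.mk 2 3 9 6 8 2 1) (V7.mk 4 5 10 6 9 6 9) (V7.mk 6 2 3 4 5 10 3) (V7.mk 1 3 1 5 10 2 9) (V7.mk 5 4 5 10 9 2 6)),
  (M7.mk (V7.mk 9 8 2 5 3 9 10) (V7.mk 4 5 10 6 9 6 9) (V7.mk 6 2 3 4 5 10 3) (V7.mk 10 8 10 6 1 9 2) (V7.mk 5 4 5 10 9 2 6) (V7.mk 2 5 10 9 8 9 8) (V7.mk 5 10 2 2 9 5 2)),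
  (M7.mk (V7.mk 7 2 8 5 6 8 10) (V7.mk 8 1 6 5 6 0 2) (V7.mk 4 5 4 7 8 9 5) (V7.mk 1 0 9 2 9 10 3) (V7.mk 3 3 2 7 1 1 4) (V7.mk 9 6 0 4 3 2 8) (V7.mk 1 5 8 3 4 9 5)),
  (M7.mk (V7.mk 1 1 9 9 6 3 1) (V7.mk 2 3 5 2 2 3 10) (V7.mk 8 4 9 7 7 7 1) (V7.mk 6 9 7 3 3 0 9) (V7.mk 9 7 3 7 8 8 9) (V7.mk 2 4 8 3 6 10 5) (V7.mk 3 4 0 3 10 10 8)),
  (M7.mk (V7.mk 0 7 4 0 8 10 6) (V7.mk 0 7 7 8 1 4 3) (V7.mk 6 5 5 1 7 2 2) (V7.mk 4 9 2 6 3 9 4) (V7.mk 6 6 8 0 0 6 7) (V7.mk 6 3 7 4 4 5 2) (V7.mk 8 7 6 7 4 5 9)),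
  (M7.mk (V7.mk 0 5 9 6 8 6 10) (V7.mk 9 7 6 4 4 8 6) (V7.mk 1 9 3 2 10 2 0) (V7.mk 1 9 7 4 3 1 8) (V7.mk 9 0 8 4 2 8 6) (V7.mk 2 8 5 3 10 7 5) (V7.mk 3 8 10 5 4 5 2)),
  (M7.mk (V7.mk 10 2 8 9 1 9 0) (V7.mk 1 9 7 4 3 1 8) (V7.mk 9 0 8 4 2 8 6) (V7.mk 9 3 6 8 1 4 6) (V7.mk 3 8 10 5 4 5 2) (V7.mk 0 6 2 5 3 5 1) (V7.mk 2 4 5 7 7 3 5)),
  (M7.mk (V7.mk 7 3 7 0 4 1 3) (V7.mk 8 4 5 5 7 7 9) (V7.mk 6 1 2 5 5 4 9) (V7.mk 7 4 6 8 5 4 9) (V7.mk 2 6 9 7 2 8 7) (V7.mk 7 0 1 0 7 8 6) (V7.mk 6 0 5 6 3 0 7)),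
  (M7.mk (V7.mk 6 5 5 1 7 2 2) (V7.mk 7 2 9 5 8 2 7) (V7.mk 6 6 8 0 0 6 7) (V7.mk 5 8 4 7 7 6 9) (V7.mk 3 4 5 4 7 6 2) (V7.mk 0 4 7 0 3 1 5) (V7.mk 0 7 7 8 1 4 3)),
  (M7.mk (V7.mk 3 7 0 3 10 1 3) (V7.mk 1 10 9 9 6 8 10) (V7.mk 9 3 6 9 9 3 10) (V7.mk 3 4 2 4 4 7 1) (V7.mk 6 2 7 3 3 0 2) (V7.mk 2 7 8 4 3 8 9) (V7.mk 2 7 8 3 6 1 6)),
  (M7.mk (V7.mk 2 8 5 2 2 8 1) (V7.mk 3 4 2 4 4 7 1) (V7.mk 6 2 7 3 3 0 2) (V7.mk 9 4 3 7 8 3 2) (V7.mk 2 7 8 3 6 1 6) (V7.mk 8 4 0 8 1 10 8) (V7.mk 10 1 2 2 5 3 1)),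
  (M7.mk (V7.mk 6 2 7 3 3 0 2) (V7.mk 9 4 3 7 8 3 2) (V7.mk 9 4 3 8 5 10 5) (V7.mk 8 4 0 8 1 10 8) (V7.mk 1 10 9 9 6 8 10) (V7.mk 9 3 6 9 9 3 10) (V7.mk 8 7 9 7 7 4 10)),
  (M7.mk (V7.mk 1 0 1 5 4 2 3) (V7.mk 4 8 4 4 5 8 8) (V7.mk 8 3 0 9 3 7 3) (V7.mk 0 8 2 3 8 8 4) (V7.mk 6 9 10 10 7 8 0) (V7.mk 9 7 8 0 3 3 3) (V7.mk 10 8 6 10 7 0 9)),
  (M7.mk (V7.mk 4 10 6 3 5 3 2) (V7.mk 10 2 5 5 9 6 4) (V7.mk 2 5 5 2 9 2 10) (V7.mk 6 6 4 10 9 9 5) (V7.mk 6 9 10 10 1 2 8) (V7.mk 9 9 2 10 8 8 5) (V7.mk 5 9 9 2 3 10 8)),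
  (M7.mk (V7.mk 9 6 6 9 2 9 1) (V7.mk 6 6 4 10 9 9 5) (V7.mk 6 9 10 10 1 2 8) (V7.mk 2 2 9 1 3 3 6) (V7.mk 5 9 9 2 3 10 8) (V7.mk 7 1 5 8 6 8 9) (V7.mk 1 9 6 6 2 5 7)),
  (M7.mk (V7.mk 4 7 6 6 2 4 3) (V7.mk 3 9 2 2 7 5 7) (V7.mk 3 4 10 7 6 0 0) (V7.mk 0 6 5 8 4 0 5) (V7.mk 10 4 4 4 3 8 0) (V7.mk 7 8 5 4 2 4 6) (V7.mk 4 6 2 6 2 1 6)),
  (M7.mk (V7.mk 6 9 10 10 1 2 8) (V7.mk 2 2 9 1 3 3 6) (V7.mk 6 2 2 9 8 1 3) (V7.mk 7 1 5 8 6 8 9) (V7.mk 10 2 5 5 9 6 4) (V7.mk 2 5 5 2 9 2 10) (V7.mk 5 5 7 1 2 2 6)),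
  (M7.mk (V7.mk 7 1 8 5 8 2 5) (V7.mk 4 7 2 10 7 3 7) (V7.mk 7 1 0 8 8 3 1) (V7.mk 9 0 4 2 3 5 3) (V7.mk 1 3 2 10 9 10 6) (V7.mk 7 8 8 2 7 2 8) (V7.mk 8 8 5 10 9 2 9)),
  (M7.mk (V7.mk 4 10 0 3 3 8 10) (V7.mk 9 0 4 2 3 5 3) (V7.mk 1 3 2 10 9 10 6) (V7.mk 4 3 3 9 4 9 3) (V7.mk 8 8 5 10 9 2 9) (V7.mk 4 10 3 6 3 9 6) (V7.mk 7 4 9 1 4 8 4)),
  (M7.mk (V7.mk 0 2 10 2 7 9 7) (V7.mk 9 2 8 2 10 3 5) (V7.mk 10 3 3 1 8 10 2) (V7.mk 2 9 1 0 4 0 3) (V7.mk 7 1 8 4 0 7 8) (V7.mk 2 3 1 0 4 10 6) (V7.mk 4 5 9 8 3 6 1)),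
  (M7.mk (V7.mk 6 2 2 9 8 1 3) (V7.mk 4 10 6 3 5 3 2) (V7.mk 10 2 5 5 9 6 4) (V7.mk 9 6 6 9 2 9 1) (V7.mk 6 6 4 10 9 9 5) (V7.mk 5 2 1 1 10 9 3) (V7.mk 2 2 9 1 3 3 6)),
  (M7.mk (V7.mk 10 0 7 0 3 9 9) (V7.mk 1 0 4 1 5 2 8) (V7.mk 1 9 4 9 7 0 2) (V7.mk 3 1 8 1 9 10 8) (V7.mk 8 4 0 4 3 7 10) (V7.mk 9 8 3 5 10 4 6) (V7.mk 3 9 1 3 5 2 2)),
  (M7.mk (V7.mk 10 2 7 2 4 0 9) (V7.mk 3 1 8 1 9 10 8) (V7.mk 8 4 0 4 3 7 10) (V7.mk 2 3 8 6 1 7 5) (V7.mk 3 9 1 3 5 2 2) (V7.mk 1 0 4 0 8 2 2) (V7.mk 10 0 7 10 6 9 3))]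

def tabC12 : List M7 := [
  (M7.mk (V7.mk 0 3 3 3 1 4 1) (V7.mk 9 1 2 10 6 10 3) (V7.mk 5 10 9 9 2 8 3) (V7.mk 9 1 4 3 7 7 7) (V7.mk 4 2 3 6 8 9 0) (V7.mk 8 2 7 9 3 7 3) (V7.mk 8 5 8 9 6 7 10)),
  (M7.mk (V7.mk 8 1 0 2 9 9 10) (V7.mk 3 9 5 0 7 3 2) (V7.mk 10 4 2 8 5 5 3) (V7.mk 6 4 6 7 4 8 9) (V7.mk 4 8 3 2 7 10 10) (V7.mk 5 10 5 8 3 7 2) (V7.mk 2 3 1 6 5 5 0)),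
  (M7.mk (V7.mk 1 7 9 3 6 6 8) (V7.mk 6 4 6 7 4 8 9) (V7.mk 4 8 3 2 7 10 10) (V7.mk 6 1 6 3 8 4 9) (V7.mk 2 3 1 6 5 5 0) (V7.mk 3 10 0 9 2 2 1) (V7.mk 8 2 6 0 4 8 9)),
  (M7.mk (V7.mk 5 4 5 10 9 2 6) (V7.mk 2 5 10 9 8 9 8) (V7.mk 6 1 9 9 2 6 9) (V7.mk 9 8 2 5 3 9 10) (V7.mk 7 6 1 5 2 5 2) (V7.mk 5 9 8 7 6 1 8) (V7.mk 1 3 1 5 10 2 9)),
  (M7.mk (V7.mk 1 9 6 6 2 5 7) (V7.mk 9 6 6 9 2 9 1) (V7.mk 5 5 7 1 2 2 6) (V7.mk 6 9 10 10 1 2 8) (V7.mk 9 9 2 10 8 8 5) (V7.mk 6 2 2 9 8 1 3) (V7.mk 4 10 6 3 5 3 2)),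
  (M7.mk (V7.mk 10 2 8 1 9 5 1) (V7.mk 8 9 8 2 5 9 10) (V7.mk 7 4 4 8 9 4 1) (V7.mk 2 8 0 6 7 8 9) (V7.mk 4 4 3 9 3 3 9) (V7.mk 7 8 1 2 8 5 5) (V7.mk 7 8 1 3 0 1 8)),
  (M7.mk (V7.mk 6 7 2 8 1 5 3) (V7.mk 0 2 1 4 8 2 0) (V7.mk 9 0 1 4 7 2 9) (V7.mk 4 7 8 0 3 10 4) (V7.mk 8 9 8 10 6 9 2) (V7.mk 1 2 1 4 5 8 0) (V7.mk 10 1 8 3 2 3 10)),
  (M7.mk (V7.mk 1 3 2 9 3 6 2) (V7.mk 3 3 4 6 5 2 10) (V7.mk 2 2 2 5 9 10 5) (V7.mk 1 9 5 1 10 3 2) (V7.mk 2 10 5 9 3 8 9) (V7.mk 6 5 1 6 2 7 9) (V7.mk 1 2 5 7 2 6 5)),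
  (M7.mk (V7.mk 7 3 6 7 2 4 5) (V7.mk 8 4 10 7 5 0 0) (V7.mk 7 6 2 6 9 10 6) (V7.mk 0 6 5 8 7 0 5) (V7.mk 4 4 5 5 2 4 8) (V7.mk 10 7 7 7 3 8 0) (V7.mk 8 9 2 2 4 6 7)),
  (M7.mk (V7.mk 3 8 4 0 3 10 10) (V7.mk 10 10 1 2 9 6 3) (V7.mk 1 9 3 6 2 2 3) (V7.mk 1 8 7 9 4 4 4) (V7.mk 9 6 2 7 8 8 0) (V7.mk 2 2 7 8 7 8 8) (V7.mk 5 2 7 8 8 5 1)),
  (M7.mk (V7.mk 6 10 5 9 7 8 8) (V7.mk 7 7 1 3 7 9 4) (V7.mk 1 1 3 3 4 0 3) (V7.mk 8 0 2 6 9 4 3) (V7.mk 6 3 1 10 10 9 2) (V7.mk 3 3 2 9 7 8 7) (V7.mk 2 3 10 9 8 5 9)),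
  (M7.mk (V7.mk 1 9 3 6 2 2 3) (V7.mk 1 8 7 9 4 4 4) (V7.mk 2 5 9 4 3 3 0) (V7.mk 2 2 7 8 7 8 8) (V7.mk 6 9 4 3 3 6 10) (V7.mk 8 3 7 0 8 1 1) (V7.mk 1 1 10 9 2 5 8)),
  (M7.mk (V7.mk 4 0 2 0 9 4 7) (V7.mk 6 2 2 4 7 1 10) (V7.mk 7 0 4 9 0 4 2) (V7.mk 9 2 4 0 0 7 7) (V7.mk 10 7 10 7 7 4 10) (V7.mk 2 7 10 2 4 1 6) (V7.mk 1 7 5 4 9 10 9)),
  (M7.mk (V7.mk 4 0 7 2 0 7 9) (V7.mk 9 2 4 0 0 7 7) (V7.mk 10 7 10 7 7 4 10) (V7.mk 9 4 1 9 7 10 5) (V7.mk 1 7 5 4 9 10 9) (V7.mk 7 0 9 0 2 7 4) (V7.mk 5 9 9 7 4 10 1)),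
  (M7.mk (V7.mk 2 0 4 0 0 0 6) (V7.mk 0 8 0 8 9 1 0) (V7.mk 4 0 6 0 0 0 2) (V7.mk 0 3 0 2 3 10 0) (V7.mk 0 2 0 3 3 10 0) (V7.mk 0 1 0 1 1 8 0) (V7.mk 5 0 9 0 0 0 7)),
  (M7.mk (V7.mk 2 5 9 4 3 3 0) (V7.mk 9 9 4 3 4 3 3) (V7.mk 6 9 4 3 3 6 10) (V7.mk 3 8 4 0 3 10 10) (V7.mk 10 10 1 2 9 6 3) (V7.mk 10 2 8 5 9 9 8) (V7.mk 1 8 7 9 4 4 4)),
  (M7.mk (V7.mk 3 5 7 2 8 10 6) (V7.mk 2 3 9 8 10 5 2) (V7.mk 0 0 2 1 4 3 9) (V7.mk 0 1 9 10 7 5 8) (V7.mk 2 9 0 10 7 7 2) (V7.mk 10 1 1 8 3 9 8) (V7.mk 7 4 4 3 0 3 10)),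
  (M7.mk (V7.mk 3 2 1 7 8 7 10) (V7.mk 1 8 4 6 6 3 2) (V7.mk 3 5 5 2 1 6 0) (V7.mk 10 2 2 3 0 9 10) (V7.mk 9 0 3 3 5 4 9) (V7.mk 4 3 5 10 2 6 8) (V7.mk 4 4 8 6 6 7 2)),
  (M7.mk (V7.mk 2 9 0 10 7 7 2) (V7.mk 1 10 10 3 8 2 3) (V7.mk 4 7 7 8 0 8 1) (V7.mk 8 6 4 9 3 1 5) (V7.mk 2 3 9 8 10 5 2) (V7.mk 0 0 2 1 4 3 9) (V7.mk 0 10 2 1 4 6 3)),
  (M7.mk (V7.mk 6 5 5 1 7 2 2) (V7.mk 7 2 9 5 8 2 7) (V7.mk 5 5 3 0 0 5 4) (V7.mk 5 8 4 7 7 6 9) (V7.mk 8 7 6 7 4 5 9) (V7.mk 0 7 4 0 8 10 6) (V7.mk 0 4 4 3 10 7 8)),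
  (M7.mk (V7.mk 6 6 8 0 0 6 7) (V7.mk 5 8 4 7 7 6 9) (V7.mk 8 7 6 7 4 5 9) (V7.mk 0 4 7 0 3 1 5) (V7.mk 0 4 4 3 10 7 8) (V7.mk 5 6 6 10 4 9 9) (V7.mk 4 9 2 6 3 9 4)),
  (M7.mk (V7.mk 6 1 9 9 9 8 8) (V7.mk 8 5 3 2 6 4 10) (V7.mk 9 1 7 8 7 4 7) (V7.mk 0 3 8 8 1 7 1) (V7.mk 7 9 3 6 3 9 0) (V7.mk 2 10 2 10 5 10 8) (V7.mk 8 2 4 2 3 4 3)),
  (M7.mk (V7.mk 4 10 2 9 6 5 5) (V7.mk 10 10 10 2 3 5 2) (V7.mk 2 10 3 8 6 2 2) (V7.mk 9 2 8 10 3 6 2) (V7.mk 6 3 6 3 9 7 1) (V7.mk 5 5 2 6 7 1 9) (V7.mk 5 2 2 2 1 9 6)),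
  (M7.mk (V7.mk 7 9 3 6 3 9 0) (V7.mk 9 1 9 1 6 1 3) (V7.mk 3 9 7 9 8 7 8) (V7.mk 5 10 2 2 2 3 3) (V7.mk 8 5 3 2 6 4 10) (V7.mk 9 1 7 8 7 4 7) (V7.mk 0 8 3 3 10 4 10)),
  (M7.mk (V7.mk 7 1 6 5 6 6 7) (V7.mk 4 5 4 5 10 6 6) (V7.mk 8 5 3 5 6 8 3) (V7.mk 8 4 6 7 5 8 0) (V7.mk 5 6 0 4 4 8 3) (V7.mk 5 5 7 1 6 6 4) (V7.mk 0 7 3 6 7 8 6)),
  (M7.mk (V7.mk 3 6 8 6 5 3 8) (V7.mk 8 4 6 7 5 8 0) (V7.mk 5 6 0 4 4 8 3) (V7.mk 6 6 4 10 5 5 7) (V7.mk 0 7 3 6 7 8 6) (V7.mk 4 10 5 6 5 5 4) (V7.mk 7 6 7 6 1 5 5)),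
  (M7.mk (V7.mk 3 9 7 9 8 7 8) (V7.mk 6 1 9 9 9 8 8) (V7.mk 8 5 3 2 6 4 10) (V7.mk 2 10 4 3 4 7 4) (V7.mk 0 3 8 8 1 7 1) (V7.mk 4 2 8 5 8 2 0) (V7.mk 9 1 9 1 6 1 3)),
  (M7.mk (V7.mk 2 3 8 5 1 9 9) (V7.mk 7 4 4 9 10 4 3) (V7.mk 8 2 0 4 9 3 6) (V7.mk 8 7 3 3 2 4 2) (V7.mk 5 7 10 3 5 3 2) (V7.mk 1 7 10 0 8 3 3) (V7.mk 5 10 3 2 1 9 1)),
  (M7.mk (V7.mk 3 7 0 5 0 6 6) (V7.mk 7 8 8 0 1 4 7) (V7.mk 4 2 7 5 7 3 5) (V7.mk 5 9 1 6 7 6 9) (V7.mk 6 2 7 8 4 4 6) (V7.mk 2 7 6 4 3 2 2) (V7.mk 7 6 0 0 3 7 10)),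
  (M7.mk (V7.mk 2 2 1 0 4 0 8) (V7.mk 4 1 3 7 0 7 8) (V7.mk 2 8 1 0 4 1 5) (V7.mk 4 6 9 8 3 5 10) (V7.mk 0 9 10 2 7 2 4) (V7.mk 2 2 3 9 1 3 5) (V7.mk 1 3 8 10 3 10 2)),
  (M7.mk (V7.mk 0 8 8 8 9 7 3) (V7.mk 10 4 0 2 10 8 5) (V7.mk 5 7 9 8 1 0 10) (V7.mk 4 6 3 3 4 8 7) (V7.mk 9 8 4 8 8 3 0) (V7.mk 3 3 3 7 0 8 9) (V7.mk 10 4 3 0 6 9 1)),
  (M7.mk (V7.mk 1 8 3 9 1 10 8) (V7.mk 3 8 9 1 1 8 10) (V7.mk 8 9 10 10 8 1 3) (V7.mk 2 1 10 8 10 3 3) (V7.mk 1 10 3 1 3 8 2) (V7.mk 10 3 10 8 8 9 1) (V7.mk 3 10 3 3 9 10 10)),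
  (M7.mk (V7.mk 0 2 3 4 8 3 3) (V7.mk 2 8 8 3 7 0 8) (V7.mk 1 10 4 8 0 6 2) (V7.mk 8 0 3 8 8 2 7) (V7.mk 5 10 4 0 9 10 3) (V7.mk 10 5 7 2 3 1 0) (V7.mk 7 4 6 8 8 4 3)),
  (M7.mk (V7.mk 10 1 7 3 0 5 9) (V7.mk 8 0 3 8 8 2 7) (V7.mk 5 10 4 0 9 10 3) (V7.mk 1 6 4 9 8 10 0) (V7.mk 7 4 6 8 8 4 3) (V7.mk 0 9 8 7 3 8 8) (V7.mk 9 3 3 8 4 0 3)),
  (M7.mk (V7.mk 3 0 0 6 7 6 5) (V7.mk 4 4 7 5 2 6 8) (V7.mk 5 7 7 5 9 8 4) (V7.mk 4 0 8 1 5 0 7) (V7.mk 7 3 1 7 8 0 7) (V7.mk 6 1 4 2 2 6 6) (V7.mk 2 5 3 2 7 7 9)),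
  (M7.mk (V7.mk 2 1 3 6 10 4 0) (V7.mk 8 10 0 1 5 7 2) (V7.mk 3 7 3 4 4 6 8) (V7.mk 8 3 8 0 9 8 7) (V7.mk 7 0 3 2 3 3 8) (V7.mk 0 5 2 10 10 4 8) (V7.mk 8 2 4 8 0 8 3)),
  (M7.mk (V7.mk 3 7 3 4 4 6 8) (V7.mk 8 3 8 0 9 8 7) (V7.mk 4 0 8 9 8 8 3) (V7.mk 0 5 2 10 10 4 8) (V7.mk 3 9 7 3 0 3 8) (V7.mk 9 10 8 5 1 7 0) (V7.mk 3 1 0 10 6 4 9)),
  (M7.mk (V7.mk 10 9 8 9 6 3 2) (V7.mk 9 4 5 1 5 9 5) (V7.mk 8 5 9 3 4 6 10) (V7.mk 9 1 3 10 6 10 9) (V7.mk 6 5 4 6 1 9 9) (V7.mk 3 9 6 10 9 3 9) (V7.mk 2 5 10 9 9 9 6)),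
  (M7.mk (V7.mk 3 6 2 8 7 5 1) (V7.mk 9 1 3 10 6 10 9) (V7.mk 6 5 4 6 1 9 9) (V7.mk 8 2 5 1 2 8 2) (V7.mk 2 5 10 9 9 9 6) (V7.mk 1 2 3 2 5 8 9) (V7.mk 2 7 6 10 6 2 6)),
  (M7.mk (V7.mk 0 1 0 7 3 5 4) (V7.mk 10 9 5 6 4 9 6) (V7.mk 0 6 6 8 0 7 6) (V7.mk 7 5 8 6 4 9 7) (V7.mk 3 7 0 4 10 8 4) (V7.mk 6 9 4 2 3 4 9) (V7.mk 7 6 5 4 7 9 8)),
  (M7.mk (V7.mk 2 5 6 2 6 7 10) (V7.mk 5 5 9 2 2 1 2) (V7.mk 5 7 10 9 2 5 5) (V7.mk 2 1 10 1 9 8 5) (V7.mk 9 2 1 3 8 6 9) (V7.mk 2 2 2 3 1 8 6) (V7.mk 10 6 8 6 3 9 4)),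
  (M7.mk (V7.mk 3 7 4 5 3 8 7) (V7.mk 8 0 9 3 4 3 3) (V7.mk 8 2 8 3 8 7 0) (V7.mk 2 1 10 7 3 0 5) (V7.mk 7 8 0 8 3 8 9) (V7.mk 8 6 1 4 0 2 10) (V7.mk 0 1 6 7 2 8 1)),
  (M7.mk (V7.mk 8 2 6 8 9 1 9) (V7.mk 5 10 5 2 6 2 4) (V7.mk 9 8 4 5 1 3 5) (V7.mk 3 1 6 1 2 2 1) (V7.mk 4 5 1 2 2 5 5) (V7.mk 6 1 9 8 2 8 9) (V7.mk 10 2 9 2 5 9 5)),
  (M7.mk (V7.mk 2 3 7 6 10 8 6) (V7.mk 3 1 6 1 2 2 1) (V7.mk 4 5 1 2 2 5 5) (V7.mk 5 10 2 3 9 3 2) (V7.mk 10 2 9 2 5 9 5) (V7.mk 3 9 5 3 2 10 2) (V7.mk 6 1 6 9 5 9 7)),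
  (M7.mk (V7.mk 0 4 3 6 7 0 1) (V7.mk 5 5 4 2 5 1 9) (V7.mk 6 3 0 4 5 0 6) (V7.mk 8 5 4 2 4 4 5) (V7.mk 0 7 10 3 7 8 7) (V7.mk 4 9 3 7 2 5 9) (V7.mk 5 7 7 2 3 4 6)),
  (M7.mk (V7.mk 8 2 8 3 8 7 0) (V7.mk 9 10 1 4 8 0 6) (V7.mk 7 8 0 8 3 8 9) (V7.mk 3 5 10 7 0 9 1) (V7.mk 0 10 5 4 9 3 10) (V7.mk 8 4 7 6 8 3 4) (V7.mk 8 0 9 3 4 3 3)),
  (M7.mk (V7.mk 5 9 8 7 6 1 8) (V7.mk 1 3 1 5 10 2 9) (V7.mk 5 4 5 10 9 2 6) (V7.mk 2 5 10 9 8 9 8) (V7.mk 6 1 9 9 2 6 9) (V7.mk 9 8 2 5 3 9 10) (V7.mk 7 6 1 5 2 5 2)),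
  (M7.mk (V7.mk 3 3 8 9 4 3 0) (V7.mk 7 0 2 10 3 5 1) (V7.mk 4 2 8 1 0 10 6) (V7.mk 5 8 3 4 3 7 7) (V7.mk 3 7 8 8 8 0 2) (V7.mk 8 8 7 0 3 9 8) (V7.mk 7 8 0 6 2 1 1)),
  (M7.mk (V7.mk 7 9 3 10 0 1 5) (V7.mk 5 8 3 4 3 7 7) (V7.mk 3 7 8 8 8 0 2) (V7.mk 3 3 4 0 8 2 3) (V7.mk 7 8 0 6 2 1 1) (V7.mk 8 8 3 2 7 8 0) (V7.mk 4 0 9 1 8 6 10)),
  (M7.mk (V7.mk 9 6 2 4 6 1 5) (V7.mk 6 1 3 5 2 3 4) (V7.mk 1 9 9 10 3 1 5) (V7.mk 2 9 6 6 4 5 10) (V7.mk 3 2 8 9 5 10 9) (V7.mk 2 6 2 6 10 2 2) (V7.mk 3 9 1 9 3 9 6)),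
  (M7.mk (V7.mk 3 7 8 8 8 0 2) (V7.mk 3 3 4 0 8 2 3) (V7.mk 4 3 0 5 9 10 10) (V7.mk 8 8 3 2 7 8 0) (V7.mk 7 0 2 10 3 5 1) (V7.mk 4 2 8 1 0 10 6) (V7.mk 6 3 8 7 8 4 4)),
  (M7.mk (V7.mk 4 2 8 4 6 5 4) (V7.mk 3 5 7 0 10 0 4) (V7.mk 7 2 6 1 9 5 6) (V7.mk 0 4 6 0 6 6 8) (V7.mk 7 2 7 4 5 8 6) (V7.mk 10 8 7 3 4 0 7) (V7.mk 3 4 2 6 2 7 9)),
  (M7.mk (V7.mk 4 9 5 10 2 6 5) (V7.mk 0 4 6 0 6 6 8) (V7.mk 7 2 7 4 5 8 6) (V7.mk 1 3 4 8 7 0 4) (V7.mk 3 4 2 6 2 7 9) (V7.mk 7 9 3 7 5 6 7) (V7.mk 8 6 4 0 1 0 7)),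
  (M7.mk (V7.mk 5 9 6 9 7 6 10) (V7.mk 7 5 10 3 5 9 3) (V7.mk 5 1 9 2 1 3 10) (V7.mk 10 2 9 5 5 4 6) (V7.mk 9 3 2 3 2 5 1) (V7.mk 9 9 5 2 6 1 2) (V7.mk 5 8 2 1 9 8 9)),
  (M7.mk (V7.mk 2 7 2 6 6 10 5) (V7.mk 9 5 5 10 2 5 7) (V7.mk 3 6 9 1 8 9 2) (V7.mk 6 9 10 8 3 4 6) (V7.mk 2 1 5 9 2 2 5) (V7.mk 1 8 2 10 9 5 1) (V7.mk 3 8 2 2 1 6 2)),
  (M7.mk (V7.mk 4 4 9 9 5 3 2) (V7.mk 7 6 6 3 0 0 5) (V7.mk 9 5 8 7 4 7 5) (V7.mk 2 3 4 6 7 7 5) (V7.mk 6 0 7 7 0 8 1) (V7.mk 8 0 4 7 8 10 4) (V7.mk 2 6 5 6 10 7 9)),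
  (M7.mk (V7.mk 2 6 3 4 7 4 6) (V7.mk 2 3 4 6 7 7 5) (V7.mk 6 0 7 7 0 8 1) (V7.mk 3 0 7 4 3 1 7) (V7.mk 2 6 5 6 10 7 9) (V7.mk 7 7 2 2 6 8 9) (V7.mk 4 5 5 8 0 0 6)),
  (M7.mk (V7.mk 7 0 3 2 3 3 8) (V7.mk 0 5 2 10 10 4 8) (V7.mk 3 9 7 3 0 3 8) (V7.mk 2 1 3 6 10 4 0) (V7.mk 3 1 0 10 6 4 9) (V7.mk 8 4 8 7 7 5 3) (V7.mk 3 8 3 0 2 3 4)),
  (M7.mk (V7.mk 4 0 9 1 8 6 10) (V7.mk 7 9 3 10 0 1 5) (V7.mk 6 3 8 7 8 4 4) (V7.mk 3 7 8 8 8 0 2) (V7.mk 8 8 7 0 3 9 8) (V7.mk 4 3 0 5 9 10 10) (V7.mk 3 3 8 9 4 3 0)),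
  (M7.mk (V7.mk 7 6 0 0 3 4 10) (V7.mk 7 8 3 0 1 7 7) (V7.mk 6 2 1 6 4 6 2) (V7.mk 9 4 6 4 8 2 9) (V7.mk 3 7 0 6 0 5 6) (V7.mk 7 9 7 5 4 3 6) (V7.mk 6 2 4 3 4 7 6)),
  (M7.mk (V7.mk 9 5 0 7 8 9 8) (V7.mk 4 2 3 5 6 8 1) (V7.mk 4 6 4 4 3 2 5) (V7.mk 8 3 9 7 1 1 7) (V7.mk 10 5 3 3 4 9 6) (V7.mk 3 1 5 5 6 0 9) (V7.mk 1 0 9 9 2 1 3)),
  (M7.mk (V7.mk 0 5 6 3 7 0 6) (V7.mk 1 7 7 7 8 3 0) (V7.mk 7 8 5 4 2 4 6) (V7.mk 4 6 2 6 2 1 6) (V7.mk 7 4 5 5 9 7 8) (V7.mk 3 9 2 2 7 5 7) (V7.mk 8 7 1 4 5 0 0)),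
  (M7.mk (V7.mk 6 2 2 9 8 1 3) (V7.mk 7 1 5 8 6 8 9) (V7.mk 10 2 5 5 9 6 4) (V7.mk 2 5 5 2 9 2 10) (V7.mk 5 5 7 1 2 2 6) (V7.mk 6 9 10 10 1 2 8) (V7.mk 2 2 9 1 3 3 6)),
  (M7.mk (V7.mk 1 9 6 6 2 5 7) (V7.mk 2 5 5 2 9 2 10) (V7.mk 5 5 7 1 2 2 6) (V7.mk 5 2 1 1 10 9 3) (V7.mk 2 2 9 1 3 3 6) (V7.mk 5 9 9 2 3 10 8) (V7.mk 4 10 6 3 5 3 2))]

def tabC13 : List M7 := [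
  (M7.mk (V7.mk 5 5 7 1 2 2 6) (V7.mk 5 2 1 1 10 9 3) (V7.mk 9 9 2 10 8 8 5) (V7.mk 5 9 9 2 3 10 8) (V7.mk 7 1 5 8 6 8 9) (V7.mk 10 2 5 5 9 6 4) (V7.mk 9 6 6 9 2 9 1)),
  (M7.mk (V7.mk 7 9 9 6 6 5 1) (V7.mk 3 2 7 4 2 2 6) (V7.mk 0 5 4 6 5 8 0) (V7.mk 7 5 2 5 3 4 7) (V7.mk 7 5 9 3 7 5 4) (V7.mk 8 1 5 0 4 4 0) (V7.mk 10 4 3 0 7 4 3)),
  (M7.mk (V7.mk 6 9 1 6 0 3 6) (V7.mk 9 8 0 9 1 10 9) (V7.mk 3 3 6 7 9 2 0) (V7.mk 6 1 2 6 3 4 8) (V7.mk 8 6 5 4 2 7 4) (V7.mk 1 7 3 4 10 8 2) (V7.mk 4 6 5 8 2 10 8)),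
  (M7.mk (V7.mk 3 10 6 8 5 4 9) (V7.mk 1 5 2 9 3 2 3) (V7.mk 4 8 2 0 0 2 1) (V7.mk 4 5 8 0 1 2 1) (V7.mk 7 4 9 2 2 0 10) (V7.mk 3 2 3 10 10 1 8) (V7.mk 0 8 1 7 7 4 3)),
  (M7.mk (V7.mk 7 3 9 0 0 9 10) (V7.mk 4 5 8 0 1 2 1) (V7.mk 7 4 9 2 2 0 10) (V7.mk 8 9 8 1 1 10 3) (V7.mk 0 8 1 7 7 4 3) (V7.mk 8 1 5 3 6 7 2) (V7.mk 10 6 9 2 8 9 8)),
  (M7.mk (V7.mk 2 7 0 6 0 0 0) (V7.mk 0 0 8 0 9 3 10) (V7.mk 0 0 9 0 8 3 10) (V7.mk 0 0 1 0 1 10 3) (V7.mk 4 5 0 2 0 0 0) (V7.mk 6 9 0 4 0 0 0) (V7.mk 0 0 8 0 8 2 10)),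
  (M7.mk (V7.mk 5 9 3 3 2 2 1) (V7.mk 1 6 2 4 2 6 6) (V7.mk 6 4 9 6 5 10 2) (V7.mk 9 2 8 6 2 10 3) (V7.mk 4 6 5 9 1 3 8) (V7.mk 9 6 2 10 5 9 2) (V7.mk 5 1 10 8 9 1 2)),
  (M7.mk (V7.mk 6 4 9 6 5 10 2) (V7.mk 2 9 3 5 9 1 8) (V7.mk 4 6 5 9 1 3 8) (V7.mk 2 5 9 1 6 2 9) (V7.mk 6 10 1 3 2 10 9) (V7.mk 6 2 8 8 9 9 10) (V7.mk 1 6 2 4 2 6 6)),
  (M7.mk (V7.mk 8 3 9 10 1 8 10) (V7.mk 8 9 1 10 3 10 8) (V7.mk 9 10 10 3 10 3 3) (V7.mk 10 1 3 10 3 8 2) (V7.mk 1 8 10 3 8 9 1) (V7.mk 3 10 8 3 2 1 1) (V7.mk 1 8 8 9 10 1 3)),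
  (M7.mk (V7.mk 0 10 6 4 2 8 1) (V7.mk 8 4 4 6 3 8 7) (V7.mk 8 0 2 3 7 8 8) (V7.mk 8 2 3 3 3 4 0) (V7.mk 9 10 10 4 3 0 5) (V7.mk 7 8 0 8 8 3 2) (V7.mk 3 5 1 7 0 2 10)),
  (M7.mk (V7.mk 3 0 9 8 4 3 3) (V7.mk 8 2 3 3 3 4 0) (V7.mk 9 10 10 4 3 0 5) (V7.mk 4 3 0 3 3 8 9) (V7.mk 3 5 1 7 0 2 10) (V7.mk 0 1 5 7 9 3 10) (V7.mk 3 7 7 5 8 3 4)),
  (M7.mk (V7.mk 9 5 1 1 8 2 10) (V7.mk 1 6 2 3 8 2 2) (V7.mk 6 10 5 2 7 2 6) (V7.mk 2 5 7 9 5 5 10) (V7.mk 8 9 2 3 6 9 1) (V7.mk 3 4 6 6 9 10 8) (V7.mk 2 2 5 2 1 5 9)),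
  (M7.mk (V7.mk 4 6 6 2 7 8 4) (V7.mk 2 2 2 7 6 4 3) (V7.mk 7 10 7 6 0 0 3) (V7.mk 6 6 3 7 0 5 0) (V7.mk 4 7 7 8 8 0 1) (V7.mk 3 5 4 2 7 5 7) (V7.mk 6 9 5 9 1 6 7)),
  (M7.mk (V7.mk 5 10 4 6 9 8 3) (V7.mk 9 7 0 2 1 9 4) (V7.mk 8 6 9 9 8 2 10) (V7.mk 1 9 10 8 3 1 8) (V7.mk 0 8 2 2 1 0 4) (V7.mk 7 8 4 1 3 7 0) (V7.mk 10 6 9 3 10 0 7)),
  (M7.mk (V7.mk 3 5 2 2 3 9 1) (V7.mk 1 9 10 8 3 1 8) (V7.mk 0 8 2 2 1 0 4) (V7.mk 4 3 7 10 8 4 0) (V7.mk 10 6 9 3 10 0 7) (V7.mk 6 1 7 5 2 3 8) (V7.mk 2 4 0 9 10 2 7)),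
  (M7.mk (V7.mk 9 4 3 4 4 5 6) (V7.mk 5 0 0 3 7 1 7) (V7.mk 8 8 0 10 7 7 4) (V7.mk 2 10 5 7 6 2 5) (V7.mk 7 6 4 8 9 2 9) (V7.mk 7 0 5 0 5 6 8) (V7.mk 2 7 5 4 8 5 7)),
  (M7.mk (V7.mk 9 9 1 9 5 5 9) (V7.mk 1 9 3 5 9 10 1) (V7.mk 8 10 8 5 2 2 2) (V7.mk 9 5 7 1 2 5 6) (V7.mk 2 9 5 6 5 7 10) (V7.mk 3 8 5 9 2 9 10) (V7.mk 6 3 2 4 1 5 3)),
  (M7.mk (V7.mk 8 4 8 7 0 7 1) (V7.mk 4 9 5 9 7 9 8) (V7.mk 9 8 4 6 6 7 4) (V7.mk 5 4 0 1 0 4 8) (V7.mk 9 6 1 9 6 5 7) (V7.mk 7 6 0 6 5 3 0) (V7.mk 9 7 4 5 3 5 7)),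
  (M7.mk (V7.mk 2 10 10 1 9 3 6) (V7.mk 9 9 1 3 8 5 2) (V7.mk 9 2 9 8 10 8 6) (V7.mk 1 6 3 5 8 9 4) (V7.mk 2 6 6 2 6 4 1) (V7.mk 6 5 2 9 9 1 2) (V7.mk 5 4 10 9 2 6 6)),
  (M7.mk (V7.mk 7 8 0 4 7 8 1) (V7.mk 2 2 5 5 6 10 4) (V7.mk 2 7 4 2 2 6 3) (V7.mk 5 4 6 5 8 0 0) (V7.mk 6 9 6 8 7 4 4) (V7.mk 5 9 3 7 5 4 7) (V7.mk 10 6 0 7 7 0 3)),
  (M7.mk (V7.mk 5 6 3 9 1 3 7) (V7.mk 2 10 5 0 8 5 5) (V7.mk 3 0 2 10 1 2 2) (V7.mk 3 6 7 9 2 0 3) (V7.mk 1 2 6 3 4 8 6) (V7.mk 5 6 7 9 4 7 3) (V7.mk 7 3 4 10 8 2 1)),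
  (M7.mk (V7.mk 5 2 5 3 4 7 7) (V7.mk 6 2 8 4 6 7 4) (V7.mk 1 5 0 4 4 0 8) (V7.mk 7 8 0 4 7 8 1) (V7.mk 2 2 5 5 6 10 4) (V7.mk 9 4 7 9 9 5 8) (V7.mk 5 4 6 5 8 0 0)),
  (M7.mk (V7.mk 5 6 3 0 0 6 4) (V7.mk 0 4 7 3 10 7 3) (V7.mk 6 8 7 7 7 6 2) (V7.mk 5 5 6 1 7 2 9) (V7.mk 8 4 6 4 7 6 9) (V7.mk 7 9 9 6 3 9 7) (V7.mk 0 7 7 0 8 10 5)),
  (M7.mk (V7.mk 4 10 8 9 10 7 8) (V7.mk 7 9 2 0 8 3 5) (V7.mk 8 2 10 3 7 6 6) (V7.mk 5 8 7 8 6 10 2) (V7.mk 5 0 8 6 6 2 1) (V7.mk 4 2 7 7 3 6 6) (V7.mk 2 10 1 9 9 3 0)),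
  (M7.mk (V7.mk 9 3 2 8 10 5 9) (V7.mk 1 1 10 8 3 9 3) (V7.mk 0 0 9 1 4 3 2) (V7.mk 7 7 4 8 0 8 10) (V7.mk 0 10 9 1 4 6 8) (V7.mk 8 5 4 2 8 10 5) (V7.mk 2 2 0 1 4 4 2)),
  (M7.mk (V7.mk 3 10 4 4 7 8 0) (V7.mk 1 5 3 6 7 2 8) (V7.mk 6 9 2 8 9 8 10) (V7.mk 8 2 0 0 2 1 4) (V7.mk 5 8 0 1 2 1 4) (V7.mk 7 2 9 9 0 1 4) (V7.mk 2 3 10 10 1 8 3)),
  (M7.mk (V7.mk 5 2 9 3 2 3 1) (V7.mk 8 2 0 0 2 1 4) (V7.mk 5 8 0 1 2 1 4) (V7.mk 4 9 2 2 0 10 7) (V7.mk 2 3 10 10 1 8 3) (V7.mk 8 1 7 7 4 3 0) (V7.mk 10 6 8 5 4 9 3)),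
  (M7.mk (V7.mk 6 9 1 8 8 7 5) (V7.mk 9 4 2 5 6 10 5) (V7.mk 9 10 5 2 2 2 5) (V7.mk 2 6 5 1 2 5 7) (V7.mk 1 8 9 10 2 6 10) (V7.mk 3 6 2 1 3 2 9) (V7.mk 8 3 2 9 1 6 2)),
  (M7.mk (V7.mk 5 8 0 1 2 1 4) (V7.mk 4 9 2 2 0 10 7) (V7.mk 9 8 1 1 10 3 8) (V7.mk 8 1 7 7 4 3 0) (V7.mk 1 5 3 6 7 2 8) (V7.mk 6 9 2 8 9 8 10) (V7.mk 3 9 0 0 9 10 7)),
  (M7.mk (V7.mk 0 8 0 9 3 10 0) (V7.mk 0 9 0 8 3 10 0) (V7.mk 0 1 0 1 10 3 0) (V7.mk 5 0 2 0 0 0 4) (V7.mk 9 0 4 0 0 0 6) (V7.mk 0 8 0 8 2 10 0) (V7.mk 7 0 6 0 0 0 2)),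
  (M7.mk (V7.mk 10 4 5 7 9 10 9) (V7.mk 7 0 2 0 9 4 7) (V7.mk 6 2 9 4 4 10 1) (V7.mk 7 0 7 9 0 7 9) (V7.mk 2 9 4 0 0 7 7) (V7.mk 10 7 1 7 4 7 1) (V7.mk 9 4 10 9 4 1 6)),
  (M7.mk (V7.mk 6 3 1 10 10 9 2) (V7.mk 2 3 10 9 8 5 9) (V7.mk 7 7 1 3 7 9 4) (V7.mk 8 0 2 6 9 4 3) (V7.mk 3 3 2 9 7 8 7) (V7.mk 6 10 5 9 7 8 8) (V7.mk 1 1 3 3 4 0 3)),
  (M7.mk (V7.mk 10 4 3 0 4 4 8) (V7.mk 7 9 9 5 5 5 10) (V7.mk 3 2 7 7 9 2 5) (V7.mk 0 6 7 6 5 3 0) (V7.mk 4 6 9 5 3 7 7) (V7.mk 7 5 9 8 4 5 7) (V7.mk 3 10 6 0 4 7 0)),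
  (M7.mk (V7.mk 5 6 1 9 5 7 2) (V7.mk 6 2 10 3 9 2 8) (V7.mk 2 10 8 3 7 5 6) (V7.mk 1 6 2 9 2 5 9) (V7.mk 3 2 10 9 6 10 1) (V7.mk 3 2 2 1 5 9 3) (V7.mk 4 2 6 6 1 6 2)),
  (M7.mk (V7.mk 9 9 6 6 5 1 7) (V7.mk 9 4 7 9 9 5 8) (V7.mk 5 4 6 5 8 0 0) (V7.mk 6 9 6 8 7 4 4) (V7.mk 6 2 8 4 6 7 4) (V7.mk 10 6 0 7 7 0 3) (V7.mk 4 3 0 7 4 3 10)),
  (M7.mk (V7.mk 6 5 9 1 3 8 4) (V7.mk 6 2 10 5 9 2 9) (V7.mk 10 1 3 2 10 9 6) (V7.mk 9 3 3 2 2 1 5) (V7.mk 5 9 7 9 5 5 10) (V7.mk 7 2 5 6 1 9 5) (V7.mk 9 3 5 9 1 8 2)),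
  (M7.mk (V7.mk 4 7 3 1 3 1 2) (V7.mk 3 7 2 8 5 9 0) (V7.mk 6 8 10 7 6 2 3) (V7.mk 1 6 4 5 9 3 3) (V7.mk 2 5 8 6 1 0 6) (V7.mk 5 7 4 8 5 9 4) (V7.mk 8 9 10 2 0 1 2)),
  (M7.mk (V7.mk 10 1 3 2 10 9 6) (V7.mk 9 3 3 2 2 1 5) (V7.mk 6 2 4 2 6 6 1) (V7.mk 7 2 5 6 1 9 5) (V7.mk 2 8 6 2 10 3 9) (V7.mk 5 6 2 10 8 3 7) (V7.mk 5 9 1 6 2 9 2)),
  (M7.mk (V7.mk 7 4 2 9 2 0 10) (V7.mk 0 3 1 7 4 4 8) (V7.mk 1 5 9 2 3 9 3) (V7.mk 4 5 3 0 1 9 1) (V7.mk 3 2 8 1 10 10 8) (V7.mk 8 1 6 8 6 4 2) (V7.mk 7 3 2 0 0 2 10)),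
  (M7.mk (V7.mk 10 6 2 9 8 2 8) (V7.mk 4 5 3 0 1 9 1) (V7.mk 3 2 8 1 10 10 8) (V7.mk 3 10 5 3 5 7 9) (V7.mk 7 3 2 0 0 2 10) (V7.mk 4 7 9 2 9 0 1) (V7.mk 0 8 10 4 7 7 3)),
  (M7.mk (V7.mk 7 4 7 1 8 7 2) (V7.mk 4 8 3 2 2 7 3) (V7.mk 8 10 1 3 8 4 0) (V7.mk 2 9 3 10 2 8 6) (V7.mk 8 3 0 2 5 9 7) (V7.mk 3 5 10 5 2 7 3) (V7.mk 9 5 3 1 1 10 2)),
  (M7.mk (V7.mk 8 8 6 10 5 9 7) (V7.mk 0 3 1 1 3 3 4) (V7.mk 9 2 6 3 1 10 10) (V7.mk 5 9 2 3 10 9 8) (V7.mk 9 4 7 7 1 3 7) (V7.mk 4 3 8 0 2 6 9) (V7.mk 8 7 3 3 2 9 7)),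
  (M7.mk (V7.mk 2 5 3 2 7 7 9) (V7.mk 8 0 0 5 4 5 6) (V7.mk 7 7 4 6 9 5 3) (V7.mk 6 4 4 6 2 3 7) (V7.mk 4 0 8 1 5 0 7) (V7.mk 7 3 1 7 8 0 7) (V7.mk 5 10 7 9 9 5 5)),
  (M7.mk (V7.mk 9 2 6 3 1 10 10) (V7.mk 5 9 2 3 10 9 8) (V7.mk 2 7 4 4 10 8 4) (V7.mk 4 3 8 0 2 6 9) (V7.mk 3 4 8 8 9 2 4) (V7.mk 3 3 5 1 6 2 4) (V7.mk 0 8 10 10 8 8 7)),
  (M7.mk (V7.mk 0 3 8 8 9 4 8) (V7.mk 1 4 0 9 1 8 5) (V7.mk 6 7 2 3 10 0 10) (V7.mk 4 5 3 3 4 3 4) (V7.mk 2 8 7 3 3 3 0) (V7.mk 3 8 3 7 0 3 2) (V7.mk 10 7 3 0 6 2 10)),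
  (M7.mk (V7.mk 2 5 1 2 6 5 7) (V7.mk 7 6 0 6 6 8 0) (V7.mk 2 4 4 6 3 5 7) (V7.mk 3 7 8 4 0 7 1) (V7.mk 7 2 5 2 7 9 8) (V7.mk 9 8 7 6 5 4 7) (V7.mk 5 4 0 1 0 7 3)),
  (M7.mk (V7.mk 5 2 7 6 1 5 2) (V7.mk 10 3 6 2 3 4 5) (V7.mk 9 2 10 8 10 6 1) (V7.mk 9 5 6 7 6 1 2) (V7.mk 9 8 2 5 10 9 8) (V7.mk 6 9 6 1 9 9 2) (V7.mk 2 1 2 3 9 6 8)),
  (M7.mk (V7.mk 8 1 9 8 6 9 9) (V7.mk 4 10 3 7 2 4 4) (V7.mk 0 9 6 9 7 3 3) (V7.mk 8 9 9 7 3 7 8) (V7.mk 1 6 9 7 3 8 5) (V7.mk 10 8 3 4 0 3 10) (V7.mk 8 10 10 10 2 2 5)),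
  (M7.mk (V7.mk 5 9 8 7 6 7 4) (V7.mk 10 6 0 7 4 0 8) (V7.mk 4 3 0 7 7 8 1) (V7.mk 2 2 6 5 5 1 7) (V7.mk 9 4 4 9 2 6 3) (V7.mk 6 7 6 6 8 0 0) (V7.mk 5 2 6 3 7 4 4)),
  (M7.mk (V7.mk 3 5 2 4 5 7 7) (V7.mk 9 0 10 2 8 9 1) (V7.mk 1 8 1 9 7 4 3) (V7.mk 8 6 9 0 8 4 2) (V7.mk 4 6 9 3 6 8 1) (V7.mk 5 2 3 8 10 5 4) (V7.mk 5 1 0 6 2 5 3)),
  (M7.mk (V7.mk 4 3 0 7 7 8 1) (V7.mk 2 2 6 5 5 1 7) (V7.mk 2 7 7 2 9 5 8) (V7.mk 6 7 6 6 8 0 0) (V7.mk 6 9 5 8 4 7 7) (V7.mk 6 2 3 4 5 4 7) (V7.mk 1 5 0 4 7 0 3)),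
  (M7.mk (V7.mk 4 10 8 7 9 7 7) (V7.mk 0 2 6 2 7 3 3) (V7.mk 3 2 9 4 3 7 8) (V7.mk 10 5 9 4 3 8 5) (V7.mk 10 8 8 4 0 8 1) (V7.mk 8 10 1 10 9 9 6) (V7.mk 3 10 9 3 6 9 9)),
  (M7.mk (V7.mk 0 9 10 8 6 10 7) (V7.mk 2 3 1 0 1 5 4) (V7.mk 8 8 4 8 4 4 5) (V7.mk 7 3 8 3 0 9 3) (V7.mk 8 4 0 8 2 3 8) (V7.mk 8 0 6 9 10 10 7) (V7.mk 3 3 9 7 8 0 3)),
  (M7.mk (V7.mk 2 6 5 5 7 1 2) (V7.mk 2 8 6 9 10 10 1) (V7.mk 3 6 2 2 9 1 3) (V7.mk 1 3 6 2 2 9 8) (V7.mk 8 9 7 1 5 8 6) (V7.mk 6 4 10 2 5 5 9) (V7.mk 2 10 2 5 5 2 9)),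
  (M7.mk (V7.mk 8 4 7 4 9 1 4) (V7.mk 8 10 4 10 0 3 3) (V7.mk 5 3 9 0 4 2 3) (V7.mk 10 6 1 3 2 10 9) (V7.mk 9 3 4 3 3 9 4) (V7.mk 2 9 8 8 5 10 9) (V7.mk 9 6 4 10 3 6 3)),
  (M7.mk (V7.mk 3 2 4 10 6 3 5) (V7.mk 5 7 1 9 6 6 2) (V7.mk 9 1 9 6 6 9 2) (V7.mk 2 6 5 5 7 1 2) (V7.mk 2 8 6 9 10 10 1) (V7.mk 8 5 9 9 2 10 8) (V7.mk 1 3 6 2 2 9 8)),
  (M7.mk (V7.mk 1 1 9 3 1 9 6) (V7.mk 10 7 4 4 3 2 4) (V7.mk 9 7 7 8 9 3 8) (V7.mk 3 7 8 1 8 0 1) (V7.mk 1 8 9 8 9 6 9) (V7.mk 2 2 8 0 5 4 8) (V7.mk 5 4 3 10 2 8 6)),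
  (M7.mk (V7.mk 2 4 4 3 2 8 3) (V7.mk 3 7 8 1 8 0 1) (V7.mk 1 8 9 8 9 6 9) (V7.mk 9 9 3 0 6 7 3) (V7.mk 5 4 3 10 2 8 6) (V7.mk 10 10 2 8 10 2 5) (V7.mk 1 4 7 7 8 9 7)),
  (M7.mk (V7.mk 1 8 7 8 1 3 0) (V7.mk 5 1 10 2 8 1 9) (V7.mk 9 10 8 9 8 2 5) (V7.mk 4 1 7 4 4 8 9) (V7.mk 8 9 2 8 0 6 7) (V7.mk 3 9 4 4 3 9 3) (V7.mk 5 5 7 8 1 2 8)),
  (M7.mk (V7.mk 1 8 9 8 9 6 9) (V7.mk 9 9 3 0 6 7 3) (V7.mk 6 7 8 1 9 3 5) (V7.mk 10 10 2 8 10 2 5) (V7.mk 10 7 4 4 3 2 4) (V7.mk 9 7 7 8 9 3 8) (V7.mk 8 4 3 10 3 0 10)),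
  (M7.mk (V7.mk 6 7 0 10 0 7 3) (V7.mk 2 5 10 2 5 6 4) (V7.mk 4 5 0 5 6 8 0) (V7.mk 9 7 4 5 3 5 7) (V7.mk 8 4 8 7 0 7 1) (V7.mk 7 2 6 2 4 2 3) (V7.mk 9 8 4 6 6 7 4)),
  (M7.mk (V7.mk 3 4 0 4 8 4 10) (V7.mk 3 2 10 8 5 2 9) (V7.mk 10 0 4 1 6 9 8) (V7.mk 8 1 8 1 2 1 8) (V7.mk 2 8 3 5 1 7 6) (V7.mk 10 0 4 0 3 9 2) (V7.mk 1 2 7 2 7 0 9)),
  (M7.mk (V7.mk 2 10 3 3 4 6 5) (V7.mk 10 5 2 2 2 5 9) (V7.mk 8 9 10 2 6 10 1) (V7.mk 8 9 2 10 5 9 3) (V7.mk 4 2 5 6 10 5 9) (V7.mk 5 6 10 9 6 4 9) (V7.mk 5 9 10 8 9 2 8)),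
  (M7.mk (V7.mk 5 9 0 3 7 2 8) (V7.mk 6 2 7 6 4 7 3) (V7.mk 6 2 3 6 8 10 7) (V7.mk 0 10 9 3 2 1 9) (V7.mk 2 8 8 10 5 7 6) (V7.mk 8 10 9 7 4 8 10) (V7.mk 1 0 6 2 5 8 6))]

def tabC14 : List M7 := [
  (M7.mk (V7.mk 5 9 8 5 3 1 4) (V7.mk 0 10 9 3 2 1 9) (V7.mk 2 8 8 10 5 7 6) (V7.mk 3 1 2 4 7 3 1) (V7.mk 1 0 6 2 5 8 6) (V7.mk 6 2 0 8 4 9 3) (V7.mk 5 9 4 5 7 4 8)),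
  (M7.mk (V7.mk 9 8 8 10 6 4 6) (V7.mk 3 10 9 7 7 3 10) (V7.mk 10 0 6 2 6 3 6) (V7.mk 5 2 0 8 7 2 3) (V7.mk 6 9 4 5 4 7 8) (V7.mk 5 2 3 6 3 1 7) (V7.mk 0 1 2 8 2 1 2)),
  (M7.mk (V7.mk 8 9 10 2 6 10 1) (V7.mk 3 2 9 1 6 2 8) (V7.mk 4 2 5 6 10 5 9) (V7.mk 6 5 1 2 5 7 2) (V7.mk 6 2 1 3 2 9 3) (V7.mk 9 1 8 8 7 5 6) (V7.mk 10 5 2 2 2 5 9)),
  (M7.mk (V7.mk 5 1 5 2 7 8 8) (V7.mk 10 10 3 8 4 0 3) (V7.mk 6 3 10 10 1 2 9) (V7.mk 2 3 1 9 3 6 2) (V7.mk 4 4 1 8 7 9 4) (V7.mk 8 0 9 6 2 7 8) (V7.mk 8 8 2 2 7 8 7)),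
  (M7.mk (V7.mk 5 8 1 1 10 9 2) (V7.mk 2 3 1 9 3 6 2) (V7.mk 4 4 1 8 7 9 4) (V7.mk 3 0 2 5 9 4 3) (V7.mk 8 8 2 2 7 8 7) (V7.mk 6 10 6 9 4 3 3) (V7.mk 1 1 8 3 7 0 8)),
  (M7.mk (V7.mk 10 1 5 9 9 7 4) (V7.mk 7 9 4 0 7 2 0) (V7.mk 7 7 9 2 4 0 0) (V7.mk 4 10 10 7 10 7 7) (V7.mk 10 5 9 4 1 9 7) (V7.mk 10 9 1 7 5 4 9) (V7.mk 7 4 7 0 9 0 2)),
  (M7.mk (V7.mk 4 4 1 8 7 9 4) (V7.mk 3 0 2 5 9 4 3) (V7.mk 3 3 9 9 4 3 4) (V7.mk 6 10 6 9 4 3 3) (V7.mk 10 10 3 8 4 0 3) (V7.mk 6 3 10 10 1 2 9) (V7.mk 9 8 10 2 8 5 9)),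
  (M7.mk (V7.mk 6 9 9 8 2 3 1) (V7.mk 8 2 0 0 9 10 7) (V7.mk 5 8 0 1 9 10 7) (V7.mk 7 2 2 9 0 10 7) (V7.mk 2 3 1 10 10 3 8) (V7.mk 3 10 7 4 4 3 0) (V7.mk 1 5 8 6 4 9 3)),
  (M7.mk (V7.mk 6 3 0 10 2 1 4) (V7.mk 7 2 2 9 0 10 7) (V7.mk 2 3 1 10 10 3 8) (V7.mk 8 1 4 7 7 8 0) (V7.mk 1 5 8 6 4 9 3) (V7.mk 5 2 2 3 9 8 10) (V7.mk 3 9 0 0 2 1 4)),
  (M7.mk (V7.mk 9 4 4 9 2 6 3) (V7.mk 6 7 6 6 8 0 0) (V7.mk 6 9 5 8 4 7 7) (V7.mk 5 9 8 7 6 7 4) (V7.mk 1 5 0 4 7 0 3) (V7.mk 7 8 0 4 4 3 10) (V7.mk 9 9 5 6 6 10 4)),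
  (M7.mk (V7.mk 7 9 6 5 1 6 2) (V7.mk 6 5 1 2 5 7 2) (V7.mk 5 9 10 8 9 2 8) (V7.mk 2 10 3 3 4 6 5) (V7.mk 1 6 9 9 9 6 2) (V7.mk 8 9 10 2 6 10 1) (V7.mk 3 2 9 1 6 2 8)),
  (M7.mk (V7.mk 4 10 0 8 3 3 10) (V7.mk 9 0 7 9 3 6 3) (V7.mk 1 3 9 1 9 1 6) (V7.mk 7 8 3 9 7 9 8) (V7.mk 3 3 5 10 2 2 2) (V7.mk 4 10 8 5 3 2 6) (V7.mk 4 7 9 1 7 8 7)),
  (M7.mk (V7.mk 5 5 7 6 7 6 1) (V7.mk 3 8 3 6 8 6 5) (V7.mk 8 0 8 4 6 7 5) (V7.mk 8 3 5 6 0 4 4) (V7.mk 5 7 6 6 4 10 5) (V7.mk 8 6 0 7 3 6 7) (V7.mk 5 4 4 10 5 6 5)),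
  (M7.mk (V7.mk 1 3 9 1 9 1 6) (V7.mk 7 8 3 9 7 9 8) (V7.mk 8 8 6 1 9 9 9) (V7.mk 4 10 8 5 3 2 6) (V7.mk 7 4 2 10 4 3 4) (V7.mk 7 1 0 3 8 8 1) (V7.mk 2 0 4 2 8 5 8)),
  (M7.mk (V7.mk 7 9 3 4 8 8 9) (V7.mk 3 2 5 7 10 3 5) (V7.mk 8 8 10 4 1 0 3) (V7.mk 2 10 6 1 8 9 10) (V7.mk 2 2 9 8 3 6 10) (V7.mk 4 3 7 4 4 9 10) (V7.mk 3 6 8 2 0 4 9)),
  (M7.mk (V7.mk 7 4 7 1 10 7 1) (V7.mk 4 4 10 1 6 2 9) (V7.mk 2 7 10 5 2 7 1) (V7.mk 9 0 7 9 7 0 7) (V7.mk 4 2 1 2 1 7 6) (V7.mk 0 0 4 4 9 2 7) (V7.mk 0 2 7 4 4 0 9)),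
  (M7.mk (V7.mk 8 8 6 1 9 9 9) (V7.mk 7 1 3 6 8 9 5) (V7.mk 7 4 2 10 4 3 4) (V7.mk 4 10 0 8 3 3 10) (V7.mk 9 0 7 9 3 6 3) (V7.mk 10 8 2 10 2 10 5) (V7.mk 7 8 3 9 7 9 8)),
  (M7.mk (V7.mk 7 4 4 3 3 0 10) (V7.mk 3 5 4 2 7 5 7) (V7.mk 6 9 5 9 1 6 7) (V7.mk 7 5 5 9 4 3 7) (V7.mk 2 2 2 7 6 4 3) (V7.mk 4 1 4 5 0 0 8) (V7.mk 5 5 8 4 0 6 0)),
  (M7.mk (V7.mk 6 9 5 9 1 6 7) (V7.mk 7 5 5 9 4 3 7) (V7.mk 9 9 9 4 5 7 8) (V7.mk 4 1 4 5 0 0 8) (V7.mk 6 6 3 7 0 5 0) (V7.mk 4 7 7 8 8 0 1) (V7.mk 8 6 7 9 4 6 4)),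
  (M7.mk (V7.mk 8 4 0 8 2 3 8) (V7.mk 8 0 6 9 10 10 7) (V7.mk 8 8 2 4 3 0 8) (V7.mk 0 9 10 8 6 10 7) (V7.mk 9 8 10 0 10 6 7) (V7.mk 3 3 7 3 7 7 6) (V7.mk 4 8 3 8 0 2 8)),
  (M7.mk (V7.mk 8 3 8 2 4 8 0) (V7.mk 4 0 2 1 3 6 10) (V7.mk 7 2 8 10 0 1 5) (V7.mk 6 8 3 7 3 4 4) (V7.mk 8 7 8 3 8 0 9) (V7.mk 3 8 7 0 3 2 3) (V7.mk 4 8 0 5 2 10 10)),
  (M7.mk (V7.mk 4 9 3 1 0 10 6) (V7.mk 6 8 3 7 3 4 4) (V7.mk 8 7 8 3 8 0 9) (V7.mk 8 3 4 0 8 9 8) (V7.mk 4 8 0 5 2 10 10) (V7.mk 3 8 3 9 7 3 0) (V7.mk 7 0 9 10 8 5 1)),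
  (M7.mk (V7.mk 2 6 2 7 6 10 6) (V7.mk 5 1 3 6 2 8 7) (V7.mk 10 9 9 1 3 10 6) (V7.mk 9 9 6 5 4 6 1) (V7.mk 8 2 8 2 5 1 2) (V7.mk 9 6 2 5 10 9 9) (V7.mk 8 9 1 2 3 2 5)),
  (M7.mk (V7.mk 3 2 4 3 0 3 8) (V7.mk 9 1 3 5 10 7 0) (V7.mk 3 10 0 10 5 4 9) (V7.mk 8 7 3 7 4 5 3) (V7.mk 3 3 8 0 9 3 4) (V7.mk 4 0 3 9 3 8 3) (V7.mk 0 5 2 1 10 7 3)),
  (M7.mk (V7.mk 9 7 6 1 6 9 5) (V7.mk 8 6 2 3 7 6 10) (V7.mk 2 1 3 1 6 1 2) (V7.mk 5 5 4 5 1 2 2) (V7.mk 3 2 5 10 2 3 9) (V7.mk 9 5 10 2 9 2 5) (V7.mk 10 2 3 9 5 3 2)),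
  (M7.mk (V7.mk 3 3 8 0 9 3 4) (V7.mk 7 0 8 2 8 3 8) (V7.mk 0 6 9 10 1 4 8) (V7.mk 8 9 7 8 0 8 3) (V7.mk 9 1 3 5 10 7 0) (V7.mk 3 10 0 10 5 4 9) (V7.mk 3 4 8 4 7 6 8)),
  (M7.mk (V7.mk 9 1 10 3 10 8 8) (V7.mk 10 10 3 10 3 3 9) (V7.mk 1 3 10 3 8 2 10) (V7.mk 8 10 3 8 9 1 1) (V7.mk 10 8 3 2 1 1 3) (V7.mk 8 8 9 10 1 3 1) (V7.mk 3 9 10 1 8 10 8)),
  (M7.mk (V7.mk 6 10 4 0 9 1 8) (V7.mk 1 5 7 9 3 10 0) (V7.mk 7 7 5 8 3 4 3) (V7.mk 0 2 3 7 8 8 8) (V7.mk 2 3 3 3 4 0 8) (V7.mk 1 1 7 8 0 6 2) (V7.mk 8 0 8 8 3 2 7)),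
  (M7.mk (V7.mk 9 6 9 10 6 2 9) (V7.mk 6 10 10 3 9 1 2) (V7.mk 5 9 8 3 9 9 10) (V7.mk 10 5 2 7 2 6 6) (V7.mk 5 7 9 5 5 10 2) (V7.mk 2 9 8 5 2 10 3) (V7.mk 4 6 6 9 10 8 3)),
  (M7.mk (V7.mk 6 2 3 8 2 2 1) (V7.mk 10 5 2 7 2 6 6) (V7.mk 5 7 9 5 5 10 2) (V7.mk 9 2 3 6 9 1 8) (V7.mk 4 6 6 9 10 8 3) (V7.mk 2 5 2 1 5 9 2) (V7.mk 5 1 1 8 2 10 9)),
  (M7.mk (V7.mk 0 6 4 5 5 8 0) (V7.mk 4 6 2 6 3 4 7) (V7.mk 7 5 2 3 4 6 7) (V7.mk 8 1 6 0 7 7 0) (V7.mk 1 7 3 0 7 4 3) (V7.mk 7 9 2 6 5 6 10) (V7.mk 8 9 7 7 2 2 6)),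
  (M7.mk (V7.mk 7 5 4 3 6 7 9) (V7.mk 1 6 4 6 2 6 2) (V7.mk 7 8 7 4 5 5 9) (V7.mk 6 4 8 2 9 9 4) (V7.mk 0 0 8 7 1 4 5) (V7.mk 0 5 0 6 5 8 4) (V7.mk 8 0 10 4 4 4 3)),
  (M7.mk (V7.mk 4 3 4 7 6 6 2) (V7.mk 6 4 8 2 9 9 4) (V7.mk 0 0 8 7 1 4 5) (V7.mk 0 6 0 5 6 3 7) (V7.mk 8 0 10 4 4 4 3) (V7.mk 4 6 7 8 5 4 2) (V7.mk 10 5 7 5 9 5 9)),
  (M7.mk (V7.mk 7 6 6 2 4 3 4) (V7.mk 4 10 7 6 0 0 3) (V7.mk 7 7 7 8 3 0 1) (V7.mk 6 2 6 2 1 6 4) (V7.mk 2 9 9 4 6 4 8) (V7.mk 5 6 3 7 0 6 0) (V7.mk 3 6 7 9 7 5 4)),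
  (M7.mk (V7.mk 9 5 5 10 5 9 7) (V7.mk 6 1 9 5 7 2 5) (V7.mk 9 1 8 2 9 3 5) (V7.mk 1 3 8 4 6 5 9) (V7.mk 5 9 2 9 6 2 10) (V7.mk 2 10 9 6 10 1 3) (V7.mk 2 2 1 5 9 3 3)),
  (M7.mk (V7.mk 8 5 9 4 5 7 4) (V7.mk 9 0 10 9 3 2 1) (V7.mk 1 3 1 2 4 7 3) (V7.mk 3 6 2 0 8 4 9) (V7.mk 4 5 9 8 5 3 1) (V7.mk 6 2 8 8 10 5 7) (V7.mk 6 1 0 6 2 5 8)),
  (M7.mk (V7.mk 1 8 1 2 4 4 8) (V7.mk 8 6 9 0 3 4 9) (V7.mk 4 6 9 8 5 8 10) (V7.mk 6 9 8 8 10 6 4) (V7.mk 6 10 0 6 2 6 3) (V7.mk 3 5 2 7 6 7 4) (V7.mk 2 0 1 2 8 2 1)),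
  (M7.mk (V7.mk 1 3 1 2 4 7 3) (V7.mk 3 6 2 0 8 4 9) (V7.mk 7 6 2 3 6 8 10) (V7.mk 6 2 8 8 10 5 7) (V7.mk 5 10 0 5 9 6 3) (V7.mk 3 6 2 7 6 4 7) (V7.mk 2 0 1 2 8 9 10)),
  (M7.mk (V7.mk 4 7 8 1 7 8 0) (V7.mk 6 5 1 7 9 9 6) (V7.mk 2 2 6 3 2 7 4) (V7.mk 6 3 0 0 6 7 5) (V7.mk 3 4 7 7 5 2 5) (V7.mk 4 6 7 4 6 2 8) (V7.mk 7 7 0 3 10 6 0)),
  (M7.mk (V7.mk 9 9 5 8 9 4 7) (V7.mk 6 3 0 0 6 7 5) (V7.mk 3 4 7 7 5 2 5) (V7.mk 7 5 4 7 5 9 3) (V7.mk 7 7 0 3 10 6 0) (V7.mk 7 4 3 10 4 3 0) (V7.mk 5 6 10 4 2 2 5)),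
  (M7.mk (V7.mk 0 3 7 9 8 6 2) (V7.mk 8 6 8 1 7 5 9) (V7.mk 3 10 5 4 6 9 3) (V7.mk 5 2 5 3 6 10 0) (V7.mk 4 6 4 4 3 5 9) (V7.mk 2 3 2 10 9 0 1) (V7.mk 2 7 4 3 10 3 1)),
  (M7.mk (V7.mk 3 4 7 7 5 2 5) (V7.mk 7 5 4 7 5 9 3) (V7.mk 4 4 0 8 1 5 0) (V7.mk 7 4 3 10 4 3 0) (V7.mk 6 5 1 7 9 9 6) (V7.mk 2 2 6 3 2 7 4) (V7.mk 5 8 0 0 5 4 6)),
  (M7.mk (V7.mk 6 4 1 2 9 6 6) (V7.mk 2 1 10 1 9 8 5) (V7.mk 9 2 1 3 8 6 9) (V7.mk 9 9 9 8 10 3 5) (V7.mk 10 6 8 6 3 9 4) (V7.mk 9 6 5 9 5 4 1) (V7.mk 6 6 2 9 9 10 9)),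
  (M7.mk (V7.mk 4 4 0 8 1 5 0) (V7.mk 4 7 8 1 7 8 0) (V7.mk 6 5 1 7 9 9 6) (V7.mk 9 9 5 8 9 4 7) (V7.mk 6 3 0 0 6 7 5) (V7.mk 8 7 4 4 6 9 6) (V7.mk 7 5 4 7 5 9 3)),
  (M7.mk (V7.mk 2 2 7 6 4 3 2) (V7.mk 10 7 6 0 0 3 7) (V7.mk 6 3 7 0 5 0 6) (V7.mk 7 7 8 8 0 1 4) (V7.mk 5 4 2 7 5 7 3) (V7.mk 9 5 9 1 6 7 6) (V7.mk 6 6 2 7 8 4 4)),
  (M7.mk (V7.mk 5 2 8 1 0 4 1) (V7.mk 1 7 5 2 3 8 6) (V7.mk 4 0 9 10 2 7 2) (V7.mk 6 9 9 8 2 10 8) (V7.mk 9 10 8 3 1 8 1) (V7.mk 3 9 9 10 0 7 0) (V7.mk 8 4 1 3 7 0 7)),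
  (M7.mk (V7.mk 7 0 2 1 9 4 9) (V7.mk 6 9 9 8 2 10 8) (V7.mk 9 10 8 3 1 8 1) (V7.mk 8 2 2 1 0 4 0) (V7.mk 8 4 1 3 7 0 7) (V7.mk 6 9 3 10 0 7 10) (V7.mk 10 4 6 9 8 3 5)),
  (M7.mk (V7.mk 7 9 8 5 6 3 1) (V7.mk 4 6 4 7 8 2 6) (V7.mk 8 3 9 4 10 1 4) (V7.mk 10 5 3 8 7 9 5) (V7.mk 8 10 6 5 6 0 9) (V7.mk 10 0 2 9 2 10 3) (V7.mk 9 5 0 4 3 9 3)),
  (M7.mk (V7.mk 9 3 5 9 10 1 1) (V7.mk 10 8 5 2 2 2 8) (V7.mk 5 7 1 2 5 6 9) (V7.mk 9 5 6 5 7 10 2) (V7.mk 8 5 9 2 9 10 3) (V7.mk 3 2 4 1 5 3 6) (V7.mk 9 1 9 5 5 9 9)),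
  (M7.mk (V7.mk 9 6 4 1 8 6 8) (V7.mk 3 1 7 10 0 8 3) (V7.mk 1 5 10 3 2 1 9) (V7.mk 2 9 8 3 6 10 2) (V7.mk 3 7 4 4 9 10 4) (V7.mk 5 3 9 0 7 2 8) (V7.mk 9 3 4 8 8 9 7)),
  (M7.mk (V7.mk 9 5 9 7 9 8 4) (V7.mk 8 4 6 6 7 4 9) (V7.mk 4 0 1 0 4 8 5) (V7.mk 6 1 9 6 5 7 9) (V7.mk 6 0 6 5 3 0 7) (V7.mk 7 4 5 3 5 7 9) (V7.mk 4 8 7 0 7 1 8)),
  (M7.mk (V7.mk 6 7 9 4 6 4 8) (V7.mk 9 5 9 1 6 7 6) (V7.mk 6 6 2 7 8 4 4) (V7.mk 9 9 4 5 7 8 9) (V7.mk 10 7 6 0 0 3 7) (V7.mk 5 8 4 0 6 0 5) (V7.mk 4 4 3 3 0 10 7)),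
  (M7.mk (V7.mk 10 10 1 9 3 6 2) (V7.mk 2 10 8 3 6 9 2) (V7.mk 9 2 3 1 3 5 2) (V7.mk 5 8 6 3 2 7 10) (V7.mk 6 6 2 6 4 1 2) (V7.mk 5 2 9 9 1 2 6) (V7.mk 7 1 2 9 5 5 6)),
  (M7.mk (V7.mk 2 9 8 10 8 6 9) (V7.mk 5 8 6 3 2 7 10) (V7.mk 6 6 2 6 4 1 2) (V7.mk 6 9 2 2 10 9 5) (V7.mk 7 1 2 9 5 5 6) (V7.mk 1 1 10 2 8 5 9) (V7.mk 9 1 3 8 5 2 9)),
  (M7.mk (V7.mk 8 10 7 1 0 8 3) (V7.mk 2 9 3 3 5 1 9) (V7.mk 5 3 2 0 4 9 3) (V7.mk 2 5 4 10 8 6 8) (V7.mk 1 5 1 3 9 10 2) (V7.mk 8 4 4 7 9 10 4) (V7.mk 2 8 4 3 8 9 7)),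
  (M7.mk (V7.mk 7 0 1 4 3 3 4) (V7.mk 7 3 6 6 9 1 3) (V7.mk 2 10 9 3 8 5 9) (V7.mk 9 4 2 0 1 3 0) (V7.mk 2 7 3 1 10 5 0) (V7.mk 0 4 2 2 1 4 2) (V7.mk 1 8 8 10 3 2 10)),
  (M7.mk (V7.mk 4 4 7 8 9 4 10) (V7.mk 9 8 0 6 7 8 2) (V7.mk 7 4 8 9 3 3 2) (V7.mk 7 3 1 9 3 6 5) (V7.mk 7 3 1 8 0 10 8) (V7.mk 1 2 3 1 9 5 10) (V7.mk 8 2 8 9 6 2 10)),
  (M7.mk (V7.mk 2 7 3 1 10 5 0) (V7.mk 0 7 9 9 10 7 9) (V7.mk 10 3 3 1 8 9 1) (V7.mk 4 0 10 7 8 8 7) (V7.mk 7 3 6 6 9 1 3) (V7.mk 2 10 9 3 8 5 9) (V7.mk 2 7 9 0 10 8 0)),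
  (M7.mk (V7.mk 7 5 3 0 3 7 5) (V7.mk 4 4 3 3 6 5 0) (V7.mk 1 6 5 4 6 6 4) (V7.mk 6 7 3 6 0 4 8) (V7.mk 5 6 5 7 4 10 5) (V7.mk 5 10 5 6 7 6 7) (V7.mk 5 6 3 3 3 6 8)),
  (M7.mk (V7.mk 10 5 6 7 5 5 7) (V7.mk 6 7 3 6 0 4 8) (V7.mk 5 6 5 7 4 10 5) (V7.mk 6 1 6 5 4 5 4) (V7.mk 5 6 3 3 3 6 8) (V7.mk 4 6 8 0 8 4 6) (V7.mk 7 7 8 8 5 6 0)),
  (M7.mk (V7.mk 8 4 1 3 7 0 7) (V7.mk 6 9 3 10 0 7 10) (V7.mk 1 7 5 2 3 8 6) (V7.mk 7 0 2 1 9 4 9) (V7.mk 5 2 2 3 9 1 3) (V7.mk 2 1 3 8 10 3 10) (V7.mk 3 9 9 10 0 7 0)),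
  (M7.mk (V7.mk 9 1 3 8 5 2 9) (V7.mk 2 9 8 10 8 6 9) (V7.mk 6 3 5 8 9 4 1) (V7.mk 6 6 2 6 4 1 2) (V7.mk 5 2 9 9 1 2 6) (V7.mk 4 10 9 2 6 6 5) (V7.mk 10 10 1 9 3 6 2)),
  (M7.mk (V7.mk 3 1 5 0 7 7 0) (V7.mk 4 9 9 6 5 6 1) (V7.mk 0 5 4 6 6 3 0) (V7.mk 7 6 2 8 7 5 7) (V7.mk 10 7 8 0 7 4 8) (V7.mk 8 2 7 4 9 9 6) (V7.mk 7 6 9 6 3 4 4)),
  (M7.mk (V7.mk 10 7 3 4 1 3 2) (V7.mk 5 9 1 6 0 8 6) (V7.mk 3 8 5 4 9 2 0) (V7.mk 8 5 6 7 2 7 7) (V7.mk 7 6 5 8 9 1 8) (V7.mk 9 3 0 2 1 10 2) (V7.mk 5 1 2 6 8 7 8))]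

def tabC15 : List M7 := [
  (M7.mk (V7.mk 10 5 0 8 5 5 2) (V7.mk 0 2 10 1 2 2 3) (V7.mk 6 7 9 2 0 3 3) (V7.mk 2 6 3 4 8 6 1) (V7.mk 6 7 9 4 7 3 5) (V7.mk 3 4 10 8 2 1 7) (V7.mk 6 3 9 1 3 7 5)),
  (M7.mk (V7.mk 8 10 5 3 6 4 9) (V7.mk 1 6 2 9 3 9 8) (V7.mk 4 3 2 0 0 9 10) (V7.mk 4 6 8 0 1 9 10) (V7.mk 4 4 2 9 9 0 10) (V7.mk 8 2 8 1 1 1 8) (V7.mk 0 3 1 7 7 7 8)),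
  (M7.mk (V7.mk 10 5 0 8 6 6 9) (V7.mk 0 9 10 10 2 2 3) (V7.mk 5 4 9 9 0 3 3) (V7.mk 9 5 3 7 8 6 1) (V7.mk 6 7 2 4 4 8 6) (V7.mk 3 4 1 8 9 10 4) (V7.mk 5 8 9 10 3 7 5)),
  (M7.mk (V7.mk 2 8 4 6 7 4 6) (V7.mk 5 0 4 4 0 8 1) (V7.mk 8 0 4 7 8 1 7) (V7.mk 2 5 5 6 10 4 2) (V7.mk 4 7 9 9 5 8 9) (V7.mk 4 6 5 8 0 0 5) (V7.mk 2 5 3 4 7 7 5)),
  (M7.mk (V7.mk 7 5 7 4 5 2 3) (V7.mk 9 9 6 3 9 7 7) (V7.mk 7 7 0 8 10 5 0) (V7.mk 5 8 0 0 5 7 6) (V7.mk 4 7 3 10 7 3 0) (V7.mk 3 4 4 4 5 9 5) (V7.mk 6 5 10 4 9 2 6)),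
  (M7.mk (V7.mk 4 4 0 3 1 6 0) (V7.mk 5 8 0 0 5 7 6) (V7.mk 4 7 3 10 7 3 0) (V7.mk 8 7 7 7 6 2 6) (V7.mk 6 5 10 4 9 2 6) (V7.mk 4 6 4 7 6 9 8) (V7.mk 2 2 5 8 2 4 4)),
  (M7.mk (V7.mk 6 9 5 3 5 10 0) (V7.mk 0 3 4 2 8 5 2) (V7.mk 7 5 4 4 8 5 2) (V7.mk 8 6 3 10 7 6 9) (V7.mk 2 3 9 1 9 0 1) (V7.mk 3 10 6 7 6 2 3) (V7.mk 9 4 4 3 1 3 10)),
  (M7.mk (V7.mk 4 7 3 10 7 3 0) (V7.mk 8 7 7 7 6 2 6) (V7.mk 5 6 1 7 2 9 5) (V7.mk 4 6 4 7 6 9 8) (V7.mk 9 9 6 3 9 7 7) (V7.mk 7 7 0 8 10 5 0) (V7.mk 6 3 0 0 6 4 5)),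
  (M7.mk (V7.mk 1 10 2 2 8 0 9) (V7.mk 1 3 2 1 4 3 7) (V7.mk 2 9 0 3 8 6 4) (V7.mk 2 10 3 7 6 6 8) (V7.mk 8 7 8 6 10 2 5) (V7.mk 0 3 5 5 9 10 6) (V7.mk 2 7 7 3 6 6 4)),
  (M7.mk (V7.mk 9 2 0 8 3 5 7) (V7.mk 2 10 3 7 6 6 8) (V7.mk 8 7 8 6 10 2 5) (V7.mk 0 8 6 6 2 1 5) (V7.mk 2 7 7 3 6 6 4) (V7.mk 10 1 9 9 3 0 2) (V7.mk 10 8 9 10 7 8 4)),
  (M7.mk (V7.mk 1 6 9 2 3 2 8) (V7.mk 7 5 8 0 10 9 1) (V7.mk 3 9 8 1 10 1 3) (V7.mk 8 10 6 8 6 7 9) (V7.mk 7 8 2 0 0 9 1) (V7.mk 4 4 9 2 9 0 10) (V7.mk 0 3 10 4 7 4 8)),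
  (M7.mk (V7.mk 7 4 8 0 8 10 7) (V7.mk 10 9 1 4 6 8 0) (V7.mk 6 7 9 3 1 6 3) (V7.mk 2 0 1 4 4 2 2) (V7.mk 8 9 3 1 6 2 2) (V7.mk 10 1 3 8 2 8 10) (V7.mk 0 2 10 7 8 9 0)),
  (M7.mk (V7.mk 0 7 0 0 0 5 2) (V7.mk 8 0 8 2 10 0 0) (V7.mk 0 6 0 0 0 2 7) (V7.mk 3 0 2 8 1 0 0) (V7.mk 9 0 8 3 10 0 0) (V7.mk 10 0 10 1 8 0 0) (V7.mk 0 9 0 0 0 7 6)),
  (M7.mk (V7.mk 0 5 0 0 0 9 4) (V7.mk 3 0 2 8 1 0 0) (V7.mk 9 0 8 3 10 0 0) (V7.mk 1 0 1 10 3 0 0) (V7.mk 0 9 0 0 0 7 6) (V7.mk 0 4 0 0 0 6 9) (V7.mk 3 0 3 9 1 0 0)),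
  (M7.mk (V7.mk 9 0 0 9 10 4 8) (V7.mk 3 0 10 9 10 4 5) (V7.mk 9 9 2 0 10 4 7) (V7.mk 8 10 1 10 3 3 2) (V7.mk 1 4 7 4 3 0 3) (V7.mk 6 3 5 4 9 8 1) (V7.mk 2 2 3 2 3 10 6)),
  (M7.mk (V7.mk 9 0 8 3 10 0 0) (V7.mk 1 0 1 10 3 0 0) (V7.mk 0 2 0 0 0 4 5) (V7.mk 0 4 0 0 0 6 9) (V7.mk 8 0 8 2 10 0 0) (V7.mk 0 6 0 0 0 2 7) (V7.mk 8 0 9 3 10 0 0)),
  (M7.mk (V7.mk 7 1 2 7 10 5 2) (V7.mk 7 6 4 2 1 2 1) (V7.mk 0 9 0 2 7 4 4) (V7.mk 2 9 4 4 10 1 6) (V7.mk 0 7 9 0 7 9 7) (V7.mk 2 7 0 0 4 4 9) (V7.mk 7 1 7 4 7 1 10)),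
  (M7.mk (V7.mk 6 7 9 4 7 3 5) (V7.mk 3 4 10 8 2 1 7) (V7.mk 5 8 2 10 8 4 6) (V7.mk 10 5 0 8 5 5 2) (V7.mk 0 9 1 10 9 9 8) (V7.mk 5 4 2 9 0 8 8) (V7.mk 9 5 8 7 3 5 10)),
  (M7.mk (V7.mk 0 2 6 9 4 3 8) (V7.mk 8 9 2 4 3 4 8) (V7.mk 10 5 9 7 8 8 6) (V7.mk 10 8 8 7 0 8 10) (V7.mk 8 10 1 1 2 9 5) (V7.mk 8 1 2 3 6 2 9) (V7.mk 7 1 3 7 9 4 7)),
  (M7.mk (V7.mk 0 1 9 1 4 5 3) (V7.mk 10 1 1 3 8 9 3) (V7.mk 3 5 7 9 3 10 5) (V7.mk 0 0 9 1 4 8 9) (V7.mk 9 2 0 10 7 4 2) (V7.mk 7 4 4 8 0 3 1) (V7.mk 9 8 2 8 10 6 2)),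
  (M7.mk (V7.mk 4 7 9 9 5 8 9) (V7.mk 4 6 5 8 0 0 5) (V7.mk 9 6 8 7 4 4 6) (V7.mk 2 8 4 6 7 4 6) (V7.mk 6 0 7 7 0 3 10) (V7.mk 3 0 7 4 3 10 4) (V7.mk 9 6 6 5 1 7 9)),
  (M7.mk (V7.mk 7 2 8 5 9 0 3) (V7.mk 8 10 7 6 2 3 6) (V7.mk 6 4 5 9 3 3 1) (V7.mk 5 8 6 1 0 6 2) (V7.mk 7 4 8 5 9 4 5) (V7.mk 9 10 2 0 1 2 8) (V7.mk 7 3 1 3 1 2 4)),
  (M7.mk (V7.mk 7 0 2 0 9 4 7) (V7.mk 6 2 9 4 4 10 1) (V7.mk 4 0 4 2 0 4 2) (V7.mk 2 9 4 0 0 7 7) (V7.mk 1 4 10 4 7 4 10) (V7.mk 2 7 1 2 7 10 5) (V7.mk 1 7 6 4 2 1 2)),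
  (M7.mk (V7.mk 5 3 0 1 9 1 4) (V7.mk 2 8 1 10 10 8 3) (V7.mk 10 5 3 5 7 9 3) (V7.mk 3 2 0 0 2 10 7) (V7.mk 7 9 2 9 0 1 4) (V7.mk 8 10 4 7 7 3 0) (V7.mk 6 2 9 8 2 8 10)),
  (M7.mk (V7.mk 0 6 7 5 5 8 0) (V7.mk 4 5 9 3 4 6 4) (V7.mk 1 4 3 0 4 7 3) (V7.mk 8 2 7 4 9 9 6) (V7.mk 7 6 9 6 3 4 4) (V7.mk 8 10 6 0 4 4 0) (V7.mk 4 9 9 6 5 6 1)),
  (M7.mk (V7.mk 9 6 5 10 2 6 4) (V7.mk 8 6 2 10 3 9 2) (V7.mk 5 9 1 3 8 4 6) (V7.mk 2 10 5 9 2 9 6) (V7.mk 10 8 9 1 2 5 1) (V7.mk 3 3 2 2 1 5 9) (V7.mk 2 4 2 6 6 1 6)),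
  (M7.mk (V7.mk 7 4 4 10 8 4 2) (V7.mk 3 8 0 2 6 9 4) (V7.mk 7 3 3 2 9 7 8) (V7.mk 3 5 1 6 2 4 3) (V7.mk 3 1 1 3 3 4 0) (V7.mk 9 5 8 10 1 1 2) (V7.mk 2 9 8 1 2 3 6)),
  (M7.mk (V7.mk 1 4 2 2 6 6 6) (V7.mk 6 8 9 4 4 2 9) (V7.mk 0 0 6 7 6 5 3) (V7.mk 7 4 6 9 5 3 7) (V7.mk 4 4 6 2 3 7 6) (V7.mk 0 3 10 6 0 4 7) (V7.mk 3 1 7 8 0 7 7)),
  (M7.mk (V7.mk 0 0 5 4 5 6 8) (V7.mk 7 4 6 9 5 3 7) (V7.mk 4 4 6 2 3 7 6) (V7.mk 0 8 1 5 0 7 4) (V7.mk 3 1 7 8 0 7 7) (V7.mk 10 7 9 9 5 5 5) (V7.mk 5 3 2 7 7 9 2)),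
  (M7.mk (V7.mk 7 3 10 3 10 9 7) (V7.mk 4 9 8 6 9 0 3) (V7.mk 3 1 7 5 2 3 6) (V7.mk 5 7 5 2 3 3 1) (V7.mk 5 8 5 1 0 5 9) (V7.mk 7 4 3 5 2 7 6) (V7.mk 2 1 2 0 1 2 8)),
  (M7.mk (V7.mk 7 3 4 3 8 2 9) (V7.mk 3 5 9 9 3 1 2) (V7.mk 4 8 8 5 10 6 2) (V7.mk 7 2 7 7 4 1 3) (V7.mk 7 0 3 10 1 8 8) (V7.mk 9 7 8 8 0 2 6) (V7.mk 10 2 9 6 8 1 10)),
  (M7.mk (V7.mk 9 9 6 3 9 7 7) (V7.mk 4 4 0 3 1 6 0) (V7.mk 6 3 0 0 6 4 5) (V7.mk 7 4 8 1 4 8 0) (V7.mk 3 4 4 4 5 9 5) (V7.mk 6 5 10 4 9 2 6) (V7.mk 4 6 4 7 6 9 8)),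
  (M7.mk (V7.mk 8 10 8 6 9 2 9) (V7.mk 6 3 2 7 10 5 8) (V7.mk 9 5 7 10 9 5 5) (V7.mk 2 2 10 9 5 6 9) (V7.mk 9 2 6 6 5 4 10) (V7.mk 1 9 3 6 2 10 10) (V7.mk 8 3 6 9 2 2 10)),
  (M7.mk (V7.mk 6 3 4 3 5 1 9) (V7.mk 4 10 8 9 10 7 8) (V7.mk 5 0 8 6 6 2 1) (V7.mk 4 2 9 0 3 8 6) (V7.mk 4 2 7 7 3 6 6) (V7.mk 3 9 1 8 4 5 5) (V7.mk 9 1 10 2 2 8 0)),
  (M7.mk (V7.mk 6 0 3 5 5 9 10) (V7.mk 4 2 9 0 3 8 6) (V7.mk 4 2 7 7 3 6 6) (V7.mk 8 2 10 3 7 6 6) (V7.mk 9 1 10 2 2 8 0) (V7.mk 5 8 7 8 6 10 2) (V7.mk 7 1 3 2 1 4 3)),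
  (M7.mk (V7.mk 1 6 8 6 4 2 8) (V7.mk 3 2 0 0 2 10 7) (V7.mk 7 9 2 9 0 1 4) (V7.mk 3 1 7 4 4 8 0) (V7.mk 6 2 9 8 2 8 10) (V7.mk 6 8 0 10 2 10 7) (V7.mk 9 3 10 1 1 3 8)),
  (M7.mk (V7.mk 3 4 7 6 6 2 4) (V7.mk 7 3 9 2 2 7 5) (V7.mk 0 3 4 10 7 6 0) (V7.mk 5 0 6 5 8 4 0) (V7.mk 0 10 4 4 4 3 8) (V7.mk 6 7 8 5 4 2 4) (V7.mk 6 4 6 2 6 2 1)),
  (M7.mk (V7.mk 5 7 1 8 5 8 2) (V7.mk 7 4 7 2 10 7 3) (V7.mk 1 7 1 0 8 8 3) (V7.mk 3 9 0 4 2 3 5) (V7.mk 6 1 3 2 10 9 10) (V7.mk 8 7 8 8 2 7 2) (V7.mk 9 8 8 5 10 9 2)),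
  (M7.mk (V7.mk 10 4 10 0 3 3 8) (V7.mk 3 9 0 4 2 3 5) (V7.mk 6 1 3 2 10 9 10) (V7.mk 3 4 3 3 9 4 9) (V7.mk 9 8 8 5 10 9 2) (V7.mk 6 4 10 3 6 3 9) (V7.mk 4 7 4 9 1 4 8)),
  (M7.mk (V7.mk 7 0 2 10 2 7 9) (V7.mk 5 9 2 8 2 10 3) (V7.mk 2 10 3 3 1 8 10) (V7.mk 3 2 9 1 0 4 0) (V7.mk 8 7 1 8 4 0 7) (V7.mk 6 2 3 1 0 4 10) (V7.mk 1 4 5 9 8 3 6)),
  (M7.mk (V7.mk 3 6 2 2 9 8 1) (V7.mk 2 4 10 6 3 5 3) (V7.mk 4 10 2 5 5 9 6) (V7.mk 1 9 6 6 9 2 9) (V7.mk 5 6 6 4 10 9 9) (V7.mk 3 5 2 1 1 10 9) (V7.mk 6 2 2 9 1 3 3)),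
  (M7.mk (V7.mk 9 10 0 7 0 3 9) (V7.mk 8 1 0 4 1 5 2) (V7.mk 2 1 9 4 9 7 0) (V7.mk 8 3 1 8 1 9 10) (V7.mk 10 8 4 0 4 3 7) (V7.mk 6 9 8 3 5 10 4) (V7.mk 2 3 9 1 3 5 2)),
  (M7.mk (V7.mk 9 10 2 7 2 4 0) (V7.mk 8 3 1 8 1 9 10) (V7.mk 10 8 4 0 4 3 7) (V7.mk 5 2 3 8 6 1 7) (V7.mk 2 3 9 1 3 5 2) (V7.mk 2 1 0 4 0 8 2) (V7.mk 3 10 0 7 10 6 9)),
  (M7.mk (V7.mk 1 0 3 3 3 1 4) (V7.mk 3 9 1 2 10 6 10) (V7.mk 3 5 10 9 9 2 8) (V7.mk 7 9 1 4 3 7 7) (V7.mk 0 4 2 3 6 8 9) (V7.mk 3 8 2 7 9 3 7) (V7.mk 10 8 5 8 9 6 7)),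
  (M7.mk (V7.mk 10 8 4 0 4 3 7) (V7.mk 5 2 3 8 6 1 7) (V7.mk 9 8 2 10 8 6 9) (V7.mk 2 1 0 4 0 8 2) (V7.mk 8 1 0 4 1 5 2) (V7.mk 2 1 9 4 9 7 0) (V7.mk 3 8 10 3 10 2 1)),
  (M7.mk (V7.mk 10 8 1 0 2 9 9) (V7.mk 2 3 9 5 0 7 3) (V7.mk 3 10 4 2 8 5 5) (V7.mk 9 6 4 6 7 4 8) (V7.mk 10 4 8 3 2 7 10) (V7.mk 2 5 10 5 8 3 7) (V7.mk 0 2 3 1 6 5 5)),
  (M7.mk (V7.mk 8 1 7 9 3 6 6) (V7.mk 9 6 4 6 7 4 8) (V7.mk 10 4 8 3 2 7 10) (V7.mk 9 6 1 6 3 8 4) (V7.mk 0 2 3 1 6 5 5) (V7.mk 1 3 10 0 9 2 2) (V7.mk 9 8 2 6 0 4 8)),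
  (M7.mk (V7.mk 7 1 9 6 6 2 5) (V7.mk 1 9 6 6 9 2 9) (V7.mk 6 5 5 7 1 2 2) (V7.mk 8 6 9 10 10 1 2) (V7.mk 5 9 9 2 10 8 8) (V7.mk 3 6 2 2 9 8 1) (V7.mk 2 4 10 6 3 5 3)),
  (M7.mk (V7.mk 7 8 1 8 0 1 3) (V7.mk 8 9 8 9 6 9 1) (V7.mk 9 3 0 6 7 3 9) (V7.mk 4 3 10 2 8 6 5) (V7.mk 10 2 8 10 2 5 10) (V7.mk 4 7 7 8 9 7 1) (V7.mk 4 4 3 2 8 3 2)),
  (M7.mk (V7.mk 6 4 3 10 9 3 6) (V7.mk 3 4 3 10 8 0 10) (V7.mk 10 1 9 3 10 2 6) (V7.mk 10 8 9 8 2 5 9) (V7.mk 1 7 4 4 8 9 4) (V7.mk 2 9 3 0 5 4 3) (V7.mk 9 4 4 3 9 3 3)),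
  (M7.mk (V7.mk 1 10 2 8 1 9 5) (V7.mk 10 8 9 8 2 5 9) (V7.mk 1 7 4 4 8 9 4) (V7.mk 9 2 8 0 6 7 8) (V7.mk 9 4 4 3 9 3 3) (V7.mk 5 7 8 1 2 8 5) (V7.mk 8 7 8 1 3 0 1)),
  (M7.mk (V7.mk 4 8 3 6 5 0 7) (V7.mk 5 5 7 5 5 4 1) (V7.mk 4 3 5 0 7 8 6) (V7.mk 6 6 7 4 10 6 6) (V7.mk 1 5 5 4 5 7 5) (V7.mk 6 8 3 3 6 3 6) (V7.mk 5 8 0 3 7 6 4)),
  (M7.mk (V7.mk 5 10 2 5 6 4 2) (V7.mk 5 0 5 6 8 0 4) (V7.mk 7 4 5 3 5 7 9) (V7.mk 4 8 7 0 7 1 8) (V7.mk 2 6 2 4 2 3 7) (V7.mk 8 4 6 6 7 4 9) (V7.mk 7 0 10 0 7 3 6)),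
  (M7.mk (V7.mk 5 7 0 1 0 7 3) (V7.mk 7 5 0 6 5 8 0) (V7.mk 8 7 8 7 0 4 10) (V7.mk 2 8 7 5 5 7 4) (V7.mk 2 6 10 2 5 5 7) (V7.mk 9 4 4 5 3 6 4) (V7.mk 7 9 6 2 4 9 8)),
  (M7.mk (V7.mk 2 7 6 4 7 3 6) (V7.mk 2 3 6 8 10 7 6) (V7.mk 10 9 3 2 1 9 0) (V7.mk 8 8 10 5 7 6 2) (V7.mk 10 9 7 4 8 10 8) (V7.mk 0 6 2 5 8 6 1) (V7.mk 9 0 3 7 2 8 5)),
  (M7.mk (V7.mk 10 9 3 2 1 9 0) (V7.mk 8 8 10 5 7 6 2) (V7.mk 1 2 4 7 3 1 3) (V7.mk 0 6 2 5 8 6 1) (V7.mk 2 0 8 4 9 3 6) (V7.mk 9 4 5 7 4 8 5) (V7.mk 9 8 5 3 1 4 5)),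
  (M7.mk (V7.mk 10 9 3 9 10 9 0) (V7.mk 3 3 1 5 7 5 2) (V7.mk 1 2 4 4 8 1 8) (V7.mk 0 6 2 6 3 6 10) (V7.mk 2 0 8 7 2 3 5) (V7.mk 2 7 6 7 4 3 5) (V7.mk 2 3 6 3 1 7 5)),
  (M7.mk (V7.mk 2 9 1 6 2 8 3) (V7.mk 2 5 6 10 5 9 4) (V7.mk 5 1 2 5 7 2 6) (V7.mk 2 1 3 2 9 3 6) (V7.mk 1 8 8 7 5 6 9) (V7.mk 5 2 2 2 5 9 10) (V7.mk 9 10 2 6 10 1 8)),
  (M7.mk (V7.mk 3 9 9 4 3 4 3) (V7.mk 10 6 9 4 3 3 6) (V7.mk 1 8 3 7 0 8 1) (V7.mk 3 10 10 1 2 9 6) (V7.mk 3 1 9 3 6 2 2) (V7.mk 7 10 3 4 2 7 7) (V7.mk 0 9 6 2 7 8 8)),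
  (M7.mk (V7.mk 10 3 8 4 0 3 10) (V7.mk 3 10 10 1 2 9 6) (V7.mk 3 1 9 3 6 2 2) (V7.mk 4 1 8 7 9 4 4) (V7.mk 0 9 6 2 7 8 8) (V7.mk 8 2 2 7 8 7 8) (V7.mk 1 5 2 7 8 8 5)),
  (M7.mk (V7.mk 3 1 9 3 6 2 2) (V7.mk 4 1 8 7 9 4 4) (V7.mk 0 2 5 9 4 3 3) (V7.mk 8 2 2 7 8 7 8) (V7.mk 10 6 9 4 3 3 6) (V7.mk 1 8 3 7 0 8 1) (V7.mk 8 1 1 10 9 2 5)),
  (M7.mk (V7.mk 7 4 0 2 0 9 4) (V7.mk 10 6 2 2 4 7 1) (V7.mk 2 7 0 4 9 0 4) (V7.mk 7 9 2 4 0 0 7) (V7.mk 10 10 7 10 7 7 4) (V7.mk 6 2 7 10 2 4 1) (V7.mk 9 1 7 5 4 9 10)),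
  (M7.mk (V7.mk 9 4 0 7 2 0 7) (V7.mk 7 9 2 4 0 0 7) (V7.mk 10 10 7 10 7 7 4) (V7.mk 5 9 4 1 9 7 10) (V7.mk 9 1 7 5 4 9 10) (V7.mk 4 7 0 9 0 2 7) (V7.mk 1 5 9 9 7 4 10)),
  (M7.mk (V7.mk 6 2 0 4 0 0 0) (V7.mk 0 0 8 0 8 9 1) (V7.mk 2 4 0 6 0 0 0) (V7.mk 0 0 3 0 2 3 10) (V7.mk 0 0 2 0 3 3 10) (V7.mk 0 0 1 0 1 1 8) (V7.mk 7 5 0 9 0 0 0))]

def tabC16 : List M7 := [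
  (M7.mk (V7.mk 0 2 5 9 4 3 3) (V7.mk 3 9 9 4 3 4 3) (V7.mk 10 6 9 4 3 3 6) (V7.mk 10 3 8 4 0 3 10) (V7.mk 3 10 10 1 2 9 6) (V7.mk 8 10 2 8 5 9 9) (V7.mk 4 1 8 7 9 4 4)),
  (M7.mk (V7.mk 5 1 2 5 7 2 6) (V7.mk 9 10 8 9 2 8 5) (V7.mk 10 3 3 4 6 5 2) (V7.mk 6 9 9 9 6 2 1) (V7.mk 9 10 2 6 10 1 8) (V7.mk 2 9 1 6 2 8 3) (V7.mk 9 6 5 1 6 2 7)),
  (M7.mk (V7.mk 8 6 1 9 9 9 8) (V7.mk 10 8 5 3 2 6 4) (V7.mk 7 9 1 7 8 7 4) (V7.mk 1 0 3 8 8 1 7) (V7.mk 0 7 9 3 6 3 9) (V7.mk 8 2 10 2 10 5 10) (V7.mk 3 8 2 4 2 3 4)),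
  (M7.mk (V7.mk 4 2 10 4 3 4 7) (V7.mk 1 0 3 8 8 1 7) (V7.mk 0 7 9 3 6 3 9) (V7.mk 3 9 1 9 1 6 1) (V7.mk 3 8 2 4 2 3 4) (V7.mk 3 5 10 2 2 2 3) (V7.mk 1 3 6 8 9 5 7)),
  (M7.mk (V7.mk 5 4 10 2 9 6 5) (V7.mk 2 10 10 10 2 3 5) (V7.mk 2 2 10 3 8 6 2) (V7.mk 2 9 2 8 10 3 6) (V7.mk 1 6 3 6 3 9 7) (V7.mk 9 5 5 2 6 7 1) (V7.mk 6 5 2 2 2 1 9)),
  (M7.mk (V7.mk 8 3 9 7 9 8 7) (V7.mk 8 6 1 9 9 9 8) (V7.mk 10 8 5 3 2 6 4) (V7.mk 4 2 10 4 3 4 7) (V7.mk 1 0 3 8 8 1 7) (V7.mk 0 4 2 8 5 8 2) (V7.mk 3 9 1 9 1 6 1)),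
  (M7.mk (V7.mk 9 2 3 8 5 1 9) (V7.mk 3 7 4 4 9 10 4) (V7.mk 6 8 2 0 4 9 3) (V7.mk 2 8 7 3 3 2 4) (V7.mk 2 5 7 10 3 5 3) (V7.mk 3 1 7 10 0 8 3) (V7.mk 1 5 10 3 2 1 9)),
  (M7.mk (V7.mk 5 3 9 0 7 2 8) (V7.mk 2 8 7 3 3 2 4) (V7.mk 2 5 7 10 3 5 3) (V7.mk 8 10 4 1 0 3 8) (V7.mk 1 5 10 3 2 1 9) (V7.mk 2 9 8 3 6 10 2) (V7.mk 8 4 7 7 2 1 7)),
  (M7.mk (V7.mk 6 3 7 0 5 0 6) (V7.mk 7 7 8 8 0 1 4) (V7.mk 5 4 2 7 5 7 3) (V7.mk 9 5 9 1 6 7 6) (V7.mk 6 6 2 7 8 4 4) (V7.mk 2 2 7 6 4 3 2) (V7.mk 10 7 6 0 0 3 7)),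
  (M7.mk (V7.mk 8 2 2 1 0 4 0) (V7.mk 8 4 1 3 7 0 7) (V7.mk 5 2 8 1 0 4 1) (V7.mk 10 4 6 9 8 3 5) (V7.mk 4 0 9 10 2 7 2) (V7.mk 5 2 2 3 9 1 3) (V7.mk 2 1 3 8 10 3 10)),
  (M7.mk (V7.mk 5 4 2 7 5 7 3) (V7.mk 9 5 9 1 6 7 6) (V7.mk 5 5 9 4 3 7 7) (V7.mk 2 2 7 6 4 3 2) (V7.mk 1 4 5 0 0 8 4) (V7.mk 5 8 4 0 6 0 5) (V7.mk 4 4 3 3 0 10 7)),
  (M7.mk (V7.mk 6 7 5 4 4 8 2) (V7.mk 8 10 0 9 9 9 1) (V7.mk 4 3 8 9 7 10 1) (V7.mk 3 2 6 0 7 3 9) (V7.mk 5 1 6 3 3 7 9) (V7.mk 10 7 9 3 5 5 8) (V7.mk 2 8 10 5 5 5 0)),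
  (M7.mk (V7.mk 7 8 3 2 4 1 10) (V7.mk 3 2 6 0 7 3 9) (V7.mk 5 1 6 3 3 7 9) (V7.mk 1 4 2 8 6 6 3) (V7.mk 2 8 10 5 5 5 0) (V7.mk 5 4 6 7 7 3 9) (V7.mk 3 1 0 2 2 2 10)),
  (M7.mk (V7.mk 10 0 4 0 3 9 2) (V7.mk 8 7 0 7 3 7 1) (V7.mk 10 0 4 1 6 9 8) (V7.mk 9 3 8 6 10 4 5) (V7.mk 10 9 4 9 4 0 2) (V7.mk 8 9 1 3 6 9 2) (V7.mk 8 1 8 1 2 1 8)),
  (M7.mk (V7.mk 0 2 1 3 6 10 4) (V7.mk 2 8 10 0 1 5 7) (V7.mk 8 3 7 3 4 4 6) (V7.mk 7 8 3 8 0 9 8) (V7.mk 8 7 0 3 2 3 3) (V7.mk 8 0 5 2 10 10 4) (V7.mk 3 8 2 4 8 0 8)),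
  (M7.mk (V7.mk 8 3 7 3 4 4 6) (V7.mk 7 8 3 8 0 9 8) (V7.mk 3 4 0 8 9 8 8) (V7.mk 8 0 5 2 10 10 4) (V7.mk 8 3 9 7 3 0 3) (V7.mk 0 9 10 8 5 1 7) (V7.mk 9 3 1 0 10 6 4)),
  (M7.mk (V7.mk 1 3 6 2 8 7 5) (V7.mk 9 9 1 3 10 6 10) (V7.mk 9 6 5 4 6 1 9) (V7.mk 2 8 2 5 1 2 8) (V7.mk 6 2 5 10 9 9 9) (V7.mk 9 1 2 3 2 5 8) (V7.mk 6 2 7 6 10 6 2)),
  (M7.mk (V7.mk 7 3 7 4 5 3 8) (V7.mk 3 8 0 9 3 4 3) (V7.mk 0 8 2 8 3 8 7) (V7.mk 5 2 1 10 7 3 0) (V7.mk 9 7 8 0 8 3 8) (V7.mk 10 8 6 1 4 0 2) (V7.mk 1 0 1 6 7 2 8)),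
  (M7.mk (V7.mk 9 8 2 6 8 9 1) (V7.mk 4 5 10 5 2 6 2) (V7.mk 5 9 8 4 5 1 3) (V7.mk 1 3 1 6 1 2 2) (V7.mk 5 4 5 1 2 2 5) (V7.mk 9 6 1 9 8 2 8) (V7.mk 5 10 2 9 2 5 9)),
  (M7.mk (V7.mk 0 8 2 8 3 8 7) (V7.mk 6 9 10 1 4 8 0) (V7.mk 9 7 8 0 8 3 8) (V7.mk 1 3 5 10 7 0 9) (V7.mk 10 0 10 5 4 9 3) (V7.mk 4 8 4 7 6 8 3) (V7.mk 3 8 0 9 3 4 3)),
  (M7.mk (V7.mk 6 9 4 9 8 4 2) (V7.mk 4 5 6 4 7 2 8) (V7.mk 0 1 0 4 8 5 7) (V7.mk 10 9 5 5 7 9 5) (V7.mk 0 6 6 3 0 7 5) (V7.mk 4 6 3 6 4 2 7) (V7.mk 8 4 0 4 10 3 4)),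
  (M7.mk (V7.mk 0 10 0 7 3 6 4) (V7.mk 10 9 5 5 7 9 5) (V7.mk 0 6 6 3 0 7 5) (V7.mk 7 5 8 5 7 9 4) (V7.mk 8 4 0 4 10 3 4) (V7.mk 5 2 7 2 3 7 9) (V7.mk 7 6 5 7 4 9 3)),
  (M7.mk (V7.mk 2 6 6 4 2 6 1) (V7.mk 9 4 9 8 4 2 6) (V7.mk 5 5 8 0 4 6 0) (V7.mk 6 5 7 4 9 3 7) (V7.mk 5 8 5 7 9 4 7) (V7.mk 1 0 4 8 5 7 0) (V7.mk 4 0 4 10 3 4 8)),
  (M7.mk (V7.mk 1 2 3 9 6 8 2) (V7.mk 9 4 5 10 6 9 6) (V7.mk 3 6 2 3 4 5 10) (V7.mk 9 1 3 1 5 10 2) (V7.mk 6 5 4 5 10 9 2) (V7.mk 3 9 6 1 2 3 2) (V7.mk 9 6 1 9 9 2 6)),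
  (M7.mk (V7.mk 8 2 4 2 3 4 3) (V7.mk 5 10 2 2 2 3 3) (V7.mk 8 5 3 2 6 4 10) (V7.mk 2 10 4 3 4 7 4) (V7.mk 0 8 3 3 10 4 10) (V7.mk 4 2 8 5 8 2 0) (V7.mk 2 10 2 10 5 10 8)),
  (M7.mk (V7.mk 7 10 8 4 0 4 3) (V7.mk 9 3 10 0 7 10 6) (V7.mk 4 6 9 8 3 5 10) (V7.mk 0 9 10 2 7 2 4) (V7.mk 9 9 8 2 10 8 6) (V7.mk 1 3 8 10 3 10 2) (V7.mk 9 9 10 0 7 0 3)),
  (M7.mk (V7.mk 9 9 8 2 10 8 6) (V7.mk 10 8 3 1 8 1 9) (V7.mk 2 2 1 0 4 0 8) (V7.mk 4 1 3 7 0 7 8) (V7.mk 9 3 10 0 7 10 6) (V7.mk 4 6 9 8 3 5 10) (V7.mk 0 2 1 9 4 9 7)),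
  (M7.mk (V7.mk 9 7 6 7 3 5 7) (V7.mk 9 7 3 4 4 6 5) (V7.mk 6 0 0 8 4 1 7) (V7.mk 8 3 0 10 7 4 7) (V7.mk 2 1 5 7 6 9 6) (V7.mk 7 5 4 8 9 9 2) (V7.mk 4 0 6 0 6 6 8)),
  (M7.mk (V7.mk 4 4 2 10 7 8 4) (V7.mk 4 1 0 3 3 3 1) (V7.mk 9 0 4 2 3 6 8) (V7.mk 1 8 2 10 9 1 5) (V7.mk 7 3 8 2 7 9 3) (V7.mk 3 8 6 1 2 2 9) (V7.mk 4 1 3 6 3 2 5)),
  (M7.mk (V7.mk 8 8 3 6 3 5 5) (V7.mk 3 0 8 4 5 4 5) (V7.mk 8 8 6 5 0 4 7) (V7.mk 5 4 5 5 4 10 6) (V7.mk 3 6 0 7 8 5 7) (V7.mk 5 7 7 1 5 6 6) (V7.mk 6 5 7 6 4 5 1)),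
  (M7.mk (V7.mk 5 0 5 6 8 7 0) (V7.mk 5 4 8 5 7 2 7) (V7.mk 8 7 7 6 5 2 7) (V7.mk 0 3 7 1 7 5 0) (V7.mk 0 1 4 4 7 3 3) (V7.mk 6 4 5 9 6 9 1) (V7.mk 7 3 2 9 2 4 5)),
  (M7.mk (V7.mk 2 4 4 8 6 6 7) (V7.mk 10 10 2 2 3 0 9) (V7.mk 1 8 9 10 4 3 4) (V7.mk 9 9 0 3 3 5 4) (V7.mk 9 10 3 7 5 5 8) (V7.mk 3 7 8 6 1 9 5) (V7.mk 0 8 6 6 9 10 5)),
  (M7.mk (V7.mk 10 3 2 1 7 8 7) (V7.mk 9 9 0 3 3 5 4) (V7.mk 9 10 3 7 5 5 8) (V7.mk 8 4 3 5 10 2 6) (V7.mk 0 8 6 6 9 10 5) (V7.mk 9 7 7 3 5 5 4) (V7.mk 1 1 9 9 8 0 2)),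
  (M7.mk (V7.mk 3 9 4 1 5 8 5) (V7.mk 2 1 2 6 6 9 9) (V7.mk 2 3 6 2 1 1 1) (V7.mk 10 3 5 2 2 9 3) (V7.mk 6 7 10 9 6 6 9) (V7.mk 9 6 6 5 7 1 9) (V7.mk 8 6 9 2 9 1 8)),
  (M7.mk (V7.mk 0 10 7 7 4 8 8) (V7.mk 5 7 6 2 5 2 10) (V7.mk 4 8 9 2 9 7 6) (V7.mk 5 0 5 6 8 7 0) (V7.mk 5 4 8 5 7 2 7) (V7.mk 3 4 4 5 6 9 4) (V7.mk 0 3 7 1 7 5 0)),
  (M7.mk (V7.mk 10 2 6 6 2 2 2) (V7.mk 8 6 2 1 10 10 2) (V7.mk 8 5 2 2 2 8 10) (V7.mk 7 1 2 5 6 9 5) (V7.mk 6 5 6 4 1 9 2) (V7.mk 5 9 2 9 10 3 8) (V7.mk 9 7 10 6 8 5 8)),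
  (M7.mk (V7.mk 1 3 4 0 7 3 4) (V7.mk 9 8 9 1 8 5 9) (V7.mk 8 1 0 7 1 6 2) (V7.mk 3 8 1 8 10 9 1) (V7.mk 6 9 3 8 5 1 4) (V7.mk 9 10 0 4 0 8 9) (V7.mk 2 1 2 7 9 4 0)),
  (M7.mk (V7.mk 8 7 9 6 1 5 8) (V7.mk 6 5 0 9 8 1 6) (V7.mk 9 2 10 8 1 0 9) (V7.mk 4 3 9 8 2 5 0) (V7.mk 5 6 3 10 4 9 3) (V7.mk 4 3 9 6 4 5 4) (V7.mk 7 1 10 4 8 8 9)),
  (M7.mk (V7.mk 2 9 1 3 10 0 2) (V7.mk 4 3 9 8 2 5 0) (V7.mk 5 6 3 10 4 9 3) (V7.mk 7 8 2 5 7 6 7) (V7.mk 7 1 10 4 8 8 9) (V7.mk 3 4 2 5 10 6 3) (V7.mk 5 6 0 2 3 10 5)),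
  (M7.mk (V7.mk 9 9 1 3 1 0 2) (V7.mk 4 8 2 3 2 5 0) (V7.mk 6 6 3 10 7 2 3) (V7.mk 4 8 2 5 4 5 7) (V7.mk 4 1 10 4 3 3 9) (V7.mk 3 7 9 6 10 6 8) (V7.mk 5 5 0 9 3 10 6)),
  (M7.mk (V7.mk 5 6 3 10 4 9 3) (V7.mk 7 8 2 5 7 6 7) (V7.mk 4 10 1 7 3 3 2) (V7.mk 3 4 2 5 10 6 3) (V7.mk 6 5 0 9 8 1 6) (V7.mk 9 2 10 8 1 0 9) (V7.mk 7 8 2 3 9 6 0)),
  (M7.mk (V7.mk 2 5 9 6 1 2 2) (V7.mk 8 9 1 2 3 2 5) (V7.mk 9 5 9 4 5 1 5) (V7.mk 6 10 8 5 9 3 4) (V7.mk 1 2 2 10 8 1 5) (V7.mk 9 9 6 5 4 6 1) (V7.mk 8 2 8 2 5 1 2)),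
  (M7.mk (V7.mk 7 9 9 10 7 9 0) (V7.mk 3 3 1 8 9 1 10) (V7.mk 0 10 7 8 8 7 4) (V7.mk 3 6 6 9 1 3 7) (V7.mk 10 9 3 8 5 9 2) (V7.mk 7 9 0 10 8 0 2) (V7.mk 7 3 1 10 5 0 2)),
  (M7.mk (V7.mk 5 8 8 8 5 3 6) (V7.mk 6 8 0 8 4 6 4) (V7.mk 7 8 8 5 6 0 7) (V7.mk 6 5 4 6 6 4 1) (V7.mk 7 3 6 0 4 8 6) (V7.mk 5 6 4 7 1 6 6) (V7.mk 10 5 6 7 6 7 5)),
  (M7.mk (V7.mk 4 3 3 6 5 0 4) (V7.mk 6 5 4 6 6 4 1) (V7.mk 7 3 6 0 4 8 6) (V7.mk 6 5 7 4 10 5 5) (V7.mk 10 5 6 7 6 7 5) (V7.mk 6 3 3 3 6 8 5) (V7.mk 5 3 0 3 7 5 7)),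
  (M7.mk (V7.mk 9 8 10 8 6 9 2) (V7.mk 3 5 8 9 4 1 6) (V7.mk 6 2 6 4 1 2 6) (V7.mk 2 9 9 1 2 6 5) (V7.mk 10 9 2 6 6 5 4) (V7.mk 10 1 9 3 6 2 10) (V7.mk 1 3 8 5 2 9 9)),
  (M7.mk (V7.mk 0 3 8 8 9 4 8) (V7.mk 10 7 0 2 10 3 6) (V7.mk 5 4 9 8 1 0 1) (V7.mk 7 6 8 8 7 8 7) (V7.mk 2 8 7 3 3 3 0) (V7.mk 3 8 3 7 0 3 2) (V7.mk 1 4 8 0 5 9 1)),
  (M7.mk (V7.mk 8 10 8 10 9 7 4) (V7.mk 9 3 6 2 0 8 4) (V7.mk 10 7 6 2 3 6 8) (V7.mk 4 5 9 3 3 1 6) (V7.mk 3 5 10 0 5 9 6) (V7.mk 4 8 5 9 4 5 7) (V7.mk 1 9 0 10 9 3 2)),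
  (M7.mk (V7.mk 0 5 7 5 6 8 0) (V7.mk 4 5 9 6 8 4 7) (V7.mk 7 6 9 3 7 6 7) (V7.mk 3 1 6 0 7 4 0) (V7.mk 10 7 3 0 7 7 8) (V7.mk 7 2 9 6 6 6 10) (V7.mk 3 9 7 4 2 9 5)),
  (M7.mk (V7.mk 4 5 7 9 10 9 10) (V7.mk 0 9 0 2 7 4 4) (V7.mk 9 2 7 7 1 10 5) (V7.mk 0 4 2 0 4 2 4) (V7.mk 9 4 0 0 7 7 2) (V7.mk 7 1 7 4 7 1 10) (V7.mk 7 1 2 7 10 5 2)),
  (M7.mk (V7.mk 2 9 4 4 10 1 6) (V7.mk 0 4 2 0 4 2 4) (V7.mk 9 4 0 0 7 7 2) (V7.mk 4 10 4 7 4 10 1) (V7.mk 7 1 2 7 10 5 2) (V7.mk 7 6 4 2 1 2 1) (V7.mk 0 2 0 9 4 7 7)),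
  (M7.mk (V7.mk 10 10 2 2 5 8 10) (V7.mk 9 8 6 9 9 8 1) (V7.mk 3 7 2 4 4 4 10) (V7.mk 6 9 7 3 3 0 9) (V7.mk 9 7 3 7 8 8 9) (V7.mk 9 7 3 8 5 1 6) (V7.mk 3 4 0 3 10 10 8)),
  (M7.mk (V7.mk 4 2 6 6 1 6 2) (V7.mk 5 6 1 9 5 7 2) (V7.mk 6 2 10 3 9 2 8) (V7.mk 2 10 8 3 7 5 6) (V7.mk 1 6 2 9 2 5 9) (V7.mk 3 2 10 9 6 10 1) (V7.mk 3 2 2 1 5 9 3)),
  (M7.mk (V7.mk 5 3 5 7 9 3 10) (V7.mk 2 0 0 2 10 7 3) (V7.mk 2 9 2 0 10 7 4) (V7.mk 10 4 7 7 3 0 8) (V7.mk 9 2 3 9 3 1 5) (V7.mk 8 0 10 2 10 7 6) (V7.mk 3 10 1 1 3 8 9)),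
  (M7.mk (V7.mk 9 2 9 0 1 4 7) (V7.mk 10 4 7 7 3 0 8) (V7.mk 9 2 3 9 3 1 5) (V7.mk 3 0 1 9 1 4 5) (V7.mk 3 10 1 1 3 8 9) (V7.mk 6 8 6 4 2 8 1) (V7.mk 9 0 0 9 1 4 8)),
  (M7.mk (V7.mk 8 8 8 5 3 6 5) (V7.mk 3 0 3 7 5 7 5) (V7.mk 3 3 6 5 0 4 4) (V7.mk 6 7 5 5 7 10 5) (V7.mk 3 6 0 4 8 6 7) (V7.mk 6 4 7 1 6 6 5) (V7.mk 6 5 4 5 4 6 1)),
  (M7.mk (V7.mk 9 2 3 9 3 1 5) (V7.mk 3 0 1 9 1 4 5) (V7.mk 8 1 10 10 8 3 2) (V7.mk 6 8 6 4 2 8 1) (V7.mk 2 0 0 2 10 7 3) (V7.mk 2 9 2 0 10 7 4) (V7.mk 1 7 4 4 8 0 3)),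
  (M7.mk (V7.mk 1 6 9 4 8 8 6) (V7.mk 3 1 1 10 2 9 5) (V7.mk 7 1 8 7 2 7 4) (V7.mk 8 9 9 4 8 7 3) (V7.mk 1 3 8 4 0 8 10) (V7.mk 8 1 9 3 5 9 2) (V7.mk 0 9 6 2 4 3 8)),
  (M7.mk (V7.mk 4 10 3 4 9 4 7) (V7.mk 8 9 9 4 8 7 3) (V7.mk 1 3 8 4 0 8 10) (V7.mk 3 10 2 8 6 2 9) (V7.mk 0 9 6 2 4 3 8) (V7.mk 10 5 2 7 3 3 5) (V7.mk 8 10 10 1 9 2 6)),
  (M7.mk (V7.mk 1 3 8 4 0 8 10) (V7.mk 3 10 2 8 6 2 9) (V7.mk 0 2 5 9 7 8 3) (V7.mk 10 5 2 7 3 3 5) (V7.mk 3 1 1 10 2 9 5) (V7.mk 7 1 8 7 2 7 4) (V7.mk 3 2 2 7 3 4 8)),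
  (M7.mk (V7.mk 2 3 10 9 8 5 9) (V7.mk 7 7 1 3 7 9 4) (V7.mk 3 0 9 5 2 7 8) (V7.mk 3 3 2 9 7 8 7) (V7.mk 5 1 6 2 4 3 3) (V7.mk 10 10 8 8 7 0 8) (V7.mk 5 8 10 1 1 2 9)),
  (M7.mk (V7.mk 9 5 2 6 1 2 9) (V7.mk 8 2 1 9 8 9 5) (V7.mk 2 5 2 4 5 1 6) (V7.mk 5 10 3 5 9 3 7) (V7.mk 10 2 9 10 8 1 6) (V7.mk 9 2 6 6 7 5 1) (V7.mk 8 9 8 9 6 10 2)),
  (M7.mk (V7.mk 9 4 7 6 3 5 4) (V7.mk 3 4 8 7 0 4 1) (V7.mk 7 9 5 9 4 2 8) (V7.mk 2 8 4 6 5 4 4) (V7.mk 5 7 0 10 0 4 3) (V7.mk 9 5 10 2 6 5 4) (V7.mk 4 6 0 6 6 8 0)),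
  (M7.mk (V7.mk 8 9 4 4 2 9 6) (V7.mk 0 6 7 6 5 3 0) (V7.mk 4 6 9 5 3 7 7) (V7.mk 4 6 2 3 7 6 4) (V7.mk 3 10 6 0 4 7 0) (V7.mk 1 7 8 0 7 7 3) (V7.mk 4 2 2 6 6 6 1))]

def tabC17 : List M7 := [
  (M7.mk (V7.mk 4 6 5 3 9 10 3) (V7.mk 6 9 1 5 0 3 5) (V7.mk 9 8 0 2 10 10 2) (V7.mk 8 8 5 7 9 9 0) (V7.mk 5 10 9 6 3 7 8) (V7.mk 8 6 5 7 9 7 7) (V7.mk 10 4 8 4 10 3 2)),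
  (M7.mk (V7.mk 5 9 9 3 1 2 3) (V7.mk 8 8 5 10 6 2 4) (V7.mk 2 7 7 4 1 3 7) (V7.mk 0 3 10 1 8 8 7) (V7.mk 7 8 8 0 2 6 9) (V7.mk 2 9 6 8 1 10 10) (V7.mk 3 4 3 8 2 9 7)),
  (M7.mk (V7.mk 0 2 7 7 4 0 2) (V7.mk 7 7 4 1 1 7 1) (V7.mk 4 7 1 1 5 2 9) (V7.mk 2 4 1 5 9 7 1) (V7.mk 2 0 7 2 7 0 4) (V7.mk 7 2 1 9 1 4 5) (V7.mk 0 0 7 4 2 2 7)),
  (M7.mk (V7.mk 5 0 7 3 5 4 8) (V7.mk 5 4 5 4 6 1 6) (V7.mk 0 8 4 6 4 6 8) (V7.mk 4 6 6 4 1 6 5) (V7.mk 7 4 10 5 5 6 5) (V7.mk 8 8 5 3 6 5 8) (V7.mk 3 6 5 0 4 4 3)),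
  (M7.mk (V7.mk 8 1 2 3 6 5 4) (V7.mk 9 3 10 9 5 10 10) (V7.mk 4 4 8 2 7 1 4) (V7.mk 4 3 9 8 8 9 7) (V7.mk 8 1 3 0 10 8 4) (V7.mk 2 3 9 5 9 1 8) (V7.mk 3 0 5 7 8 2 2)),
  (M7.mk (V7.mk 4 3 3 0 9 5 2) (V7.mk 9 2 5 3 10 1 1) (V7.mk 8 7 8 3 9 2 4) (V7.mk 5 9 9 3 1 2 3) (V7.mk 8 8 5 10 6 2 4) (V7.mk 9 4 4 7 10 8 4) (V7.mk 0 3 10 1 8 8 7)),
  (M7.mk (V7.mk 1 6 2 9 2 5 9) (V7.mk 3 2 10 9 6 10 1) (V7.mk 8 9 9 10 6 2 8) (V7.mk 4 2 6 6 1 6 2) (V7.mk 6 5 10 2 6 4 9) (V7.mk 5 9 1 8 2 9 3) (V7.mk 9 1 3 8 4 6 5)),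
  (M7.mk (V7.mk 2 5 10 2 5 6 4) (V7.mk 7 6 0 6 5 3 0) (V7.mk 2 4 7 6 8 6 4) (V7.mk 3 7 3 4 0 4 10) (V7.mk 7 2 6 2 4 2 3) (V7.mk 9 8 4 6 6 7 4) (V7.mk 5 4 0 1 0 4 8)),
  (M7.mk (V7.mk 9 7 4 5 3 5 7) (V7.mk 3 7 3 4 0 4 10) (V7.mk 7 2 6 2 4 2 3) (V7.mk 2 3 7 5 5 4 7) (V7.mk 5 4 0 1 0 4 8) (V7.mk 9 6 1 9 6 5 7) (V7.mk 4 5 0 5 6 8 0)),
  (M7.mk (V7.mk 2 3 8 1 6 4 6) (V7.mk 3 10 2 7 4 8 1) (V7.mk 1 0 6 9 6 3 6) (V7.mk 6 9 0 3 7 2 3) (V7.mk 5 2 4 6 4 7 8) (V7.mk 5 2 8 6 8 10 4) (V7.mk 0 1 9 8 9 10 9)),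
  (M7.mk (V7.mk 10 1 9 9 3 0 2) (V7.mk 8 7 8 6 10 2 5) (V7.mk 1 3 2 1 4 3 7) (V7.mk 0 8 6 6 2 1 5) (V7.mk 2 9 0 3 8 6 4) (V7.mk 9 4 4 8 5 5 7) (V7.mk 9 1 8 4 5 5 3)),
  (M7.mk (V7.mk 0 10 4 8 3 4 7) (V7.mk 4 8 1 1 5 0 2) (V7.mk 8 5 6 2 1 3 7) (V7.mk 4 2 9 1 7 9 0) (V7.mk 10 9 8 8 6 2 9) (V7.mk 3 3 10 8 2 10 1) (V7.mk 4 2 0 1 8 0 2)),
  (M7.mk (V7.mk 4 5 10 6 9 6 9) (V7.mk 6 2 3 4 5 10 3) (V7.mk 10 8 10 6 1 9 2) (V7.mk 5 4 5 10 9 2 6) (V7.mk 2 5 10 9 8 9 8) (V7.mk 5 10 2 2 9 5 2) (V7.mk 9 8 2 5 3 9 10)),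
  (M7.mk (V7.mk 10 6 3 8 7 2 6) (V7.mk 4 9 3 6 5 3 1) (V7.mk 3 10 5 6 5 0 9) (V7.mk 4 5 4 7 8 9 5) (V7.mk 1 0 9 2 9 10 3) (V7.mk 8 8 9 4 10 10 7) (V7.mk 9 6 0 4 3 2 8)),
  (M7.mk (V7.mk 8 1 6 5 6 0 2) (V7.mk 4 5 4 7 8 9 5) (V7.mk 1 0 9 2 9 10 3) (V7.mk 3 3 2 7 1 1 4) (V7.mk 9 6 0 4 3 2 8) (V7.mk 1 5 8 3 4 9 5) (V7.mk 7 2 8 5 6 8 10)),
  (M7.mk (V7.mk 2 5 0 7 3 2 8) (V7.mk 1 5 3 3 7 2 6) (V7.mk 4 9 8 6 6 8 10) (V7.mk 3 10 6 6 6 0 2) (V7.mk 7 6 4 4 8 9 5) (V7.mk 1 0 2 2 2 1 8) (V7.mk 3 3 9 7 10 10 7)),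
  (M7.mk (V7.mk 2 3 5 2 2 3 10) (V7.mk 8 4 9 7 7 7 1) (V7.mk 6 9 7 3 3 0 9) (V7.mk 9 7 3 7 8 8 9) (V7.mk 2 4 8 3 6 10 5) (V7.mk 3 4 0 3 10 10 8) (V7.mk 1 1 9 9 6 3 1)),
  (M7.mk (V7.mk 4 8 5 0 4 3 6) (V7.mk 6 8 0 3 7 6 7) (V7.mk 6 5 7 7 1 5 6) (V7.mk 7 8 8 6 5 0 4) (V7.mk 10 5 6 4 5 7 6) (V7.mk 6 5 4 5 5 4 10) (V7.mk 6 3 3 8 5 8 6)),
  (M7.mk (V7.mk 0 7 7 8 1 4 3) (V7.mk 6 5 5 1 7 2 2) (V7.mk 4 9 2 6 3 9 4) (V7.mk 6 6 8 0 0 6 7) (V7.mk 6 3 7 4 4 5 2) (V7.mk 8 7 6 7 4 5 9) (V7.mk 0 7 4 0 8 10 6)),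
  (M7.mk (V7.mk 8 3 1 6 7 6 9) (V7.mk 0 6 2 5 3 5 1) (V7.mk 2 4 5 7 7 3 5) (V7.mk 1 9 3 2 10 2 0) (V7.mk 1 9 7 4 3 1 8) (V7.mk 2 0 3 7 9 3 5) (V7.mk 2 8 5 3 10 7 5)),
  (M7.mk (V7.mk 9 7 6 4 4 8 6) (V7.mk 1 9 3 2 10 2 0) (V7.mk 1 9 7 4 3 1 8) (V7.mk 9 0 8 4 2 8 6) (V7.mk 2 8 5 3 10 7 5) (V7.mk 3 8 10 5 4 5 2) (V7.mk 0 5 9 6 8 6 10)),
  (M7.mk (V7.mk 0 4 4 9 9 4 0) (V7.mk 4 4 10 1 7 1 4) (V7.mk 4 10 5 2 4 10 2) (V7.mk 9 1 2 1 4 5 4) (V7.mk 9 7 4 4 0 2 0) (V7.mk 4 1 10 5 2 9 7) (V7.mk 0 4 2 4 0 7 2)),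
  (M7.mk (V7.mk 1 9 7 4 3 1 8) (V7.mk 9 0 8 4 2 8 6) (V7.mk 9 3 6 8 1 4 6) (V7.mk 3 8 10 5 4 5 2) (V7.mk 0 6 2 5 3 5 1) (V7.mk 2 4 5 7 7 3 5) (V7.mk 10 2 8 9 1 9 0)),
  (M7.mk (V7.mk 8 4 5 5 7 7 9) (V7.mk 6 1 2 5 5 4 9) (V7.mk 7 4 6 8 5 4 9) (V7.mk 2 6 9 7 2 8 7) (V7.mk 7 0 1 0 7 8 6) (V7.mk 6 0 5 6 3 0 7) (V7.mk 7 3 7 0 4 1 3)),
  (M7.mk (V7.mk 7 2 9 5 8 2 7) (V7.mk 6 6 8 0 0 6 7) (V7.mk 5 8 4 7 7 6 9) (V7.mk 3 4 5 4 7 6 2) (V7.mk 0 4 7 0 3 1 5) (V7.mk 0 7 7 8 1 4 3) (V7.mk 6 5 5 1 7 2 2)),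
  (M7.mk (V7.mk 1 10 9 9 6 8 10) (V7.mk 9 3 6 9 9 3 10) (V7.mk 3 4 2 4 4 7 1) (V7.mk 6 2 7 3 3 0 2) (V7.mk 2 7 8 4 3 8 9) (V7.mk 2 7 8 3 6 1 6) (V7.mk 3 7 0 3 10 1 3)),
  (M7.mk (V7.mk 4 8 4 4 5 8 8) (V7.mk 8 3 0 9 3 7 3) (V7.mk 0 8 2 3 8 8 4) (V7.mk 6 9 10 10 7 8 0) (V7.mk 9 7 8 0 3 3 3) (V7.mk 10 8 6 10 7 0 9) (V7.mk 1 0 1 5 4 2 3)),
  (M7.mk (V7.mk 6 2 2 9 8 1 3) (V7.mk 7 1 5 8 6 8 9) (V7.mk 1 9 6 6 2 5 7) (V7.mk 2 5 5 2 9 2 10) (V7.mk 6 6 4 10 9 9 5) (V7.mk 5 2 1 1 10 9 3) (V7.mk 9 9 2 10 8 8 5)),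
  (M7.mk (V7.mk 2 2 9 1 3 3 6) (V7.mk 6 2 2 9 8 1 3) (V7.mk 7 1 5 8 6 8 9) (V7.mk 10 2 5 5 9 6 4) (V7.mk 2 5 5 2 9 2 10) (V7.mk 5 5 7 1 2 2 6) (V7.mk 6 9 10 10 1 2 8)),
  (M7.mk (V7.mk 4 7 2 10 7 3 7) (V7.mk 7 1 0 8 8 3 1) (V7.mk 9 0 4 2 3 5 3) (V7.mk 1 3 2 10 9 10 6) (V7.mk 7 8 8 2 7 2 8) (V7.mk 8 8 5 10 9 2 9) (V7.mk 7 1 8 5 8 2 5)),
  (M7.mk (V7.mk 8 2 10 8 6 9 9) (V7.mk 1 0 4 0 8 2 2) (V7.mk 10 0 7 10 6 9 3) (V7.mk 1 9 4 9 7 0 2) (V7.mk 3 1 8 1 9 10 8) (V7.mk 3 7 0 7 8 4 1) (V7.mk 9 8 3 5 10 4 6)),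
  (M7.mk (V7.mk 3 1 8 1 9 10 8) (V7.mk 8 4 0 4 3 7 10) (V7.mk 2 3 8 6 1 7 5) (V7.mk 3 9 1 3 5 2 2) (V7.mk 1 0 4 0 8 2 2) (V7.mk 10 0 7 10 6 9 3) (V7.mk 10 2 7 2 4 0 9)),
  (M7.mk (V7.mk 9 1 2 10 6 10 3) (V7.mk 5 10 9 9 2 8 3) (V7.mk 9 1 4 3 7 7 7) (V7.mk 4 2 3 6 8 9 0) (V7.mk 8 2 7 9 3 7 3) (V7.mk 8 5 8 9 6 7 10) (V7.mk 0 3 3 3 1 4 1)),
  (M7.mk (V7.mk 4 3 8 0 10 4 4) (V7.mk 5 9 10 5 7 5 9) (V7.mk 2 7 5 7 3 9 2) (V7.mk 3 7 0 6 0 5 6) (V7.mk 7 9 7 5 4 3 6) (V7.mk 5 9 7 8 7 4 5) (V7.mk 7 6 0 0 3 4 10)),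
  (M7.mk (V7.mk 6 4 6 7 4 8 9) (V7.mk 4 8 3 2 7 10 10) (V7.mk 6 1 6 3 8 4 9) (V7.mk 2 3 1 6 5 5 0) (V7.mk 3 10 0 9 2 2 1) (V7.mk 8 2 6 0 4 8 9) (V7.mk 1 7 9 3 6 6 8)),
  (M7.mk (V7.mk 10 8 10 6 1 9 2) (V7.mk 6 7 6 1 2 9 5) (V7.mk 9 6 1 2 3 2 3) (V7.mk 6 1 9 9 2 6 9) (V7.mk 9 8 2 5 3 9 10) (V7.mk 4 5 10 6 9 6 9) (V7.mk 5 9 8 7 6 1 8)),
  (M7.mk (V7.mk 9 6 6 9 2 9 1) (V7.mk 5 5 7 1 2 2 6) (V7.mk 6 9 10 10 1 2 8) (V7.mk 9 9 2 10 8 8 5) (V7.mk 6 2 2 9 8 1 3) (V7.mk 4 10 6 3 5 3 2) (V7.mk 1 9 6 6 2 5 7)),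
  (M7.mk (V7.mk 2 10 4 3 7 10 8) (V7.mk 6 5 2 1 5 0 3) (V7.mk 0 8 8 6 4 9 2) (V7.mk 7 8 6 6 4 9 4) (V7.mk 3 4 6 6 8 9 1) (V7.mk 9 2 3 0 2 1 10) (V7.mk 3 6 1 9 6 8 7)),
  (M7.mk (V7.mk 3 3 4 6 5 2 10) (V7.mk 2 2 2 5 9 10 5) (V7.mk 1 9 5 1 10 3 2) (V7.mk 2 10 5 9 3 8 9) (V7.mk 6 5 1 6 2 7 9) (V7.mk 1 2 5 7 2 6 5) (V7.mk 1 3 2 9 3 6 2)),
  (M7.mk (V7.mk 8 7 0 6 0 6 6) (V7.mk 4 8 3 0 10 4 7) (V7.mk 4 9 7 5 7 8 6) (V7.mk 6 9 10 5 4 6 9) (V7.mk 6 9 7 8 4 7 5) (V7.mk 2 4 6 4 3 9 9) (V7.mk 7 5 0 0 3 4 1)),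
  (M7.mk (V7.mk 10 10 1 2 9 6 3) (V7.mk 1 9 3 6 2 2 3) (V7.mk 1 8 7 9 4 4 4) (V7.mk 9 6 2 7 8 8 0) (V7.mk 2 2 7 8 7 8 8) (V7.mk 5 2 7 8 8 5 1) (V7.mk 3 8 4 0 3 10 10)),
  (M7.mk (V7.mk 9 8 1 2 3 6 2) (V7.mk 5 1 6 2 4 3 3) (V7.mk 4 4 10 8 4 2 7) (V7.mk 1 1 3 3 4 0 3) (V7.mk 8 0 2 6 9 4 3) (V7.mk 5 8 10 1 1 2 9) (V7.mk 3 3 2 9 7 8 7)),
  (M7.mk (V7.mk 7 7 1 3 7 9 4) (V7.mk 1 1 3 3 4 0 3) (V7.mk 8 0 2 6 9 4 3) (V7.mk 6 3 1 10 10 9 2) (V7.mk 3 3 2 9 7 8 7) (V7.mk 2 3 10 9 8 5 9) (V7.mk 6 10 5 9 7 8 8)),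
  (M7.mk (V7.mk 4 6 2 3 7 6 4) (V7.mk 8 9 4 4 2 9 6) (V7.mk 8 1 5 0 7 4 0) (V7.mk 0 6 7 6 5 3 0) (V7.mk 10 4 3 0 4 4 8) (V7.mk 7 5 2 6 8 4 4) (V7.mk 7 9 9 5 5 5 10)),
  (M7.mk (V7.mk 10 4 6 7 2 1 2) (V7.mk 7 0 9 0 2 7 4) (V7.mk 5 9 9 7 4 10 1) (V7.mk 7 0 4 9 0 4 2) (V7.mk 9 2 4 0 0 7 7) (V7.mk 1 4 1 4 4 7 1) (V7.mk 2 7 10 2 4 1 6)),
  (M7.mk (V7.mk 6 2 2 4 7 1 10) (V7.mk 7 0 4 9 0 4 2) (V7.mk 9 2 4 0 0 7 7) (V7.mk 10 7 10 7 7 4 10) (V7.mk 2 7 10 2 4 1 6) (V7.mk 1 7 5 4 9 10 9) (V7.mk 4 0 2 0 9 4 7)),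
  (M7.mk (V7.mk 4 8 1 8 1 2 4) (V7.mk 7 2 3 5 2 0 8) (V7.mk 3 1 7 5 2 3 6) (V7.mk 5 7 5 2 3 3 1) (V7.mk 6 3 6 10 0 6 2) (V7.mk 7 4 3 5 2 7 6) (V7.mk 9 10 9 0 10 9 3)),
  (M7.mk (V7.mk 9 2 4 0 0 7 7) (V7.mk 10 7 10 7 7 4 10) (V7.mk 9 4 1 9 7 10 5) (V7.mk 1 7 5 4 9 10 9) (V7.mk 7 0 9 0 2 7 4) (V7.mk 5 9 9 7 4 10 1) (V7.mk 4 0 7 2 0 7 9)),
  (M7.mk (V7.mk 6 0 2 0 0 0 4) (V7.mk 9 0 7 0 0 0 5) (V7.mk 0 3 0 3 2 10 0) (V7.mk 4 0 6 0 0 0 2) (V7.mk 0 3 0 2 3 10 0) (V7.mk 0 9 0 8 8 1 0) (V7.mk 0 1 0 1 1 8 0)),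
  (M7.mk (V7.mk 0 8 0 8 9 1 0) (V7.mk 4 0 6 0 0 0 2) (V7.mk 0 3 0 2 3 10 0) (V7.mk 0 2 0 3 3 10 0) (V7.mk 0 1 0 1 1 8 0) (V7.mk 5 0 9 0 0 0 7) (V7.mk 2 0 4 0 0 0 6)),
  (M7.mk (V7.mk 8 6 10 4 5 9 3) (V7.mk 4 0 3 9 2 10 0) (V7.mk 7 2 7 0 9 1 2) (V7.mk 0 7 3 7 1 8 7) (V7.mk 10 8 5 2 9 3 2) (V7.mk 7 10 5 2 3 1 0) (V7.mk 3 10 9 10 3 3 10)),
  (M7.mk (V7.mk 9 9 4 3 4 3 3) (V7.mk 6 9 4 3 3 6 10) (V7.mk 3 8 4 0 3 10 10) (V7.mk 10 10 1 2 9 6 3) (V7.mk 10 2 8 5 9 9 8) (V7.mk 1 8 7 9 4 4 4) (V7.mk 2 5 9 4 3 3 0)),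
  (M7.mk (V7.mk 4 7 7 8 0 8 1) (V7.mk 8 6 4 9 3 1 5) (V7.mk 9 8 2 3 1 6 9) (V7.mk 0 0 2 1 4 3 9) (V7.mk 0 1 9 10 7 5 8) (V7.mk 9 2 0 1 4 4 9) (V7.mk 10 1 1 8 3 9 8)),
  (M7.mk (V7.mk 2 3 9 8 10 5 2) (V7.mk 0 0 2 1 4 3 9) (V7.mk 0 1 9 10 7 5 8) (V7.mk 2 9 0 10 7 7 2) (V7.mk 10 1 1 8 3 9 8) (V7.mk 7 4 4 3 0 3 10) (V7.mk 3 5 7 2 8 10 6)),
  (M7.mk (V7.mk 1 8 4 6 6 3 2) (V7.mk 3 5 5 2 1 6 0) (V7.mk 10 2 2 3 0 9 10) (V7.mk 9 0 3 3 5 4 9) (V7.mk 4 3 5 10 2 6 8) (V7.mk 4 4 8 6 6 7 2) (V7.mk 3 2 1 7 8 7 10)),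
  (M7.mk (V7.mk 3 10 4 4 7 8 0) (V7.mk 6 3 0 10 9 10 7) (V7.mk 1 5 3 6 7 2 8) (V7.mk 4 9 2 2 0 10 7) (V7.mk 5 2 9 3 2 3 1) (V7.mk 9 8 1 1 10 3 8) (V7.mk 8 2 0 0 2 1 4)),
  (M7.mk (V7.mk 7 2 9 5 8 2 7) (V7.mk 5 5 3 0 0 5 4) (V7.mk 5 8 4 7 7 6 9) (V7.mk 8 7 6 7 4 5 9) (V7.mk 0 7 4 0 8 10 6) (V7.mk 0 4 4 3 10 7 8) (V7.mk 6 5 5 1 7 2 2)),
  (M7.mk (V7.mk 6 2 6 3 4 7 4) (V7.mk 1 6 0 7 7 0 8) (V7.mk 9 2 6 5 6 10 7) (V7.mk 6 4 5 5 8 0 0) (V7.mk 5 2 3 4 6 7 7) (V7.mk 7 3 0 7 4 3 1) (V7.mk 9 7 7 2 2 6 8)),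
  (M7.mk (V7.mk 5 8 4 7 7 6 9) (V7.mk 8 7 6 7 4 5 9) (V7.mk 0 4 7 0 3 1 5) (V7.mk 0 4 4 3 10 7 8) (V7.mk 5 6 6 10 4 9 9) (V7.mk 4 9 2 6 3 9 4) (V7.mk 6 6 8 0 0 6 7)),
  (M7.mk (V7.mk 8 5 3 2 6 4 10) (V7.mk 9 1 7 8 7 4 7) (V7.mk 0 3 8 8 1 7 1) (V7.mk 7 9 3 6 3 9 0) (V7.mk 2 10 2 10 5 10 8) (V7.mk 8 2 4 2 3 4 3) (V7.mk 6 1 9 9 9 8 8)),
  (M7.mk (V7.mk 8 4 7 4 9 1 4) (V7.mk 9 3 4 3 3 9 4) (V7.mk 3 1 7 1 0 8 8) (V7.mk 2 9 8 8 5 10 9) (V7.mk 6 8 2 0 7 9 8) (V7.mk 2 5 7 1 8 5 8) (V7.mk 1 5 10 8 9 1 2)),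
  (M7.mk (V7.mk 10 10 10 2 3 5 2) (V7.mk 2 10 3 8 6 2 2) (V7.mk 9 2 8 10 3 6 2) (V7.mk 6 3 6 3 9 7 1) (V7.mk 5 5 2 6 7 1 9) (V7.mk 5 2 2 2 1 9 6) (V7.mk 4 10 2 9 6 5 5)),
  (M7.mk (V7.mk 0 4 8 5 4 3 5) (V7.mk 4 10 5 6 5 5 4) (V7.mk 7 6 7 6 1 5 5) (V7.mk 8 5 3 5 6 8 3) (V7.mk 8 4 6 7 5 8 0) (V7.mk 6 5 0 7 7 3 8) (V7.mk 5 5 7 1 6 6 4)),
  (M7.mk (V7.mk 4 5 4 5 10 6 6) (V7.mk 8 5 3 5 6 8 3) (V7.mk 8 4 6 7 5 8 0) (V7.mk 5 6 0 4 4 8 3) (V7.mk 5 5 7 1 6 6 4) (V7.mk 0 7 3 6 7 8 6) (V7.mk 7 1 6 5 6 6 7))]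

def tabC18 : List M7 := [
  (M7.mk (V7.mk 4 6 4 6 1 5 6) (V7.mk 3 5 8 5 6 8 8) (V7.mk 3 4 5 7 5 8 0) (V7.mk 6 6 0 4 4 8 8) (V7.mk 5 6 7 10 5 5 4) (V7.mk 0 4 3 5 4 3 6) (V7.mk 4 1 5 5 6 6 4)),
  (M7.mk (V7.mk 7 8 8 0 1 4 7) (V7.mk 4 2 7 5 7 3 5) (V7.mk 5 9 1 6 7 6 9) (V7.mk 6 2 7 8 4 4 6) (V7.mk 2 7 6 4 3 2 2) (V7.mk 7 6 0 0 3 7 10) (V7.mk 3 7 0 5 0 6 6)),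
  (M7.mk (V7.mk 10 8 3 1 8 1 9) (V7.mk 9 9 10 0 7 0 3) (V7.mk 7 10 8 4 0 4 3) (V7.mk 2 8 1 0 4 1 5) (V7.mk 4 6 9 8 3 5 10) (V7.mk 0 2 1 9 4 9 7) (V7.mk 2 2 3 9 1 3 5)),
  (M7.mk (V7.mk 10 4 0 2 10 8 5) (V7.mk 5 7 9 8 1 0 10) (V7.mk 4 6 3 3 4 8 7) (V7.mk 9 8 4 8 8 3 0) (V7.mk 3 3 3 7 0 8 9) (V7.mk 10 4 3 0 6 9 1) (V7.mk 0 8 8 8 9 7 3)),
  (M7.mk (V7.mk 6 9 6 4 1 9 5) (V7.mk 9 9 2 10 9 6 5) (V7.mk 10 2 2 6 6 6 7) (V7.mk 10 10 9 3 6 9 1) (V7.mk 1 8 8 5 2 2 2) (V7.mk 2 8 1 3 5 9 2) (V7.mk 8 5 3 2 7 1 6)),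
  (M7.mk (V7.mk 8 0 3 8 8 2 7) (V7.mk 5 10 4 0 9 10 3) (V7.mk 1 6 4 9 8 10 0) (V7.mk 7 4 6 8 8 4 3) (V7.mk 0 9 8 7 3 8 8) (V7.mk 9 3 3 8 4 0 3) (V7.mk 10 1 7 3 0 5 9)),
  (M7.mk (V7.mk 9 6 8 9 4 4 2) (V7.mk 8 0 0 5 4 5 6) (V7.mk 7 7 4 6 9 5 3) (V7.mk 5 7 7 5 9 8 4) (V7.mk 4 0 8 1 5 0 7) (V7.mk 4 8 10 4 3 0 4) (V7.mk 6 1 4 2 2 6 6)),
  (M7.mk (V7.mk 4 4 7 5 2 6 8) (V7.mk 5 7 7 5 9 8 4) (V7.mk 4 0 8 1 5 0 7) (V7.mk 7 3 1 7 8 0 7) (V7.mk 6 1 4 2 2 6 6) (V7.mk 2 5 3 2 7 7 9) (V7.mk 3 0 0 6 7 6 5)),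
  (M7.mk (V7.mk 9 6 1 2 2 2 5) (V7.mk 1 2 3 2 5 8 9) (V7.mk 2 7 6 10 6 2 6) (V7.mk 8 5 9 3 4 6 10) (V7.mk 9 1 3 10 6 10 9) (V7.mk 5 6 7 5 10 2 2) (V7.mk 3 9 6 10 9 3 9)),
  (M7.mk (V7.mk 10 2 3 6 9 2 8) (V7.mk 1 8 4 2 4 7 4) (V7.mk 2 5 2 7 3 8 0) (V7.mk 2 2 4 3 7 3 8) (V7.mk 5 2 4 3 8 6 1) (V7.mk 3 8 7 0 3 1 10) (V7.mk 1 1 1 2 2 6 8)),
  (M7.mk (V7.mk 8 0 9 3 4 3 3) (V7.mk 8 2 8 3 8 7 0) (V7.mk 2 1 10 7 3 0 5) (V7.mk 7 8 0 8 3 8 9) (V7.mk 8 6 1 4 0 2 10) (V7.mk 0 1 6 7 2 8 1) (V7.mk 3 7 4 5 3 8 7)),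
  (M7.mk (V7.mk 5 10 5 2 6 2 4) (V7.mk 9 8 4 5 1 3 5) (V7.mk 3 1 6 1 2 2 1) (V7.mk 4 5 1 2 2 5 5) (V7.mk 6 1 9 8 2 8 9) (V7.mk 10 2 9 2 5 9 5) (V7.mk 8 2 6 8 9 1 9)),
  (M7.mk (V7.mk 3 1 6 1 2 2 1) (V7.mk 4 5 1 2 2 5 5) (V7.mk 5 10 2 3 9 3 2) (V7.mk 10 2 9 2 5 9 5) (V7.mk 3 9 5 3 2 10 2) (V7.mk 6 1 6 9 5 9 7) (V7.mk 2 3 7 6 10 8 6)),
  (M7.mk (V7.mk 6 4 4 9 8 7 5) (V7.mk 0 7 8 5 4 0 10) (V7.mk 6 6 7 9 6 10 2) (V7.mk 6 3 0 4 5 0 6) (V7.mk 8 5 4 2 4 4 5) (V7.mk 0 4 1 8 4 3 4) (V7.mk 4 9 3 7 2 5 9)),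
  (M7.mk (V7.mk 7 0 7 1 8 7 3) (V7.mk 2 7 2 3 7 9 5) (V7.mk 6 5 7 4 9 3 7) (V7.mk 1 0 4 8 5 7 0) (V7.mk 9 5 5 7 9 5 10) (V7.mk 5 5 8 0 4 6 0) (V7.mk 6 3 6 4 2 7 4)),
  (M7.mk (V7.mk 7 0 2 10 3 5 1) (V7.mk 4 2 8 1 0 10 6) (V7.mk 5 8 3 4 3 7 7) (V7.mk 3 7 8 8 8 0 2) (V7.mk 8 8 7 0 3 9 8) (V7.mk 7 8 0 6 2 1 1) (V7.mk 3 3 8 9 4 3 0)),
  (M7.mk (V7.mk 2 5 4 1 2 5 5) (V7.mk 2 9 10 9 5 5 2) (V7.mk 9 9 6 6 5 7 1) (V7.mk 1 2 3 6 2 1 1) (V7.mk 3 3 5 2 9 2 10) (V7.mk 3 10 3 5 2 2 9) (V7.mk 6 8 2 7 10 6 3)),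
  (M7.mk (V7.mk 3 3 4 0 8 2 3) (V7.mk 4 3 0 5 9 10 10) (V7.mk 8 8 3 2 7 8 0) (V7.mk 7 0 2 10 3 5 1) (V7.mk 4 2 8 1 0 10 6) (V7.mk 6 3 8 7 8 4 4) (V7.mk 3 7 8 8 8 0 2)),
  (M7.mk (V7.mk 8 7 9 5 9 4 2) (V7.mk 7 9 3 7 5 6 7) (V7.mk 8 6 4 0 1 0 7) (V7.mk 7 2 6 1 9 5 6) (V7.mk 0 4 6 0 6 6 8) (V7.mk 4 9 4 7 6 3 5) (V7.mk 10 8 7 3 4 0 7)),
  (M7.mk (V7.mk 3 5 7 0 10 0 4) (V7.mk 7 2 6 1 9 5 6) (V7.mk 0 4 6 0 6 6 8) (V7.mk 7 2 7 4 5 8 6) (V7.mk 10 8 7 3 4 0 7) (V7.mk 3 4 2 6 2 7 9) (V7.mk 4 2 8 4 6 5 4)),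
  (M7.mk (V7.mk 2 5 10 9 6 6 7) (V7.mk 4 9 5 2 4 9 3) (V7.mk 4 5 0 6 5 8 0) (V7.mk 9 8 4 5 5 7 7) (V7.mk 9 7 4 6 8 5 4) (V7.mk 5 4 0 10 0 4 3) (V7.mk 3 7 3 7 0 4 1)),
  (M7.mk (V7.mk 0 4 6 0 6 6 8) (V7.mk 7 2 7 4 5 8 6) (V7.mk 1 3 4 8 7 0 4) (V7.mk 3 4 2 6 2 7 9) (V7.mk 7 9 3 7 5 6 7) (V7.mk 8 6 4 0 1 0 7) (V7.mk 4 9 5 10 2 6 5)),
  (M7.mk (V7.mk 7 5 10 3 5 9 3) (V7.mk 5 1 9 2 1 3 10) (V7.mk 10 2 9 5 5 4 6) (V7.mk 9 3 2 3 2 5 1) (V7.mk 9 9 5 2 6 1 2) (V7.mk 5 8 2 1 9 8 9) (V7.mk 5 9 6 9 7 6 10)),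
  (M7.mk (V7.mk 9 5 5 10 2 5 7) (V7.mk 3 6 9 1 8 9 2) (V7.mk 6 9 10 8 3 4 6) (V7.mk 2 1 5 9 2 2 5) (V7.mk 1 8 2 10 9 5 1) (V7.mk 3 8 2 2 1 6 2) (V7.mk 2 7 2 6 6 10 5)),
  (M7.mk (V7.mk 9 5 6 5 1 4 2) (V7.mk 7 7 2 2 6 8 9) (V7.mk 4 5 5 8 0 0 6) (V7.mk 9 5 8 7 4 7 5) (V7.mk 2 3 4 6 7 7 5) (V7.mk 5 0 4 4 0 3 10) (V7.mk 8 0 4 7 8 10 4)),
  (M7.mk (V7.mk 7 6 6 3 0 0 5) (V7.mk 9 5 8 7 4 7 5) (V7.mk 2 3 4 6 7 7 5) (V7.mk 6 0 7 7 0 8 1) (V7.mk 8 0 4 7 8 10 4) (V7.mk 2 6 5 6 10 7 9) (V7.mk 4 4 9 9 5 3 2)),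
  (M7.mk (V7.mk 3 7 10 8 2 10 4) (V7.mk 6 8 9 1 3 4 6) (V7.mk 10 6 0 8 5 6 9) (V7.mk 0 2 1 10 9 2 3) (V7.mk 5 7 2 9 0 3 3) (V7.mk 2 5 3 4 8 5 10) (V7.mk 5 7 2 7 4 3 5)),
  (M7.mk (V7.mk 2 3 4 6 7 7 5) (V7.mk 6 0 7 7 0 8 1) (V7.mk 3 0 7 4 3 1 7) (V7.mk 2 6 5 6 10 7 9) (V7.mk 7 7 2 2 6 8 9) (V7.mk 4 5 5 8 0 0 6) (V7.mk 2 6 3 4 7 4 6)),
  (M7.mk (V7.mk 7 9 3 10 0 1 5) (V7.mk 6 3 8 7 8 4 4) (V7.mk 3 7 8 8 8 0 2) (V7.mk 8 8 7 0 3 9 8) (V7.mk 4 3 0 5 9 10 10) (V7.mk 3 3 8 9 4 3 0) (V7.mk 4 0 9 1 8 6 10)),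
  (M7.mk (V7.mk 7 8 3 0 1 7 7) (V7.mk 6 2 1 6 4 6 2) (V7.mk 9 4 6 4 8 2 9) (V7.mk 3 7 0 6 0 5 6) (V7.mk 7 9 7 5 4 3 6) (V7.mk 6 2 4 3 4 7 6) (V7.mk 7 6 0 0 3 4 10)),
  (M7.mk (V7.mk 10 0 2 2 9 10 8) (V7.mk 2 6 0 4 3 2 3) (V7.mk 7 9 8 6 5 3 10) (V7.mk 4 6 4 4 3 2 5) (V7.mk 8 3 9 7 1 1 7) (V7.mk 1 6 8 8 7 2 5) (V7.mk 3 1 5 5 6 0 9)),
  (M7.mk (V7.mk 4 2 3 5 6 8 1) (V7.mk 4 6 4 4 3 2 5) (V7.mk 8 3 9 7 1 1 7) (V7.mk 10 5 3 3 4 9 6) (V7.mk 3 1 5 5 6 0 9) (V7.mk 1 0 9 9 2 1 3) (V7.mk 9 5 0 7 8 9 8)),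
  (M7.mk (V7.mk 10 8 7 3 4 0 7) (V7.mk 3 4 2 6 2 7 9) (V7.mk 7 9 3 7 5 6 7) (V7.mk 3 5 7 0 10 0 4) (V7.mk 4 9 5 10 2 6 5) (V7.mk 0 7 5 0 5 5 3) (V7.mk 4 9 4 7 6 3 5)),
  (M7.mk (V7.mk 1 7 7 7 8 3 0) (V7.mk 7 8 5 4 2 4 6) (V7.mk 4 6 2 6 2 1 6) (V7.mk 7 4 5 5 9 7 8) (V7.mk 3 9 2 2 7 5 7) (V7.mk 8 7 1 4 5 0 0) (V7.mk 0 5 6 3 7 0 6)),
  (M7.mk (V7.mk 9 9 2 10 8 8 5) (V7.mk 5 9 9 2 3 10 8) (V7.mk 4 10 6 3 5 3 2) (V7.mk 10 2 5 5 9 6 4) (V7.mk 2 5 5 2 9 2 10) (V7.mk 6 6 4 10 9 9 5) (V7.mk 6 9 10 10 1 2 8)),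
  (M7.mk (V7.mk 1 3 2 10 9 10 6) (V7.mk 7 8 8 2 7 2 8) (V7.mk 3 3 6 1 2 9 2) (V7.mk 7 1 8 5 8 2 5) (V7.mk 7 4 9 1 4 8 4) (V7.mk 4 10 0 3 3 8 10) (V7.mk 2 0 7 9 8 6 8)),
  (M7.mk (V7.mk 7 5 6 3 9 1 3) (V7.mk 5 2 10 5 0 8 5) (V7.mk 2 3 0 2 10 1 2) (V7.mk 3 3 6 7 9 2 0) (V7.mk 6 1 2 6 3 4 8) (V7.mk 3 5 6 7 9 4 7) (V7.mk 1 7 3 4 10 8 2)),
  (M7.mk (V7.mk 9 8 0 2 1 1 9) (V7.mk 8 8 6 7 2 2 0) (V7.mk 6 1 9 5 3 7 8) (V7.mk 8 6 6 7 2 4 4) (V7.mk 1 7 8 7 10 3 2) (V7.mk 7 5 5 8 9 10 3) (V7.mk 5 2 1 6 0 3 5)),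
  (M7.mk (V7.mk 4 5 8 0 1 2 1) (V7.mk 7 4 9 2 2 0 10) (V7.mk 8 9 8 1 1 10 3) (V7.mk 0 8 1 7 7 4 3) (V7.mk 8 1 5 3 6 7 2) (V7.mk 10 6 9 2 8 9 8) (V7.mk 7 3 9 0 0 9 10)),
  (M7.mk (V7.mk 0 0 3 0 3 9 1) (V7.mk 9 4 0 5 0 0 0) (V7.mk 0 0 3 0 2 8 1) (V7.mk 0 0 9 0 8 3 10) (V7.mk 0 0 1 0 1 10 3) (V7.mk 7 6 0 9 0 0 0) (V7.mk 6 9 0 4 0 0 0)),
  (M7.mk (V7.mk 0 0 8 0 9 3 10) (V7.mk 0 0 9 0 8 3 10) (V7.mk 0 0 1 0 1 10 3) (V7.mk 4 5 0 2 0 0 0) (V7.mk 6 9 0 4 0 0 0) (V7.mk 0 0 8 0 8 2 10) (V7.mk 2 7 0 6 0 0 0)),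
  (M7.mk (V7.mk 8 6 10 4 0 9 1) (V7.mk 0 1 5 7 9 3 10) (V7.mk 3 7 7 5 8 3 4) (V7.mk 8 0 2 3 7 8 8) (V7.mk 8 2 3 3 3 4 0) (V7.mk 2 1 1 7 8 0 6) (V7.mk 7 8 0 8 8 3 2)),
  (M7.mk (V7.mk 1 6 2 3 8 2 2) (V7.mk 6 10 5 2 7 2 6) (V7.mk 2 5 7 9 5 5 10) (V7.mk 8 9 2 3 6 9 1) (V7.mk 3 4 6 6 9 10 8) (V7.mk 2 2 5 2 1 5 9) (V7.mk 9 5 1 1 8 2 10)),
  (M7.mk (V7.mk 9 7 0 2 1 9 4) (V7.mk 8 6 9 9 8 2 10) (V7.mk 1 9 10 8 3 1 8) (V7.mk 0 8 2 2 1 0 4) (V7.mk 7 8 4 1 3 7 0) (V7.mk 10 6 9 3 10 0 7) (V7.mk 5 10 4 6 9 8 3)),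
  (M7.mk (V7.mk 1 7 9 8 5 6 3) (V7.mk 6 4 6 4 7 8 2) (V7.mk 4 8 3 9 4 10 1) (V7.mk 5 10 5 3 8 7 9) (V7.mk 9 8 10 6 5 6 0) (V7.mk 3 10 0 2 9 2 10) (V7.mk 3 9 5 0 4 3 9)),
  (M7.mk (V7.mk 1 9 10 8 3 1 8) (V7.mk 0 8 2 2 1 0 4) (V7.mk 4 3 7 10 8 4 0) (V7.mk 10 6 9 3 10 0 7) (V7.mk 6 1 7 5 2 3 8) (V7.mk 2 4 0 9 10 2 7) (V7.mk 3 5 2 2 3 9 1)),
  (M7.mk (V7.mk 5 8 9 7 10 6 8) (V7.mk 2 2 10 2 6 6 2) (V7.mk 10 2 8 6 2 1 10) (V7.mk 8 10 8 5 2 2 2) (V7.mk 9 5 7 1 2 5 6) (V7.mk 9 2 6 5 6 4 1) (V7.mk 3 8 5 9 2 9 10)),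
  (M7.mk (V7.mk 1 9 3 5 9 10 1) (V7.mk 8 10 8 5 2 2 2) (V7.mk 9 5 7 1 2 5 6) (V7.mk 2 9 5 6 5 7 10) (V7.mk 3 8 5 9 2 9 10) (V7.mk 6 3 2 4 1 5 3) (V7.mk 9 9 1 9 5 5 9)),
  (M7.mk (V7.mk 8 9 6 4 1 8 6) (V7.mk 3 3 1 7 10 0 8) (V7.mk 9 1 5 10 3 2 1) (V7.mk 2 2 9 8 3 6 10) (V7.mk 4 3 7 4 4 9 10) (V7.mk 8 5 3 9 0 7 2) (V7.mk 7 9 3 4 8 8 9)),
  (M7.mk (V7.mk 4 9 5 9 7 9 8) (V7.mk 9 8 4 6 6 7 4) (V7.mk 5 4 0 1 0 4 8) (V7.mk 9 6 1 9 6 5 7) (V7.mk 7 6 0 6 5 3 0) (V7.mk 9 7 4 5 3 5 7) (V7.mk 8 4 8 7 0 7 1)),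
  (M7.mk (V7.mk 9 8 10 5 3 6 4) (V7.mk 8 1 6 2 9 3 9) (V7.mk 10 4 3 2 0 0 9) (V7.mk 10 4 6 8 0 1 9) (V7.mk 10 4 4 2 9 9 0) (V7.mk 8 8 2 8 1 1 1) (V7.mk 8 0 3 1 7 7 7)),
  (M7.mk (V7.mk 9 1 10 2 2 8 0) (V7.mk 7 1 3 2 1 4 3) (V7.mk 4 2 9 0 3 8 6) (V7.mk 8 2 10 3 7 6 6) (V7.mk 5 8 7 8 6 10 2) (V7.mk 6 0 3 5 5 9 10) (V7.mk 4 2 7 7 3 6 6)),
  (M7.mk (V7.mk 1 1 10 8 3 9 3) (V7.mk 0 0 9 1 4 3 2) (V7.mk 7 7 4 8 0 8 10) (V7.mk 0 10 9 1 4 6 8) (V7.mk 8 5 4 2 8 10 5) (V7.mk 2 2 0 1 4 4 2) (V7.mk 9 3 2 8 10 5 9)),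
  (M7.mk (V7.mk 6 0 8 5 6 9 10) (V7.mk 2 1 10 9 2 3 0) (V7.mk 4 9 2 0 8 8 6) (V7.mk 5 3 4 8 5 10 2) (V7.mk 4 9 4 7 8 6 6) (V7.mk 4 1 3 9 1 7 8) (V7.mk 3 2 10 8 7 5 5)),
  (M7.mk (V7.mk 3 3 0 2 5 9 4) (V7.mk 2 5 8 1 1 10 9) (V7.mk 4 3 3 9 9 4 3) (V7.mk 2 2 3 1 9 3 6) (V7.mk 8 5 1 5 2 7 8) (V7.mk 7 7 7 10 3 4 2) (V7.mk 3 10 10 3 8 4 0)),
  (M7.mk (V7.mk 0 9 0 8 3 10 0) (V7.mk 0 1 0 1 10 3 0) (V7.mk 5 0 2 0 0 0 4) (V7.mk 9 0 4 0 0 0 6) (V7.mk 0 8 0 8 2 10 0) (V7.mk 7 0 6 0 0 0 2) (V7.mk 0 8 0 9 3 10 0)),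
  (M7.mk (V7.mk 2 7 1 2 7 10 5) (V7.mk 1 7 6 4 2 1 2) (V7.mk 4 0 9 0 2 7 4) (V7.mk 6 2 9 4 4 10 1) (V7.mk 7 0 7 9 0 7 9) (V7.mk 9 2 7 0 0 4 4) (V7.mk 10 7 1 7 4 7 1)),
  (M7.mk (V7.mk 2 3 10 9 8 5 9) (V7.mk 7 7 1 3 7 9 4) (V7.mk 8 0 2 6 9 4 3) (V7.mk 3 3 2 9 7 8 7) (V7.mk 6 10 5 9 7 8 8) (V7.mk 1 1 3 3 4 0 3) (V7.mk 6 3 1 10 10 9 2)),
  (M7.mk (V7.mk 8 0 7 7 3 1 7) (V7.mk 2 6 8 4 4 7 5) (V7.mk 2 6 6 6 1 4 2) (V7.mk 9 8 4 5 7 7 5) (V7.mk 7 7 9 2 5 3 2) (V7.mk 5 0 7 4 0 8 1) (V7.mk 7 6 5 3 0 0 6)),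
  (M7.mk (V7.mk 6 2 10 3 9 2 8) (V7.mk 2 10 8 3 7 5 6) (V7.mk 1 6 2 9 2 5 9) (V7.mk 3 2 10 9 6 10 1) (V7.mk 3 2 2 1 5 9 3) (V7.mk 4 2 6 6 1 6 2) (V7.mk 5 6 1 9 5 7 2)),
  (M7.mk (V7.mk 3 0 1 9 1 4 5) (V7.mk 3 10 1 1 3 8 9) (V7.mk 5 3 5 7 9 3 10) (V7.mk 9 0 0 9 1 4 8) (V7.mk 2 9 2 0 10 7 4) (V7.mk 1 7 4 4 8 0 3) (V7.mk 2 9 8 2 8 10 6)),
  (M7.mk (V7.mk 6 2 4 2 6 6 1) (V7.mk 7 2 5 6 1 9 5) (V7.mk 9 3 5 9 1 8 2) (V7.mk 5 6 2 10 8 3 7) (V7.mk 6 2 10 5 9 2 9) (V7.mk 1 10 8 9 1 2 5) (V7.mk 2 8 8 9 9 10 6)),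
  (M7.mk (V7.mk 3 2 1 9 0 10 9) (V7.mk 7 4 8 10 8 10 9) (V7.mk 8 4 9 3 6 2 0) (V7.mk 6 8 10 7 6 2 3) (V7.mk 1 6 4 5 9 3 3) (V7.mk 9 6 3 5 10 0 5) (V7.mk 5 7 4 8 5 9 4)),
  (M7.mk (V7.mk 3 7 2 8 5 9 0) (V7.mk 6 8 10 7 6 2 3) (V7.mk 1 6 4 5 9 3 3) (V7.mk 2 5 8 6 1 0 6) (V7.mk 5 7 4 8 5 9 4) (V7.mk 8 9 10 2 0 1 2) (V7.mk 4 7 3 1 3 1 2))]

def tabC19 : List M7 := [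
  (M7.mk (V7.mk 7 7 0 2 0 9 4) (V7.mk 1 6 2 9 4 4 10) (V7.mk 2 4 0 4 2 0 4) (V7.mk 7 2 9 4 0 0 7) (V7.mk 10 1 4 10 4 7 4) (V7.mk 5 2 7 1 2 7 10) (V7.mk 2 1 7 6 4 2 1)),
  (M7.mk (V7.mk 4 8 9 0 0 9 1) (V7.mk 4 7 9 2 9 0 1) (V7.mk 0 8 10 4 7 7 3) (V7.mk 1 5 9 2 3 9 3) (V7.mk 4 5 3 0 1 9 1) (V7.mk 8 9 3 10 1 1 3) (V7.mk 8 1 6 8 6 4 2)),
  (M7.mk (V7.mk 2 1 3 7 6 5 3) (V7.mk 3 7 3 5 1 2 5) (V7.mk 0 3 6 6 2 10 6) (V7.mk 2 4 7 3 6 5 7) (V7.mk 10 10 9 9 3 0 9) (V7.mk 1 8 2 1 4 8 4) (V7.mk 2 2 0 3 8 5 7)),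
  (M7.mk (V7.mk 4 5 3 0 1 9 1) (V7.mk 3 2 8 1 10 10 8) (V7.mk 3 10 5 3 5 7 9) (V7.mk 7 3 2 0 0 2 10) (V7.mk 4 7 9 2 9 0 1) (V7.mk 0 8 10 4 7 7 3) (V7.mk 10 6 2 9 8 2 8)),
  (M7.mk (V7.mk 2 6 8 10 10 1 9) (V7.mk 4 7 4 10 3 4 9) (V7.mk 7 3 8 9 9 4 8) (V7.mk 8 10 1 3 8 4 0) (V7.mk 2 9 3 10 2 8 6) (V7.mk 3 8 0 9 6 2 4) (V7.mk 3 5 10 5 2 7 3)),
  (M7.mk (V7.mk 6 1 4 2 2 6 6) (V7.mk 9 6 8 9 4 4 2) (V7.mk 3 0 0 6 7 6 5) (V7.mk 7 7 4 6 9 5 3) (V7.mk 6 4 4 6 2 3 7) (V7.mk 7 0 3 10 6 0 4) (V7.mk 7 3 1 7 8 0 7)),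
  (M7.mk (V7.mk 8 0 0 5 4 5 6) (V7.mk 7 7 4 6 9 5 3) (V7.mk 6 4 4 6 2 3 7) (V7.mk 4 0 8 1 5 0 7) (V7.mk 7 3 1 7 8 0 7) (V7.mk 5 10 7 9 9 5 5) (V7.mk 2 5 3 2 7 7 9)),
  (M7.mk (V7.mk 7 7 3 10 3 10 9) (V7.mk 3 4 9 8 6 9 0) (V7.mk 6 3 1 7 5 2 3) (V7.mk 1 5 7 5 2 3 3) (V7.mk 9 5 8 5 1 0 5) (V7.mk 6 7 4 3 5 2 7) (V7.mk 8 2 1 2 0 1 2)),
  (M7.mk (V7.mk 10 3 6 2 3 4 5) (V7.mk 9 2 10 8 10 6 1) (V7.mk 9 5 6 7 6 1 2) (V7.mk 9 8 2 5 10 9 8) (V7.mk 6 9 6 1 9 9 2) (V7.mk 2 1 2 3 9 6 8) (V7.mk 5 2 7 6 1 5 2)),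
  (M7.mk (V7.mk 3 1 1 1 9 9 6) (V7.mk 3 10 2 3 5 2 2) (V7.mk 7 1 8 4 9 7 7) (V7.mk 0 9 6 9 7 3 3) (V7.mk 8 9 9 7 3 7 8) (V7.mk 10 5 2 4 8 3 6) (V7.mk 10 8 3 4 0 3 10)),
  (M7.mk (V7.mk 4 10 3 7 2 4 4) (V7.mk 0 9 6 9 7 3 3) (V7.mk 8 9 9 7 3 7 8) (V7.mk 1 6 9 7 3 8 5) (V7.mk 10 8 3 4 0 3 10) (V7.mk 8 10 10 10 2 2 5) (V7.mk 8 1 9 8 6 9 9)),
  (M7.mk (V7.mk 10 6 0 7 4 0 8) (V7.mk 4 3 0 7 7 8 1) (V7.mk 2 2 6 5 5 1 7) (V7.mk 9 4 4 9 2 6 3) (V7.mk 6 7 6 6 8 0 0) (V7.mk 5 2 6 3 7 4 4) (V7.mk 5 9 8 7 6 7 4)),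
  (M7.mk (V7.mk 2 2 6 5 5 1 7) (V7.mk 2 7 7 2 9 5 8) (V7.mk 6 7 6 6 8 0 0) (V7.mk 6 9 5 8 4 7 7) (V7.mk 6 2 3 4 5 4 7) (V7.mk 1 5 0 4 7 0 3) (V7.mk 4 3 0 7 7 8 1)),
  (M7.mk (V7.mk 1 3 3 7 0 3 10) (V7.mk 8 10 1 10 9 9 6) (V7.mk 3 10 9 3 6 9 9) (V7.mk 7 1 3 4 2 4 4) (V7.mk 0 2 6 2 7 3 3) (V7.mk 8 9 2 7 8 4 3) (V7.mk 1 6 2 7 8 3 6)),
  (M7.mk (V7.mk 5 2 6 10 9 9 2) (V7.mk 2 1 9 3 2 5 3) (V7.mk 6 9 7 5 1 5 2) (V7.mk 1 8 6 9 3 4 5) (V7.mk 2 9 10 3 10 6 1) (V7.mk 9 5 5 7 5 10 9) (V7.mk 9 8 9 5 1 2 3)),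
  (M7.mk (V7.mk 2 3 1 0 1 5 4) (V7.mk 8 8 4 8 4 4 5) (V7.mk 7 3 8 3 0 9 3) (V7.mk 8 4 0 8 2 3 8) (V7.mk 8 0 6 9 10 10 7) (V7.mk 3 3 9 7 8 0 3) (V7.mk 0 9 10 8 6 10 7)),
  (M7.mk (V7.mk 2 5 7 1 8 5 8) (V7.mk 3 7 4 7 2 10 7) (V7.mk 3 1 7 1 0 8 8) (V7.mk 5 3 9 0 4 2 3) (V7.mk 10 6 1 3 2 10 9) (V7.mk 2 8 7 8 8 2 7) (V7.mk 2 9 8 8 5 10 9)),
  (M7.mk (V7.mk 8 10 4 10 0 3 3) (V7.mk 5 3 9 0 4 2 3) (V7.mk 10 6 1 3 2 10 9) (V7.mk 9 3 4 3 3 9 4) (V7.mk 2 9 8 8 5 10 9) (V7.mk 9 6 4 10 3 6 3) (V7.mk 8 4 7 4 9 1 4)),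
  (M7.mk (V7.mk 5 7 1 9 6 6 2) (V7.mk 9 1 9 6 6 9 2) (V7.mk 2 6 5 5 7 1 2) (V7.mk 2 8 6 9 10 10 1) (V7.mk 8 5 9 9 2 10 8) (V7.mk 1 3 6 2 2 9 8) (V7.mk 3 2 4 10 6 3 5)),
  (M7.mk (V7.mk 6 7 8 1 9 3 5) (V7.mk 10 10 2 8 10 2 5) (V7.mk 1 4 7 7 8 9 7) (V7.mk 9 7 7 8 9 3 8) (V7.mk 3 7 8 1 8 0 1) (V7.mk 10 3 2 3 2 5 2) (V7.mk 2 2 8 0 5 4 8)),
  (M7.mk (V7.mk 10 7 4 4 3 2 4) (V7.mk 9 7 7 8 9 3 8) (V7.mk 3 7 8 1 8 0 1) (V7.mk 1 8 9 8 9 6 9) (V7.mk 2 2 8 0 5 4 8) (V7.mk 5 4 3 10 2 8 6) (V7.mk 1 1 9 3 1 9 6)),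
  (M7.mk (V7.mk 7 3 10 2 3 5 5) (V7.mk 4 4 4 3 9 7 10) (V7.mk 4 8 1 8 0 10 3) (V7.mk 2 3 0 6 4 8 9) (V7.mk 1 2 8 10 9 6 10) (V7.mk 4 7 8 9 8 3 9) (V7.mk 8 2 3 2 6 9 10)),
  (M7.mk (V7.mk 3 7 8 1 8 0 1) (V7.mk 1 8 9 8 9 6 9) (V7.mk 9 9 3 0 6 7 3) (V7.mk 5 4 3 10 2 8 6) (V7.mk 10 10 2 8 10 2 5) (V7.mk 1 4 7 7 8 9 7) (V7.mk 2 4 4 3 2 8 3)),
  (M7.mk (V7.mk 6 6 4 3 10 9 3) (V7.mk 10 3 4 3 10 8 0) (V7.mk 6 10 1 9 3 10 2) (V7.mk 9 10 8 9 8 2 5) (V7.mk 4 1 7 4 4 8 9) (V7.mk 3 2 9 3 0 5 4) (V7.mk 3 9 4 4 3 9 3)),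
  (M7.mk (V7.mk 5 1 10 2 8 1 9) (V7.mk 9 10 8 9 8 2 5) (V7.mk 4 1 7 4 4 8 9) (V7.mk 8 9 2 8 0 6 7) (V7.mk 3 9 4 4 3 9 3) (V7.mk 5 5 7 8 1 2 8) (V7.mk 1 8 7 8 1 3 0)),
  (M7.mk (V7.mk 2 5 10 2 5 6 4) (V7.mk 4 5 0 5 6 8 0) (V7.mk 9 7 4 5 3 5 7) (V7.mk 8 4 8 7 0 7 1) (V7.mk 7 2 6 2 4 2 3) (V7.mk 9 8 4 6 6 7 4) (V7.mk 6 7 0 10 0 7 3)),
  (M7.mk (V7.mk 3 5 7 0 1 0 7) (V7.mk 0 7 5 0 6 5 8) (V7.mk 10 8 7 8 7 0 4) (V7.mk 4 2 8 7 5 5 7) (V7.mk 7 2 6 10 2 5 5) (V7.mk 4 9 4 4 5 3 6) (V7.mk 8 7 9 6 2 4 9)),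
  (M7.mk (V7.mk 3 2 10 8 5 2 9) (V7.mk 10 0 4 1 6 9 8) (V7.mk 8 1 8 1 2 1 8) (V7.mk 2 8 3 5 1 7 6) (V7.mk 10 0 4 0 3 9 2) (V7.mk 1 2 7 2 7 0 9) (V7.mk 3 4 0 4 8 4 10)),
  (M7.mk (V7.mk 10 5 2 2 2 5 9) (V7.mk 8 9 10 2 6 10 1) (V7.mk 8 9 2 10 5 9 3) (V7.mk 4 2 5 6 10 5 9) (V7.mk 5 6 10 9 6 4 9) (V7.mk 5 9 10 8 9 2 8) (V7.mk 2 10 3 3 4 6 5)),
  (M7.mk (V7.mk 6 2 7 6 4 7 3) (V7.mk 6 2 3 6 8 10 7) (V7.mk 0 10 9 3 2 1 9) (V7.mk 2 8 8 10 5 7 6) (V7.mk 8 10 9 7 4 8 10) (V7.mk 1 0 6 2 5 8 6) (V7.mk 5 9 0 3 7 2 8)),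
  (M7.mk (V7.mk 7 8 6 6 9 10 8) (V7.mk 9 10 2 8 3 5 9) (V7.mk 9 7 2 0 1 8 0) (V7.mk 2 4 3 1 10 6 0) (V7.mk 0 7 2 2 1 7 9) (V7.mk 10 8 3 1 8 2 10) (V7.mk 4 0 10 7 8 3 4)),
  (M7.mk (V7.mk 0 10 9 3 9 10 9) (V7.mk 2 3 3 1 5 7 5) (V7.mk 8 1 2 4 4 8 1) (V7.mk 10 0 6 2 6 3 6) (V7.mk 5 2 0 8 7 2 3) (V7.mk 5 2 7 6 7 4 3) (V7.mk 5 2 3 6 3 1 7)),
  (M7.mk (V7.mk 3 2 9 1 6 2 8) (V7.mk 4 2 5 6 10 5 9) (V7.mk 6 5 1 2 5 7 2) (V7.mk 6 2 1 3 2 9 3) (V7.mk 9 1 8 8 7 5 6) (V7.mk 10 5 2 2 2 5 9) (V7.mk 8 9 10 2 6 10 1)),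
  (M7.mk (V7.mk 3 3 9 9 4 3 4) (V7.mk 6 10 6 9 4 3 3) (V7.mk 1 1 8 3 7 0 8) (V7.mk 6 3 10 10 1 2 9) (V7.mk 2 3 1 9 3 6 2) (V7.mk 7 7 10 3 4 2 7) (V7.mk 8 0 9 6 2 7 8)),
  (M7.mk (V7.mk 10 10 3 8 4 0 3) (V7.mk 6 3 10 10 1 2 9) (V7.mk 2 3 1 9 3 6 2) (V7.mk 4 4 1 8 7 9 4) (V7.mk 8 0 9 6 2 7 8) (V7.mk 8 8 2 2 7 8 7) (V7.mk 5 1 5 2 7 8 8)),
  (M7.mk (V7.mk 2 3 1 9 3 6 2) (V7.mk 4 4 1 8 7 9 4) (V7.mk 3 0 2 5 9 4 3) (V7.mk 8 8 2 2 7 8 7) (V7.mk 6 10 6 9 4 3 3) (V7.mk 1 1 8 3 7 0 8) (V7.mk 5 8 1 1 10 9 2)),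
  (M7.mk (V7.mk 4 7 4 0 2 0 9) (V7.mk 1 10 6 2 2 4 7) (V7.mk 4 2 7 0 4 9 0) (V7.mk 7 7 9 2 4 0 0) (V7.mk 4 10 10 7 10 7 7) (V7.mk 1 6 2 7 10 2 4) (V7.mk 10 9 1 7 5 4 9)),
  (M7.mk (V7.mk 7 9 4 0 7 2 0) (V7.mk 7 7 9 2 4 0 0) (V7.mk 4 10 10 7 10 7 7) (V7.mk 10 5 9 4 1 9 7) (V7.mk 10 9 1 7 5 4 9) (V7.mk 7 4 7 0 9 0 2) (V7.mk 10 1 5 9 9 7 4)),
  (M7.mk (V7.mk 0 6 2 0 4 0 0) (V7.mk 1 0 0 8 0 8 9) (V7.mk 0 2 4 0 6 0 0) (V7.mk 10 0 0 3 0 2 3) (V7.mk 10 0 0 2 0 3 3) (V7.mk 8 0 0 1 0 1 1) (V7.mk 0 7 5 0 9 0 0)),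
  (M7.mk (V7.mk 3 0 2 5 9 4 3) (V7.mk 3 3 9 9 4 3 4) (V7.mk 6 10 6 9 4 3 3) (V7.mk 10 10 3 8 4 0 3) (V7.mk 6 3 10 10 1 2 9) (V7.mk 9 8 10 2 8 5 9) (V7.mk 4 4 1 8 7 9 4)),
  (M7.mk (V7.mk 10 6 3 5 7 2 8) (V7.mk 5 2 2 3 9 8 10) (V7.mk 3 9 0 0 2 1 4) (V7.mk 5 8 0 1 9 10 7) (V7.mk 7 2 2 9 0 10 7) (V7.mk 9 8 10 1 1 8 3) (V7.mk 3 10 7 4 4 3 0)),
  (M7.mk (V7.mk 8 2 0 0 9 10 7) (V7.mk 5 8 0 1 9 10 7) (V7.mk 7 2 2 9 0 10 7) (V7.mk 2 3 1 10 10 3 8) (V7.mk 3 10 7 4 4 3 0) (V7.mk 1 5 8 6 4 9 3) (V7.mk 6 9 9 8 2 3 1)),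
  (M7.mk (V7.mk 7 10 3 2 1 7 8) (V7.mk 3 2 1 8 4 6 6) (V7.mk 6 0 3 5 5 2 1) (V7.mk 9 10 10 2 2 3 0) (V7.mk 4 9 9 0 3 3 5) (V7.mk 6 8 4 3 5 10 2) (V7.mk 7 2 4 4 8 6 6)),
  (M7.mk (V7.mk 7 2 2 9 0 10 7) (V7.mk 2 3 1 10 10 3 8) (V7.mk 8 1 4 7 7 8 0) (V7.mk 1 5 8 6 4 9 3) (V7.mk 5 2 2 3 9 8 10) (V7.mk 3 9 0 0 2 1 4) (V7.mk 6 3 0 10 2 1 4)),
  (M7.mk (V7.mk 8 8 6 1 9 9 9) (V7.mk 4 10 8 5 3 2 6) (V7.mk 4 7 9 1 7 8 7) (V7.mk 7 1 0 3 8 8 1) (V7.mk 9 0 7 9 3 6 3) (V7.mk 10 8 2 10 2 10 5) (V7.mk 4 3 8 2 4 2 3)),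
  (M7.mk (V7.mk 9 0 7 9 3 6 3) (V7.mk 1 3 9 1 9 1 6) (V7.mk 7 8 3 9 7 9 8) (V7.mk 3 3 5 10 2 2 2) (V7.mk 4 10 8 5 3 2 6) (V7.mk 4 7 9 1 7 8 7) (V7.mk 4 10 0 8 3 3 10)),
  (M7.mk (V7.mk 6 7 7 1 6 5 6) (V7.mk 6 6 4 5 4 5 10) (V7.mk 8 3 8 5 3 5 6) (V7.mk 8 0 8 4 6 7 5) (V7.mk 8 3 5 6 0 4 4) (V7.mk 6 4 5 5 7 1 6) (V7.mk 8 6 0 7 3 6 7)),
  (M7.mk (V7.mk 7 8 3 9 7 9 8) (V7.mk 8 8 6 1 9 9 9) (V7.mk 4 10 8 5 3 2 6) (V7.mk 7 4 2 10 4 3 4) (V7.mk 7 1 0 3 8 8 1) (V7.mk 2 0 4 2 8 5 8) (V7.mk 1 3 9 1 9 1 6)),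
  (M7.mk (V7.mk 9 9 2 3 8 5 1) (V7.mk 4 3 7 4 4 9 10) (V7.mk 3 6 8 2 0 4 9) (V7.mk 4 2 8 7 3 3 2) (V7.mk 3 2 5 7 10 3 5) (V7.mk 3 3 1 7 10 0 8) (V7.mk 9 1 5 10 3 2 1)),
  (M7.mk (V7.mk 0 9 4 7 7 0 2) (V7.mk 4 7 4 10 1 4 10) (V7.mk 7 7 1 10 5 9 2) (V7.mk 2 7 10 5 2 7 1) (V7.mk 9 0 7 9 7 0 7) (V7.mk 7 9 10 9 10 4 5) (V7.mk 0 0 4 4 9 2 7)),
  (M7.mk (V7.mk 4 4 10 1 6 2 9) (V7.mk 2 7 10 5 2 7 1) (V7.mk 9 0 7 9 7 0 7) (V7.mk 4 2 1 2 1 7 6) (V7.mk 0 0 4 4 9 2 7) (V7.mk 0 2 7 4 4 0 9) (V7.mk 7 4 7 1 10 7 1)),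
  (M7.mk (V7.mk 7 1 3 6 8 9 5) (V7.mk 7 4 2 10 4 3 4) (V7.mk 4 10 0 8 3 3 10) (V7.mk 9 0 7 9 3 6 3) (V7.mk 10 8 2 10 2 10 5) (V7.mk 7 8 3 9 7 9 8) (V7.mk 8 8 6 1 9 9 9)),
  (M7.mk (V7.mk 4 0 2 1 3 6 10) (V7.mk 7 2 8 10 0 1 5) (V7.mk 6 8 3 7 3 4 4) (V7.mk 8 7 8 3 8 0 9) (V7.mk 3 8 7 0 3 2 3) (V7.mk 4 8 0 5 2 10 10) (V7.mk 8 3 8 2 4 8 0)),
  (M7.mk (V7.mk 9 5 4 10 2 6 6) (V7.mk 9 9 10 2 5 6 9) (V7.mk 2 9 6 5 5 4 10) (V7.mk 10 2 3 5 2 10 10) (V7.mk 8 3 5 9 9 9 1) (V7.mk 8 10 3 6 2 9 2) (V7.mk 5 8 2 4 10 5 8)),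
  (M7.mk (V7.mk 6 8 3 7 3 4 4) (V7.mk 8 7 8 3 8 0 9) (V7.mk 8 3 4 0 8 9 8) (V7.mk 4 8 0 5 2 10 10) (V7.mk 3 8 3 9 7 3 0) (V7.mk 7 0 9 10 8 5 1) (V7.mk 4 9 3 1 0 10 6)),
  (M7.mk (V7.mk 3 2 10 9 8 9 6) (V7.mk 9 5 9 4 5 1 5) (V7.mk 6 10 8 5 9 3 4) (V7.mk 10 9 9 1 3 10 6) (V7.mk 9 9 6 5 4 6 1) (V7.mk 3 9 3 9 6 10 9) (V7.mk 9 6 2 5 10 9 9)),
  (M7.mk (V7.mk 9 1 3 5 10 7 0) (V7.mk 3 10 0 10 5 4 9) (V7.mk 8 7 3 7 4 5 3) (V7.mk 3 3 8 0 9 3 4) (V7.mk 4 0 3 9 3 8 3) (V7.mk 0 5 2 1 10 7 3) (V7.mk 3 2 4 3 0 3 8)),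
  (M7.mk (V7.mk 7 10 2 5 6 2 6) (V7.mk 1 2 5 5 9 2 2) (V7.mk 5 5 5 7 10 9 2) (V7.mk 8 5 2 1 10 1 9) (V7.mk 6 9 9 2 1 3 8) (V7.mk 8 6 2 2 2 3 1) (V7.mk 9 4 10 6 8 6 3)),
  (M7.mk (V7.mk 7 6 7 7 8 5 9) (V7.mk 2 8 2 10 9 0 10) (V7.mk 2 4 4 3 10 8 10) (V7.mk 0 8 7 9 8 5 9) (V7.mk 3 6 3 10 4 5 9) (V7.mk 8 10 6 7 5 9 3) (V7.mk 5 9 5 3 6 1 0)),
  (M7.mk (V7.mk 3 8 7 0 3 2 3) (V7.mk 4 8 0 5 2 10 10) (V7.mk 3 8 3 9 7 3 0) (V7.mk 4 0 2 1 3 6 10) (V7.mk 4 9 3 1 0 10 6) (V7.mk 5 3 8 4 8 7 7) (V7.mk 3 4 3 8 3 0 2)),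
  (M7.mk (V7.mk 8 5 4 2 4 6 7) (V7.mk 4 5 5 9 7 8 7) (V7.mk 7 1 4 5 0 0 8) (V7.mk 7 7 7 8 3 0 1) (V7.mk 6 2 6 2 1 6 4) (V7.mk 9 2 2 7 5 7 3) (V7.mk 5 6 3 7 0 6 0)),
  (M7.mk (V7.mk 4 10 7 6 0 0 3) (V7.mk 7 7 7 8 3 0 1) (V7.mk 6 2 6 2 1 6 4) (V7.mk 2 9 9 4 6 4 8) (V7.mk 5 6 3 7 0 6 0) (V7.mk 3 6 7 9 7 5 4) (V7.mk 7 6 6 2 4 3 4)),
  (M7.mk (V7.mk 9 8 9 5 0 7 8) (V7.mk 8 1 4 2 3 5 6) (V7.mk 2 5 4 6 4 4 3) (V7.mk 1 7 8 3 9 7 1) (V7.mk 9 6 10 5 3 3 4) (V7.mk 0 9 3 1 5 5 6) (V7.mk 1 3 1 0 9 9 2)),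
  (M7.mk (V7.mk 7 6 2 3 6 8 10) (V7.mk 6 2 8 8 10 5 7) (V7.mk 6 1 0 6 2 5 8) (V7.mk 3 6 2 7 6 4 7) (V7.mk 9 0 10 9 3 2 1) (V7.mk 10 8 10 9 7 4 8) (V7.mk 8 5 9 0 3 7 2))]

def tabC20 : List M7 := [
  (M7.mk (V7.mk 10 3 8 10 8 2 1) (V7.mk 2 7 2 0 10 3 0) (V7.mk 4 0 1 4 8 3 7) (V7.mk 9 4 3 1 1 5 0) (V7.mk 4 8 6 6 2 1 8) (V7.mk 0 7 2 2 10 4 9) (V7.mk 9 1 9 3 3 5 2)),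
  (M7.mk (V7.mk 6 5 1 7 9 9 6) (V7.mk 2 2 6 3 2 7 4) (V7.mk 6 3 0 0 6 7 5) (V7.mk 3 4 7 7 5 2 5) (V7.mk 4 6 7 4 6 2 8) (V7.mk 7 7 0 3 10 6 0) (V7.mk 4 7 8 1 7 8 0)),
  (M7.mk (V7.mk 6 3 0 0 6 7 5) (V7.mk 3 4 7 7 5 2 5) (V7.mk 7 5 4 7 5 9 3) (V7.mk 7 7 0 3 10 6 0) (V7.mk 7 4 3 10 4 3 0) (V7.mk 5 6 10 4 2 2 5) (V7.mk 9 9 5 8 9 4 7)),
  (M7.mk (V7.mk 9 4 7 8 1 8 10) (V7.mk 0 8 4 2 3 5 9) (V7.mk 3 5 3 10 4 6 2) (V7.mk 3 10 5 4 6 9 3) (V7.mk 5 2 5 3 6 10 0) (V7.mk 7 5 7 7 8 6 2) (V7.mk 2 3 2 10 9 0 1)),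
  (M7.mk (V7.mk 10 4 3 3 7 4 0) (V7.mk 9 8 3 6 9 2 1) (V7.mk 8 1 10 5 0 9 7) (V7.mk 3 10 3 2 1 10 8) (V7.mk 5 6 9 1 8 4 3) (V7.mk 2 0 10 8 0 9 7) (V7.mk 2 9 10 7 2 0 7)),
  (M7.mk (V7.mk 7 5 4 7 5 9 3) (V7.mk 4 4 0 8 1 5 0) (V7.mk 7 4 3 10 4 3 0) (V7.mk 6 5 1 7 9 9 6) (V7.mk 2 2 6 3 2 7 4) (V7.mk 5 8 0 0 5 4 6) (V7.mk 3 4 7 7 5 2 5)),
  (M7.mk (V7.mk 1 7 5 2 3 8 6) (V7.mk 4 0 9 10 2 7 2) (V7.mk 6 9 9 8 2 10 8) (V7.mk 9 10 8 3 1 8 1) (V7.mk 3 9 9 10 0 7 0) (V7.mk 8 4 1 3 7 0 7) (V7.mk 5 2 8 1 0 4 1)),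
  (M7.mk (V7.mk 0 3 9 10 0 0 8) (V7.mk 0 2 8 10 0 0 8) (V7.mk 0 10 1 3 0 0 1) (V7.mk 7 0 0 0 6 2 0) (V7.mk 5 0 0 0 2 4 0) (V7.mk 0 3 8 10 0 0 9) (V7.mk 9 0 0 0 4 6 0)),
  (M7.mk (V7.mk 2 6 0 7 8 2 8) (V7.mk 4 2 3 6 5 8 10) (V7.mk 7 5 7 4 3 9 5) (V7.mk 8 3 9 4 10 1 4) (V7.mk 10 5 3 8 7 9 5) (V7.mk 3 1 5 6 5 0 2) (V7.mk 10 0 2 9 2 10 3)),
  (M7.mk (V7.mk 4 6 4 7 8 2 6) (V7.mk 8 3 9 4 10 1 4) (V7.mk 10 5 3 8 7 9 5) (V7.mk 8 10 6 5 6 0 9) (V7.mk 10 0 2 9 2 10 3) (V7.mk 9 5 0 4 3 9 3) (V7.mk 7 9 8 5 6 3 1)),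
  (M7.mk (V7.mk 7 9 7 6 7 3 5) (V7.mk 5 9 7 3 4 4 6) (V7.mk 7 6 0 0 8 4 1) (V7.mk 7 8 3 0 10 7 4) (V7.mk 6 2 1 5 7 6 9) (V7.mk 2 7 5 4 8 9 9) (V7.mk 8 4 0 6 0 6 6)),
  (M7.mk (V7.mk 2 8 7 3 3 2 4) (V7.mk 2 5 7 10 3 5 3) (V7.mk 8 10 4 1 0 3 8) (V7.mk 1 5 10 3 2 1 9) (V7.mk 2 9 8 3 6 10 2) (V7.mk 8 4 7 7 2 1 7) (V7.mk 5 3 9 0 7 2 8)),
  (M7.mk (V7.mk 3 1 7 10 0 8 3) (V7.mk 1 5 10 3 2 1 9) (V7.mk 2 9 8 3 6 10 2) (V7.mk 3 7 4 4 9 10 4) (V7.mk 5 3 9 0 7 2 8) (V7.mk 9 3 4 8 8 9 7) (V7.mk 9 6 4 1 8 6 8)),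
  (M7.mk (V7.mk 8 4 6 6 7 4 9) (V7.mk 4 0 1 0 4 8 5) (V7.mk 6 1 9 6 5 7 9) (V7.mk 6 0 6 5 3 0 7) (V7.mk 7 4 5 3 5 7 9) (V7.mk 4 8 7 0 7 1 8) (V7.mk 9 5 9 7 9 8 4)),
  (M7.mk (V7.mk 4 10 9 2 6 6 5) (V7.mk 1 1 10 2 8 5 9) (V7.mk 9 1 3 8 5 2 9) (V7.mk 9 2 3 1 3 5 2) (V7.mk 5 8 6 3 2 7 10) (V7.mk 5 5 9 5 7 10 9) (V7.mk 5 2 9 9 1 2 6)),
  (M7.mk (V7.mk 9 0 3 3 5 4 9) (V7.mk 7 8 6 1 9 5 3) (V7.mk 7 7 3 5 5 4 9) (V7.mk 8 9 10 4 3 4 1) (V7.mk 1 8 4 6 6 3 2) (V7.mk 3 5 5 2 1 6 0) (V7.mk 1 9 9 8 0 2 1)),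
  (M7.mk (V7.mk 0 3 4 1 4 6 0) (V7.mk 6 4 6 9 5 2 10) (V7.mk 5 0 6 6 3 4 0) (V7.mk 8 7 4 6 6 9 4) (V7.mk 0 1 7 4 4 8 8) (V7.mk 7 3 9 9 9 7 6) (V7.mk 5 4 3 5 4 9 4)),
  (M7.mk (V7.mk 7 3 6 6 9 1 3) (V7.mk 2 10 9 3 8 5 9) (V7.mk 9 4 2 0 1 3 0) (V7.mk 2 7 3 1 10 5 0) (V7.mk 0 4 2 2 1 4 2) (V7.mk 1 8 8 10 3 2 10) (V7.mk 7 0 1 4 3 3 4)),
  (M7.mk (V7.mk 0 7 9 9 10 7 9) (V7.mk 10 3 3 1 8 9 1) (V7.mk 4 0 10 7 8 8 7) (V7.mk 7 3 6 6 9 1 3) (V7.mk 2 10 9 3 8 5 9) (V7.mk 2 7 9 0 10 8 0) (V7.mk 2 7 3 1 10 5 0)),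
  (M7.mk (V7.mk 6 5 8 8 8 5 3) (V7.mk 4 6 8 0 8 4 6) (V7.mk 7 7 8 8 5 6 0) (V7.mk 1 6 5 4 6 6 4) (V7.mk 6 7 3 6 0 4 8) (V7.mk 6 5 6 4 7 1 6) (V7.mk 5 10 5 6 7 6 7)),
  (M7.mk (V7.mk 4 4 3 3 6 5 0) (V7.mk 1 6 5 4 6 6 4) (V7.mk 6 7 3 6 0 4 8) (V7.mk 5 6 5 7 4 10 5) (V7.mk 5 10 5 6 7 6 7) (V7.mk 5 6 3 3 3 6 8) (V7.mk 7 5 3 0 3 7 5)),
  (M7.mk (V7.mk 0 0 4 4 2 2 4) (V7.mk 0 9 7 4 7 0 2) (V7.mk 4 7 7 1 1 7 10) (V7.mk 7 7 10 1 5 2 2) (V7.mk 9 4 10 5 9 7 10) (V7.mk 2 0 7 9 4 0 4) (V7.mk 7 9 1 2 10 7 5)),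
  (M7.mk (V7.mk 2 9 8 10 8 6 9) (V7.mk 6 3 5 8 9 4 1) (V7.mk 6 6 2 6 4 1 2) (V7.mk 5 2 9 9 1 2 6) (V7.mk 4 10 9 2 6 6 5) (V7.mk 10 10 1 9 3 6 2) (V7.mk 9 1 3 8 5 2 9)),
  (M7.mk (V7.mk 0 2 10 1 2 2 3) (V7.mk 6 7 9 2 0 3 3) (V7.mk 2 6 3 4 8 6 1) (V7.mk 6 7 9 4 7 3 5) (V7.mk 3 4 10 8 2 1 7) (V7.mk 6 3 9 1 3 7 5) (V7.mk 10 5 0 8 5 5 2)),
  (M7.mk (V7.mk 1 6 2 9 3 9 8) (V7.mk 4 3 2 0 0 9 10) (V7.mk 4 6 8 0 1 9 10) (V7.mk 4 4 2 9 9 0 10) (V7.mk 8 2 8 1 1 1 8) (V7.mk 0 3 1 7 7 7 8) (V7.mk 8 10 5 3 6 4 9)),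
  (M7.mk (V7.mk 8 0 7 7 3 10 4) (V7.mk 9 6 5 5 10 4 2) (V7.mk 4 7 2 9 6 3 2) (V7.mk 7 5 5 3 0 0 5) (V7.mk 9 6 3 7 7 7 5) (V7.mk 9 3 4 5 7 4 6) (V7.mk 5 0 7 4 0 3 10)),
  (M7.mk (V7.mk 5 6 1 7 2 9 5) (V7.mk 4 6 4 7 6 9 8) (V7.mk 2 2 5 8 2 4 4) (V7.mk 7 7 0 8 10 5 0) (V7.mk 5 8 0 0 5 7 6) (V7.mk 7 4 8 1 4 8 0) (V7.mk 3 4 4 4 5 9 5)),
  (M7.mk (V7.mk 9 9 6 3 9 7 7) (V7.mk 7 7 0 8 10 5 0) (V7.mk 5 8 0 0 5 7 6) (V7.mk 4 7 3 10 7 3 0) (V7.mk 3 4 4 4 5 9 5) (V7.mk 6 5 10 4 9 2 6) (V7.mk 7 5 7 4 5 2 3)),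
  (M7.mk (V7.mk 2 7 7 8 10 8 1) (V7.mk 5 2 6 8 6 1 0) (V7.mk 0 8 7 9 3 6 9) (V7.mk 7 5 4 4 8 5 2) (V7.mk 8 6 3 10 7 6 9) (V7.mk 9 8 2 10 2 0 10) (V7.mk 3 10 6 7 6 2 3)),
  (M7.mk (V7.mk 8 3 7 6 5 2 1) (V7.mk 2 9 2 6 2 1 5) (V7.mk 1 2 5 10 1 8 2) (V7.mk 9 10 6 9 3 8 2) (V7.mk 6 6 1 5 9 4 9) (V7.mk 10 2 6 7 2 6 6) (V7.mk 10 3 9 9 3 6 9)),
  (M7.mk (V7.mk 9 4 4 8 5 5 7) (V7.mk 10 1 9 9 3 0 2) (V7.mk 10 8 9 10 7 8 4) (V7.mk 2 9 0 3 8 6 4) (V7.mk 2 10 3 7 6 6 8) (V7.mk 3 4 3 5 1 9 6) (V7.mk 0 3 5 5 9 10 6)),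
  (M7.mk (V7.mk 1 3 2 1 4 3 7) (V7.mk 2 9 0 3 8 6 4) (V7.mk 2 10 3 7 6 6 8) (V7.mk 8 7 8 6 10 2 5) (V7.mk 0 3 5 5 9 10 6) (V7.mk 2 7 7 3 6 6 4) (V7.mk 1 10 2 2 8 0 9)),
  (M7.mk (V7.mk 2 10 3 7 6 6 8) (V7.mk 8 7 8 6 10 2 5) (V7.mk 0 8 6 6 2 1 5) (V7.mk 2 7 7 3 6 6 4) (V7.mk 10 1 9 9 3 0 2) (V7.mk 10 8 9 10 7 8 4) (V7.mk 9 2 0 8 3 5 7)),
  (M7.mk (V7.mk 7 5 8 0 10 9 1) (V7.mk 3 9 8 1 10 1 3) (V7.mk 8 10 6 8 6 7 9) (V7.mk 7 8 2 0 0 9 1) (V7.mk 4 4 9 2 9 0 10) (V7.mk 0 3 10 4 7 4 8) (V7.mk 1 6 9 2 3 2 8)),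
  (M7.mk (V7.mk 8 2 7 4 9 9 6) (V7.mk 7 6 9 6 3 4 4) (V7.mk 8 10 6 0 4 4 0) (V7.mk 4 9 9 6 5 6 1) (V7.mk 0 6 7 5 5 8 0) (V7.mk 4 5 9 3 4 6 4) (V7.mk 1 4 3 0 4 7 3)),
  (M7.mk (V7.mk 8 0 8 2 10 0 0) (V7.mk 0 6 0 0 0 2 7) (V7.mk 3 0 2 8 1 0 0) (V7.mk 9 0 8 3 10 0 0) (V7.mk 10 0 10 1 8 0 0) (V7.mk 0 9 0 0 0 7 6) (V7.mk 0 7 0 0 0 5 2)),
  (M7.mk (V7.mk 9 1 2 8 3 6 2) (V7.mk 1 8 8 10 3 2 10) (V7.mk 9 4 2 0 1 3 0) (V7.mk 4 0 10 7 8 8 7) (V7.mk 2 7 3 1 10 5 0) (V7.mk 4 8 5 5 2 10 8) (V7.mk 0 7 9 9 10 7 9)),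
  (M7.mk (V7.mk 3 0 2 8 1 0 0) (V7.mk 9 0 8 3 10 0 0) (V7.mk 1 0 1 10 3 0 0) (V7.mk 0 9 0 0 0 7 6) (V7.mk 0 4 0 0 0 6 9) (V7.mk 3 0 3 9 1 0 0) (V7.mk 0 5 0 0 0 9 4)),
  (M7.mk (V7.mk 3 0 10 9 10 4 5) (V7.mk 9 9 2 0 10 4 7) (V7.mk 8 10 1 10 3 3 2) (V7.mk 1 4 7 4 3 0 3) (V7.mk 6 3 5 4 9 8 1) (V7.mk 2 2 3 2 3 10 6) (V7.mk 9 0 0 9 10 4 8)),
  (M7.mk (V7.mk 2 4 4 3 5 6 4) (V7.mk 10 3 2 10 4 8 4) (V7.mk 2 1 8 7 5 6 8) (V7.mk 0 8 6 5 2 10 6) (V7.mk 1 1 9 2 3 0 9) (V7.mk 9 9 0 8 8 5 7) (V7.mk 3 7 8 5 10 9 6)),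
  (M7.mk (V7.mk 1 0 1 10 3 0 0) (V7.mk 0 2 0 0 0 4 5) (V7.mk 0 4 0 0 0 6 9) (V7.mk 8 0 8 2 10 0 0) (V7.mk 0 6 0 0 0 2 7) (V7.mk 8 0 9 3 10 0 0) (V7.mk 9 0 8 3 10 0 0)),
  (M7.mk (V7.mk 4 10 4 7 4 10 1) (V7.mk 4 10 9 4 1 6 9) (V7.mk 4 5 7 9 10 9 10) (V7.mk 0 9 0 2 7 4 4) (V7.mk 2 9 4 4 10 1 6) (V7.mk 0 4 2 0 4 2 4) (V7.mk 2 7 0 0 4 4 9)),
  (M7.mk (V7.mk 7 6 4 2 1 2 1) (V7.mk 0 9 0 2 7 4 4) (V7.mk 2 9 4 4 10 1 6) (V7.mk 0 7 9 0 7 9 7) (V7.mk 2 7 0 0 4 4 9) (V7.mk 7 1 7 4 7 1 10) (V7.mk 7 1 2 7 10 5 2)),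
  (M7.mk (V7.mk 3 4 10 8 2 1 7) (V7.mk 5 8 2 10 8 4 6) (V7.mk 10 5 0 8 5 5 2) (V7.mk 0 9 1 10 9 9 8) (V7.mk 5 4 2 9 0 8 8) (V7.mk 9 5 8 7 3 5 10) (V7.mk 6 7 9 4 7 3 5)),
  (M7.mk (V7.mk 9 2 3 10 9 8 5) (V7.mk 4 7 7 1 3 7 9) (V7.mk 8 3 0 9 5 2 7) (V7.mk 7 3 3 2 9 7 8) (V7.mk 3 5 1 6 2 4 3) (V7.mk 8 10 10 8 8 7 0) (V7.mk 9 5 8 10 1 1 2)),
  (M7.mk (V7.mk 3 8 0 2 6 9 4) (V7.mk 7 3 3 2 9 7 8) (V7.mk 3 5 1 6 2 4 3) (V7.mk 3 1 1 3 3 4 0) (V7.mk 9 5 8 10 1 1 2) (V7.mk 2 9 8 1 2 3 6) (V7.mk 7 4 4 10 8 4 2)),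
  (M7.mk (V7.mk 3 4 6 5 3 9 10) (V7.mk 5 6 9 1 5 0 3) (V7.mk 2 9 8 0 2 10 10) (V7.mk 0 8 8 5 7 9 9) (V7.mk 8 5 10 9 6 3 7) (V7.mk 7 8 6 5 7 9 7) (V7.mk 2 10 4 8 4 10 3)),
  (M7.mk (V7.mk 3 5 9 9 3 1 2) (V7.mk 4 8 8 5 10 6 2) (V7.mk 7 2 7 7 4 1 3) (V7.mk 7 0 3 10 1 8 8) (V7.mk 9 7 8 8 0 2 6) (V7.mk 10 2 9 6 8 1 10) (V7.mk 7 3 4 3 8 2 9)),
  (M7.mk (V7.mk 4 10 8 9 10 7 8) (V7.mk 5 0 8 6 6 2 1) (V7.mk 4 2 9 0 3 8 6) (V7.mk 4 2 7 7 3 6 6) (V7.mk 3 9 1 8 4 5 5) (V7.mk 9 1 10 2 2 8 0) (V7.mk 6 3 4 3 5 1 9)),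
  (M7.mk (V7.mk 4 2 9 0 3 8 6) (V7.mk 4 2 7 7 3 6 6) (V7.mk 8 2 10 3 7 6 6) (V7.mk 9 1 10 2 2 8 0) (V7.mk 5 8 7 8 6 10 2) (V7.mk 7 1 3 2 1 4 3) (V7.mk 6 0 3 5 5 9 10)),
  (M7.mk (V7.mk 2 8 1 10 10 8 3) (V7.mk 10 5 3 5 7 9 3) (V7.mk 8 9 0 0 9 1 4) (V7.mk 7 9 2 9 0 1 4) (V7.mk 3 1 7 4 4 8 0) (V7.mk 5 9 2 3 9 3 1) (V7.mk 6 8 0 10 2 10 7)),
  (M7.mk (V7.mk 3 2 0 0 2 10 7) (V7.mk 7 9 2 9 0 1 4) (V7.mk 3 1 7 4 4 8 0) (V7.mk 6 2 9 8 2 8 10) (V7.mk 6 8 0 10 2 10 7) (V7.mk 9 3 10 1 1 3 8) (V7.mk 1 6 8 6 4 2 8)),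
  (M7.mk (V7.mk 7 3 9 2 2 7 5) (V7.mk 0 3 4 10 7 6 0) (V7.mk 5 0 6 5 8 4 0) (V7.mk 0 10 4 4 4 3 8) (V7.mk 6 7 8 5 4 2 4) (V7.mk 6 4 6 2 6 2 1) (V7.mk 3 4 7 6 6 2 4)),
  (M7.mk (V7.mk 9 8 2 10 8 6 9) (V7.mk 2 1 0 4 0 8 2) (V7.mk 3 10 0 7 10 6 9) (V7.mk 2 1 9 4 9 7 0) (V7.mk 8 3 1 8 1 9 10) (V7.mk 1 3 7 0 7 8 4) (V7.mk 6 9 8 3 5 10 4)),
  (M7.mk (V7.mk 8 1 0 4 1 5 2) (V7.mk 2 1 9 4 9 7 0) (V7.mk 8 3 1 8 1 9 10) (V7.mk 10 8 4 0 4 3 7) (V7.mk 6 9 8 3 5 10 4) (V7.mk 2 3 9 1 3 5 2) (V7.mk 9 10 0 7 0 3 9)),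
  (M7.mk (V7.mk 3 3 9 2 10 6 2) (V7.mk 6 2 1 8 8 4 6) (V7.mk 2 4 9 6 5 10 5) (V7.mk 9 1 5 2 2 9 6) (V7.mk 2 5 5 1 2 6 4) (V7.mk 1 3 9 10 2 5 1) (V7.mk 8 6 9 10 8 2 9)),
  (M7.mk (V7.mk 1 3 6 3 2 5 4) (V7.mk 10 0 8 8 8 10 7) (V7.mk 8 2 10 9 1 5 1) (V7.mk 3 5 10 9 9 2 8) (V7.mk 7 9 1 4 3 7 7) (V7.mk 0 7 9 8 5 3 2) (V7.mk 3 8 2 7 9 3 7)),
  (M7.mk (V7.mk 3 9 1 2 10 6 10) (V7.mk 3 5 10 9 9 2 8) (V7.mk 7 9 1 4 3 7 7) (V7.mk 0 4 2 3 6 8 9) (V7.mk 3 8 2 7 9 3 7) (V7.mk 10 8 5 8 9 6 7) (V7.mk 1 0 3 3 3 1 4)),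
  (M7.mk (V7.mk 5 2 3 8 6 1 7) (V7.mk 9 8 2 10 8 6 9) (V7.mk 2 1 0 4 0 8 2) (V7.mk 8 1 0 4 1 5 2) (V7.mk 2 1 9 4 9 7 0) (V7.mk 3 8 10 3 10 2 1) (V7.mk 10 8 4 0 4 3 7)),
  (M7.mk (V7.mk 0 9 8 10 5 6 6) (V7.mk 1 3 10 0 9 2 2) (V7.mk 9 8 2 6 0 4 8) (V7.mk 3 10 4 2 8 5 5) (V7.mk 9 6 4 6 7 4 8) (V7.mk 1 7 3 8 9 4 1) (V7.mk 2 5 10 5 8 3 7)),
  (M7.mk (V7.mk 7 9 8 7 2 5 2) (V7.mk 6 7 4 2 3 4 5) (V7.mk 0 7 3 5 4 0 1) (V7.mk 5 6 4 9 6 10 9) (V7.mk 5 3 0 4 5 0 5) (V7.mk 8 6 4 9 7 7 5) (V7.mk 0 7 1 3 7 8 4)),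
  (M7.mk (V7.mk 9 6 4 6 7 4 8) (V7.mk 10 4 8 3 2 7 10) (V7.mk 9 6 1 6 3 8 4) (V7.mk 0 2 3 1 6 5 5) (V7.mk 1 3 10 0 9 2 2) (V7.mk 9 8 2 6 0 4 8) (V7.mk 8 1 7 9 3 6 6)),
  (M7.mk (V7.mk 1 9 6 6 9 2 9) (V7.mk 6 5 5 7 1 2 2) (V7.mk 8 6 9 10 10 1 2) (V7.mk 5 9 9 2 10 8 8) (V7.mk 3 6 2 2 9 8 1) (V7.mk 2 4 10 6 3 5 3) (V7.mk 7 1 9 6 6 2 5)),
  (M7.mk (V7.mk 9 3 0 6 7 3 9) (V7.mk 4 3 10 2 8 6 5) (V7.mk 1 9 3 1 9 6 1) (V7.mk 4 7 7 8 9 7 1) (V7.mk 7 7 8 9 3 8 9) (V7.mk 4 3 10 3 0 10 8) (V7.mk 3 2 3 2 5 2 10))]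

def tabC21 : List M7 := [
  (M7.mk (V7.mk 2 7 7 8 2 8 8) (V7.mk 5 7 8 1 2 8 5) (V7.mk 8 7 8 1 3 0 1) (V7.mk 10 1 9 3 10 2 6) (V7.mk 10 8 9 8 2 5 9) (V7.mk 10 4 7 7 3 2 7) (V7.mk 2 9 3 0 5 4 3)),
  (M7.mk (V7.mk 3 4 3 10 8 0 10) (V7.mk 10 1 9 3 10 2 6) (V7.mk 10 8 9 8 2 5 9) (V7.mk 1 7 4 4 8 9 4) (V7.mk 2 9 3 0 5 4 3) (V7.mk 9 4 4 3 9 3 3) (V7.mk 6 4 3 10 9 3 6)),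
  (M7.mk (V7.mk 4 2 5 9 7 2 3) (V7.mk 6 4 0 10 0 4 8) (V7.mk 4 6 0 5 6 3 0) (V7.mk 8 7 8 7 0 4 10) (V7.mk 2 8 7 5 5 7 4) (V7.mk 9 5 1 9 6 6 4) (V7.mk 9 4 4 5 3 6 4)),
  (M7.mk (V7.mk 7 5 0 6 5 8 0) (V7.mk 8 7 8 7 0 4 10) (V7.mk 2 8 7 5 5 7 4) (V7.mk 2 6 10 2 5 5 7) (V7.mk 9 4 4 5 3 6 4) (V7.mk 7 9 6 2 4 9 8) (V7.mk 5 7 0 1 0 7 3)),
  (M7.mk (V7.mk 2 3 6 8 10 7 6) (V7.mk 10 9 3 2 1 9 0) (V7.mk 8 8 10 5 7 6 2) (V7.mk 10 9 7 4 8 10 8) (V7.mk 0 6 2 5 8 6 1) (V7.mk 9 0 3 7 2 8 5) (V7.mk 2 7 6 4 7 3 6)),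
  (M7.mk (V7.mk 9 8 5 8 10 4 6) (V7.mk 1 2 8 2 1 2 0) (V7.mk 8 8 10 6 4 6 9) (V7.mk 1 2 4 4 8 1 8) (V7.mk 0 6 2 6 3 6 10) (V7.mk 9 0 3 4 9 8 6) (V7.mk 2 7 6 7 4 3 5)),
  (M7.mk (V7.mk 0 2 5 9 4 3 3) (V7.mk 8 2 2 7 8 7 8) (V7.mk 1 5 2 7 8 8 5) (V7.mk 1 8 3 7 0 8 1) (V7.mk 3 10 10 1 2 9 6) (V7.mk 8 10 2 8 5 9 9) (V7.mk 7 10 3 4 2 7 7)),
  (M7.mk (V7.mk 2 10 4 6 7 2 1) (V7.mk 4 7 0 9 0 2 7) (V7.mk 1 5 9 9 7 4 10) (V7.mk 2 7 0 4 9 0 4) (V7.mk 7 9 2 4 0 0 7) (V7.mk 1 1 4 1 4 4 7) (V7.mk 6 2 7 10 2 4 1)),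
  (M7.mk (V7.mk 10 6 2 2 4 7 1) (V7.mk 2 7 0 4 9 0 4) (V7.mk 7 9 2 4 0 0 7) (V7.mk 10 10 7 10 7 7 4) (V7.mk 6 2 7 10 2 4 1) (V7.mk 9 1 7 5 4 9 10) (V7.mk 7 4 0 2 0 9 4)),
  (M7.mk (V7.mk 7 9 2 4 0 0 7) (V7.mk 10 10 7 10 7 7 4) (V7.mk 5 9 4 1 9 7 10) (V7.mk 9 1 7 5 4 9 10) (V7.mk 4 7 0 9 0 2 7) (V7.mk 1 5 9 9 7 4 10) (V7.mk 9 4 0 7 2 0 7)),
  (M7.mk (V7.mk 4 6 0 2 0 0 0) (V7.mk 5 9 0 7 0 0 0) (V7.mk 0 0 3 0 3 2 10) (V7.mk 2 4 0 6 0 0 0) (V7.mk 0 0 3 0 2 3 10) (V7.mk 0 0 9 0 8 8 1) (V7.mk 0 0 1 0 1 1 8)),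
  (M7.mk (V7.mk 0 0 8 0 8 9 1) (V7.mk 2 4 0 6 0 0 0) (V7.mk 0 0 3 0 2 3 10) (V7.mk 0 0 2 0 3 3 10) (V7.mk 0 0 1 0 1 1 8) (V7.mk 7 5 0 9 0 0 0) (V7.mk 6 2 0 4 0 0 0)),
  (M7.mk (V7.mk 4 8 4 7 4 9 1) (V7.mk 4 9 3 4 3 3 9) (V7.mk 8 3 1 7 1 0 8) (V7.mk 9 2 9 8 8 5 10) (V7.mk 8 6 8 2 0 7 9) (V7.mk 8 2 5 7 1 8 5) (V7.mk 2 1 5 10 8 9 1)),
  (M7.mk (V7.mk 2 10 10 10 2 3 5) (V7.mk 2 2 10 3 8 6 2) (V7.mk 2 9 2 8 10 3 6) (V7.mk 1 6 3 6 3 9 7) (V7.mk 9 5 5 2 6 7 1) (V7.mk 6 5 2 2 2 1 9) (V7.mk 5 4 10 2 9 6 5)),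
  (M7.mk (V7.mk 10 3 2 10 4 8 4) (V7.mk 2 1 8 7 5 6 8) (V7.mk 0 3 5 6 9 1 5) (V7.mk 1 1 9 2 3 0 9) (V7.mk 2 2 0 3 3 6 4) (V7.mk 8 4 3 6 1 2 5) (V7.mk 9 7 7 8 6 5 7)),
  (M7.mk (V7.mk 9 10 8 3 1 8 1) (V7.mk 3 9 9 10 0 7 0) (V7.mk 3 7 10 8 4 0 4) (V7.mk 5 2 8 1 0 4 1) (V7.mk 10 4 6 9 8 3 5) (V7.mk 7 0 2 1 9 4 9) (V7.mk 5 2 2 3 9 1 3)),
  (M7.mk (V7.mk 9 2 10 2 5 5 2) (V7.mk 8 1 3 6 2 2 9) (V7.mk 2 2 6 5 5 7 1) (V7.mk 6 8 9 7 1 5 8) (V7.mk 1 2 8 6 9 10 10) (V7.mk 9 6 4 10 2 5 5) (V7.mk 3 3 6 2 2 9 1)),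
  (M7.mk (V7.mk 8 10 0 9 9 9 1) (V7.mk 4 3 8 9 7 10 1) (V7.mk 3 2 6 0 7 3 9) (V7.mk 5 1 6 3 3 7 9) (V7.mk 10 7 9 3 5 5 8) (V7.mk 2 8 10 5 5 5 0) (V7.mk 6 7 5 4 4 8 2)),
  (M7.mk (V7.mk 3 2 6 0 7 3 9) (V7.mk 5 1 6 3 3 7 9) (V7.mk 1 4 2 8 6 6 3) (V7.mk 2 8 10 5 5 5 0) (V7.mk 5 4 6 7 7 3 9) (V7.mk 3 1 0 2 2 2 10) (V7.mk 7 8 3 2 4 1 10)),
  (M7.mk (V7.mk 9 9 1 3 10 6 10) (V7.mk 9 6 5 4 6 1 9) (V7.mk 2 8 2 5 1 2 8) (V7.mk 6 2 5 10 9 9 9) (V7.mk 9 1 2 3 2 5 8) (V7.mk 6 2 7 6 10 6 2) (V7.mk 1 3 6 2 8 7 5)),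
  (M7.mk (V7.mk 10 9 5 5 7 9 5) (V7.mk 0 6 6 3 0 7 5) (V7.mk 7 5 8 5 7 9 4) (V7.mk 8 4 0 4 10 3 4) (V7.mk 5 2 7 2 3 7 9) (V7.mk 7 6 5 7 4 9 3) (V7.mk 0 10 0 7 3 6 4)),
  (M7.mk (V7.mk 7 0 7 1 8 7 3) (V7.mk 9 5 5 7 9 5 10) (V7.mk 2 7 2 3 7 9 5) (V7.mk 5 5 8 0 4 6 0) (V7.mk 6 5 7 4 9 3 7) (V7.mk 6 3 6 4 2 7 4) (V7.mk 1 0 4 8 5 7 0)),
  (M7.mk (V7.mk 6 0 9 7 3 1 1) (V7.mk 4 9 0 7 9 9 1) (V7.mk 2 1 1 3 3 1 3) (V7.mk 8 4 4 0 1 4 8) (V7.mk 1 8 7 8 5 5 9) (V7.mk 6 9 9 10 9 3 3) (V7.mk 8 0 2 4 2 0 10)),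
  (M7.mk (V7.mk 5 10 2 2 2 3 3) (V7.mk 8 5 3 2 6 4 10) (V7.mk 2 10 4 3 4 7 4) (V7.mk 0 8 3 3 10 4 10) (V7.mk 4 2 8 5 8 2 0) (V7.mk 2 10 2 10 5 10 8) (V7.mk 8 2 4 2 3 4 3)),
  (M7.mk (V7.mk 9 3 10 0 7 10 6) (V7.mk 4 6 9 8 3 5 10) (V7.mk 0 9 10 2 7 2 4) (V7.mk 9 9 8 2 10 8 6) (V7.mk 1 3 8 10 3 10 2) (V7.mk 9 9 10 0 7 0 3) (V7.mk 7 10 8 4 0 4 3)),
  (M7.mk (V7.mk 4 3 3 6 5 0 4) (V7.mk 5 6 7 5 5 7 10) (V7.mk 4 8 5 0 7 3 5) (V7.mk 5 6 4 7 1 6 6) (V7.mk 10 5 6 7 6 7 5) (V7.mk 6 3 3 3 6 8 5) (V7.mk 6 8 0 8 4 6 4)),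
  (M7.mk (V7.mk 10 8 3 1 8 1 9) (V7.mk 2 2 1 0 4 0 8) (V7.mk 4 1 3 7 0 7 8) (V7.mk 9 3 10 0 7 10 6) (V7.mk 4 6 9 8 3 5 10) (V7.mk 0 2 1 9 4 9 7) (V7.mk 9 9 8 2 10 8 6)),
  (M7.mk (V7.mk 9 7 3 4 4 6 5) (V7.mk 6 0 0 8 4 1 7) (V7.mk 8 3 0 10 7 4 7) (V7.mk 2 1 5 7 6 9 6) (V7.mk 7 5 4 8 9 9 2) (V7.mk 4 0 6 0 6 6 8) (V7.mk 9 7 6 7 3 5 7)),
  (M7.mk (V7.mk 10 10 2 2 3 0 9) (V7.mk 1 8 9 10 4 3 4) (V7.mk 9 9 0 3 3 5 4) (V7.mk 9 10 3 7 5 5 8) (V7.mk 3 7 8 6 1 9 5) (V7.mk 0 8 6 6 9 10 5) (V7.mk 2 4 4 8 6 6 7)),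
  (M7.mk (V7.mk 9 9 0 3 3 5 4) (V7.mk 9 10 3 7 5 5 8) (V7.mk 8 4 3 5 10 2 6) (V7.mk 0 8 6 6 9 10 5) (V7.mk 9 7 7 3 5 5 4) (V7.mk 1 1 9 9 8 0 2) (V7.mk 10 3 2 1 7 8 7)),
  (M7.mk (V7.mk 7 5 1 3 6 2 8) (V7.mk 10 2 2 5 6 7 5) (V7.mk 9 9 6 2 5 10 9) (V7.mk 5 9 5 9 4 5 1) (V7.mk 5 1 2 2 10 8 1) (V7.mk 9 3 9 3 9 6 10) (V7.mk 5 8 9 1 2 3 2)),
  (M7.mk (V7.mk 6 8 0 8 4 6 4) (V7.mk 7 8 8 5 6 0 7) (V7.mk 6 5 4 6 6 4 1) (V7.mk 7 3 6 0 4 8 6) (V7.mk 5 6 4 7 1 6 6) (V7.mk 10 5 6 7 6 7 5) (V7.mk 5 8 8 8 5 3 6)),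
  (M7.mk (V7.mk 6 5 4 6 6 4 1) (V7.mk 7 3 6 0 4 8 6) (V7.mk 6 5 7 4 10 5 5) (V7.mk 10 5 6 7 6 7 5) (V7.mk 6 3 3 3 6 8 5) (V7.mk 5 3 0 3 7 5 7) (V7.mk 4 3 3 6 5 0 4)),
  (M7.mk (V7.mk 9 3 6 2 0 8 4) (V7.mk 10 7 6 2 3 6 8) (V7.mk 4 5 9 3 3 1 6) (V7.mk 3 5 10 0 5 9 6) (V7.mk 4 8 5 9 4 5 7) (V7.mk 1 9 0 10 9 3 2) (V7.mk 8 10 8 10 9 7 4)),
  (M7.mk (V7.mk 8 2 4 7 9 2 6) (V7.mk 0 6 4 6 5 3 0) (V7.mk 7 6 2 5 3 7 4) (V7.mk 7 6 9 3 7 6 7) (V7.mk 3 1 6 0 7 4 0) (V7.mk 1 4 8 0 4 4 3) (V7.mk 7 2 9 6 6 6 10)),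
  (M7.mk (V7.mk 4 5 9 6 8 4 7) (V7.mk 7 6 9 3 7 6 7) (V7.mk 3 1 6 0 7 4 0) (V7.mk 10 7 3 0 7 7 8) (V7.mk 7 2 9 6 6 6 10) (V7.mk 3 9 7 4 2 9 5) (V7.mk 0 5 7 5 6 8 0)),
  (M7.mk (V7.mk 0 9 0 2 7 4 4) (V7.mk 9 2 7 7 1 10 5) (V7.mk 0 4 2 0 4 2 4) (V7.mk 9 4 0 0 7 7 2) (V7.mk 7 1 7 4 7 1 10) (V7.mk 7 1 2 7 10 5 2) (V7.mk 4 5 7 9 10 9 10)),
  (M7.mk (V7.mk 1 3 1 0 9 9 2) (V7.mk 8 1 4 2 3 5 6) (V7.mk 1 7 8 3 9 7 1) (V7.mk 0 9 3 1 5 5 6) (V7.mk 9 8 9 5 0 7 8) (V7.mk 2 5 4 6 4 4 3) (V7.mk 9 6 10 5 3 3 4)),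
  (M7.mk (V7.mk 10 4 7 7 3 0 8) (V7.mk 9 2 3 9 3 1 5) (V7.mk 3 0 1 9 1 4 5) (V7.mk 3 10 1 1 3 8 9) (V7.mk 6 8 6 4 2 8 1) (V7.mk 9 0 0 9 1 4 8) (V7.mk 9 2 9 0 1 4 7)),
  (M7.mk (V7.mk 3 1 1 10 2 9 5) (V7.mk 7 1 8 7 2 7 4) (V7.mk 8 9 9 4 8 7 3) (V7.mk 1 3 8 4 0 8 10) (V7.mk 8 1 9 3 5 9 2) (V7.mk 0 9 6 2 4 3 8) (V7.mk 1 6 9 4 8 8 6)),
  (M7.mk (V7.mk 10 3 6 9 8 4 6) (V7.mk 2 6 5 7 6 10 2) (V7.mk 6 9 6 10 2 9 9) (V7.mk 5 2 7 5 10 5 9) (V7.mk 9 2 10 3 1 6 10) (V7.mk 2 3 9 5 10 2 8) (V7.mk 9 10 9 3 9 5 8)),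
  (M7.mk (V7.mk 0 1 9 8 2 1 9) (V7.mk 9 3 8 1 5 7 6) (V7.mk 8 10 2 7 7 3 1) (V7.mk 1 0 5 2 6 3 5) (V7.mk 6 2 0 8 7 2 8) (V7.mk 6 2 4 6 7 4 8) (V7.mk 5 9 3 5 8 10 7)),
  (M7.mk (V7.mk 1 7 3 7 1 8 9) (V7.mk 7 5 6 8 2 1 8) (V7.mk 5 2 10 6 0 8 6) (V7.mk 9 8 0 2 10 10 2) (V7.mk 8 8 5 7 9 9 0) (V7.mk 6 1 2 5 8 4 3) (V7.mk 8 6 5 7 9 7 7)),
  (M7.mk (V7.mk 5 4 5 4 6 1 6) (V7.mk 0 8 4 6 4 6 8) (V7.mk 4 6 6 4 1 6 5) (V7.mk 7 4 10 5 5 6 5) (V7.mk 8 8 5 3 6 5 8) (V7.mk 3 6 5 0 4 4 3) (V7.mk 5 0 7 3 5 4 8)),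
  (M7.mk (V7.mk 8 0 6 4 3 9 9) (V7.mk 3 10 9 8 5 6 7) (V7.mk 2 8 1 2 6 1 1) (V7.mk 4 4 8 2 7 1 4) (V7.mk 4 3 9 8 8 9 7) (V7.mk 3 10 8 0 1 3 7) (V7.mk 2 3 9 5 9 1 8)),
  (M7.mk (V7.mk 6 1 8 6 2 8 4) (V7.mk 10 2 9 10 8 1 6) (V7.mk 9 2 6 6 7 5 1) (V7.mk 3 2 3 2 5 1 9) (V7.mk 9 5 2 6 1 2 9) (V7.mk 3 9 10 2 3 2 6) (V7.mk 9 6 9 7 6 10 5)),
  (M7.mk (V7.mk 4 8 1 4 8 0 7) (V7.mk 4 4 4 5 9 5 3) (V7.mk 6 1 7 2 9 5 5) (V7.mk 6 4 7 6 9 8 4) (V7.mk 2 5 8 2 4 4 2) (V7.mk 7 0 8 10 5 0 7) (V7.mk 8 0 0 5 7 6 5)),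
  (M7.mk (V7.mk 3 7 3 4 0 4 10) (V7.mk 7 2 6 2 4 2 3) (V7.mk 2 3 7 5 5 4 7) (V7.mk 5 4 0 1 0 4 8) (V7.mk 9 6 1 9 6 5 7) (V7.mk 4 5 0 5 6 8 0) (V7.mk 9 7 4 5 3 5 7)),
  (M7.mk (V7.mk 6 2 4 6 7 4 8) (V7.mk 5 9 3 5 8 10 7) (V7.mk 0 1 9 8 2 1 9) (V7.mk 9 3 8 1 5 7 6) (V7.mk 8 10 2 7 7 3 1) (V7.mk 1 0 5 2 6 3 5) (V7.mk 6 2 0 8 7 2 8)),
  (M7.mk (V7.mk 10 3 7 8 7 0 7) (V7.mk 7 9 6 10 2 6 6) (V7.mk 8 4 9 6 2 7 2) (V7.mk 0 7 6 0 5 5 8) (V7.mk 7 2 3 4 6 5 7) (V7.mk 4 2 4 4 5 8 5) (V7.mk 8 5 4 0 10 0 7)),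
  (M7.mk (V7.mk 0 6 2 5 3 5 1) (V7.mk 2 4 5 7 7 3 5) (V7.mk 1 9 3 2 10 2 0) (V7.mk 1 9 7 4 3 1 8) (V7.mk 2 0 3 7 9 3 5) (V7.mk 2 8 5 3 10 7 5) (V7.mk 8 3 1 6 7 6 9)),
  (M7.mk (V7.mk 1 9 3 2 10 2 0) (V7.mk 1 9 7 4 3 1 8) (V7.mk 9 0 8 4 2 8 6) (V7.mk 2 8 5 3 10 7 5) (V7.mk 3 8 10 5 4 5 2) (V7.mk 0 5 9 6 8 6 10) (V7.mk 9 7 6 4 4 8 6)),
  (M7.mk (V7.mk 0 7 9 7 0 4 9) (V7.mk 0 7 7 2 2 7 0) (V7.mk 7 7 1 10 4 10 7) (V7.mk 4 10 5 2 4 10 2) (V7.mk 9 1 2 1 4 5 4) (V7.mk 2 4 7 7 0 9 0) (V7.mk 4 1 10 5 2 9 7)),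
  (M7.mk (V7.mk 4 4 10 1 7 1 4) (V7.mk 4 10 5 2 4 10 2) (V7.mk 9 1 2 1 4 5 4) (V7.mk 9 7 4 4 0 2 0) (V7.mk 4 1 10 5 2 9 7) (V7.mk 0 4 2 4 0 7 2) (V7.mk 0 4 4 9 9 4 0)),
  (M7.mk (V7.mk 9 0 8 4 2 8 6) (V7.mk 9 3 6 8 1 4 6) (V7.mk 3 8 10 5 4 5 2) (V7.mk 0 6 2 5 3 5 1) (V7.mk 2 4 5 7 7 3 5) (V7.mk 10 2 8 9 1 9 0) (V7.mk 1 9 7 4 3 1 8)),
  (M7.mk (V7.mk 8 4 0 7 1 3 7) (V7.mk 5 2 7 9 8 7 2) (V7.mk 4 5 6 7 4 2 3) (V7.mk 0 1 0 7 3 5 4) (V7.mk 10 9 5 6 4 9 6) (V7.mk 0 5 5 3 0 4 5) (V7.mk 7 5 8 6 4 9 7)),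
  (M7.mk (V7.mk 8 9 1 9 6 1 1) (V7.mk 8 9 9 1 5 2 3) (V7.mk 7 9 5 6 1 5 2) (V7.mk 6 5 10 9 5 4 2) (V7.mk 5 9 1 3 9 9 8) (V7.mk 9 1 3 3 7 6 6) (V7.mk 10 5 9 9 2 6 9)),
  (M7.mk (V7.mk 1 0 4 0 8 2 2) (V7.mk 10 0 7 10 6 9 3) (V7.mk 1 9 4 9 7 0 2) (V7.mk 3 1 8 1 9 10 8) (V7.mk 3 7 0 7 8 4 1) (V7.mk 9 8 3 5 10 4 6) (V7.mk 8 2 10 8 6 9 9)),
  (M7.mk (V7.mk 5 6 0 9 8 10 6) (V7.mk 4 3 9 3 9 5 0) (V7.mk 4 3 9 5 7 5 7) (V7.mk 8 7 9 5 10 5 3) (V7.mk 2 9 1 8 1 0 9) (V7.mk 6 5 8 10 4 2 3) (V7.mk 7 1 10 7 3 8 2)),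
  (M7.mk (V7.mk 3 9 4 2 8 4 8) (V7.mk 8 5 8 9 6 7 10) (V7.mk 0 3 3 3 1 4 1) (V7.mk 2 10 9 1 5 1 8) (V7.mk 5 10 9 9 2 8 3) (V7.mk 2 10 7 8 4 4 4) (V7.mk 7 9 8 5 3 2 0)),
  (M7.mk (V7.mk 9 8 9 6 9 1 8) (V7.mk 8 0 5 4 8 2 2) (V7.mk 8 1 9 3 5 6 7) (V7.mk 9 3 1 9 6 1 1) (V7.mk 7 7 8 9 7 1 4) (V7.mk 4 3 2 8 3 2 4) (V7.mk 3 10 3 0 10 8 4)),
  (M7.mk (V7.mk 8 8 9 2 4 3 4) (V7.mk 2 3 10 9 8 5 9) (V7.mk 6 10 5 9 7 8 8) (V7.mk 4 4 10 8 4 2 7) (V7.mk 1 1 3 3 4 0 3) (V7.mk 3 0 9 5 2 7 8) (V7.mk 5 8 10 1 1 2 9)),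
  (M7.mk (V7.mk 5 1 6 2 4 3 3) (V7.mk 4 4 10 8 4 2 7) (V7.mk 1 1 3 3 4 0 3) (V7.mk 8 0 2 6 9 4 3) (V7.mk 5 8 10 1 1 2 9) (V7.mk 3 3 2 9 7 8 7) (V7.mk 9 8 1 2 3 6 2)),
  (M7.mk (V7.mk 6 0 7 7 8 3 6) (V7.mk 4 3 6 7 3 5 0) (V7.mk 6 4 5 10 5 5 4) (V7.mk 7 6 7 5 3 0 8) (V7.mk 5 4 10 5 6 4 6) (V7.mk 1 5 6 5 6 7 4) (V7.mk 6 3 5 6 3 8 8))]

def tabC22 : List M7 := [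
  (M7.mk (V7.mk 1 1 3 3 4 0 3) (V7.mk 8 0 2 6 9 4 3) (V7.mk 6 3 1 10 10 9 2) (V7.mk 3 3 2 9 7 8 7) (V7.mk 2 3 10 9 8 5 9) (V7.mk 6 10 5 9 7 8 8) (V7.mk 7 7 1 3 7 9 4)),
  (M7.mk (V7.mk 4 2 2 6 6 6 1) (V7.mk 7 5 9 8 4 5 7) (V7.mk 3 2 7 7 9 2 5) (V7.mk 8 1 5 0 7 4 0) (V7.mk 0 6 7 6 5 3 0) (V7.mk 1 7 8 0 7 7 3) (V7.mk 7 5 2 6 8 4 4)),
  (M7.mk (V7.mk 4 3 10 8 0 10 3) (V7.mk 9 3 0 5 4 3 2) (V7.mk 1 9 3 10 2 6 10) (V7.mk 4 4 3 9 3 3 9) (V7.mk 8 9 8 2 5 9 10) (V7.mk 4 3 10 9 3 6 6) (V7.mk 7 4 4 8 9 4 1)),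
  (M7.mk (V7.mk 7 0 4 9 0 4 2) (V7.mk 9 2 4 0 0 7 7) (V7.mk 10 7 10 7 7 4 10) (V7.mk 2 7 10 2 4 1 6) (V7.mk 1 7 5 4 9 10 9) (V7.mk 4 0 2 0 9 4 7) (V7.mk 6 2 2 4 7 1 10)),
  (M7.mk (V7.mk 10 7 10 7 7 4 10) (V7.mk 9 4 1 9 7 10 5) (V7.mk 1 7 5 4 9 10 9) (V7.mk 7 0 9 0 2 7 4) (V7.mk 5 9 9 7 4 10 1) (V7.mk 4 0 7 2 0 7 9) (V7.mk 9 2 4 0 0 7 7)),
  (M7.mk (V7.mk 9 0 7 0 0 0 5) (V7.mk 0 3 0 3 2 10 0) (V7.mk 4 0 6 0 0 0 2) (V7.mk 0 3 0 2 3 10 0) (V7.mk 0 9 0 8 8 1 0) (V7.mk 0 1 0 1 1 8 0) (V7.mk 6 0 2 0 0 0 4)),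
  (M7.mk (V7.mk 7 9 2 2 0 1 7) (V7.mk 9 3 10 10 10 3 3) (V7.mk 3 1 7 7 7 8 0) (V7.mk 10 5 3 6 4 9 8) (V7.mk 5 9 2 8 2 3 10) (V7.mk 3 2 0 0 9 10 4) (V7.mk 5 3 0 10 2 1 7)),
  (M7.mk (V7.mk 4 0 6 0 0 0 2) (V7.mk 0 3 0 2 3 10 0) (V7.mk 0 2 0 3 3 10 0) (V7.mk 0 1 0 1 1 8 0) (V7.mk 5 0 9 0 0 0 7) (V7.mk 2 0 4 0 0 0 6) (V7.mk 0 8 0 8 9 1 0)),
  (M7.mk (V7.mk 3 5 5 2 1 6 0) (V7.mk 10 2 2 3 0 9 10) (V7.mk 9 0 3 3 5 4 9) (V7.mk 4 3 5 10 2 6 8) (V7.mk 4 4 8 6 6 7 2) (V7.mk 3 2 1 7 8 7 10) (V7.mk 1 8 4 6 6 3 2)),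
  (M7.mk (V7.mk 1 6 0 7 7 0 8) (V7.mk 9 2 6 5 6 10 7) (V7.mk 6 4 5 5 8 0 0) (V7.mk 5 2 3 4 6 7 7) (V7.mk 7 3 0 7 4 3 1) (V7.mk 9 7 7 2 2 6 8) (V7.mk 6 2 6 3 4 7 4)),
  (M7.mk (V7.mk 10 4 1 4 7 4 1) (V7.mk 5 2 2 4 4 10 10) (V7.mk 2 4 1 9 4 1 5) (V7.mk 4 0 4 9 0 7 2) (V7.mk 10 7 5 4 2 1 9) (V7.mk 2 2 4 0 0 4 7) (V7.mk 4 0 9 0 9 4 4)),
  (M7.mk (V7.mk 2 1 4 8 7 4 4) (V7.mk 0 3 3 8 1 7 10) (V7.mk 4 9 8 6 3 9 0) (V7.mk 2 1 2 1 6 1 8) (V7.mk 8 9 4 9 8 7 3) (V7.mk 5 1 2 9 9 8 3) (V7.mk 8 6 3 9 5 7 10)),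
  (M7.mk (V7.mk 5 5 9 10 3 3 7) (V7.mk 1 1 3 9 10 2 5) (V7.mk 5 2 4 9 6 5 10) (V7.mk 2 3 5 2 1 3 9) (V7.mk 6 9 1 5 2 2 9) (V7.mk 9 8 8 2 9 1 5) (V7.mk 7 9 6 6 10 9 5)),
  (M7.mk (V7.mk 9 1 7 3 9 0 0) (V7.mk 2 10 4 5 8 0 10) (V7.mk 0 10 4 7 2 2 2) (V7.mk 1 3 3 2 3 1 1) (V7.mk 4 8 0 8 1 4 4) (V7.mk 4 2 3 10 6 3 6) (V7.mk 9 3 10 6 9 9 3)),
  (M7.mk (V7.mk 5 7 7 5 9 8 4) (V7.mk 4 0 8 1 5 0 7) (V7.mk 7 3 1 7 8 0 7) (V7.mk 6 1 4 2 2 6 6) (V7.mk 2 5 3 2 7 7 9) (V7.mk 3 0 0 6 7 6 5) (V7.mk 4 4 7 5 2 6 8)),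
  (M7.mk (V7.mk 5 10 2 3 9 3 2) (V7.mk 10 2 9 2 5 9 5) (V7.mk 8 2 6 8 9 1 9) (V7.mk 6 1 6 9 5 9 7) (V7.mk 9 8 4 5 1 3 5) (V7.mk 8 10 5 10 9 9 10) (V7.mk 7 6 10 9 9 6 6)),
  (M7.mk (V7.mk 2 4 8 4 4 5 5) (V7.mk 7 5 4 3 2 9 9) (V7.mk 6 0 0 3 7 1 4) (V7.mk 4 0 6 0 5 6 3) (V7.mk 3 8 0 10 7 7 7) (V7.mk 2 4 5 7 3 6 7) (V7.mk 2 1 5 4 5 9 5)),
  (M7.mk (V7.mk 4 3 0 5 9 10 10) (V7.mk 8 8 3 2 7 8 0) (V7.mk 7 0 2 10 3 5 1) (V7.mk 4 2 8 1 0 10 6) (V7.mk 6 3 8 7 8 4 4) (V7.mk 3 7 8 8 8 0 2) (V7.mk 3 3 4 0 8 2 3)),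
  (M7.mk (V7.mk 7 9 3 7 5 6 7) (V7.mk 8 6 4 0 1 0 7) (V7.mk 7 2 6 1 9 5 6) (V7.mk 0 4 6 0 6 6 8) (V7.mk 4 9 4 7 6 3 5) (V7.mk 10 8 7 3 4 0 7) (V7.mk 8 7 9 5 9 4 2)),
  (M7.mk (V7.mk 3 10 10 5 0 9 4) (V7.mk 9 2 10 7 9 0 4) (V7.mk 3 10 8 9 1 1 8) (V7.mk 1 7 3 3 4 4 0) (V7.mk 5 6 2 10 8 7 3) (V7.mk 9 8 8 5 9 9 1) (V7.mk 2 0 1 3 0 2 7)),
  (M7.mk (V7.mk 3 0 7 4 3 1 7) (V7.mk 2 6 5 6 10 7 9) (V7.mk 4 4 9 9 5 3 2) (V7.mk 4 5 5 8 0 0 6) (V7.mk 9 5 8 7 4 7 5) (V7.mk 9 8 7 5 4 4 6) (V7.mk 5 0 4 4 0 3 10)),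
  (M7.mk (V7.mk 6 4 9 4 7 8 6) (V7.mk 8 4 1 3 9 1 7) (V7.mk 5 3 2 10 8 7 5) (V7.mk 10 6 0 8 5 6 9) (V7.mk 0 2 1 10 9 2 3) (V7.mk 6 4 9 2 0 8 8) (V7.mk 2 5 3 4 8 5 10)),
  (M7.mk (V7.mk 6 3 8 7 8 4 4) (V7.mk 3 7 8 8 8 0 2) (V7.mk 8 8 7 0 3 9 8) (V7.mk 4 3 0 5 9 10 10) (V7.mk 3 3 8 9 4 3 0) (V7.mk 4 0 9 1 8 6 10) (V7.mk 7 9 3 10 0 1 5)),
  (M7.mk (V7.mk 6 2 1 6 4 6 2) (V7.mk 9 4 6 4 8 2 9) (V7.mk 3 7 0 6 0 5 6) (V7.mk 7 9 7 5 4 3 6) (V7.mk 6 2 4 3 4 7 6) (V7.mk 7 6 0 0 3 4 10) (V7.mk 7 8 3 0 1 7 7)),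
  (M7.mk (V7.mk 8 10 6 6 5 0 2) (V7.mk 1 0 9 9 2 1 3) (V7.mk 9 5 0 7 8 9 8) (V7.mk 7 9 8 6 5 3 10) (V7.mk 4 6 4 4 3 2 5) (V7.mk 3 8 2 4 10 10 4) (V7.mk 1 6 8 8 7 2 5)),
  (M7.mk (V7.mk 2 6 0 4 3 2 3) (V7.mk 7 9 8 6 5 3 10) (V7.mk 4 6 4 4 3 2 5) (V7.mk 8 3 9 7 1 1 7) (V7.mk 1 6 8 8 7 2 5) (V7.mk 3 1 5 5 6 0 9) (V7.mk 10 0 2 2 9 10 8)),
  (M7.mk (V7.mk 6 1 9 3 9 8 2) (V7.mk 10 2 9 9 6 9 6) (V7.mk 8 2 6 3 2 1 2) (V7.mk 6 1 6 2 6 9 4) (V7.mk 2 3 7 5 1 8 5) (V7.mk 3 1 6 10 9 2 10) (V7.mk 7 6 10 2 2 6 5)),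
  (M7.mk (V7.mk 5 8 7 8 6 10 2) (V7.mk 4 2 7 7 3 6 6) (V7.mk 7 1 3 2 1 4 3) (V7.mk 8 2 10 3 7 6 6) (V7.mk 6 0 3 5 5 9 10) (V7.mk 9 1 10 2 2 8 0) (V7.mk 4 2 9 0 3 8 6)),
  (M7.mk (V7.mk 3 3 3 1 4 1 0) (V7.mk 10 9 9 2 8 3 5) (V7.mk 2 3 6 8 9 0 4) (V7.mk 5 8 9 6 7 10 8) (V7.mk 1 2 10 6 10 3 9) (V7.mk 1 4 3 7 7 7 9) (V7.mk 2 7 9 3 7 3 8)),
  (M7.mk (V7.mk 5 2 10 5 0 8 5) (V7.mk 2 3 0 2 10 1 2) (V7.mk 3 3 6 7 9 2 0) (V7.mk 6 1 2 6 3 4 8) (V7.mk 3 5 6 7 9 4 7) (V7.mk 1 7 3 4 10 8 2) (V7.mk 7 5 6 3 9 1 3)),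
  (M7.mk (V7.mk 6 1 5 9 6 2 4) (V7.mk 2 3 4 6 1 3 5) (V7.mk 3 1 5 1 9 9 10) (V7.mk 4 5 10 2 9 6 6) (V7.mk 5 10 9 3 2 8 9) (V7.mk 10 2 2 2 6 2 6) (V7.mk 3 9 6 3 9 1 9)),
  (M7.mk (V7.mk 8 2 6 0 7 8 2) (V7.mk 10 4 2 3 6 5 8) (V7.mk 5 7 5 7 4 3 9) (V7.mk 4 8 3 9 4 10 1) (V7.mk 5 10 5 3 8 7 9) (V7.mk 2 3 1 5 6 5 0) (V7.mk 3 10 0 2 9 2 10)),
  (M7.mk (V7.mk 8 1 6 2 9 3 9) (V7.mk 10 4 3 2 0 0 9) (V7.mk 10 4 6 8 0 1 9) (V7.mk 10 4 4 2 9 9 0) (V7.mk 8 8 2 8 1 1 1) (V7.mk 8 0 3 1 7 7 7) (V7.mk 9 8 10 5 3 6 4)),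
  (M7.mk (V7.mk 6 5 5 6 4 4 10) (V7.mk 0 7 4 3 3 5 6) (V7.mk 4 5 1 6 5 7 6) (V7.mk 4 10 6 5 4 5 5) (V7.mk 8 6 6 3 3 8 5) (V7.mk 8 5 7 3 6 0 7) (V7.mk 6 7 6 8 0 3 7)),
  (M7.mk (V7.mk 8 9 0 0 9 1 4) (V7.mk 8 10 4 7 7 3 0) (V7.mk 5 3 0 1 9 1 4) (V7.mk 1 6 8 6 4 2 8) (V7.mk 7 9 2 9 0 1 4) (V7.mk 5 9 2 3 9 3 1) (V7.mk 9 3 10 1 1 3 8)),
  (M7.mk (V7.mk 0 0 9 1 4 3 2) (V7.mk 7 7 4 8 0 8 10) (V7.mk 0 10 9 1 4 6 8) (V7.mk 8 5 4 2 8 10 5) (V7.mk 2 2 0 1 4 4 2) (V7.mk 9 3 2 8 10 5 9) (V7.mk 1 1 10 8 3 9 3)),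
  (M7.mk (V7.mk 7 0 0 7 4 9 9) (V7.mk 1 4 7 4 1 10 4) (V7.mk 1 9 4 1 5 2 4) (V7.mk 6 7 9 10 2 1 4) (V7.mk 9 0 9 4 4 4 0) (V7.mk 9 7 7 1 1 6 9) (V7.mk 7 2 0 4 9 7 0)),
  (M7.mk (V7.mk 3 10 1 1 3 8 9) (V7.mk 5 3 5 7 9 3 10) (V7.mk 9 0 0 9 1 4 8) (V7.mk 2 9 2 0 10 7 4) (V7.mk 1 7 4 4 8 0 3) (V7.mk 2 9 8 2 8 10 6) (V7.mk 3 0 1 9 1 4 5)),
  (M7.mk (V7.mk 6 8 10 7 6 2 3) (V7.mk 1 6 4 5 9 3 3) (V7.mk 2 5 8 6 1 0 6) (V7.mk 5 7 4 8 5 9 4) (V7.mk 8 9 10 2 0 1 2) (V7.mk 4 7 3 1 3 1 2) (V7.mk 3 7 2 8 5 9 0)),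
  (M7.mk (V7.mk 1 6 2 9 4 4 10) (V7.mk 2 4 0 4 2 0 4) (V7.mk 7 2 9 4 0 0 7) (V7.mk 10 1 4 10 4 7 4) (V7.mk 5 2 7 1 2 7 10) (V7.mk 2 1 7 6 4 2 1) (V7.mk 7 7 0 2 0 9 4)),
  (M7.mk (V7.mk 4 7 9 2 9 0 1) (V7.mk 0 8 10 4 7 7 3) (V7.mk 1 5 9 2 3 9 3) (V7.mk 4 5 3 0 1 9 1) (V7.mk 8 9 3 10 1 1 3) (V7.mk 8 1 6 8 6 4 2) (V7.mk 4 8 9 0 0 9 1)),
  (M7.mk (V7.mk 6 5 8 8 8 5 3) (V7.mk 7 5 3 0 3 7 5) (V7.mk 4 4 3 3 6 5 0) (V7.mk 10 5 6 7 5 5 7) (V7.mk 6 7 3 6 0 4 8) (V7.mk 6 5 6 4 7 1 6) (V7.mk 6 1 6 5 4 5 4)),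
  (M7.mk (V7.mk 3 2 8 1 10 10 8) (V7.mk 3 10 5 3 5 7 9) (V7.mk 7 3 2 0 0 2 10) (V7.mk 4 7 9 2 9 0 1) (V7.mk 0 8 10 4 7 7 3) (V7.mk 10 6 2 9 8 2 8) (V7.mk 4 5 3 0 1 9 1)),
  (M7.mk (V7.mk 9 6 3 5 10 0 5) (V7.mk 5 7 4 8 5 9 4) (V7.mk 8 9 10 2 0 1 2) (V7.mk 7 4 8 10 8 10 9) (V7.mk 3 7 2 8 5 9 0) (V7.mk 5 3 1 4 5 9 8) (V7.mk 10 5 7 6 2 8 8)),
  (M7.mk (V7.mk 3 10 2 3 5 2 2) (V7.mk 7 1 8 4 9 7 7) (V7.mk 0 9 6 9 7 3 3) (V7.mk 8 9 9 7 3 7 8) (V7.mk 10 5 2 4 8 3 6) (V7.mk 10 8 3 4 0 3 10) (V7.mk 3 1 1 1 9 9 6)),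
  (M7.mk (V7.mk 4 3 0 7 7 8 1) (V7.mk 2 2 6 5 5 1 7) (V7.mk 9 4 4 9 2 6 3) (V7.mk 6 7 6 6 8 0 0) (V7.mk 5 2 6 3 7 4 4) (V7.mk 5 9 8 7 6 7 4) (V7.mk 10 6 0 7 4 0 8)),
  (M7.mk (V7.mk 9 9 3 0 6 7 3) (V7.mk 5 4 3 10 2 8 6) (V7.mk 1 1 9 3 1 9 6) (V7.mk 1 4 7 7 8 9 7) (V7.mk 9 7 7 8 9 3 8) (V7.mk 8 4 3 10 3 0 10) (V7.mk 10 3 2 3 2 5 2)),
  (M7.mk (V7.mk 10 10 2 8 10 2 5) (V7.mk 1 4 7 7 8 9 7) (V7.mk 9 7 7 8 9 3 8) (V7.mk 3 7 8 1 8 0 1) (V7.mk 10 3 2 3 2 5 2) (V7.mk 2 2 8 0 5 4 8) (V7.mk 6 7 8 1 9 3 5)),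
  (M7.mk (V7.mk 4 4 4 3 9 7 10) (V7.mk 4 8 1 8 0 10 3) (V7.mk 2 3 0 6 4 8 9) (V7.mk 1 2 8 10 9 6 10) (V7.mk 4 7 8 9 8 3 9) (V7.mk 8 2 3 2 6 9 10) (V7.mk 7 3 10 2 3 5 5)),
  (M7.mk (V7.mk 5 2 2 7 7 10 1) (V7.mk 4 0 4 2 0 7 9) (V7.mk 9 9 7 0 0 7 7) (V7.mk 1 7 10 4 7 7 1) (V7.mk 2 4 1 2 7 1 6) (V7.mk 1 4 6 4 2 10 9) (V7.mk 4 0 9 0 2 4 7)),
  (M7.mk (V7.mk 7 2 0 7 2 9 10) (V7.mk 9 10 1 3 8 1 8) (V7.mk 8 4 7 0 1 7 8) (V7.mk 10 3 7 8 6 5 2) (V7.mk 6 9 2 1 9 8 3) (V7.mk 8 0 9 7 2 0 10) (V7.mk 6 0 2 4 3 10 1)),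
  (M7.mk (V7.mk 3 4 2 5 9 7 2) (V7.mk 8 6 4 0 10 0 4) (V7.mk 0 4 6 0 5 6 3) (V7.mk 10 8 7 8 7 0 4) (V7.mk 4 2 8 7 5 5 7) (V7.mk 4 9 5 1 9 6 6) (V7.mk 4 9 4 4 5 3 6)),
  (M7.mk (V7.mk 10 0 4 1 6 9 8) (V7.mk 8 1 8 1 2 1 8) (V7.mk 2 8 3 5 1 7 6) (V7.mk 10 0 4 0 3 9 2) (V7.mk 1 2 7 2 7 0 9) (V7.mk 3 4 0 4 8 4 10) (V7.mk 3 2 10 8 5 2 9)),
  (M7.mk (V7.mk 5 4 3 2 9 9 7) (V7.mk 7 6 4 8 5 4 9) (V7.mk 0 0 3 7 1 4 6) (V7.mk 10 6 7 6 2 6 9) (V7.mk 0 5 0 6 5 8 7) (V7.mk 7 3 7 7 6 6 9) (V7.mk 8 0 10 7 7 7 3)),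
  (M7.mk (V7.mk 3 1 2 4 7 3 1) (V7.mk 1 0 6 2 5 8 6) (V7.mk 5 9 0 3 7 2 8) (V7.mk 5 9 4 5 7 4 8) (V7.mk 6 2 3 6 8 10 7) (V7.mk 0 1 2 8 9 10 2) (V7.mk 9 3 3 1 6 4 5)),
  (M7.mk (V7.mk 8 0 8 2 10 0 0) (V7.mk 8 0 9 3 10 0 0) (V7.mk 10 0 10 1 8 0 0) (V7.mk 0 4 0 0 0 6 9) (V7.mk 0 5 0 0 0 9 4) (V7.mk 2 0 3 8 1 0 0) (V7.mk 0 9 0 0 0 7 6)),
  (M7.mk (V7.mk 4 2 5 6 10 5 9) (V7.mk 6 5 1 2 5 7 2) (V7.mk 6 2 1 3 2 9 3) (V7.mk 9 1 8 8 7 5 6) (V7.mk 10 5 2 2 2 5 9) (V7.mk 8 9 10 2 6 10 1) (V7.mk 3 2 9 1 6 2 8)),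
  (M7.mk (V7.mk 6 10 6 9 4 3 3) (V7.mk 1 1 8 3 7 0 8) (V7.mk 6 3 10 10 1 2 9) (V7.mk 2 3 1 9 3 6 2) (V7.mk 7 7 10 3 4 2 7) (V7.mk 8 0 9 6 2 7 8) (V7.mk 3 3 9 9 4 3 4)),
  (M7.mk (V7.mk 4 4 1 8 7 9 4) (V7.mk 3 0 2 5 9 4 3) (V7.mk 8 8 2 2 7 8 7) (V7.mk 6 10 6 9 4 3 3) (V7.mk 1 1 8 3 7 0 8) (V7.mk 5 8 1 1 10 9 2) (V7.mk 2 3 1 9 3 6 2)),
  (M7.mk (V7.mk 1 2 10 4 6 7 2) (V7.mk 7 4 7 0 9 0 2) (V7.mk 10 1 5 9 9 7 4) (V7.mk 4 2 7 0 4 9 0) (V7.mk 7 7 9 2 4 0 0) (V7.mk 7 1 1 4 1 4 4) (V7.mk 1 6 2 7 10 2 4)),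
  (M7.mk (V7.mk 7 7 9 2 4 0 0) (V7.mk 4 10 10 7 10 7 7) (V7.mk 10 5 9 4 1 9 7) (V7.mk 10 9 1 7 5 4 9) (V7.mk 7 4 7 0 9 0 2) (V7.mk 10 1 5 9 9 7 4) (V7.mk 7 9 4 0 7 2 0)),
  (M7.mk (V7.mk 3 3 9 9 4 3 4) (V7.mk 6 10 6 9 4 3 3) (V7.mk 10 10 3 8 4 0 3) (V7.mk 6 3 10 10 1 2 9) (V7.mk 9 8 10 2 8 5 9) (V7.mk 4 4 1 8 7 9 4) (V7.mk 3 0 2 5 9 4 3)),
  (M7.mk (V7.mk 8 1 4 7 7 8 0) (V7.mk 1 5 8 6 4 9 3) (V7.mk 6 9 9 8 2 3 1) (V7.mk 3 9 0 0 2 1 4) (V7.mk 5 8 0 1 9 10 7) (V7.mk 4 9 9 2 0 1 4) (V7.mk 9 8 10 1 1 8 3)),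
  (M7.mk (V7.mk 5 2 2 3 9 8 10) (V7.mk 3 9 0 0 2 1 4) (V7.mk 5 8 0 1 9 10 7) (V7.mk 7 2 2 9 0 10 7) (V7.mk 9 8 10 1 1 8 3) (V7.mk 3 10 7 4 4 3 0) (V7.mk 10 6 3 5 7 2 8))]

def tabC23 : List M7 := [
  (M7.mk (V7.mk 1 4 8 4 7 4 9) (V7.mk 9 4 9 3 4 3 3) (V7.mk 8 8 3 1 7 1 0) (V7.mk 10 9 2 9 8 8 5) (V7.mk 9 8 6 8 2 0 7) (V7.mk 5 8 2 5 7 1 8) (V7.mk 1 2 1 5 10 8 9)),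
  (M7.mk (V7.mk 9 4 8 7 4 6 6) (V7.mk 4 5 4 8 2 2 2) (V7.mk 5 0 0 8 7 10 7) (V7.mk 7 0 6 0 5 5 8) (V7.mk 8 8 0 1 7 4 4) (V7.mk 9 4 5 4 3 5 4) (V7.mk 9 1 5 7 5 2 6)),
  (M7.mk (V7.mk 9 5 9 4 5 1 5) (V7.mk 6 10 8 5 9 3 4) (V7.mk 10 9 9 1 3 10 6) (V7.mk 9 9 6 5 4 6 1) (V7.mk 3 9 3 9 6 10 9) (V7.mk 9 6 2 5 10 9 9) (V7.mk 3 2 10 9 8 9 6)),
  (M7.mk (V7.mk 2 8 10 2 3 6 9) (V7.mk 7 4 1 8 4 2 4) (V7.mk 8 0 2 5 2 7 3) (V7.mk 3 8 2 2 4 3 7) (V7.mk 6 1 5 2 4 3 8) (V7.mk 1 10 3 8 7 0 3) (V7.mk 6 8 1 1 1 2 2)),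
  (M7.mk (V7.mk 3 7 4 5 6 2 7) (V7.mk 7 8 2 9 2 7 6) (V7.mk 0 8 7 1 7 6 0) (V7.mk 5 0 5 6 8 4 0) (V7.mk 0 1 7 7 4 3 3) (V7.mk 6 4 3 6 4 2 7) (V7.mk 6 7 5 9 6 2 10)),
  (M7.mk (V7.mk 9 8 9 1 2 0 10) (V7.mk 2 7 4 3 10 3 1) (V7.mk 0 3 7 9 8 6 2) (V7.mk 3 5 3 10 4 6 2) (V7.mk 3 10 5 4 6 9 3) (V7.mk 6 9 6 8 5 1 0) (V7.mk 7 5 7 7 8 6 2)),
  (M7.mk (V7.mk 6 4 2 10 9 1 4) (V7.mk 9 4 4 1 10 6 9) (V7.mk 7 0 0 7 7 9 9) (V7.mk 10 9 4 10 5 9 7) (V7.mk 2 0 9 7 4 7 0) (V7.mk 7 9 0 4 2 7 0) (V7.mk 10 4 7 7 1 1 7)),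
  (M7.mk (V7.mk 1 6 3 3 7 9 5) (V7.mk 3 1 6 6 6 0 9) (V7.mk 1 0 2 2 2 10 3) (V7.mk 9 5 0 4 8 2 8) (V7.mk 7 9 3 5 5 8 10) (V7.mk 7 5 4 4 8 2 6) (V7.mk 8 3 2 4 1 10 7)),
  (M7.mk (V7.mk 8 3 9 4 10 1 4) (V7.mk 10 5 3 8 7 9 5) (V7.mk 8 10 6 5 6 0 9) (V7.mk 10 0 2 9 2 10 3) (V7.mk 9 5 0 4 3 9 3) (V7.mk 7 9 8 5 6 3 1) (V7.mk 4 6 4 7 8 2 6)),
  (M7.mk (V7.mk 3 7 0 5 0 5 5) (V7.mk 4 2 4 5 4 8 6) (V7.mk 6 2 4 8 7 7 5) (V7.mk 7 6 0 0 8 4 1) (V7.mk 7 8 3 0 10 7 4) (V7.mk 5 9 10 6 4 5 2) (V7.mk 2 7 5 4 8 9 9)),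
  (M7.mk (V7.mk 8 7 4 6 6 9 4) (V7.mk 0 1 7 4 4 8 8) (V7.mk 7 3 9 9 9 7 6) (V7.mk 5 4 3 5 4 9 4) (V7.mk 0 3 4 1 4 6 0) (V7.mk 6 4 6 9 5 2 10) (V7.mk 5 0 6 6 3 4 0)),
  (M7.mk (V7.mk 6 4 6 9 5 2 10) (V7.mk 5 0 6 6 3 4 0) (V7.mk 8 7 4 6 6 9 4) (V7.mk 0 1 7 4 4 8 8) (V7.mk 7 3 9 9 9 7 6) (V7.mk 5 4 3 5 4 9 4) (V7.mk 0 3 4 1 4 6 0)),
  (M7.mk (V7.mk 9 5 4 1 8 5 3) (V7.mk 8 7 7 7 2 10 4) (V7.mk 8 1 4 1 0 8 3) (V7.mk 5 8 9 0 7 9 3) (V7.mk 10 5 1 8 9 1 9) (V7.mk 9 8 4 8 8 2 4) (V7.mk 2 2 8 3 6 1 9)),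
  (M7.mk (V7.mk 1 6 5 4 6 6 4) (V7.mk 6 7 3 6 0 4 8) (V7.mk 5 6 5 7 4 10 5) (V7.mk 5 10 5 6 7 6 7) (V7.mk 5 6 3 3 3 6 8) (V7.mk 7 5 3 0 3 7 5) (V7.mk 4 4 3 3 6 5 0)),
  (M7.mk (V7.mk 6 7 9 2 0 3 3) (V7.mk 2 6 3 4 8 6 1) (V7.mk 6 7 9 4 7 3 5) (V7.mk 3 4 10 8 2 1 7) (V7.mk 6 3 9 1 3 7 5) (V7.mk 10 5 0 8 5 5 2) (V7.mk 0 2 10 1 2 2 3)),
  (M7.mk (V7.mk 3 9 3 10 10 10 3) (V7.mk 0 3 1 7 7 7 8) (V7.mk 8 10 5 3 6 4 9) (V7.mk 10 5 9 2 8 2 3) (V7.mk 4 3 2 0 0 9 10) (V7.mk 7 5 3 0 10 2 1) (V7.mk 7 7 9 2 2 0 1)),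
  (M7.mk (V7.mk 2 9 2 6 2 1 5) (V7.mk 1 2 5 10 1 8 2) (V7.mk 9 10 6 9 3 8 2) (V7.mk 6 6 1 5 9 4 9) (V7.mk 10 2 6 7 2 6 6) (V7.mk 10 3 9 9 3 6 9) (V7.mk 8 3 7 6 5 2 1)),
  (M7.mk (V7.mk 5 7 3 6 7 2 4) (V7.mk 8 4 4 5 5 2 4) (V7.mk 0 3 7 1 4 6 0) (V7.mk 0 10 7 7 7 3 8) (V7.mk 5 4 5 9 5 2 1) (V7.mk 4 3 2 9 9 7 5) (V7.mk 6 0 5 6 3 4 0)),
  (M7.mk (V7.mk 2 9 0 3 8 6 4) (V7.mk 2 10 3 7 6 6 8) (V7.mk 8 7 8 6 10 2 5) (V7.mk 0 3 5 5 9 10 6) (V7.mk 2 7 7 3 6 6 4) (V7.mk 1 10 2 2 8 0 9) (V7.mk 1 3 2 1 4 3 7)),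
  (M7.mk (V7.mk 8 7 8 6 10 2 5) (V7.mk 0 8 6 6 2 1 5) (V7.mk 2 7 7 3 6 6 4) (V7.mk 10 1 9 9 3 0 2) (V7.mk 10 8 9 10 7 8 4) (V7.mk 9 2 0 8 3 5 7) (V7.mk 2 10 3 7 6 6 8)),
  (M7.mk (V7.mk 9 0 8 3 10 0 0) (V7.mk 1 0 1 10 3 0 0) (V7.mk 0 9 0 0 0 7 6) (V7.mk 0 4 0 0 0 6 9) (V7.mk 3 0 3 9 1 0 0) (V7.mk 0 5 0 0 0 9 4) (V7.mk 3 0 2 8 1 0 0)),
  (M7.mk (V7.mk 0 2 0 0 0 4 5) (V7.mk 0 4 0 0 0 6 9) (V7.mk 8 0 8 2 10 0 0) (V7.mk 0 6 0 0 0 2 7) (V7.mk 8 0 9 3 10 0 0) (V7.mk 9 0 8 3 10 0 0) (V7.mk 1 0 1 10 3 0 0)),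
  (M7.mk (V7.mk 6 5 6 0 9 8 10) (V7.mk 0 4 3 9 3 9 5) (V7.mk 7 4 3 9 5 7 5) (V7.mk 3 8 7 9 5 10 5) (V7.mk 9 2 9 1 8 1 0) (V7.mk 3 6 5 8 10 4 2) (V7.mk 2 7 1 10 7 3 8)),
  (M7.mk (V7.mk 6 2 1 8 8 4 6) (V7.mk 2 4 9 6 5 10 5) (V7.mk 9 1 5 2 2 9 6) (V7.mk 2 5 5 1 2 6 4) (V7.mk 1 3 9 10 2 5 1) (V7.mk 8 6 9 10 8 2 9) (V7.mk 3 3 9 2 10 6 2)),
  (M7.mk (V7.mk 10 0 8 8 8 10 7) (V7.mk 8 2 10 9 1 5 1) (V7.mk 3 5 10 9 9 2 8) (V7.mk 7 9 1 4 3 7 7) (V7.mk 0 7 9 8 5 3 2) (V7.mk 3 8 2 7 9 3 7) (V7.mk 1 3 6 3 2 5 4)),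
  (M7.mk (V7.mk 9 8 2 10 8 6 9) (V7.mk 2 1 0 4 0 8 2) (V7.mk 8 1 0 4 1 5 2) (V7.mk 2 1 9 4 9 7 0) (V7.mk 3 8 10 3 10 2 1) (V7.mk 10 8 4 0 4 3 7) (V7.mk 5 2 3 8 6 1 7)),
  (M7.mk (V7.mk 0 9 0 9 7 7 4) (V7.mk 4 10 7 4 4 1 1) (V7.mk 9 2 4 4 1 1 5) (V7.mk 7 1 9 4 10 6 2) (V7.mk 0 4 9 0 4 9 4) (V7.mk 7 6 7 9 1 9 1) (V7.mk 2 7 0 0 4 7 9)),
  (M7.mk (V7.mk 10 4 8 3 2 7 10) (V7.mk 9 6 1 6 3 8 4) (V7.mk 0 2 3 1 6 5 5) (V7.mk 1 3 10 0 9 2 2) (V7.mk 9 8 2 6 0 4 8) (V7.mk 8 1 7 9 3 6 6) (V7.mk 9 6 4 6 7 4 8)),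
  (M7.mk (V7.mk 0 9 7 8 1 10 5) (V7.mk 9 0 4 9 2 1 4) (V7.mk 1 10 8 3 10 3 2) (V7.mk 4 7 0 1 7 8 8) (V7.mk 3 7 8 6 5 2 10) (V7.mk 2 9 10 2 3 8 5) (V7.mk 0 9 7 2 0 10 8)),
  (M7.mk (V7.mk 8 2 1 2 0 1 2) (V7.mk 7 7 3 10 3 10 9) (V7.mk 3 4 9 8 6 9 0) (V7.mk 6 3 1 7 5 2 3) (V7.mk 1 5 7 5 2 3 3) (V7.mk 9 5 8 5 1 0 5) (V7.mk 6 7 4 3 5 2 7)),
  (M7.mk (V7.mk 0 0 10 0 10 10 3) (V7.mk 7 5 0 9 0 0 0) (V7.mk 6 2 0 4 0 0 0) (V7.mk 0 0 3 0 3 2 10) (V7.mk 2 4 0 6 0 0 0) (V7.mk 0 0 8 0 9 8 1) (V7.mk 0 0 9 0 8 8 1)),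
  (M7.mk (V7.mk 2 4 4 3 5 6 4) (V7.mk 1 8 9 1 7 3 7) (V7.mk 9 10 3 4 6 5 3) (V7.mk 0 3 5 6 9 1 5) (V7.mk 1 1 9 2 3 0 9) (V7.mk 9 9 0 8 8 5 7) (V7.mk 8 4 3 6 1 2 5)),
  (M7.mk (V7.mk 8 1 3 6 2 2 9) (V7.mk 2 2 6 5 5 7 1) (V7.mk 6 8 9 7 1 5 8) (V7.mk 1 2 8 6 9 10 10) (V7.mk 9 6 4 10 2 5 5) (V7.mk 3 3 6 2 2 9 1) (V7.mk 9 2 10 2 5 5 2)),
  (M7.mk (V7.mk 10 0 7 3 6 4 0) (V7.mk 4 0 4 10 3 4 8) (V7.mk 2 6 6 4 2 6 1) (V7.mk 2 7 2 3 7 9 5) (V7.mk 5 5 8 0 4 6 0) (V7.mk 5 6 4 7 2 8 4) (V7.mk 6 3 6 4 2 7 4)),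
  (M7.mk (V7.mk 9 5 5 7 9 5 10) (V7.mk 2 7 2 3 7 9 5) (V7.mk 5 5 8 0 4 6 0) (V7.mk 6 5 7 4 9 3 7) (V7.mk 6 3 6 4 2 7 4) (V7.mk 1 0 4 8 5 7 0) (V7.mk 7 0 7 1 8 7 3)),
  (M7.mk (V7.mk 8 5 3 2 6 4 10) (V7.mk 2 10 4 3 4 7 4) (V7.mk 0 8 3 3 10 4 10) (V7.mk 4 2 8 5 8 2 0) (V7.mk 2 10 2 10 5 10 8) (V7.mk 8 2 4 2 3 4 3) (V7.mk 5 10 2 2 2 3 3)),
  (M7.mk (V7.mk 6 0 0 8 4 1 7) (V7.mk 8 3 0 10 7 4 7) (V7.mk 2 1 5 7 6 9 6) (V7.mk 7 5 4 8 9 9 2) (V7.mk 4 0 6 0 6 6 8) (V7.mk 9 7 6 7 3 5 7) (V7.mk 9 7 3 4 4 6 5)),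
  (M7.mk (V7.mk 5 3 0 0 5 7 5) (V7.mk 4 4 8 1 7 3 0) (V7.mk 3 7 7 7 5 9 6) (V7.mk 6 6 1 7 9 2 5) (V7.mk 7 6 4 7 5 2 8) (V7.mk 9 2 5 8 9 7 4) (V7.mk 7 4 0 3 10 5 0)),
  (M7.mk (V7.mk 1 7 3 0 6 9 1) (V7.mk 1 7 0 9 10 8 5) (V7.mk 7 5 3 8 4 8 7) (V7.mk 3 3 8 7 0 3 2) (V7.mk 0 8 3 8 2 4 8) (V7.mk 6 4 9 3 1 0 10) (V7.mk 9 8 7 8 3 8 0)),
  (M7.mk (V7.mk 7 8 8 5 6 0 7) (V7.mk 6 5 4 6 6 4 1) (V7.mk 7 3 6 0 4 8 6) (V7.mk 5 6 4 7 1 6 6) (V7.mk 10 5 6 7 6 7 5) (V7.mk 5 8 8 8 5 3 6) (V7.mk 6 8 0 8 4 6 4)),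
  (M7.mk (V7.mk 0 4 2 7 0 7 9) (V7.mk 9 1 2 10 7 5 7) (V7.mk 0 4 4 2 2 4 0) (V7.mk 2 4 7 4 0 9 0) (V7.mk 7 7 1 1 7 10 4) (V7.mk 4 1 10 6 9 9 4) (V7.mk 7 1 6 2 4 1 2)),
  (M7.mk (V7.mk 9 3 4 6 4 4 5) (V7.mk 4 7 2 2 5 3 9) (V7.mk 6 0 4 4 0 8 10) (V7.mk 4 6 6 3 0 0 5) (V7.mk 8 0 7 4 8 10 7) (V7.mk 2 5 8 7 7 4 5) (V7.mk 9 6 5 6 1 4 9)),
  (M7.mk (V7.mk 0 8 4 6 4 6 8) (V7.mk 4 6 6 4 1 6 5) (V7.mk 7 4 10 5 5 6 5) (V7.mk 8 8 5 3 6 5 8) (V7.mk 3 6 5 0 4 4 3) (V7.mk 5 0 7 3 5 4 8) (V7.mk 5 4 5 4 6 1 6)),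
  (M7.mk (V7.mk 4 4 4 5 9 5 3) (V7.mk 6 1 7 2 9 5 5) (V7.mk 6 4 7 6 9 8 4) (V7.mk 2 5 8 2 4 4 2) (V7.mk 7 0 8 10 5 0 7) (V7.mk 8 0 0 5 7 6 5) (V7.mk 4 8 1 4 8 0 7)),
  (M7.mk (V7.mk 2 6 9 7 2 8 7) (V7.mk 7 0 1 0 7 8 6) (V7.mk 5 0 6 5 8 0 4) (V7.mk 7 3 7 0 4 1 3) (V7.mk 3 7 6 6 4 4 2) (V7.mk 5 10 9 6 6 7 2) (V7.mk 4 7 5 3 6 7 2)),
  (M7.mk (V7.mk 3 9 3 2 5 10 2) (V7.mk 8 9 1 9 8 2 6) (V7.mk 5 1 3 5 9 8 4) (V7.mk 9 9 6 6 7 6 10) (V7.mk 2 5 9 5 10 2 9) (V7.mk 9 5 9 7 6 1 6) (V7.mk 10 9 9 10 8 10 5)),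
  (M7.mk (V7.mk 2 3 10 9 8 5 9) (V7.mk 6 10 5 9 7 8 8) (V7.mk 4 4 10 8 4 2 7) (V7.mk 1 1 3 3 4 0 3) (V7.mk 3 0 9 5 2 7 8) (V7.mk 5 8 10 1 1 2 9) (V7.mk 8 8 9 2 4 3 4)),
  (M7.mk (V7.mk 4 4 10 8 4 2 7) (V7.mk 1 1 3 3 4 0 3) (V7.mk 8 0 2 6 9 4 3) (V7.mk 5 8 10 1 1 2 9) (V7.mk 3 3 2 9 7 8 7) (V7.mk 9 8 1 2 3 6 2) (V7.mk 5 1 6 2 4 3 3)),
  (M7.mk (V7.mk 5 8 6 5 8 3 3) (V7.mk 5 0 4 4 3 8 5) (V7.mk 7 8 5 4 8 6 0) (V7.mk 6 4 5 10 5 5 4) (V7.mk 7 6 7 5 3 0 8) (V7.mk 6 7 1 6 5 7 5) (V7.mk 1 5 6 5 6 7 4)),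
  (M7.mk (V7.mk 8 0 2 6 9 4 3) (V7.mk 6 3 1 10 10 9 2) (V7.mk 3 3 2 9 7 8 7) (V7.mk 2 3 10 9 8 5 9) (V7.mk 6 10 5 9 7 8 8) (V7.mk 7 7 1 3 7 9 4) (V7.mk 1 1 3 3 4 0 3)),
  (M7.mk (V7.mk 9 2 4 0 0 7 7) (V7.mk 10 7 10 7 7 4 10) (V7.mk 2 7 10 2 4 1 6) (V7.mk 1 7 5 4 9 10 9) (V7.mk 4 0 2 0 9 4 7) (V7.mk 6 2 2 4 7 1 10) (V7.mk 7 0 4 9 0 4 2)),
  (M7.mk (V7.mk 9 4 1 9 7 10 5) (V7.mk 1 7 5 4 9 10 9) (V7.mk 7 0 9 0 2 7 4) (V7.mk 5 9 9 7 4 10 1) (V7.mk 4 0 7 2 0 7 9) (V7.mk 9 2 4 0 0 7 7) (V7.mk 10 7 10 7 7 4 10)),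
  (M7.mk (V7.mk 0 2 0 3 3 10 0) (V7.mk 0 1 0 1 1 8 0) (V7.mk 6 0 2 0 0 0 4) (V7.mk 2 0 4 0 0 0 6) (V7.mk 0 3 0 3 2 10 0) (V7.mk 7 0 5 0 0 0 9) (V7.mk 0 8 0 9 8 1 0)),
  (M7.mk (V7.mk 9 8 7 8 3 8 0) (V7.mk 1 7 3 0 6 9 1) (V7.mk 1 7 0 9 10 8 5) (V7.mk 7 5 3 8 4 8 7) (V7.mk 3 3 8 7 0 3 2) (V7.mk 0 8 3 8 2 4 8) (V7.mk 6 4 9 3 1 0 10)),
  (M7.mk (V7.mk 10 5 3 3 4 9 6) (V7.mk 3 1 5 5 6 0 9) (V7.mk 10 0 2 2 9 10 8) (V7.mk 9 5 0 7 8 9 8) (V7.mk 7 9 8 6 5 3 10) (V7.mk 7 5 7 7 8 9 6) (V7.mk 3 8 2 4 10 10 4)),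
  (M7.mk (V7.mk 7 9 8 6 5 3 10) (V7.mk 4 6 4 4 3 2 5) (V7.mk 8 3 9 7 1 1 7) (V7.mk 1 6 8 8 7 2 5) (V7.mk 3 1 5 5 6 0 9) (V7.mk 10 0 2 2 9 10 8) (V7.mk 2 6 0 4 3 2 3)),
  (M7.mk (V7.mk 5 4 5 3 0 8 4) (V7.mk 5 6 6 5 7 7 1) (V7.mk 0 4 7 8 8 6 5) (V7.mk 4 5 1 6 5 7 6) (V7.mk 4 10 6 5 4 5 5) (V7.mk 3 5 5 8 8 3 6) (V7.mk 8 5 7 3 6 0 7)),
  (M7.mk (V7.mk 3 5 5 8 8 3 6) (V7.mk 8 5 7 3 6 0 7) (V7.mk 5 4 5 3 0 8 4) (V7.mk 5 6 6 5 7 7 1) (V7.mk 0 4 7 8 8 6 5) (V7.mk 4 5 1 6 5 7 6) (V7.mk 4 10 6 5 4 5 5)),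
  (M7.mk (V7.mk 8 6 4 0 10 0 4) (V7.mk 0 4 6 0 5 6 3) (V7.mk 10 8 7 8 7 0 4) (V7.mk 4 2 8 7 5 5 7) (V7.mk 4 9 5 1 9 6 6) (V7.mk 4 9 4 4 5 3 6) (V7.mk 3 4 2 5 9 7 2)),
  (M7.mk (V7.mk 3 0 2 5 9 4 3) (V7.mk 8 8 2 2 7 8 7) (V7.mk 6 10 6 9 4 3 3) (V7.mk 1 1 8 3 7 0 8) (V7.mk 5 8 1 1 10 9 2) (V7.mk 2 3 1 9 3 6 2) (V7.mk 4 4 1 8 7 9 4)),
  (M7.mk (V7.mk 6 7 10 6 6 4 6) (V7.mk 6 3 6 6 8 3 3) (V7.mk 4 3 5 7 8 6 0) (V7.mk 4 5 7 6 3 0 8) (V7.mk 1 5 5 5 5 4 7) (V7.mk 5 0 7 4 8 3 6) (V7.mk 5 7 5 1 5 5 4)),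
  (M7.mk (V7.mk 5 0 6 6 3 4 0) (V7.mk 8 7 4 6 6 9 4) (V7.mk 0 1 7 4 4 8 8) (V7.mk 7 3 9 9 9 7 6) (V7.mk 5 4 3 5 4 9 4) (V7.mk 0 3 4 1 4 6 0) (V7.mk 6 4 6 9 5 2 10)),
  (M7.mk (V7.mk 9 0 4 2 7 0 7) (V7.mk 7 9 1 2 10 7 5) (V7.mk 0 0 4 4 2 2 4) (V7.mk 0 2 4 7 4 0 9) (V7.mk 4 7 7 1 1 7 10) (V7.mk 4 4 1 10 6 9 9) (V7.mk 2 7 1 6 2 4 1)),
  (M7.mk (V7.mk 8 3 8 7 0 8 2) (V7.mk 0 3 8 3 2 4 3) (V7.mk 5 4 9 3 10 0 10) (V7.mk 2 8 7 8 8 3 0) (V7.mk 10 7 3 0 5 2 1) (V7.mk 1 4 0 2 10 8 6) (V7.mk 7 6 8 3 4 8 4))]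

def tabC24 : List M7 := [
  (M7.mk (V7.mk 2 3 9 3 2 5 10) (V7.mk 6 8 9 1 9 8 2) (V7.mk 4 5 1 3 5 9 8) (V7.mk 10 9 9 6 6 7 6) (V7.mk 9 2 5 9 5 10 2) (V7.mk 6 9 5 9 7 6 1) (V7.mk 5 10 9 9 10 8 10)),
  (M7.mk (V7.mk 4 8 4 7 4 9 1) (V7.mk 7 2 8 7 8 8 2) (V7.mk 8 3 1 7 1 0 8) (V7.mk 2 9 2 3 3 6 1) (V7.mk 3 5 3 9 0 4 2) (V7.mk 3 9 6 4 10 3 6) (V7.mk 2 1 5 10 8 9 1)),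
  (M7.mk (V7.mk 2 1 10 7 3 0 5) (V7.mk 8 4 7 6 8 3 4) (V7.mk 4 3 0 3 8 3 2) (V7.mk 3 0 2 8 7 8 8) (V7.mk 8 6 1 4 0 2 10) (V7.mk 8 2 8 3 8 7 0) (V7.mk 0 10 5 4 9 3 10)),
  (M7.mk (V7.mk 0 1 0 1 1 8 0) (V7.mk 6 0 2 0 0 0 4) (V7.mk 2 0 4 0 0 0 6) (V7.mk 0 3 0 3 2 10 0) (V7.mk 7 0 5 0 0 0 9) (V7.mk 0 8 0 9 8 1 0) (V7.mk 0 2 0 3 3 10 0))]

def tabL : List (List M7) := [tabC0, tabC1, tabC2, tabC3, tabC4, tabC5, tabC6, tabC7, tabC8, tabC9, tabC10, tabC11, tabC12, tabC13, tabC14, tabC15, tabC16, tabC17, tabC18, tabC19, tabC20, tabC21, tabC22, tabC23, tabC24]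

/-- The transversal. -/
def tab (i : ℕ) : M7 := get2 tabL one7 i

def pgL : List (List ℕ) := [
  [0, 0, 1, 0, 1, 0, 1, 0, 1, 0, 1, 0, 1, 0, 1, 1, 0, 1, 0, 1, 0, 1, 1, 1, 0, 1, 0, 1, 0, 1, 0, 1, 0, 1, 0, 1, 0, 1, 0, 1, 0, 1, 0, 1, 0, 1, 0, 1, 0, 1, 0, 1, 0, 1, 1, 1, 0, 1, 0, 1, 0, 1, 0, 1],
  [0, 1, 0, 1, 0, 1, 1, 0, 1, 0, 0, 0, 1, 0, 1, 0, 1, 0, 1, 0, 1, 0, 1, 0, 1, 0, 1, 0, 1, 0, 1, 0, 0, 1, 0, 1, 0, 1, 0, 1, 0, 1, 0, 1, 0, 1, 0, 1, 0, 0, 1, 0, 1, 0, 1, 0, 1, 0, 1, 0, 1, 0, 1, 0],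
  [1, 0, 1, 0, 1, 0, 1, 0, 0, 1, 0, 1, 1, 0, 0, 1, 0, 1, 0, 1, 0, 0, 1, 0, 1, 0, 1, 0, 1, 0, 1, 0, 1, 0, 1, 0, 0, 1, 0, 1, 0, 1, 0, 1, 0, 0, 1, 0, 1, 0, 1, 0, 0, 1, 0, 1, 0, 1, 0, 1, 0, 1, 0, 1],
  [0, 1, 0, 1, 0, 1, 0, 1, 0, 1, 0, 1, 0, 1, 0, 1, 1, 0, 1, 0, 1, 0, 0, 1, 0, 1, 1, 0, 1, 0, 1, 0, 1, 0, 1, 0, 1, 0, 1, 1, 0, 1, 0, 1, 0, 1, 0, 1, 0, 1, 0, 1, 0, 1, 0, 1, 0, 1, 0, 1, 0, 1, 0, 1],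
  [0, 1, 0, 1, 0, 1, 0, 1, 0, 1, 0, 1, 1, 0, 1, 0, 1, 0, 1, 0, 1, 0, 0, 1, 1, 0, 1, 0, 1, 0, 1, 0, 0, 0, 1, 0, 1, 0, 1, 0, 1, 0, 1, 0, 1, 0, 1, 0, 1, 0, 1, 0, 1, 0, 1, 0, 1, 0, 1, 0, 1, 0, 1, 0],
  [0, 0, 1, 0, 1, 0, 1, 0, 1, 0, 1, 0, 1, 0, 0, 1, 0, 1, 0, 1, 0, 1, 0, 1, 0, 1, 0, 1, 0, 1, 0, 1, 0, 1, 0, 1, 0, 1, 0, 0, 1, 0, 1, 0, 0, 1, 1, 1, 0, 1, 0, 1, 0, 0, 1, 0, 1, 0, 1, 0, 1, 0, 1, 1],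
  [0, 1, 0, 1, 1, 0, 1, 0, 1, 0, 0, 1, 0, 1, 0, 1, 0, 1, 0, 1, 0, 1, 0, 1, 0, 0, 0, 0, 1, 0, 0, 0, 1, 1, 0, 1, 0, 1, 0, 1, 0, 1, 0, 1, 0, 0, 1, 0, 0, 1, 0, 1, 0, 1, 0, 1, 0, 1, 0, 1, 0, 1, 0, 1],
  [0, 1, 0, 1, 0, 0, 1, 0, 1, 0, 1, 0, 1, 0, 1, 0, 0, 1, 0, 1, 0, 1, 0, 1, 0, 0, 1, 0, 1, 0, 1, 1, 1, 0, 1, 0, 1, 0, 1, 0, 1, 0, 1, 0, 0, 1, 0, 1, 0, 1, 1, 0, 1, 1, 0, 1, 0, 1, 0, 1, 0, 1, 0, 1],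
  [1, 0, 1, 0, 1, 0, 1, 0, 1, 0, 1, 0, 0, 0, 1, 0, 1, 0, 1, 0, 1, 0, 1, 1, 1, 0, 1, 0, 0, 1, 0, 1, 0, 1, 0, 1, 1, 0, 0, 1, 0, 1, 0, 1, 0, 1, 0, 0, 1, 1, 1, 0, 1, 0, 1, 1, 0, 1, 0, 1, 0, 1, 0, 1],
  [0, 1, 0, 1, 0, 1, 0, 1, 0, 0, 0, 1, 0, 1, 0, 0, 0, 1, 0, 1, 0, 1, 0, 1, 0, 1, 0, 1, 0, 0, 1, 1, 1, 0, 1, 0, 1, 0, 1, 0, 1, 0, 1, 0, 0, 1, 1, 0, 1, 0, 1, 0, 1, 0, 0, 1, 0, 1, 0, 1, 0, 1, 0, 0],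
  [0, 1, 0, 1, 0, 0, 1, 0, 1, 1, 1, 0, 1, 1, 0, 1, 0, 1, 0, 1, 0, 1, 0, 1, 1, 0, 0, 1, 0, 0, 1, 0, 1, 0, 0, 1, 0, 1, 1, 0, 1, 0, 1, 0, 1, 0, 1, 0, 1, 0, 1, 1, 0, 1, 0, 0, 1, 0, 1, 0, 1, 0, 1, 0],
  [1, 0, 1, 0, 1, 0, 0, 1, 0, 1, 0, 0, 1, 1, 0, 1, 0, 1, 0, 0, 1, 0, 0, 1, 1, 1, 0, 1, 0, 1, 1, 0, 1, 0, 0, 0, 1, 0, 1, 1, 0, 1, 0, 1, 1, 0, 1, 0, 1, 0, 1, 0, 0, 0, 1, 0, 1, 0, 1, 0, 1, 0, 1, 0],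
  [1, 1, 0, 1, 0, 0, 1, 0, 1, 0, 1, 0, 1, 0, 1, 0, 1, 1, 0, 1, 0, 1, 1, 0, 1, 0, 0, 1, 0, 1, 1, 0, 1, 0, 1, 0, 0, 1, 0, 1, 1, 0, 1, 0, 1, 0, 0, 1, 0, 1, 0, 1, 0, 1, 0, 1, 0, 1, 0, 0, 1, 0, 1, 0],
  [0, 0, 1, 1, 0, 1, 0, 0, 0, 1, 0, 1, 0, 1, 0, 0, 1, 1, 0, 0, 1, 0, 0, 1, 1, 1, 0, 1, 0, 0, 1, 0, 1, 1, 0, 0, 1, 0, 1, 0, 1, 0, 1, 0, 1, 1, 0, 1, 0, 1, 0, 0, 0, 0, 1, 0, 1, 0, 1, 0, 1, 1, 0, 1],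
  [0, 1, 0, 1, 0, 1, 0, 1, 0, 1, 0, 0, 1, 0, 0, 1, 0, 0, 0, 0, 1, 0, 1, 1, 1, 0, 0, 1, 1, 0, 1, 1, 0, 1, 0, 0, 1, 0, 1, 0, 1, 0, 1, 0, 0, 1, 0, 1, 0, 1, 0, 0, 1, 0, 1, 1, 1, 0, 1, 0, 1, 0, 1, 1],
  [0, 1, 1, 0, 1, 0, 1, 0, 1, 0, 1, 0, 1, 0, 1, 0, 1, 1, 0, 1, 0, 0, 1, 0, 1, 0, 1, 1, 0, 1, 1, 0, 0, 1, 0, 1, 1, 1, 0, 1, 0, 1, 0, 1, 0, 1, 0, 0, 0, 1, 0, 1, 0, 1, 0, 0, 1, 0, 1, 0, 0, 1, 0, 1],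
  [0, 0, 1, 0, 1, 0, 1, 0, 0, 1, 0, 1, 0, 1, 0, 0, 0, 0, 1, 0, 1, 0, 1, 1, 0, 1, 0, 1, 0, 1, 0, 1, 0, 1, 0, 0, 1, 1, 0, 1, 0, 0, 0, 1, 0, 0, 0, 0, 1, 1, 0, 1, 0, 1, 0, 1, 0, 1, 0, 0, 1, 0, 1, 0],
  [1, 0, 1, 0, 1, 0, 0, 1, 0, 1, 1, 1, 0, 1, 0, 1, 0, 1, 0, 1, 0, 1, 0, 0, 0, 0, 0, 1, 0, 0, 1, 0, 0, 1, 0, 1, 0, 1, 0, 1, 0, 1, 0, 1, 1, 0, 1, 0, 1, 0, 1, 0, 1, 0, 0, 1, 0, 1, 0, 0, 1, 0, 1, 0],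
  [1, 0, 1, 0, 1, 0, 1, 0, 1, 1, 0, 0, 0, 1, 1, 0, 1, 0, 1, 0, 1, 0, 0, 0, 1, 0, 1, 0, 0, 0, 1, 0, 1, 0, 1, 1, 1, 1, 0, 1, 0, 1, 0, 0, 1, 0, 1, 0, 1, 0, 1, 1, 0, 1, 1, 0, 1, 0, 1, 0, 1, 1, 1, 0],
  [1, 1, 1, 0, 1, 1, 0, 1, 0, 1, 0, 0, 0, 1, 1, 0, 1, 0, 0, 1, 0, 1, 0, 1, 0, 0, 1, 0, 0, 0, 1, 1, 0, 1, 0, 0, 1, 0, 1, 0, 1, 0, 1, 0, 1, 0, 1, 0, 1, 1, 0, 0, 0, 1, 0, 1, 0, 1, 1, 1, 1, 0, 1, 1],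
  [1, 0, 0, 1, 1, 0, 0, 1, 1, 0, 1, 1, 0, 0, 1, 1, 1, 0, 0, 1, 0, 1, 0, 0, 0, 1, 1, 0, 1, 1, 1, 0, 0, 0, 1, 0, 1, 0, 0, 1, 0, 1, 0, 0, 1, 0, 1, 0, 0, 0, 1, 0, 0, 1, 0, 1, 1, 0, 0, 1, 1, 0, 0, 1],
  [1, 0, 1, 0, 0, 1, 1, 1, 0, 0, 1, 0, 1, 0, 1, 1, 1, 0, 0, 0, 0, 1, 1, 0, 0, 1, 0, 0, 0, 0, 1, 0, 0, 0, 1, 0, 0, 1, 0, 0, 1, 1, 1, 0, 1, 1, 1, 0, 1, 1, 0, 0, 1, 0, 0, 1, 1, 0, 1, 1, 1, 1, 0, 1],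
  [0, 1, 1, 0, 0, 0, 1, 0, 0, 0, 1, 1, 1, 1, 0, 1, 1, 0, 0, 1, 1, 1, 0, 0, 1, 0, 1, 1, 1, 0, 1, 1, 0, 1, 1, 0, 1, 0, 0, 0, 0, 1, 0, 1, 0, 0, 1, 0, 0, 1, 1, 1, 0, 1, 1, 1, 0, 0, 0, 1, 0, 0, 1, 0],
  [1, 1, 0, 1, 1, 1, 1, 1, 0, 1, 1, 0, 1, 0, 0, 1, 0, 1, 0, 0, 0, 0, 1, 0, 0, 0, 1, 0, 1, 1, 1, 1, 0, 1, 0, 0, 0, 1, 1, 0, 1, 1, 0, 0, 1, 1, 0, 0, 1, 0, 0, 0, 1, 1, 1, 0, 1, 1, 0, 0, 1, 0, 1, 1],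
  [1, 1, 1, 0]]

def piL : List (List ℕ) := [
  [0, 0, 0, 1, 1, 2, 2, 3, 3, 4, 4, 5, 5, 6, 6, 7, 8, 8, 9, 9, 10, 10, 11, 12, 13, 13, 14, 14, 15, 15, 16, 16, 17, 17, 18, 18, 19, 19, 20, 20, 21, 21, 22, 22, 23, 23, 24, 24, 25, 25, 26, 26, 27, 28, 29, 30, 31, 31, 32, 32, 33, 33, 34, 34],
  [35, 35, 36, 36, 37, 37, 38, 39, 39, 40, 41, 42, 42, 43, 43, 44, 44, 45, 45, 46, 46, 47, 47, 48, 48, 49, 49, 50, 50, 51, 51, 52, 53, 53, 54, 54, 55, 55, 56, 56, 57, 57, 58, 58, 59, 59, 60, 60, 61, 63, 63, 64, 64, 65, 65, 66, 66, 67, 67, 68, 68, 69, 69, 70],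
  [70, 71, 71, 72, 72, 73, 73, 74, 75, 75, 76, 76, 77, 78, 79, 79, 80, 80, 81, 81, 82, 83, 83, 84, 84, 85, 85, 86, 86, 87, 87, 88, 88, 89, 89, 90, 91, 91, 92, 92, 93, 93, 94, 94, 95, 96, 96, 97, 97, 98, 98, 99, 100, 100, 101, 101, 102, 102, 103, 103, 104, 104, 105, 105],
  [106, 106, 107, 107, 108, 108, 109, 109, 110, 110, 111, 111, 112, 113, 114, 114, 115, 116, 116, 117, 117, 118, 119, 119, 120, 120, 121, 122, 122, 123, 123, 124, 124, 125, 125, 127, 127, 128, 128, 129, 130, 130, 131, 131, 132, 132, 133, 133, 134, 134, 135, 136, 137, 137, 138, 138, 139, 139, 140, 140, 141, 142, 143, 143],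
  [144, 144, 145, 145, 146, 146, 147, 147, 148, 149, 150, 150, 151, 152, 152, 153, 153, 154, 154, 155, 155, 156, 157, 157, 158, 159, 159, 160, 160, 161, 161, 162, 163, 164, 164, 165, 165, 166, 166, 167, 167, 168, 168, 169, 169, 170, 170, 171, 171, 173, 173, 174, 175, 176, 176, 177, 177, 178, 178, 180, 180, 181, 181, 182],
  [183, 184, 184, 185, 185, 186, 186, 187, 187, 188, 188, 189, 189, 190, 192, 192, 193, 193, 194, 194, 195, 195, 196, 196, 197, 197, 198, 198, 199, 199, 200, 200, 201, 201, 202, 202, 203, 203, 204, 205, 205, 206, 206, 207, 208, 208, 209, 210, 211, 211, 212, 212, 213, 214, 214, 215, 215, 216, 216, 217, 217, 218, 218, 219],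
  [220, 220, 221, 221, 222, 223, 223, 224, 224, 225, 226, 226, 227, 227, 228, 228, 229, 229, 230, 230, 231, 231, 232, 232, 233, 234, 235, 236, 236, 237, 238, 239, 239, 240, 241, 241, 243, 243, 244, 244, 245, 245, 246, 246, 247, 248, 248, 249, 251, 251, 252, 252, 253, 253, 254, 254, 255, 255, 256, 256, 257, 257, 258, 258],
  [259, 259, 260, 260, 261, 263, 265, 266, 266, 267, 267, 268, 268, 269, 269, 270, 271, 271, 272, 272, 273, 273, 274, 274, 275, 276, 276, 277, 278, 279, 279, 280, 281, 282, 282, 283, 283, 284, 284, 285, 285, 286, 286, 287, 288, 288, 289, 289, 290, 290, 291, 292, 292, 293, 294, 294, 295, 295, 296, 296, 297, 297, 298, 298],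
  [299, 300, 300, 301, 302, 303, 303, 304, 305, 307, 307, 308, 309, 310, 312, 313, 313, 314, 314, 316, 316, 317, 317, 318, 319, 320, 321, 322, 323, 323, 324, 324, 325, 325, 326, 326, 327, 328, 329, 329, 330, 330, 331, 331, 332, 332, 333, 334, 334, 335, 336, 337, 337, 338, 338, 339, 340, 340, 341, 342, 343, 343, 344, 344],
  [345, 345, 346, 346, 347, 347, 348, 348, 349, 350, 351, 351, 352, 352, 353, 354, 355, 355, 356, 356, 359, 359, 360, 360, 361, 361, 362, 362, 363, 364, 364, 366, 367, 368, 368, 369, 369, 370, 370, 371, 371, 372, 372, 373, 374, 374, 375, 376, 376, 377, 377, 378, 378, 380, 381, 381, 382, 382, 383, 383, 384, 384, 385, 386],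
  [387, 387, 388, 388, 389, 390, 390, 391, 391, 392, 394, 395, 395, 396, 397, 397, 398, 398, 399, 399, 400, 400, 401, 401, 402, 403, 404, 404, 405, 406, 406, 407, 407, 408, 409, 409, 410, 410, 411, 412, 412, 413, 415, 416, 416, 417, 417, 418, 418, 419, 419, 420, 421, 421, 422, 423, 423, 424, 424, 426, 426, 427, 427, 428],
  [428, 429, 429, 430, 430, 431, 432, 432, 433, 433, 434, 435, 435, 436, 437, 437, 438, 438, 439, 440, 440, 441, 442, 442, 443, 444, 445, 445, 446, 446, 447, 448, 448, 449, 450, 451, 451, 453, 453, 454, 455, 455, 456, 456, 457, 459, 459, 460, 460, 461, 461, 462, 463, 464, 464, 465, 465, 466, 466, 467, 467, 468, 468, 469],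
  [469, 470, 471, 471, 472, 474, 476, 477, 478, 480, 480, 481, 481, 482, 482, 483, 483, 484, 485, 485, 486, 487, 488, 489, 489, 490, 491, 491, 493, 493, 495, 496, 496, 497, 497, 498, 499, 499, 500, 500, 501, 502, 502, 503, 503, 504, 507, 508, 509, 509, 510, 510, 511, 511, 513, 513, 514, 514, 515, 516, 516, 517, 517, 518],
  [519, 520, 520, 521, 522, 522, 523, 524, 527, 527, 528, 528, 531, 531, 532, 534, 534, 535, 537, 538, 539, 540, 541, 541, 542, 544, 545, 545, 546, 547, 547, 548, 548, 549, 550, 551, 551, 552, 552, 553, 553, 555, 555, 556, 558, 560, 561, 561, 562, 562, 563, 564, 565, 566, 566, 568, 568, 569, 569, 570, 570, 571, 572, 572],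
  [573, 573, 574, 574, 575, 575, 576, 576, 577, 577, 578, 579, 579, 580, 581, 581, 582, 583, 584, 585, 586, 587, 587, 588, 589, 590, 591, 591, 592, 593, 593, 594, 595, 595, 596, 597, 597, 598, 600, 601, 601, 602, 603, 604, 605, 605, 606, 606, 607, 607, 608, 609, 609, 610, 612, 613, 614, 615, 615, 616, 616, 617, 620, 621],
  [622, 622, 623, 625, 625, 626, 626, 627, 627, 628, 628, 629, 630, 631, 631, 632, 632, 633, 636, 637, 639, 641, 641, 642, 643, 644, 644, 645, 646, 646, 647, 649, 650, 651, 652, 652, 653, 654, 655, 655, 656, 656, 657, 657, 658, 658, 659, 660, 662, 662, 663, 663, 664, 664, 667, 668, 668, 669, 669, 670, 671, 671, 672, 672],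
  [673, 674, 674, 675, 675, 676, 676, 677, 678, 678, 679, 679, 680, 680, 682, 683, 684, 685, 685, 687, 687, 688, 688, 689, 692, 694, 695, 696, 698, 698, 700, 701, 702, 702, 703, 704, 704, 705, 706, 706, 707, 708, 710, 710, 711, 714, 715, 717, 717, 718, 719, 719, 720, 720, 721, 721, 722, 723, 724, 725, 726, 728, 728, 729],
  [729, 733, 733, 734, 734, 735, 738, 739, 740, 740, 741, 745, 746, 746, 747, 747, 748, 748, 749, 749, 750, 750, 751, 752, 753, 754, 757, 757, 761, 762, 765, 767, 768, 768, 770, 770, 772, 774, 775, 776, 777, 777, 778, 778, 779, 780, 780, 781, 781, 782, 782, 783, 783, 784, 785, 785, 787, 787, 788, 789, 789, 790, 791, 792],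
  [793, 796, 796, 798, 798, 801, 801, 802, 804, 805, 809, 810, 811, 811, 813, 815, 815, 818, 818, 819, 819, 820, 821, 822, 822, 823, 823, 824, 826, 827, 827, 828, 828, 829, 829, 830, 833, 834, 836, 836, 837, 840, 843, 845, 845, 846, 847, 848, 848, 849, 852, 854, 856, 857, 859, 861, 861, 863, 864, 865, 865, 866, 867, 868],
  [868, 869, 870, 871, 871, 873, 874, 874, 878, 878, 879, 880, 882, 882, 883, 884, 885, 886, 887, 887, 888, 888, 889, 889, 890, 892, 892, 893, 894, 895, 895, 896, 898, 898, 899, 900, 900, 901, 901, 902, 902, 903, 903, 904, 906, 907, 907, 909, 909, 910, 911, 912, 916, 916, 917, 917, 919, 919, 924, 926, 928, 929, 929, 930],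
  [933, 934, 935, 935, 936, 937, 941, 941, 942, 943, 943, 944, 945, 946, 947, 949, 950, 951, 953, 953, 954, 954, 957, 960, 961, 962, 963, 964, 965, 966, 967, 968, 969, 970, 970, 972, 972, 973, 974, 974, 975, 975, 976, 977, 985, 986, 987, 990, 993, 994, 994, 995, 996, 1000, 1001, 1001, 1002, 1003, 1004, 1004, 1005, 1006, 1007, 1007],
  [1008, 1009, 1012, 1013, 1014, 1015, 1017, 1020, 1021, 1022, 1022, 1023, 1026, 1028, 1028, 1032, 1033, 1035, 1036, 1040, 1045, 1045, 1046, 1048, 1049, 1049, 1050, 1051, 1055, 1056, 1063, 1067, 1068, 1071, 1071, 1072, 1073, 1073, 1078, 1081, 1081, 1086, 1087, 1091, 1091, 1092, 1093, 1096, 1097, 1101, 1107, 1108, 1108, 1109, 1110, 1111, 1117, 1118, 1118, 1119, 1124, 1128,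 1129, 1129],
  [1130, 1130, 1132, 1133, 1135, 1136, 1136, 1137, 1142, 1145, 1151, 1152, 1154, 1158, 1159, 1162, 1168, 1169, 1170, 1172, 1175, 1177, 1180, 1181, 1181, 1182, 1182, 1186, 1187, 1188, 1193, 1195, 1202, 1202, 1203, 1204, 1205, 1212, 1215, 1216, 1217, 1217, 1219, 1223, 1225, 1227, 1234, 1235, 1237, 1237, 1239, 1241, 1243, 1243, 1244, 1246, 1248, 1249, 1251, 1251, 1253, 1255, 1255, 1256],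
  [1260, 1269, 1271, 1271, 1273, 1282, 1287, 1288, 1289, 1289, 1290, 1296, 1299, 1300, 1303, 1303, 1309, 1310, 1311, 1312, 1317, 1320, 1333, 1335, 1336, 1338, 1339, 1341, 1345, 1352, 1353, 1357, 1360, 1364, 1365, 1367, 1371, 1372, 1374, 1375, 1376, 1379, 1387, 1390, 1398, 1402, 1405, 1406, 1406, 1408, 1411, 1412, 1412, 1420, 1431, 1433, 1440, 1452, 1459, 1466, 1472, 1483, 1485, 1489],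
  [1494, 1504, 1505, 1524]]

def pg (i : ℕ) : ℕ := get2 pgL 0 i

def pi (i : ℕ) : ℕ := get2 piL 0 i

def cjxL : List (List ℕ) := [
  [1, 3, 5, 7, 9, 11, 13, 2, 16, 18, 20, 0, 6, 24, 26, 28, 30, 32, 34, 36, 38, 40, 42, 44, 46, 48, 50, 52, 4, 21, 22, 56, 58, 60, 62, 64, 66, 68, 54, 71, 73, 74, 75, 77, 79, 81, 83, 85, 87, 89, 91, 93, 95, 96, 98, 100, 102, 104, 106, 108, 110, 112, 15, 113],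
  [115, 117, 119, 121, 123, 125, 127, 129, 131, 133, 135, 136, 138, 111, 141, 142, 144, 146, 148, 149, 151, 153, 155, 157, 159, 161, 163, 164, 166, 168, 170, 172, 173, 175, 177, 179, 180, 182, 184, 186, 188, 190, 192, 194, 196, 198, 200, 202, 204, 178, 206, 70, 209, 211, 213, 214, 216, 101, 219, 221, 223, 225, 99, 227],
  [229, 226, 232, 234, 236, 238, 240, 242, 8, 244, 246, 248, 250, 252, 92, 254, 256, 258, 260, 262, 264, 12, 266, 51, 269, 271, 273, 275, 277, 278, 210, 281, 283, 285, 287, 288, 289, 291, 293, 295, 297, 299, 301, 303, 191, 305, 307, 286, 309, 311, 313, 41, 315, 317, 319, 320, 321, 323, 325, 327, 329, 331, 333, 310],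
  [334, 336, 338, 340, 342, 344, 346, 348, 350, 352, 354, 356, 358, 359, 361, 363, 364, 259, 49, 368, 370, 372, 373, 375, 377, 379, 381, 120, 384, 386, 316, 389, 391, 393, 394, 396, 398, 400, 402, 404, 406, 408, 409, 410, 411, 413, 414, 415, 39, 418, 126, 420, 422, 424, 426, 428, 429, 431, 324, 432, 434, 436, 438, 440],
  [442, 444, 446, 448, 450, 452, 201, 453, 61, 290, 455, 457, 459, 461, 463, 464, 466, 468, 470, 472, 473, 475, 165, 477, 353, 292, 481, 483, 485, 487, 489, 491, 492, 494, 496, 25, 499, 23, 502, 504, 506, 508, 510, 189, 513, 515, 193, 517, 519, 312, 280, 521, 523, 524, 525, 10, 239, 527, 529, 261, 531, 533, 505, 387],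
  [537, 351, 539, 540, 542, 544, 546, 267, 549, 550, 552, 554, 556, 558, 559, 171, 59, 563, 565, 551, 568, 570, 302, 572, 574, 576, 578, 580, 582, 584, 585, 586, 588, 590, 591, 592, 594, 57, 82, 596, 598, 600, 602, 604, 605, 207, 88, 174, 609, 611, 613, 615, 617, 619, 620, 124, 623, 625, 627, 511, 629, 630, 632, 634],
  [636, 638, 639, 640, 642, 644, 645, 647, 561, 583, 134, 651, 35, 654, 656, 658, 660, 662, 579, 665, 666, 668, 669, 671, 673, 674, 676, 347, 679, 681, 29, 53, 683, 685, 687, 689, 147, 692, 694, 695, 697, 403, 699, 701, 703, 705, 707, 709, 710, 712, 714, 715, 140, 718, 720, 722, 723, 725, 726, 456, 548, 730, 732, 581],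
  [735, 737, 738, 739, 530, 741, 439, 744, 746, 593, 507, 749, 751, 753, 755, 756, 757, 759, 761, 763, 765, 767, 160, 770, 772, 488, 773, 162, 279, 775, 397, 691, 777, 779, 781, 783, 300, 786, 788, 158, 479, 791, 793, 794, 682, 796, 14, 150, 799, 801, 803, 804, 806, 547, 809, 811, 813, 764, 621, 814, 84, 816, 818, 820],
  [284, 822, 824, 826, 827, 829, 831, 832, 833, 263, 836, 838, 839, 27, 421, 840, 842, 233, 55, 844, 846, 374, 847, 253, 69, 850, 851, 462, 853, 854, 535, 139, 296, 858, 860, 861, 863, 326, 866, 867, 869, 871, 566, 873, 875, 328, 486, 17, 335, 878, 880, 882, 883, 884, 885, 702, 887, 889, 891, 688, 894, 896, 898, 900],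
  [902, 904, 906, 907, 909, 910, 912, 913, 914, 915, 31, 917, 243, 789, 921, 922, 80, 925, 501, 928, 930, 931, 933, 608, 881, 935, 937, 923, 939, 940, 942, 944, 946, 947, 949, 721, 589, 255, 553, 953, 955, 957, 876, 19, 641, 103, 960, 230, 650, 963, 965, 967, 969, 971, 222, 973, 975, 888, 879, 185, 978, 686, 690, 980],
  [67, 981, 983, 603, 985, 675, 988, 235, 792, 991, 992, 664, 994, 774, 704, 998, 1000, 1002, 1004, 1006, 1007, 932, 1008, 1010, 1012, 599, 962, 1014, 1015, 1017, 1019, 1020, 1022, 1024, 1025, 1027, 1029, 1031, 1032, 1034, 1036, 743, 1038, 1039, 1040, 1041, 706, 1043, 1045, 562, 249, 520, 1048, 498, 493, 1050, 835, 637, 1052, 451, 1054, 892, 1056, 1058],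
  [1059, 941, 1062, 1064, 1065, 1042, 1066, 1068, 659, 314, 1069, 1070, 474, 1071, 601, 1074, 1076, 1078, 1080, 1016, 1082, 1083, 355, 926, 1085, 1087, 959, 208, 445, 1089, 1091, 1093, 449, 825, 1094, 76, 1096, 367, 130, 380, 618, 257, 1100, 1102, 1104, 1106, 1108, 1110, 1111, 1112, 1113, 318, 982, 1114, 1097, 308, 107, 1116, 1117, 1057, 322, 648, 500, 1119],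
  [1120, 471, 1122, 1099, 1124, 1077, 412, 1126, 557, 1128, 1130, 1118, 1133, 1135, 1137, 1139, 1141, 1142, 859, 1144, 1146, 1147, 1149, 919, 1151, 677, 156, 63, 1153, 1061, 1155, 435, 667, 1157, 1159, 736, 366, 469, 823, 118, 958, 1162, 1163, 1164, 979, 643, 1084, 1167, 195, 936, 1169, 1171, 1173, 1174, 1175, 1177, 1179, 693, 1180, 1181, 1183, 1185, 945, 490],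
  [176, 276, 405, 1063, 1190, 1192, 990, 304, 795, 1018, 430, 1194, 218, 1195, 1197, 587, 1199, 1201, 349, 999, 541, 862, 294, 1013, 1204, 729, 997, 1140, 776, 1207, 1156, 1209, 545, 1211, 357, 268, 1215, 815, 371, 1219, 996, 484, 1222, 769, 495, 86, 1224, 1226, 1227, 670, 1228, 417, 1231, 169, 1233, 1234, 1236, 1238, 1240, 976, 1241, 1243, 1244, 1245],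
  [1221, 1176, 1248, 1250, 1251, 1253, 1255, 1257, 1259, 961, 597, 1261, 564, 1263, 228, 1266, 1267, 536, 183, 33, 1268, 1270, 964, 1272, 1256, 1053, 43, 167, 864, 1011, 655, 938, 534, 1277, 797, 109, 986, 337, 1281, 1282, 646, 1285, 1275, 849, 678, 1286, 1152, 1289, 1158, 1292, 1293, 1264, 1212, 497, 575, 1297, 819, 1298, 1300, 1214, 934, 1302, 754, 145],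
  [1303, 1304, 812, 122, 1307, 929, 1196, 1271, 1311, 1312, 1313, 237, 1315, 1317, 1318, 1320, 1322, 1323, 1276, 1229, 37, 181, 927, 1134, 1037, 215, 1325, 1073, 728, 995, 1327, 872, 698, 1328, 1329, 1331, 1332, 748, 798, 984, 447, 1334, 778, 1337, 1338, 1278, 1341, 1342, 390, 1345, 1326, 187, 522, 1347, 1348, 948, 212, 1262, 1047, 114, 1193, 1352, 1353, 1355],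
  [713, 1316, 1269, 401, 1357, 224, 1172, 1291, 731, 437, 733, 1361, 1362, 1208, 1079, 612, 1363, 1098, 385, 696, 343, 1364, 1299, 423, 1367, 1368, 1370, 1371, 1280, 1258, 362, 1372, 1373, 661, 956, 821, 745, 1230, 245, 241, 1154, 1090, 606, 1375, 1376, 1127, 265, 1377, 1379, 1380, 663, 458, 865, 1189, 1382, 90, 1178, 1383, 1310, 628, 771, 1381, 1340, 443],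
  [1321, 653, 1306, 1387, 1046, 1138, 45, 1033, 1391, 1246, 908, 1075, 857, 1239, 341, 700, 924, 1232, 339, 1394, 1395, 1397, 1398, 1168, 970, 1166, 47, 1150, 830, 1343, 1401, 573, 1160, 905, 332, 727, 877, 952, 1390, 78, 785, 1406, 1408, 911, 968, 1411, 1392, 1412, 1413, 1415, 116, 274, 1274, 1105, 1416, 1290, 330, 1417, 105, 416, 920, 610, 392, 154],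
  [251, 137, 1350, 1123, 635, 790, 897, 1422, 874, 1414, 852, 532, 972, 624, 916, 787, 1132, 1425, 1426, 918, 1186, 848, 478, 555, 895, 1161, 1188, 1247, 1430, 1431, 1433, 1067, 708, 560, 1273, 1324, 1437, 1410, 395, 1385, 1427, 1287, 649, 1346, 1434, 993, 1220, 217, 128, 365, 1440, 1435, 1443, 987, 1213, 203, 1314, 1060, 784, 143, 1445, 298, 1365, 1446],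
  [1447, 1448, 1388, 1450, 1184, 805, 1295, 1279, 1421, 1452, 680, 1453, 360, 231, 205, 760, 886, 1210, 509, 1455, 1386, 1456, 1205, 1009, 1088, 717, 1358, 1460, 1109, 607, 1030, 802, 1464, 1465, 345, 1466, 1301, 1468, 870, 1469, 1471, 684, 306, 1148, 1237, 376, 742, 132, 65, 1336, 1136, 977, 808, 1187, 595, 1474, 97, 758, 512, 270, 1170, 1225, 1023, 571],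
  [1165, 247, 1095, 1454, 503, 1103, 543, 1049, 1351, 1480, 1409, 518, 272, 425, 716, 1418, 1483, 1335, 1475, 1107, 1485, 1131, 807, 1486, 1051, 369, 1198, 1125, 1021, 1488, 780, 1490, 1491, 152, 538, 1330, 72, 1492, 1081, 567, 1493, 1458, 747, 199, 1260, 467, 1389, 465, 810, 1203, 1284, 1476, 843, 1143, 901, 1495, 1496, 1001, 1497, 1432, 652, 1499, 1200, 622],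
  [890, 1484, 1202, 989, 1424, 800, 528, 966, 711, 1419, 1308, 1309, 750, 1235, 1449, 740, 1504, 378, 383, 1249, 1501, 1506, 1444, 1507, 407, 1502, 841, 1508, 954, 1218, 1396, 1511, 1354, 427, 1457, 1092, 569, 817, 1399, 1402, 1459, 388, 1477, 1514, 1319, 1393, 1515, 856, 1191, 719, 1072, 1242, 1400, 1044, 893, 1305, 516, 1428, 1217, 282, 526, 1518, 1519, 1378],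
  [1521, 1509, 1294, 1522, 1523, 1252, 766, 1296, 1462, 1461, 768, 1182, 626, 1115, 514, 382, 1429, 1206, 220, 631, 1403, 1349, 94, 1374, 1288, 1527, 1339, 1086, 1520, 454, 943, 1525, 1463, 828, 1423, 1359, 633, 834, 1407, 614, 974, 1356, 1216, 1384, 1420, 1487, 1101, 1360, 1026, 1505, 1513, 1530, 460, 951, 480, 1489, 1512, 903, 1531, 1494, 1003, 899, 950, 577],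
  [1503, 1517, 1035, 1254, 855, 1366, 1441, 1528, 1529, 1405, 782, 1533, 1283, 1472, 762, 419, 1526, 845, 752, 441, 837, 1442, 399, 1145, 1532, 1467, 1536, 1535, 1028, 1223, 1498, 1055, 1500, 868, 1473, 1404, 1121, 1524, 1369, 1478, 197, 1344, 1129, 476, 482, 616, 1265, 734, 1537, 1534, 724, 1538, 1539, 1510, 1005, 672, 1438, 1479, 1436, 1470, 1481, 1482, 657, 433],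
  [1439, 1451, 1516, 1333]]

def cexL : List (List ℕ) := [
  [0, 0, 0, 0, 0, 0, 0, 18, 0, 0, 0, 1, 4, 0, 0, 0, 0, 0, 0, 0, 0, 0, 0, 0, 0, 0, 0, 0, 6, 6, 5, 0, 0, 0, 0, 0, 0, 0, 14, 0, 0, 0, 0, 0, 0, 0, 0, 0, 0, 0, 0, 0, 0, 0, 0, 0, 0, 0, 0, 0, 0, 0, 6, 0],
  [0, 0, 0, 0, 0, 0, 0, 0, 0, 0, 0, 0, 0, 2, 0, 0, 0, 0, 0, 0, 0, 0, 0, 0, 0, 0, 0, 0, 0, 0, 0, 0, 0, 0, 0, 0, 0, 0, 0, 0, 0, 0, 0, 0, 0, 0, 0, 0, 0, 7, 0, 12, 0, 0, 0, 0, 0, 8, 0, 0, 0, 0, 1, 0],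
  [0, 13, 0, 0, 0, 0, 0, 0, 5, 0, 0, 0, 0, 0, 2, 0, 0, 0, 0, 0, 0, 4, 0, 6, 0, 0, 0, 0, 0, 0, 5, 0, 0, 0, 0, 0, 0, 0, 0, 0, 0, 0, 0, 0, 7, 0, 0, 15, 0, 0, 0, 8, 0, 0, 0, 0, 0, 0, 0, 0, 0, 0, 0, 6],
  [0, 0, 0, 0, 0, 0, 0, 0, 0, 0, 0, 0, 0, 0, 0, 0, 0, 15, 8, 0, 0, 0, 0, 0, 0, 0, 0, 15, 0, 0, 4, 0, 0, 0, 0, 0, 0, 0, 0, 0, 0, 0, 0, 0, 0, 0, 0, 0, 13, 0, 7, 0, 0, 0, 0, 0, 0, 0, 7, 0, 0, 0, 0, 0],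
  [0, 0, 0, 0, 0, 0, 7, 0, 7, 6, 0, 0, 0, 0, 0, 0, 0, 0, 0, 0, 0, 0, 6, 0, 13, 14, 0, 0, 0, 0, 0, 0, 0, 0, 0, 6, 0, 17, 0, 0, 0, 0, 0, 7, 0, 0, 18, 0, 0, 1, 15, 0, 0, 0, 0, 5, 8, 0, 0, 0, 0, 0, 14, 13],
  [0, 7, 0, 0, 0, 0, 0, 18, 0, 0, 0, 0, 0, 0, 0, 12, 7, 0, 0, 6, 0, 0, 1, 0, 0, 0, 0, 0, 0, 0, 0, 0, 0, 0, 0, 0, 0, 6, 7, 0, 0, 0, 0, 0, 0, 7, 3, 11, 0, 0, 0, 0, 0, 0, 0, 6, 0, 0, 0, 3, 0, 0, 0, 0],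
  [0, 0, 0, 0, 0, 0, 0, 0, 12, 4, 7, 0, 12, 0, 0, 0, 0, 0, 5, 0, 0, 0, 0, 0, 0, 0, 0, 17, 0, 0, 13, 7, 0, 0, 0, 0, 5, 0, 0, 0, 0, 5, 0, 0, 0, 0, 0, 0, 0, 0, 0, 0, 5, 0, 0, 0, 0, 0, 0, 5, 0, 0, 0, 11],
  [0, 0, 0, 0, 7, 0, 1, 0, 0, 5, 4, 0, 0, 0, 0, 0, 0, 0, 0, 0, 0, 0, 9, 0, 0, 17, 0, 17, 11, 0, 0, 3, 0, 0, 0, 0, 15, 0, 0, 11, 16, 0, 0, 0, 16, 0, 0, 6, 0, 0, 0, 0, 0, 12, 0, 0, 0, 13, 9, 0, 6, 0, 0, 0],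
  [4, 0, 0, 0, 0, 0, 0, 0, 0, 9, 0, 0, 0, 1, 7, 0, 0, 1, 11, 0, 0, 12, 0, 7, 3, 0, 0, 18, 0, 0, 6, 18, 18, 0, 0, 0, 0, 10, 0, 0, 0, 0, 9, 0, 0, 16, 18, 0, 7, 0, 0, 0, 0, 0, 0, 9, 0, 0, 0, 9, 0, 0, 0, 0],
  [0, 0, 0, 0, 0, 0, 0, 0, 0, 0, 7, 0, 17, 17, 0, 0, 7, 0, 9, 0, 0, 0, 0, 11, 12, 0, 0, 10, 0, 0, 0, 0, 0, 0, 0, 3, 10, 3, 2, 0, 0, 0, 6, 0, 10, 14, 0, 3, 3, 0, 0, 0, 0, 0, 10, 0, 0, 8, 8, 8, 0, 1, 12, 0],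
  [6, 0, 0, 2, 0, 13, 0, 13, 4, 0, 0, 6, 0, 11, 5, 0, 0, 0, 0, 0, 0, 6, 0, 0, 0, 11, 15, 0, 0, 0, 0, 0, 0, 0, 0, 0, 0, 0, 0, 0, 0, 5, 0, 0, 0, 0, 6, 0, 0, 11, 11, 10, 0, 14, 0, 0, 6, 17, 0, 5, 0, 5, 0, 0],
  [0, 15, 0, 0, 0, 9, 0, 0, 14, 9, 0, 0, 9, 0, 17, 0, 0, 0, 0, 3, 0, 0, 7, 16, 0, 0, 13, 13, 11, 0, 0, 0, 16, 2, 0, 5, 0, 14, 17, 6, 5, 2, 0, 0, 0, 0, 0, 0, 0, 0, 0, 14, 1, 0, 15, 5, 8, 0, 0, 1, 4, 6, 4, 0],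
  [0, 7, 0, 11, 0, 18, 5, 0, 18, 0, 0, 15, 0, 0, 0, 0, 0, 0, 14, 0, 0, 0, 0, 2, 0, 4, 14, 15, 0, 16, 0, 7, 10, 0, 0, 17, 3, 13, 1, 5, 2, 0, 0, 0, 3, 9, 2, 0, 8, 17, 0, 0, 0, 0, 0, 0, 0, 6, 0, 0, 0, 0, 9, 17],
  [5, 5, 14, 7, 0, 0, 8, 5, 7, 1, 6, 0, 3, 0, 0, 1, 0, 0, 6, 10, 8, 12, 18, 14, 0, 1, 10, 8, 13, 0, 6, 0, 18, 0, 9, 18, 0, 7, 14, 0, 3, 18, 0, 4, 7, 1, 0, 0, 0, 11, 0, 1, 0, 1, 0, 0, 0, 0, 0, 7, 0, 0, 0, 0],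
  [14, 9, 0, 0, 0, 0, 0, 0, 0, 11, 3, 0, 17, 0, 14, 0, 0, 6, 6, 0, 0, 0, 14, 0, 14, 9, 17, 9, 4, 11, 11, 9, 0, 0, 5, 14, 15, 12, 0, 0, 9, 0, 7, 6, 0, 0, 3, 0, 8, 0, 0, 17, 3, 1, 18, 0, 11, 0, 0, 11, 7, 0, 13, 15],
  [0, 0, 11, 15, 0, 10, 18, 14, 0, 0, 0, 11, 0, 0, 0, 0, 0, 0, 16, 0, 0, 2, 16, 16, 9, 6, 0, 6, 18, 16, 0, 14, 18, 0, 0, 0, 0, 9, 11, 12, 4, 0, 18, 0, 0, 8, 0, 0, 11, 0, 6, 4, 11, 0, 0, 14, 3, 17, 13, 18, 8, 0, 0, 0],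
  [12, 9, 16, 12, 0, 10, 18, 0, 15, 15, 15, 0, 0, 6, 13, 13, 0, 9, 7, 13, 15, 0, 5, 16, 0, 0, 0, 0, 6, 8, 1, 0, 0, 14, 15, 16, 9, 7, 17, 8, 17, 13, 15, 0, 0, 18, 18, 0, 0, 0, 3, 0, 0, 11, 0, 10, 13, 0, 4, 4, 5, 15, 18, 11],
  [17, 6, 5, 0, 11, 4, 0, 12, 0, 17, 0, 12, 8, 2, 17, 7, 18, 10, 17, 0, 0, 0, 0, 3, 10, 11, 0, 17, 0, 3, 0, 11, 18, 18, 2, 2, 8, 1, 12, 1, 10, 0, 0, 16, 3, 0, 18, 0, 0, 0, 12, 15, 11, 12, 0, 0, 1, 0, 1, 16, 2, 8, 4, 14],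
  [6, 0, 7, 6, 9, 9, 3, 0, 6, 15, 0, 10, 18, 11, 18, 6, 14, 0, 0, 16, 18, 4, 12, 5, 13, 2, 1, 6, 0, 0, 0, 0, 16, 8, 0, 6, 0, 11, 7, 3, 4, 0, 8, 6, 8, 0, 18, 13, 14, 12, 0, 18, 0, 1, 3, 16, 9, 15, 13, 0, 0, 7, 7, 0],
  [0, 0, 5, 0, 6, 6, 18, 5, 13, 0, 4, 0, 11, 12, 0, 1, 0, 18, 1, 0, 4, 0, 3, 11, 4, 7, 6, 0, 13, 10, 10, 14, 0, 0, 15, 0, 2, 0, 0, 0, 0, 7, 1, 15, 16, 12, 0, 17, 17, 9, 3, 12, 1, 5, 8, 0, 5, 0, 18, 6, 13, 6, 4, 14],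
  [4, 18, 6, 6, 16, 7, 11, 13, 16, 0, 1, 10, 10, 5, 6, 5, 0, 4, 15, 10, 0, 7, 5, 0, 6, 10, 6, 4, 9, 0, 2, 0, 0, 13, 14, 10, 9, 0, 6, 3, 0, 4, 4, 8, 4, 4, 15, 4, 6, 18, 11, 3, 10, 11, 7, 0, 0, 4, 0, 5, 16, 0, 5, 14],
  [8, 6, 17, 9, 7, 4, 8, 10, 12, 6, 17, 6, 3, 18, 18, 18, 0, 11, 4, 14, 8, 0, 14, 0, 7, 0, 9, 0, 15, 8, 6, 0, 0, 16, 2, 17, 8, 2, 7, 14, 1, 4, 12, 0, 2, 2, 0, 4, 16, 16, 6, 12, 4, 18, 4, 5, 0, 16, 2, 4, 6, 0, 0, 2],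
  [0, 13, 6, 0, 0, 7, 4, 12, 4, 9, 7, 9, 17, 3, 14, 18, 18, 10, 17, 11, 16, 7, 0, 0, 15, 0, 13, 2, 18, 12, 6, 15, 14, 4, 3, 8, 9, 16, 3, 12, 18, 7, 14, 12, 6, 11, 16, 12, 1, 5, 0, 0, 13, 11, 16, 18, 7, 7, 0, 10, 3, 15, 12, 18],
  [3, 8, 16, 8, 11, 6, 4, 9, 0, 10, 8, 0, 8, 10, 0, 8, 9, 7, 13, 10, 6, 12, 11, 11, 17, 7, 9, 3, 13, 0, 7, 14, 6, 8, 6, 14, 15, 11, 0, 13, 8, 7, 9, 4, 11, 2, 17, 15, 1, 10, 12, 1, 0, 0, 14, 7, 13, 4, 6, 7, 8, 0, 3, 14],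
  [9, 4, 0, 0]]

def cfxL : List (List ℕ) := [
  [0, 0, 0, 0, 0, 0, 0, 0, 0, 0, 0, 0, 3, 0, 0, 0, 0, 0, 0, 0, 0, 0, 0, 0, 0, 0, 0, 0, 3, 0, 3, 0, 0, 0, 0, 0, 0, 0, 0, 0, 0, 0, 0, 0, 0, 0, 0, 0, 0, 0, 0, 0, 0, 0, 0, 0, 0, 0, 0, 0, 0, 0, 3, 0],
  [0, 0, 0, 0, 0, 0, 0, 0, 0, 0, 0, 0, 0, 0, 0, 0, 0, 0, 0, 0, 0, 0, 0, 0, 0, 0, 0, 0, 0, 0, 0, 0, 0, 0, 0, 0, 0, 0, 0, 0, 0, 0, 0, 0, 0, 0, 0, 0, 0, 3, 0, 3, 0, 0, 0, 0, 0, 5, 0, 0, 0, 0, 0, 0],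
  [0, 0, 0, 0, 0, 0, 0, 0, 3, 0, 0, 0, 0, 0, 0, 0, 0, 0, 0, 0, 0, 3, 0, 3, 0, 0, 0, 0, 0, 0, 4, 0, 0, 0, 0, 0, 0, 0, 0, 0, 0, 0, 0, 0, 3, 0, 0, 1, 0, 0, 0, 3, 0, 0, 0, 0, 0, 0, 0, 0, 0, 0, 0, 3],
  [0, 0, 0, 0, 0, 0, 0, 0, 0, 0, 0, 0, 0, 0, 0, 0, 0, 2, 5, 0, 0, 0, 0, 0, 0, 0, 0, 3, 0, 0, 2, 0, 0, 0, 0, 0, 0, 0, 0, 0, 0, 0, 0, 0, 0, 0, 0, 0, 3, 0, 3, 0, 0, 0, 0, 0, 0, 0, 4, 0, 0, 0, 0, 0],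
  [0, 0, 0, 0, 0, 0, 3, 0, 3, 3, 0, 0, 0, 0, 0, 0, 0, 0, 0, 0, 0, 0, 3, 0, 3, 0, 0, 0, 0, 0, 0, 0, 0, 0, 0, 3, 0, 0, 0, 0, 0, 0, 0, 3, 0, 0, 1, 0, 0, 0, 4, 0, 0, 0, 0, 0, 3, 0, 0, 0, 0, 0, 5, 4],
  [0, 3, 0, 0, 0, 0, 0, 5, 0, 0, 0, 0, 0, 0, 0, 5, 3, 0, 0, 5, 0, 0, 2, 0, 0, 0, 0, 0, 0, 0, 0, 0, 0, 0, 0, 0, 0, 5, 3, 0, 0, 0, 0, 0, 0, 4, 2, 4, 0, 0, 0, 0, 0, 0, 0, 3, 0, 0, 0, 4, 0, 0, 0, 0],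
  [0, 0, 0, 0, 0, 0, 0, 0, 0, 2, 3, 0, 3, 0, 0, 0, 0, 0, 0, 0, 0, 0, 0, 0, 0, 0, 0, 3, 0, 0, 0, 3, 0, 0, 0, 0, 3, 0, 0, 0, 0, 3, 0, 0, 0, 0, 0, 0, 0, 0, 0, 0, 3, 0, 0, 0, 0, 0, 0, 2, 0, 0, 0, 1],
  [0, 0, 0, 0, 1, 0, 1, 0, 0, 1, 3, 0, 0, 0, 0, 0, 0, 0, 0, 0, 0, 0, 2, 0, 0, 4, 0, 4, 3, 0, 4, 0, 0, 0, 0, 0, 0, 0, 0, 3, 0, 0, 0, 0, 2, 0, 0, 3, 0, 0, 0, 0, 0, 3, 0, 0, 0, 2, 2, 0, 3, 0, 0, 0],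
  [0, 0, 0, 0, 0, 0, 0, 0, 0, 4, 0, 0, 0, 0, 1, 0, 0, 2, 5, 0, 0, 1, 0, 4, 1, 0, 0, 0, 0, 0, 1, 4, 5, 0, 0, 0, 0, 3, 0, 0, 0, 0, 1, 0, 0, 5, 0, 0, 3, 0, 0, 0, 0, 0, 0, 1, 0, 0, 0, 2, 0, 0, 0, 0],
  [0, 0, 0, 0, 0, 0, 0, 0, 0, 0, 3, 0, 0, 0, 0, 0, 3, 0, 3, 0, 0, 0, 0, 3, 4, 0, 0, 4, 0, 0, 0, 0, 0, 0, 0, 4, 3, 4, 1, 0, 0, 0, 3, 0, 0, 5, 0, 5, 2, 0, 0, 0, 0, 0, 0, 0, 0, 2, 3, 3, 0, 1, 3, 0],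
  [3, 0, 0, 3, 0, 5, 0, 5, 3, 0, 0, 3, 0, 5, 1, 0, 0, 0, 0, 0, 0, 5, 0, 0, 0, 3, 4, 0, 0, 0, 0, 0, 0, 0, 0, 0, 0, 0, 0, 0, 0, 3, 0, 0, 0, 0, 5, 0, 0, 1, 3, 5, 0, 0, 0, 0, 0, 1, 0, 3, 0, 3, 0, 0],
  [0, 2, 0, 0, 0, 1, 0, 0, 4, 4, 0, 0, 2, 0, 5, 0, 0, 0, 0, 4, 0, 0, 3, 0, 0, 0, 1, 1, 3, 0, 0, 0, 3, 0, 0, 3, 0, 4, 1, 0, 3, 4, 0, 0, 0, 0, 0, 0, 0, 0, 0, 0, 1, 0, 3, 3, 4, 0, 0, 2, 5, 1, 2, 0],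
  [0, 3, 0, 3, 0, 5, 4, 0, 4, 0, 0, 4, 0, 0, 0, 0, 0, 0, 5, 0, 0, 0, 0, 0, 0, 2, 2, 2, 0, 1, 0, 3, 5, 0, 0, 0, 4, 4, 3, 3, 3, 0, 0, 0, 0, 2, 4, 0, 4, 1, 0, 0, 0, 0, 0, 0, 0, 3, 0, 0, 0, 0, 0, 4],
  [3, 3, 3, 0, 0, 0, 4, 3, 1, 2, 3, 0, 4, 0, 0, 3, 0, 0, 3, 4, 5, 1, 5, 1, 0, 0, 4, 4, 0, 0, 1, 0, 0, 0, 1, 0, 0, 3, 5, 0, 1, 0, 0, 4, 3, 2, 0, 0, 0, 1, 0, 5, 0, 2, 0, 0, 0, 0, 0, 4, 0, 0, 0, 0],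
  [4, 1, 0, 0, 0, 0, 0, 0, 0, 4, 5, 0, 1, 0, 0, 0, 0, 3, 3, 0, 0, 0, 3, 0, 2, 4, 0, 3, 0, 1, 1, 3, 5, 0, 5, 1, 5, 4, 0, 0, 4, 0, 5, 3, 0, 0, 2, 0, 5, 0, 0, 3, 4, 0, 2, 0, 0, 0, 0, 2, 4, 0, 5, 2],
  [0, 0, 3, 3, 0, 1, 2, 3, 0, 0, 0, 3, 0, 0, 0, 0, 0, 0, 4, 3, 0, 5, 0, 3, 2, 3, 0, 3, 4, 3, 0, 5, 0, 0, 0, 0, 0, 4, 4, 3, 5, 0, 1, 0, 0, 3, 0, 0, 4, 0, 1, 5, 4, 0, 0, 1, 4, 3, 4, 1, 4, 0, 0, 0],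
  [0, 3, 2, 3, 0, 1, 5, 0, 5, 5, 2, 0, 0, 4, 5, 1, 0, 2, 5, 4, 4, 0, 0, 2, 0, 0, 0, 0, 0, 1, 0, 0, 0, 1, 2, 3, 0, 2, 5, 2, 5, 2, 4, 0, 0, 0, 0, 0, 0, 0, 5, 0, 0, 1, 0, 5, 2, 0, 4, 4, 2, 2, 3, 3],
  [2, 1, 1, 0, 4, 3, 0, 5, 0, 4, 4, 0, 1, 2, 5, 2, 4, 3, 1, 0, 0, 0, 0, 1, 1, 5, 0, 4, 0, 3, 0, 1, 5, 1, 5, 4, 4, 5, 0, 0, 3, 0, 0, 2, 1, 0, 1, 0, 0, 0, 1, 4, 5, 4, 0, 2, 0, 0, 0, 2, 3, 3, 3, 2],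
  [0, 0, 0, 3, 1, 3, 5, 0, 3, 4, 2, 4, 2, 3, 4, 3, 3, 0, 0, 5, 1, 2, 4, 0, 2, 0, 2, 5, 0, 0, 0, 2, 5, 4, 4, 1, 0, 2, 5, 0, 2, 5, 0, 4, 5, 1, 5, 0, 0, 5, 0, 2, 0, 5, 1, 0, 0, 2, 1, 0, 0, 3, 4, 0],
  [0, 0, 1, 0, 5, 3, 0, 1, 4, 0, 3, 0, 2, 2, 4, 2, 3, 1, 2, 0, 2, 0, 2, 0, 5, 4, 2, 0, 4, 5, 5, 1, 0, 0, 3, 0, 4, 0, 3, 0, 0, 0, 0, 4, 3, 1, 2, 3, 3, 3, 2, 1, 1, 4, 4, 0, 5, 2, 4, 3, 3, 5, 2, 1],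
  [1, 0, 3, 3, 5, 4, 0, 3, 2, 0, 4, 0, 0, 3, 3, 5, 0, 5, 5, 2, 0, 1, 3, 0, 5, 3, 0, 5, 0, 0, 5, 0, 0, 5, 5, 0, 3, 0, 0, 0, 0, 2, 3, 5, 2, 5, 1, 5, 1, 2, 5, 5, 0, 4, 5, 0, 0, 3, 0, 0, 5, 0, 0, 1],
  [0, 0, 0, 3, 5, 4, 4, 0, 0, 0, 3, 0, 0, 0, 3, 1, 0, 3, 0, 3, 2, 0, 2, 0, 0, 3, 4, 0, 2, 3, 4, 0, 3, 5, 3, 3, 2, 1, 5, 1, 4, 2, 1, 0, 1, 5, 0, 5, 0, 0, 3, 5, 5, 4, 2, 0, 5, 5, 2, 5, 3, 0, 0, 1],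
  [0, 3, 5, 0, 0, 3, 3, 1, 2, 4, 5, 4, 4, 1, 0, 2, 2, 2, 5, 0, 4, 2, 0, 4, 0, 0, 3, 0, 2, 1, 0, 0, 2, 4, 2, 0, 5, 4, 2, 4, 3, 2, 1, 1, 2, 4, 1, 5, 0, 4, 2, 0, 4, 1, 1, 2, 4, 3, 0, 4, 4, 3, 1, 3],
  [4, 0, 0, 5, 0, 0, 3, 5, 2, 1, 5, 0, 0, 5, 2, 1, 1, 4, 1, 2, 4, 2, 3, 2, 5, 5, 0, 0, 0, 0, 4, 1, 1, 2, 4, 2, 2, 1, 4, 3, 2, 1, 2, 3, 4, 2, 5, 4, 4, 2, 3, 5, 0, 0, 0, 2, 4, 1, 1, 3, 4, 0, 3, 2],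
  [1, 0, 3, 4]]

def cjx (i : ℕ) : ℕ := get2 cjxL 0 i

def cex (i : ℕ) : ℕ := get2 cexL 0 i

def cfx (i : ℕ) : ℕ := get2 cfxL 0 i

def cjyL : List (List ℕ) := [
  [2, 4, 6, 8, 10, 12, 14, 15, 17, 19, 21, 22, 23, 25, 27, 29, 31, 33, 35, 37, 39, 41, 43, 45, 47, 49, 51, 0, 53, 54, 55, 57, 59, 61, 63, 65, 67, 69, 70, 72, 66, 1, 76, 78, 80, 82, 84, 86, 88, 90, 92, 94, 11, 97, 99, 101, 103, 105, 107, 109, 111, 3, 71, 114],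
  [116, 118, 120, 122, 124, 126, 128, 130, 132, 134, 75, 137, 139, 140, 52, 143, 145, 147, 5, 150, 152, 154, 156, 158, 160, 162, 112, 165, 167, 169, 171, 18, 174, 176, 178, 7, 181, 183, 185, 187, 189, 191, 193, 195, 197, 199, 201, 203, 13, 205, 207, 208, 210, 212, 95, 215, 217, 218, 220, 222, 224, 226, 9, 228],
  [230, 231, 233, 235, 237, 239, 241, 42, 243, 245, 247, 249, 251, 153, 253, 255, 257, 259, 261, 263, 30, 265, 267, 268, 270, 272, 274, 276, 179, 279, 280, 282, 284, 286, 177, 180, 290, 292, 294, 296, 298, 300, 302, 304, 83, 306, 234, 308, 310, 312, 314, 24, 316, 318, 223, 148, 322, 324, 326, 328, 330, 332, 79, 16],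
  [335, 337, 339, 341, 343, 345, 347, 349, 351, 353, 355, 357, 62, 360, 362, 358, 365, 366, 367, 369, 371, 87, 374, 376, 378, 380, 382, 383, 385, 387, 388, 390, 392, 98, 395, 397, 399, 401, 403, 405, 407, 204, 348, 155, 412, 20, 113, 416, 417, 419, 149, 421, 423, 425, 427, 413, 430, 135, 428, 433, 435, 437, 439, 441],
  [443, 445, 447, 449, 451, 219, 277, 404, 46, 454, 456, 458, 460, 462, 264, 465, 467, 469, 471, 163, 474, 115, 476, 478, 479, 480, 482, 484, 486, 488, 490, 129, 493, 495, 497, 498, 500, 501, 503, 505, 507, 509, 511, 512, 514, 342, 516, 518, 26, 520, 453, 522, 110, 496, 28, 373, 526, 528, 530, 375, 532, 534, 535, 536],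
  [422, 538, 438, 541, 543, 545, 547, 548, 450, 551, 553, 555, 557, 464, 560, 561, 562, 564, 566, 567, 569, 363, 571, 573, 575, 577, 579, 581, 583, 32, 244, 587, 589, 175, 502, 593, 595, 515, 34, 597, 599, 601, 603, 58, 606, 262, 607, 608, 610, 612, 614, 616, 618, 320, 621, 622, 624, 626, 628, 605, 40, 631, 633, 635],
  [637, 36, 537, 641, 643, 236, 646, 648, 649, 227, 650, 652, 653, 655, 657, 659, 661, 663, 664, 38, 667, 611, 670, 672, 102, 675, 677, 678, 680, 415, 396, 682, 684, 686, 688, 690, 691, 693, 638, 696, 698, 74, 700, 702, 704, 706, 708, 173, 711, 713, 289, 716, 717, 719, 721, 400, 724, 190, 727, 728, 729, 731, 733, 734],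
  [736, 44, 56, 740, 221, 742, 743, 745, 747, 748, 172, 750, 752, 754, 738, 246, 758, 760, 762, 764, 766, 768, 769, 771, 741, 440, 131, 133, 774, 660, 776, 213, 778, 780, 782, 784, 785, 787, 48, 789, 790, 792, 703, 795, 334, 797, 271, 798, 800, 802, 455, 805, 807, 808, 810, 812, 104, 442, 444, 50, 815, 817, 819, 821],
  [340, 823, 825, 60, 828, 830, 705, 293, 834, 835, 837, 196, 278, 136, 89, 841, 843, 106, 225, 845, 275, 323, 848, 849, 313, 321, 640, 852, 254, 855, 856, 408, 857, 859, 854, 862, 864, 865, 816, 868, 870, 872, 770, 874, 746, 504, 876, 565, 877, 879, 881, 651, 529, 269, 886, 647, 888, 890, 892, 893, 895, 897, 899, 901],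
  [903, 905, 676, 908, 209, 911, 381, 96, 588, 739, 916, 918, 919, 920, 492, 923, 924, 926, 927, 929, 827, 932, 406, 238, 934, 936, 144, 938, 354, 941, 943, 945, 64, 948, 470, 287, 950, 951, 952, 954, 956, 166, 549, 844, 958, 959, 961, 962, 794, 964, 966, 968, 970, 214, 972, 974, 976, 977, 329, 146, 673, 979, 311, 533],
  [386, 982, 356, 984, 986, 987, 989, 990, 824, 68, 692, 993, 995, 996, 997, 999, 1001, 1003, 1005, 709, 391, 540, 1009, 1011, 1013, 527, 949, 81, 1016, 1018, 432, 1021, 1023, 699, 1026, 1028, 1030, 935, 1033, 1035, 1037, 394, 138, 900, 475, 1042, 685, 1044, 1046, 1047, 73, 1014, 775, 525, 1049, 1025, 1051, 674, 1053, 710, 861, 1055, 1057, 735],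
  [1060, 1061, 1063, 1036, 867, 127, 1067, 598, 600, 77, 266, 1015, 836, 1072, 1073, 1075, 1077, 1079, 1034, 1081, 811, 301, 1084, 755, 1086, 1088, 368, 602, 229, 1090, 1092, 161, 757, 1070, 559, 1095, 1097, 1098, 431, 242, 858, 1099, 1101, 1103, 1105, 1107, 1109, 871, 957, 506, 912, 295, 192, 1115, 975, 200, 788, 662, 563, 544, 141, 1118, 370, 777],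
  [1121, 730, 1123, 85, 683, 883, 1125, 681, 1127, 1129, 1131, 1132, 1134, 1136, 1138, 1140, 1141, 1143, 826, 1145, 494, 1148, 896, 1150, 1128, 1152, 119, 424, 1154, 898, 1156, 723, 542, 1158, 803, 164, 1160, 1161, 773, 91, 1029, 973, 831, 1165, 617, 1166, 168, 1168, 1010, 1163, 1170, 1172, 947, 814, 1176, 1178, 477, 93, 338, 1182, 1184, 1186, 1187, 604],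
  [744, 1188, 1189, 574, 1191, 1111, 829, 297, 1193, 669, 967, 319, 994, 1196, 838, 1198, 1200, 100, 591, 630, 1202, 592, 1203, 639, 309, 1205, 822, 1206, 250, 1208, 1207, 457, 1210, 1212, 1213, 1214, 1216, 1217, 1218, 1220, 981, 1221, 1223, 327, 446, 590, 1225, 756, 1024, 1096, 1229, 1230, 869, 1232, 786, 1235, 1237, 1239, 299, 1204, 1242, 725, 806, 1246],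
  [1247, 523, 1249, 1040, 1252, 1254, 1256, 1258, 1181, 108, 1260, 1262, 671, 1264, 1265, 1222, 963, 414, 426, 315, 1269, 1271, 759, 1273, 880, 1048, 720, 1270, 1274, 1087, 1275, 420, 1276, 1278, 1279, 1027, 928, 1280, 1089, 1283, 1284, 1094, 1153, 796, 1071, 1287, 1288, 1290, 1291, 580, 619, 1294, 1080, 1295, 1296, 1120, 468, 1299, 1301, 1285, 117, 151, 402, 629],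
  [1045, 915, 1305, 1306, 1292, 1308, 1309, 1310, 801, 510, 1314, 840, 1316, 1297, 1319, 1321, 1286, 121, 1050, 722, 625, 188, 452, 436, 123, 1324, 866, 1326, 983, 182, 194, 531, 791, 466, 1330, 125, 913, 513, 550, 393, 1333, 1335, 1336, 1219, 1339, 1340, 596, 1343, 1344, 891, 1209, 732, 1346, 620, 594, 1349, 781, 1350, 665, 1241, 1351, 346, 1354, 1164],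
  [352, 1117, 1356, 570, 1358, 519, 1315, 1054, 1359, 1360, 384, 1135, 1113, 389, 922, 1250, 521, 361, 240, 578, 779, 1365, 1366, 666, 737, 1369, 992, 350, 1038, 491, 1076, 1004, 907, 463, 1342, 925, 860, 1304, 1012, 1374, 1307, 1144, 1355, 636, 572, 508, 1078, 1378, 988, 1381, 546, 142, 1302, 1052, 921, 184, 1093, 1384, 1329, 568, 715, 1192, 1385, 1386],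
  [753, 1277, 558, 1388, 1389, 1390, 694, 1240, 1327, 1392, 1064, 291, 1357, 1393, 1058, 714, 556, 1122, 1372, 889, 1396, 783, 1133, 1399, 917, 1303, 1031, 1199, 623, 1400, 1402, 1403, 882, 1185, 863, 847, 1404, 524, 656, 157, 1405, 1407, 1409, 1159, 1410, 1347, 1211, 1408, 1414, 679, 159, 1233, 459, 873, 1337, 1413, 1411, 1139, 799, 902, 1397, 481, 978, 1418],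
  [1419, 206, 1420, 1268, 434, 1142, 1421, 281, 1248, 1382, 1423, 839, 232, 473, 909, 1412, 1424, 965, 1019, 793, 1427, 398, 1100, 1428, 832, 1429, 654, 487, 517, 1432, 1434, 991, 170, 273, 1435, 1436, 910, 1293, 632, 252, 953, 1438, 644, 1439, 1183, 1224, 554, 448, 1267, 586, 1441, 1442, 761, 1444, 1226, 186, 914, 998, 875, 1149, 372, 1194, 248, 1383],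
  [634, 1449, 1008, 1173, 887, 483, 198, 1451, 1065, 1353, 325, 697, 409, 613, 894, 1169, 1175, 485, 1454, 751, 410, 1457, 1322, 1458, 1430, 1459, 931, 1461, 1462, 772, 1463, 285, 1363, 288, 576, 1467, 1245, 1082, 1395, 1470, 933, 489, 1039, 906, 1472, 418, 930, 1059, 1348, 1465, 1401, 317, 645, 1473, 1332, 1475, 1116, 1476, 1313, 202, 359, 712, 642, 1056],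
  [1147, 1000, 1477, 1236, 1041, 1162, 1370, 1478, 1479, 1481, 1482, 1377, 1323, 305, 1017, 689, 211, 1177, 1398, 1484, 1334, 1119, 1114, 1487, 303, 1272, 461, 472, 1371, 1331, 1489, 1437, 885, 853, 216, 1043, 1325, 1447, 1379, 582, 1238, 333, 1066, 980, 1110, 851, 1155, 336, 1151, 1440, 946, 377, 850, 1494, 1448, 1422, 1469, 1490, 1375, 1498, 1492, 695, 1456, 1244],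
  [552, 1500, 1433, 985, 813, 726, 820, 1022, 1501, 1502, 1453, 1320, 1227, 1503, 1228, 1124, 1373, 1318, 539, 1367, 1505, 1282, 1261, 804, 1488, 937, 1190, 1231, 1509, 411, 1510, 1474, 1512, 1243, 1311, 1513, 1504, 1195, 1507, 1300, 1146, 256, 1263, 1108, 1486, 258, 609, 765, 260, 1104, 1102, 344, 1480, 1179, 1516, 307, 1341, 1450, 1517, 615, 1515, 1257, 1520, 1495],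
  [1137, 1496, 687, 1197, 1524, 283, 668, 971, 1338, 1416, 1431, 1511, 1525, 627, 1126, 1455, 1069, 1361, 1368, 969, 1312, 809, 585, 1526, 1376, 1499, 1006, 846, 1180, 940, 1415, 718, 1528, 1362, 1074, 878, 763, 1157, 1522, 1426, 1215, 1508, 1452, 331, 1529, 1020, 1380, 955, 1394, 1083, 749, 818, 1298, 944, 1483, 1068, 1466, 833, 1091, 1527, 1491, 1531, 1130, 1364],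
  [1532, 1201, 1417, 1530, 584, 960, 379, 1519, 1521, 1251, 364, 1007, 1085, 1534, 1464, 707, 1317, 1535, 1445, 1106, 1523, 1345, 1536, 767, 1255, 1352, 701, 1062, 1446, 1485, 1443, 1533, 1537, 1538, 942, 499, 884, 1468, 429, 1171, 904, 1425, 1460, 1032, 1514, 1391, 1471, 1506, 1167, 1387, 1493, 658, 1406, 939, 1328, 1289, 1253, 1266, 1112, 1539, 1259, 1174, 1497, 842],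
  [1281, 1234, 1518, 1002]]

def ceyL : List (List ℕ) := [
  [0, 0, 0, 0, 0, 0, 0, 0, 0, 0, 0, 0, 0, 0, 0, 0, 0, 0, 0, 0, 0, 0, 0, 0, 0, 0, 0, 0, 0, 0, 0, 0, 0, 0, 0, 0, 0, 0, 0, 0, 18, 0, 0, 0, 0, 0, 0, 0, 0, 0, 0, 0, 7, 0, 0, 0, 0, 0, 0, 0, 0, 0, 12, 0],
  [0, 0, 0, 0, 0, 0, 0, 0, 0, 0, 6, 0, 0, 0, 7, 0, 0, 0, 0, 0, 0, 0, 0, 0, 0, 0, 2, 0, 0, 0, 0, 18, 0, 0, 0, 0, 0, 0, 0, 0, 0, 0, 0, 0, 0, 0, 0, 0, 17, 0, 0, 0, 0, 0, 1, 0, 0, 0, 0, 0, 0, 0, 0, 0],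
  [0, 0, 0, 0, 0, 0, 0, 17, 0, 0, 0, 0, 0, 18, 0, 0, 0, 0, 0, 0, 6, 0, 0, 0, 0, 0, 0, 0, 6, 0, 0, 0, 0, 0, 10, 5, 0, 0, 0, 0, 0, 0, 0, 0, 17, 0, 13, 0, 0, 0, 0, 6, 0, 0, 3, 6, 0, 0, 0, 0, 0, 0, 5, 0],
  [0, 0, 0, 0, 0, 0, 0, 0, 0, 0, 0, 0, 7, 0, 0, 1, 0, 0, 0, 0, 0, 5, 0, 0, 0, 0, 0, 0, 0, 0, 0, 0, 0, 1, 0, 0, 0, 0, 0, 0, 0, 14, 17, 10, 0, 0, 18, 0, 0, 0, 6, 0, 0, 0, 0, 15, 0, 2, 0, 0, 0, 0, 0, 0],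
  [0, 0, 0, 0, 0, 3, 11, 17, 18, 0, 0, 0, 0, 0, 1, 0, 0, 0, 0, 17, 0, 1, 0, 0, 0, 0, 0, 0, 0, 0, 0, 16, 0, 0, 0, 0, 0, 0, 0, 0, 0, 0, 0, 0, 0, 18, 0, 0, 0, 0, 6, 0, 1, 1, 0, 7, 0, 0, 0, 12, 0, 0, 0, 0],
  [18, 0, 17, 0, 0, 0, 0, 0, 0, 0, 0, 0, 0, 18, 0, 0, 0, 0, 0, 0, 0, 6, 0, 0, 0, 0, 0, 0, 0, 0, 17, 0, 0, 12, 9, 0, 0, 1, 18, 0, 0, 0, 0, 6, 0, 18, 0, 0, 0, 0, 0, 0, 0, 17, 0, 0, 0, 0, 0, 11, 1, 0, 0, 0],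
  [0, 0, 2, 0, 0, 13, 0, 0, 0, 6, 0, 0, 0, 0, 0, 0, 0, 0, 0, 0, 0, 3, 0, 0, 12, 0, 0, 0, 0, 1, 13, 0, 0, 0, 0, 0, 0, 0, 17, 0, 0, 6, 0, 0, 0, 0, 0, 5, 0, 0, 18, 0, 0, 0, 0, 14, 0, 5, 0, 0, 0, 0, 0, 0],
  [0, 0, 0, 0, 12, 0, 0, 0, 0, 0, 2, 0, 0, 0, 9, 4, 0, 0, 0, 0, 0, 0, 0, 0, 7, 18, 9, 11, 0, 0, 0, 5, 0, 0, 0, 0, 0, 0, 0, 0, 0, 0, 4, 0, 5, 0, 6, 0, 0, 0, 5, 0, 0, 0, 0, 0, 8, 10, 2, 0, 0, 0, 0, 0],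
  [11, 0, 0, 8, 0, 0, 9, 6, 0, 0, 0, 6, 5, 5, 4, 0, 0, 11, 1, 0, 11, 6, 0, 0, 4, 6, 4, 0, 16, 0, 0, 12, 0, 0, 9, 0, 0, 0, 7, 0, 0, 0, 4, 0, 3, 18, 0, 7, 0, 0, 0, 6, 7, 5, 0, 7, 0, 0, 0, 0, 0, 0, 0, 0],
  [0, 0, 17, 0, 17, 0, 3, 13, 7, 7, 0, 0, 0, 0, 16, 0, 0, 0, 0, 0, 4, 0, 1, 1, 0, 0, 16, 0, 1, 0, 0, 0, 0, 0, 11, 8, 0, 0, 0, 0, 0, 1, 0, 8, 0, 0, 0, 0, 6, 0, 0, 0, 0, 11, 0, 0, 0, 0, 8, 17, 12, 0, 14, 4],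
  [9, 0, 13, 0, 0, 0, 0, 0, 7, 0, 4, 0, 0, 0, 0, 0, 0, 0, 0, 11, 11, 2, 0, 0, 0, 7, 14, 5, 0, 0, 16, 0, 0, 12, 0, 0, 0, 1, 0, 0, 0, 6, 14, 1, 11, 0, 12, 0, 0, 0, 0, 4, 0, 5, 0, 9, 0, 7, 0, 0, 5, 0, 0, 6],
  [0, 0, 0, 16, 2, 11, 0, 4, 17, 0, 18, 18, 2, 0, 0, 0, 0, 0, 17, 0, 2, 2, 0, 9, 0, 0, 13, 17, 6, 0, 0, 7, 7, 5, 0, 0, 0, 0, 1, 6, 8, 0, 0, 0, 0, 0, 0, 4, 5, 11, 13, 11, 1, 0, 4, 8, 6, 3, 18, 4, 1, 0, 1, 4],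
  [0, 8, 0, 0, 2, 5, 0, 12, 0, 0, 0, 0, 0, 0, 0, 0, 8, 0, 6, 0, 0, 0, 3, 0, 12, 0, 15, 14, 0, 17, 0, 11, 17, 0, 14, 5, 0, 0, 16, 0, 15, 18, 17, 0, 18, 0, 6, 0, 3, 11, 0, 0, 13, 6, 0, 0, 5, 0, 18, 0, 0, 0, 0, 10],
  [0, 0, 0, 15, 0, 12, 8, 1, 0, 13, 8, 9, 0, 0, 13, 0, 0, 0, 1, 13, 0, 10, 0, 4, 15, 0, 4, 0, 14, 0, 12, 6, 0, 0, 0, 0, 0, 0, 0, 0, 12, 0, 0, 13, 10, 11, 0, 18, 11, 14, 0, 0, 6, 0, 13, 0, 0, 0, 1, 4, 0, 10, 11, 0],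
  [0, 4, 0, 10, 0, 0, 0, 0, 12, 0, 0, 0, 14, 0, 0, 14, 12, 0, 5, 7, 0, 0, 1, 0, 4, 16, 7, 3, 0, 8, 0, 18, 0, 0, 0, 3, 16, 0, 14, 0, 0, 16, 5, 18, 15, 0, 0, 0, 0, 17, 0, 0, 0, 0, 0, 2, 11, 0, 0, 7, 0, 5, 18, 11],
  [8, 18, 0, 0, 13, 0, 0, 0, 12, 12, 0, 15, 0, 2, 0, 0, 13, 0, 5, 16, 6, 8, 8, 13, 0, 0, 14, 0, 16, 2, 12, 8, 4, 11, 0, 0, 15, 8, 6, 13, 0, 0, 0, 2, 0, 0, 12, 0, 0, 12, 6, 4, 0, 18, 2, 0, 14, 0, 11, 7, 0, 16, 0, 15],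
  [14, 10, 0, 18, 0, 10, 10, 0, 0, 0, 4, 1, 3, 10, 16, 14, 13, 7, 8, 15, 3, 0, 0, 11, 12, 0, 3, 2, 17, 3, 5, 7, 0, 4, 16, 1, 5, 17, 7, 0, 14, 1, 0, 17, 8, 7, 12, 0, 12, 0, 2, 0, 17, 10, 12, 14, 1, 0, 9, 11, 6, 14, 0, 0],
  [9, 12, 6, 0, 0, 0, 5, 0, 12, 0, 15, 14, 18, 0, 7, 1, 0, 11, 12, 13, 0, 10, 11, 0, 6, 2, 9, 12, 0, 0, 0, 0, 18, 0, 2, 2, 0, 5, 0, 0, 0, 0, 0, 0, 0, 9, 18, 18, 0, 12, 0, 17, 10, 9, 5, 8, 8, 8, 6, 17, 10, 2, 11, 0],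
  [0, 17, 0, 8, 1, 18, 0, 0, 1, 6, 0, 7, 10, 10, 14, 14, 0, 17, 7, 6, 0, 18, 6, 0, 5, 0, 8, 6, 13, 0, 0, 17, 0, 0, 0, 0, 5, 6, 15, 2, 12, 0, 17, 0, 2, 11, 13, 1, 0, 7, 0, 0, 9, 0, 0, 8, 2, 18, 9, 10, 0, 1, 5, 2],
  [8, 0, 2, 6, 17, 2, 16, 0, 7, 16, 0, 4, 12, 15, 14, 1, 12, 16, 0, 15, 1, 0, 7, 0, 1, 0, 5, 0, 0, 1, 0, 14, 18, 3, 4, 0, 6, 5, 13, 0, 4, 4, 10, 7, 0, 15, 2, 3, 17, 11, 1, 0, 8, 0, 15, 0, 0, 0, 15, 0, 2, 15, 15, 3],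
  [7, 4, 0, 17, 1, 18, 13, 0, 0, 0, 0, 5, 15, 6, 3, 18, 0, 16, 10, 0, 3, 2, 5, 0, 13, 0, 3, 4, 1, 6, 0, 12, 7, 14, 0, 4, 6, 6, 3, 17, 8, 7, 5, 0, 16, 14, 10, 14, 5, 10, 12, 6, 10, 0, 12, 11, 17, 18, 16, 0, 6, 16, 11, 5],
  [5, 0, 1, 7, 7, 17, 8, 3, 0, 0, 18, 9, 1, 0, 1, 16, 14, 5, 4, 5, 0, 5, 4, 14, 6, 1, 6, 2, 0, 17, 0, 16, 0, 8, 14, 0, 11, 1, 10, 5, 7, 0, 3, 8, 13, 0, 11, 15, 0, 16, 6, 4, 6, 15, 0, 8, 14, 2, 0, 16, 6, 8, 0, 10],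
  [1, 4, 14, 2, 0, 18, 2, 18, 18, 2, 7, 6, 0, 11, 11, 1, 7, 13, 0, 1, 13, 11, 18, 0, 8, 13, 8, 16, 13, 12, 16, 11, 0, 4, 1, 14, 6, 1, 10, 4, 11, 15, 14, 0, 0, 11, 13, 17, 4, 18, 15, 7, 11, 8, 17, 7, 15, 8, 16, 6, 2, 8, 18, 8],
  [0, 7, 10, 8, 7, 16, 11, 4, 10, 1, 0, 12, 3, 0, 8, 3, 15, 0, 10, 13, 6, 3, 0, 15, 17, 4, 1, 11, 8, 12, 7, 8, 0, 0, 5, 6, 5, 17, 0, 0, 0, 10, 3, 11, 12, 15, 10, 5, 2, 3, 6, 0, 11, 1, 13, 14, 14, 4, 18, 7, 7, 10, 1, 11],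
  [6, 3, 17, 11]]

def cfyL : List (List ℕ) := [
  [0, 0, 0, 0, 0, 0, 0, 0, 0, 0, 0, 0, 0, 0, 0, 0, 0, 0, 0, 0, 0, 0, 0, 0, 0, 0, 0, 0, 0, 0, 0, 0, 0, 0, 0, 0, 0, 0, 0, 0, 0, 0, 0, 0, 0, 0, 0, 0, 0, 0, 0, 0, 3, 0, 0, 0, 0, 0, 0, 0, 0, 0, 3, 0],
  [0, 0, 0, 0, 0, 0, 0, 0, 0, 0, 3, 0, 0, 0, 3, 0, 0, 0, 0, 0, 0, 0, 0, 0, 0, 0, 0, 0, 0, 0, 0, 0, 0, 0, 0, 0, 0, 0, 0, 0, 0, 0, 0, 0, 0, 0, 0, 0, 0, 0, 0, 0, 0, 0, 0, 0, 0, 0, 0, 0, 0, 0, 0, 0],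
  [0, 0, 0, 0, 0, 0, 0, 0, 0, 0, 0, 0, 0, 0, 0, 0, 0, 0, 0, 0, 3, 0, 0, 0, 0, 0, 0, 0, 3, 0, 0, 0, 0, 0, 2, 3, 0, 0, 0, 0, 0, 0, 0, 0, 0, 0, 5, 0, 0, 0, 0, 3, 0, 0, 1, 3, 0, 0, 0, 0, 0, 0, 3, 0],
  [0, 0, 0, 0, 0, 0, 0, 0, 0, 0, 0, 0, 3, 0, 0, 0, 0, 0, 0, 0, 0, 3, 0, 0, 0, 0, 0, 0, 0, 0, 0, 0, 0, 3, 0, 0, 0, 0, 0, 0, 0, 0, 3, 0, 0, 0, 0, 0, 0, 0, 3, 0, 0, 0, 0, 2, 0, 0, 2, 0, 0, 0, 0, 0],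
  [0, 0, 0, 0, 0, 4, 5, 1, 0, 0, 0, 0, 0, 0, 0, 0, 0, 0, 0, 4, 0, 0, 0, 0, 0, 0, 0, 0, 0, 0, 0, 5, 0, 0, 0, 0, 0, 0, 0, 0, 0, 0, 0, 0, 0, 1, 0, 0, 0, 0, 1, 0, 4, 0, 0, 3, 0, 0, 0, 1, 0, 0, 0, 0],
  [0, 0, 4, 0, 0, 0, 0, 0, 0, 0, 0, 0, 0, 0, 0, 0, 0, 0, 0, 0, 0, 3, 0, 0, 0, 0, 0, 0, 0, 0, 0, 0, 0, 2, 3, 0, 0, 2, 0, 0, 0, 0, 0, 3, 0, 1, 0, 0, 0, 0, 0, 0, 0, 2, 0, 0, 0, 0, 0, 3, 0, 0, 0, 0],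
  [0, 0, 5, 0, 0, 5, 0, 0, 0, 0, 0, 0, 0, 0, 0, 0, 0, 0, 0, 0, 0, 4, 0, 0, 3, 0, 0, 0, 0, 0, 3, 0, 0, 0, 0, 0, 0, 0, 1, 0, 0, 3, 0, 0, 0, 0, 0, 3, 0, 0, 0, 0, 0, 0, 0, 5, 0, 3, 0, 0, 0, 0, 0, 0],
  [0, 0, 0, 0, 1, 0, 0, 0, 0, 0, 0, 0, 0, 0, 4, 3, 0, 0, 0, 0, 0, 0, 0, 0, 1, 5, 0, 3, 0, 4, 0, 3, 0, 0, 0, 0, 0, 0, 0, 0, 0, 0, 2, 0, 3, 0, 3, 0, 0, 0, 0, 0, 0, 0, 0, 0, 1, 5, 4, 0, 0, 0, 0, 0],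
  [1, 0, 0, 4, 0, 0, 0, 3, 0, 0, 0, 1, 3, 3, 4, 0, 0, 5, 3, 0, 5, 0, 0, 0, 1, 3, 4, 0, 5, 0, 0, 3, 0, 0, 4, 0, 0, 0, 3, 0, 0, 0, 4, 0, 1, 5, 0, 3, 0, 0, 0, 2, 1, 5, 0, 0, 0, 0, 0, 0, 0, 0, 0, 0],
  [0, 0, 3, 0, 3, 0, 4, 4, 3, 3, 0, 0, 0, 0, 3, 0, 0, 0, 0, 0, 3, 0, 0, 0, 0, 0, 1, 0, 0, 0, 0, 0, 0, 0, 1, 3, 0, 0, 0, 0, 0, 0, 1, 5, 0, 0, 0, 0, 4, 0, 0, 0, 0, 3, 0, 0, 0, 0, 3, 2, 5, 0, 0, 2],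
  [0, 0, 1, 0, 0, 0, 0, 0, 4, 0, 2, 0, 0, 0, 0, 0, 0, 0, 0, 3, 4, 2, 0, 0, 0, 3, 1, 5, 0, 0, 5, 0, 0, 0, 0, 0, 0, 0, 0, 0, 0, 3, 4, 0, 3, 0, 1, 0, 0, 0, 0, 2, 0, 3, 0, 5, 0, 0, 0, 4, 4, 0, 0, 4],
  [0, 0, 0, 0, 4, 3, 0, 1, 1, 0, 0, 2, 3, 0, 0, 0, 0, 0, 2, 0, 4, 0, 0, 3, 0, 0, 1, 5, 1, 0, 0, 0, 0, 3, 0, 0, 0, 0, 2, 3, 1, 0, 0, 0, 0, 0, 0, 4, 3, 5, 4, 4, 0, 0, 5, 4, 3, 3, 0, 5, 0, 0, 5, 5],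
  [0, 4, 0, 0, 0, 4, 0, 1, 0, 0, 0, 0, 0, 0, 0, 0, 0, 0, 3, 0, 0, 0, 5, 0, 4, 0, 2, 1, 0, 2, 0, 4, 5, 0, 0, 0, 0, 0, 2, 0, 3, 2, 3, 0, 0, 0, 3, 0, 1, 0, 0, 0, 5, 3, 0, 0, 0, 0, 1, 0, 0, 0, 0, 0],
  [0, 0, 0, 0, 0, 1, 0, 0, 0, 1, 0, 5, 1, 0, 2, 0, 0, 0, 0, 4, 0, 2, 0, 4, 1, 0, 4, 0, 0, 0, 1, 5, 0, 0, 0, 0, 0, 0, 0, 0, 1, 0, 0, 2, 4, 0, 0, 0, 1, 5, 0, 0, 5, 0, 2, 0, 0, 0, 5, 5, 0, 5, 1, 0],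
  [0, 5, 0, 0, 0, 0, 0, 0, 5, 0, 0, 0, 4, 0, 0, 4, 1, 4, 3, 3, 0, 0, 2, 0, 5, 3, 3, 1, 0, 3, 0, 2, 0, 0, 0, 4, 4, 0, 4, 0, 0, 1, 5, 0, 5, 0, 0, 0, 0, 3, 0, 0, 1, 0, 0, 2, 1, 0, 0, 4, 0, 3, 3, 3],
  [1, 2, 0, 0, 5, 0, 0, 0, 4, 2, 0, 0, 0, 2, 0, 0, 1, 0, 5, 4, 3, 5, 5, 4, 0, 0, 4, 0, 3, 5, 0, 5, 2, 4, 0, 0, 5, 3, 2, 0, 0, 0, 0, 5, 0, 0, 3, 0, 0, 0, 2, 5, 0, 3, 2, 0, 5, 0, 2, 4, 0, 2, 0, 1],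
  [0, 0, 0, 0, 0, 0, 5, 0, 0, 0, 0, 2, 3, 1, 4, 3, 0, 5, 5, 4, 5, 0, 0, 1, 0, 0, 5, 0, 4, 5, 1, 5, 1, 3, 5, 1, 4, 2, 2, 0, 3, 4, 3, 3, 2, 3, 1, 0, 5, 0, 4, 0, 2, 1, 5, 2, 4, 0, 3, 4, 2, 3, 0, 0],
  [3, 2, 2, 0, 0, 0, 3, 3, 4, 0, 3, 0, 5, 0, 2, 0, 5, 3, 2, 1, 0, 3, 4, 0, 3, 5, 0, 1, 4, 0, 0, 0, 1, 0, 4, 1, 0, 3, 4, 0, 0, 0, 0, 0, 0, 3, 1, 5, 0, 1, 0, 1, 3, 0, 5, 1, 0, 0, 3, 5, 3, 0, 0, 0],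
  [0, 1, 0, 1, 0, 0, 0, 0, 5, 4, 0, 0, 5, 3, 5, 3, 0, 2, 4, 5, 0, 2, 3, 0, 1, 0, 3, 3, 3, 0, 0, 2, 0, 0, 0, 0, 1, 3, 2, 3, 4, 0, 3, 0, 5, 0, 1, 5, 0, 3, 0, 0, 4, 0, 0, 5, 5, 4, 4, 5, 5, 5, 2, 2],
  [3, 0, 4, 5, 3, 0, 2, 0, 3, 0, 0, 1, 2, 3, 5, 2, 2, 5, 0, 5, 0, 0, 1, 0, 5, 0, 2, 0, 0, 5, 0, 1, 0, 4, 3, 0, 1, 0, 4, 0, 5, 1, 0, 3, 0, 0, 4, 1, 2, 2, 5, 0, 5, 0, 3, 0, 2, 0, 5, 0, 2, 5, 5, 1],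
  [2, 5, 0, 0, 1, 1, 3, 0, 0, 0, 0, 1, 4, 3, 5, 4, 0, 4, 2, 0, 3, 2, 3, 0, 4, 0, 1, 5, 2, 3, 0, 0, 0, 5, 0, 0, 4, 4, 2, 2, 2, 1, 3, 0, 5, 4, 0, 3, 2, 0, 0, 3, 2, 0, 2, 5, 2, 0, 2, 0, 5, 2, 3, 0],
  [2, 0, 4, 0, 5, 2, 2, 3, 0, 0, 2, 3, 5, 0, 4, 4, 2, 5, 3, 1, 0, 4, 0, 0, 3, 2, 0, 0, 0, 4, 0, 3, 0, 5, 3, 0, 4, 5, 5, 3, 5, 0, 1, 0, 4, 0, 1, 3, 0, 0, 2, 2, 4, 0, 0, 5, 5, 2, 0, 4, 1, 1, 0, 1],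
  [4, 2, 1, 5, 0, 5, 1, 4, 2, 3, 5, 3, 0, 2, 3, 4, 3, 5, 4, 4, 4, 4, 1, 0, 5, 3, 0, 4, 3, 4, 2, 1, 0, 3, 4, 5, 1, 5, 5, 4, 2, 4, 1, 0, 0, 1, 1, 3, 0, 2, 5, 4, 1, 0, 3, 4, 3, 3, 0, 1, 4, 0, 5, 2],
  [0, 3, 2, 2, 3, 1, 3, 4, 1, 2, 0, 3, 5, 0, 5, 4, 3, 0, 2, 5, 3, 5, 0, 0, 5, 2, 1, 3, 5, 4, 1, 3, 0, 0, 0, 3, 3, 1, 0, 4, 2, 0, 2, 1, 1, 3, 4, 2, 1, 1, 3, 4, 2, 0, 5, 3, 3, 4, 1, 3, 3, 1, 0, 0],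
  [1, 1, 0, 1]]

def cjy (i : ℕ) : ℕ := get2 cjyL 0 i

def cey (i : ℕ) : ℕ := get2 ceyL 0 i

def cfy (i : ℕ) : ℕ := get2 cfyL 0 i

def keyT0 : Tr := (Tr.node (Tr.node (Tr.node (Tr.node (Tr.node (Tr.node (Tr.node Tr.leaf 46836 338 Tr.leaf) 47676 33 (Tr.node Tr.leaf 56146 108 Tr.leaf)) 57000 829 (Tr.node (Tr.node Tr.leaf 60022 2 Tr.leaf) 60510 684 Tr.leaf)) 60622 576 (Tr.node (Tr.node (Tr.node Tr.leaf 61110 30 Tr.leaf) 62923 1390 Tr.leaf) 63533 89 (Tr.node (Tr.node Tr.leaf 65350 512 Tr.leaf) 66430 484 Tr.leaf))) 66672 1141 (Tr.node (Tr.node (Tr.node (Tr.node Tr.leaf 67770 556 Tr.leaf) 69583 498 Tr.leaf) 70183 281 (Tr.node (Tr.node Tr.leaf 72000 83 Tr.leaf) 72480 904 Tr.leaf)) 72610 1251 (Tr.node (Tr.node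 (Tr.node Tr.leaf 73090 9 Tr.leaf) 103944 9 Tr.leaf) 104424 1251 (Tr.node (Tr.node Tr.leaf 104554 904 Tr.leaf) 105034 83 Tr.leaf)))) 106851 281 (Tr.node (Tr.node (Tr.node (Tr.node (Tr.node Tr.leaf 107451 498 Tr.leaf) 109264 556 Tr.leaf) 110362 1141 (Tr.node (Tr.node Tr.leaf 110604 484 Tr.leaf) 111684 512 Tr.leaf)) 113501 89 (Tr.node (Tr.node (Tr.node Tr.leaf 114111 1390 Tr.leaf) 115924 30 Tr.leaf) 116412 576 (Tr.node (Tr.node Tr.leaf 116524 684 Tr.leaf) 117012 2 Tr.leaf))) 120034 829 (Tr.node (Tr.node (Tr.node (Tr.node Tr.leaf 120888 108 Tr.leaf) 129358 33 Tr.leaf) 130198 338 (Tr.node (Tr.node Tr.leaf 161552 1255 Tr.leaf) 161600 513 Tr.leaf)) 161602 1232 (Tr.node (Tr.node (Tr.node Tr.leaf 161650 1148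 Tr.leaf) 161914 1531 Tr.leaf) 161954 769 (Tr.node (Tr.node Tr.leaf 161974 485 Tr.leaf) 162014 1363 Tr.leaf))))) 226620 969 (Tr.node (Tr.node (Tr.node (Tr.node (Tr.node (Tr.node Tr.leaf 227460 1495 Tr.leaf) 227867 781 Tr.leaf) 228721 871 (Tr.node (Tr.node Tr.leaf 236018 1287 Tr.leaf) 236630 1024 Tr.leaf)) 247993 1350 (Tr.node (Tr.node (Tr.node Tr.leaf 248591 1042 Tr.leaf) 250655 841 Tr.leaf) 251253 637 (Tr.node (Tr.node Tr.leaf 262638 797 Tr.leaf) 263250 600 Tr.leaf))) 270459 1318 (Tr.node (Tr.node (Tr.node (Tr.node Tr.leaf 271313 1490 Tr.leaf) 271874 615 Tr.leaf) 272714 1411 (Tr.node (Tr.node Tr.leaf 322496 110 Tr.leaf) 322566 342 Tr.leaf)) 323094 560 (Tr.node (Tr.node (Tr.node Tr.leaf 323178 884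 Tr.leaf) 339917 403 Tr.leaf) 340279 883 (Tr.node (Tr.node Tr.leaf 349310 835 Tr.leaf) 349674 232 Tr.leaf)))) 471762 1012 (Tr.node (Tr.node (Tr.node (Tr.node (Tr.node Tr.leaf 472126 1280 Tr.leaf) 481003 666 Tr.leaf) 481365 72 (Tr.node (Tr.node Tr.leaf 483673 476 Tr.leaf) 483733 499 Tr.leaf)) 484041 736 (Tr.node (Tr.node (Tr.node Tr.leaf 484091 285 Tr.leaf) 505163 1268 Tr.leaf) 505275 505 (Tr.node (Tr.node Tr.leaf 506408 1314 Tr.leaf) 506538 756 Tr.leaf))) 515196 194 (Tr.node (Tr.node (Tr.node (Tr.node Tr.leaf 524436 915 Tr.leaf) 617606 59 Tr.leaf) 627000 517 (Tr.node (Tr.node Tr.leaf 636846 587 Tr.leaf) 636976 188 Tr.leaf)) 638263 862 (Tr.node (Tr.node (Tr.node Tr.leaf 638375 544 Tr.leaf) 660242 7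 Tr.leaf) 665610 1257 (Tr.node (Tr.node Tr.leaf 666842 345 Tr.leaf) 672210 16 Tr.leaf))))))

def keyT1 : Tr := (Tr.node (Tr.node (Tr.node (Tr.node (Tr.node (Tr.node (Tr.node Tr.leaf 677433 1076 Tr.leaf) 685650 146 Tr.leaf) 686732 294 (Tr.node (Tr.node Tr.leaf 692153 1126 Tr.leaf) 698863 49 Tr.leaf)) 707327 246 (Tr.node (Tr.node (Tr.node Tr.leaf 707691 55 Tr.leaf) 708650 152 Tr.leaf) 709008 301 (Tr.node (Tr.node Tr.leaf 709947 906 Tr.leaf) 710307 1453 Tr.leaf))) 711330 571 (Tr.node (Tr.node (Tr.node (Tr.node Tr.leaf 711696 882 Tr.leaf) 712627 1425 Tr.leaf) 712995 331 (Tr.node (Tr.node Tr.leaf 713950 694 Tr.leaf) 714312 201 Tr.leaf)) 718850 1274 (Tr.node (Tr.node (Tr.node Tr.leaf 722101 1068 Tr.leaf)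 722221 1339 Tr.leaf) 728700 1353 (Tr.node (Tr.node Tr.leaf 728822 1369 Tr.leaf) 730730 873 Tr.leaf)))) 733392 784 (Tr.node (Tr.node (Tr.node (Tr.node (Tr.node Tr.leaf 736686 433 Tr.leaf) 736808 1511 Tr.leaf) 743397 1479 (Tr.node (Tr.node Tr.leaf 743517 1526 Tr.leaf) 745470 332 Tr.leaf)) 751218 334 (Tr.node (Tr.node (Tr.node Tr.leaf 751580 77 Tr.leaf) 752557 459 Tr.leaf) 752925 887 (Tr.node (Tr.node Tr.leaf 753922 1044 Tr.leaf) 754288 1508 Tr.leaf))) 755201 827 (Tr.node (Tr.node (Tr.node (Tr.node Tr.leaf 755561 1464 Tr.leaf) 756566 869 Tr.leaf) 756924 105 (Tr.node (Tr.node Tr.leaf 757905 148 Tr.leaf) 758269 586 Tr.leaf)) 765413 693 (Tr.node (Tr.node (Tr.node Tr.leaf 772013 159 Tr.leaf) 778820 252 Tr.leaf)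 779902 923 (Tr.node (Tr.node Tr.leaf 788141 542 Tr.leaf) 789237 547 Tr.leaf))))) 792000 46 (Tr.node (Tr.node (Tr.node (Tr.node (Tr.node (Tr.node Tr.leaf 797280 577 Tr.leaf) 798710 900 Tr.leaf) 803990 4 (Tr.node (Tr.node Tr.leaf 805760 42 Tr.leaf) 805850 12 Tr.leaf)) 806114 34 (Tr.node (Tr.node (Tr.node Tr.leaf 806222 11 Tr.leaf) 851978 1107 Tr.leaf) 853066 1056 (Tr.node (Tr.node Tr.leaf 861393 1517 Tr.leaf) 862483 1407 Tr.leaf))) 868480 68 (Tr.node (Tr.node (Tr.node (Tr.node Tr.leaf 868596 317 Tr.leaf) 875141 183 Tr.leaf) 875267 125 (Tr.node (Tr.node Tr.leaf 885690 1484 Tr.leaf) 886058 570 Tr.leaf)) 886971 1088 (Tr.node (Tr.node (Tr.node Tr.leaf 887329 1381 Tr.leaf) 900281 1238 Tr.leaf) 900639 1010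 (Tr.node (Tr.node Tr.leaf 901662 1477 Tr.leaf) 902030 1500 Tr.leaf)))) 912409 844 (Tr.node (Tr.node (Tr.node (Tr.node (Tr.node Tr.leaf 912535 101 Tr.leaf) 919058 389 Tr.leaf) 919174 625 (Tr.node (Tr.node Tr.leaf 925281 954 Tr.leaf) 926371 1243 Tr.leaf)) 934500 1356 (Tr.node (Tr.node (Tr.node Tr.leaf 935588 1537 Tr.leaf) 966802 11 Tr.leaf) 966910 34 (Tr.node (Tr.node Tr.leaf 967174 12 Tr.leaf) 967264 42 Tr.leaf))) 1013128 1537 (Tr.node (Tr.node (Tr.node (Tr.node Tr.leaf 1014216 1356 Tr.leaf) 1022345 1243 Tr.leaf) 1023435 954 (Tr.node (Tr.node Tr.leaf 1029542 625 Tr.leaf) 1029658 389 Tr.leaf)) 1036181 101 (Tr.node (Tr.node (Tr.node Tr.leaf 1036307 844 Tr.leaf) 1046686 1500 Tr.leaf) 1047054 1477 (Tr.node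 (Tr.node Tr.leaf 1048077 1010 Tr.leaf) 1048435 1238 Tr.leaf))))))

def keyT2 : Tr := (Tr.node (Tr.node (Tr.node (Tr.node (Tr.node (Tr.node (Tr.node Tr.leaf 1061745 1088 Tr.leaf) 1062658 570 (Tr.node Tr.leaf 1063026 1484 Tr.leaf)) 1073449 125 (Tr.node (Tr.node Tr.leaf 1073575 183 Tr.leaf) 1080120 317 Tr.leaf)) 1080236 68 (Tr.node (Tr.node (Tr.node Tr.leaf 1086233 1407 Tr.leaf) 1087323 1517 Tr.leaf) 1095650 1056 (Tr.node (Tr.node Tr.leaf 1096738 1107 Tr.leaf) 1143384 4 Tr.leaf))) 1148664 900 (Tr.node (Tr.node (Tr.node (Tr.node Tr.leaf 1150094 577 Tr.leaf) 1155374 46 Tr.leaf) 1159479 547 (Tr.node (Tr.node Tr.leaf 1160575 542 Tr.leaf) 1168814 923 Tr.leaf)) 1169896 252 (Tr.node (Tr.node (Tr.node Tr.leaf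 1175361 159 Tr.leaf) 1181961 693 Tr.leaf) 1190447 586 (Tr.node (Tr.node Tr.leaf 1190811 148 Tr.leaf) 1191792 105 Tr.leaf)))) 1192150 869 (Tr.node (Tr.node (Tr.node (Tr.node (Tr.node Tr.leaf 1193155 1464 Tr.leaf) 1193515 827 Tr.leaf) 1194428 1508 (Tr.node (Tr.node Tr.leaf 1194794 1044 Tr.leaf) 1195791 887 Tr.leaf)) 1196159 459 (Tr.node (Tr.node (Tr.node Tr.leaf 1197136 77 Tr.leaf) 1197498 334 Tr.leaf) 1201904 332 (Tr.node (Tr.node Tr.leaf 1205199 1526 Tr.leaf) 1205319 1479 Tr.leaf))) 1211908 1511 (Tr.node (Tr.node (Tr.node (Tr.node Tr.leaf 1212030 433 Tr.leaf) 1213982 784 Tr.leaf) 1216644 873 (Tr.node (Tr.node Tr.leaf 1219894 1369 Tr.leaf) 1220016 1353 Tr.leaf)) 1226495 1339 (Tr.node (Tr.node (Tr.node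 Tr.leaf 1226615 1068 Tr.leaf) 1228524 1274 Tr.leaf) 1234404 201 (Tr.node (Tr.node Tr.leaf 1234766 694 Tr.leaf) 1235721 331 Tr.leaf))))) 1236089 1425 (Tr.node (Tr.node (Tr.node (Tr.node (Tr.node (Tr.node Tr.leaf 1237020 882 Tr.leaf) 1237386 571 Tr.leaf) 1238409 1453 (Tr.node (Tr.node Tr.leaf 1238769 906 Tr.leaf) 1239708 301 Tr.leaf)) 1240066 152 (Tr.node (Tr.node (Tr.node Tr.leaf 1241025 55 Tr.leaf) 1241389 246 Tr.leaf) 1248511 49 (Tr.node (Tr.node Tr.leaf 1255221 1126 Tr.leaf) 1261984 294 Tr.leaf))) 1263066 146 (Tr.node (Tr.node (Tr.node (Tr.node Tr.leaf 1271283 1076 Tr.leaf) 1272379 442 Tr.leaf) 1275164 16 (Tr.node (Tr.node Tr.leaf 1280532 345 Tr.leaf) 1281764 1257 Tr.leaf)) 1287132 7 (Tr.node (Tr.node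 (Tr.node Tr.leaf 1288933 285 Tr.leaf) 1288983 736 Tr.leaf) 1289291 499 (Tr.node (Tr.node Tr.leaf 1289351 476 Tr.leaf) 1310341 544 Tr.leaf)))) 1310453 862 (Tr.node (Tr.node (Tr.node (Tr.node (Tr.node Tr.leaf 1311740 188 Tr.leaf) 1311870 587 Tr.leaf) 1320374 517 (Tr.node (Tr.node Tr.leaf 1329768 59 Tr.leaf) 1422938 915 Tr.leaf)) 1432178 194 (Tr.node (Tr.node (Tr.node Tr.leaf 1442178 756 Tr.leaf) 1442308 1314 Tr.leaf) 1443441 505 (Tr.node (Tr.node Tr.leaf 1443553 1268 Tr.leaf) 1449846 884 Tr.leaf))) 1449930 560 (Tr.node (Tr.node (Tr.node (Tr.node Tr.leaf 1450458 342 Tr.leaf) 1450528 110 Tr.leaf) 1467351 72 (Tr.node (Tr.node Tr.leaf 1467713 666 Tr.leaf) 1476590 1280 Tr.leaf)) 1476954 1012 (Tr.node (Tr.node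 (Tr.node Tr.leaf 1599042 232 Tr.leaf) 1599406 835 Tr.leaf) 1608437 883 (Tr.node (Tr.node Tr.leaf 1608799 403 Tr.leaf) 1611010 1363 Tr.leaf))))))

def keyT3 : Tr := (Tr.node (Tr.node (Tr.node (Tr.node (Tr.node (Tr.node (Tr.node Tr.leaf 1611070 769 Tr.leaf) 1611110 1531 Tr.leaf) 1611374 1148 (Tr.node (Tr.node Tr.leaf 1611422 1232 Tr.leaf) 1611424 513 Tr.leaf)) 1611472 1255 (Tr.node (Tr.node (Tr.node Tr.leaf 1676002 1411 Tr.leaf) 1676842 615 Tr.leaf) 1677403 1490 (Tr.node (Tr.node Tr.leaf 1678257 1318 Tr.leaf) 1685466 600 Tr.leaf))) 1686078 797 (Tr.node (Tr.node (Tr.node (Tr.node Tr.leaf 1697463 637 Tr.leaf) 1698061 841 Tr.leaf) 1700125 1042 (Tr.node (Tr.node Tr.leaf 1700723 1350 Tr.leaf) 1712086 1024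 Tr.leaf)) 1712698 1287 (Tr.node (Tr.node (Tr.node Tr.leaf 1719995 871 Tr.leaf) 1720849 781 Tr.leaf) 1721256 1495 (Tr.node (Tr.node Tr.leaf 1722096 969 Tr.leaf) 1777072 902 Tr.leaf)))) 1777600 300 (Tr.node (Tr.node (Tr.node (Tr.node (Tr.node Tr.leaf 1777622 1105 Tr.leaf) 1778150 1259 Tr.leaf) 1781054 1466 (Tr.node (Tr.node Tr.leaf 1781494 875 Tr.leaf) 1781714 284 Tr.leaf)) 1782154 1040 (Tr.node (Tr.node (Tr.node Tr.leaf 1786252 886 Tr.leaf) 1786284 471 Tr.leaf) 1817495 764 (Tr.node (Tr.node Tr.leaf 1817598 538 Tr.leaf) 1829456 917 Tr.leaf))) 1829595 296 (Tr.node (Tr.node (Tr.node (Tr.node Tr.leaf 1844820 6 Tr.leaf) 1844844 62 Tr.leaf) 1859452 0 (Tr.node (Tr.node Tr.leaf 1859494 75 Tr.leaf) 1890693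 1156 Tr.leaf)) 1890810 329 (Tr.node (Tr.node (Tr.node Tr.leaf 1902668 982 Tr.leaf) 1902793 808 Tr.leaf) 1918020 786 (Tr.node (Tr.node Tr.leaf 1918054 822 Tr.leaf) 1939274 15 Tr.leaf))))) 1940602 1 (Tr.node (Tr.node (Tr.node (Tr.node (Tr.node (Tr.node Tr.leaf 1948718 759 Tr.leaf) 1948728 465 Tr.leaf) 1948838 1327 (Tr.node (Tr.node Tr.leaf 1950048 990 Tr.leaf) 1959473 524 Tr.leaf)) 1960793 772 (Tr.node (Tr.node (Tr.node Tr.leaf 1960803 1151 Tr.leaf) 1960925 1150 Tr.leaf) 1963358 838 (Tr.node (Tr.node Tr.leaf 1975445 1031 Tr.leaf) 1984031 237 Tr.leaf))) 1985264 1093 (Tr.node (Tr.node (Tr.node (Tr.node Tr.leaf 1995881 1413 Tr.leaf) 2002454 1387 Tr.leaf) 2006585 751 (Tr.node (Tr.node Tr.leaf 2006633 1505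 Tr.leaf) 2021098 1379 Tr.leaf)) 2021160 1395 (Tr.node (Tr.node (Tr.node Tr.leaf 2039848 1534 Tr.leaf) 2046575 1143 Tr.leaf) 2057016 609 (Tr.node (Tr.node Tr.leaf 2058447 128 Tr.leaf) 2067033 309 Tr.leaf)))) 2078922 1186 (Tr.node (Tr.node (Tr.node (Tr.node (Tr.node Tr.leaf 2081553 472 Tr.leaf) 2081663 792 Tr.leaf) 2081675 1246 (Tr.node (Tr.node Tr.leaf 2083005 1115 Tr.leaf) 2092232 830 Tr.leaf)) 2093442 518 (Tr.node (Tr.node (Tr.node Tr.leaf 2093562 561 Tr.leaf) 2093574 304 Tr.leaf) 2109768 523 (Tr.node (Tr.node Tr.leaf 2121855 761 Tr.leaf) 2155617 1293 Tr.leaf))) 2157204 178 (Tr.node (Tr.node (Tr.node (Tr.node Tr.leaf 2163959 394 Tr.leaf) 2164941 1025 Tr.leaf) 2199419 908 (Tr.node (Tr.node Tr.leaf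 2200621 64 Tr.leaf) 2207178 311 Tr.leaf)) 2208743 231 (Tr.node (Tr.node (Tr.node Tr.leaf 2242725 677 Tr.leaf) 2254614 273 Tr.leaf) 2286248 863 (Tr.node (Tr.node Tr.leaf 2298211 446 Tr.leaf) 2319154 918 Tr.leaf))))))

def keyT4 : Tr := (Tr.node (Tr.node (Tr.node (Tr.node (Tr.node (Tr.node (Tr.node Tr.leaf 2330696 114 Tr.leaf) 2335860 1032 (Tr.node Tr.leaf 2337171 971 Tr.leaf)) 2339915 695 (Tr.node (Tr.node Tr.leaf 2345238 671 Tr.leaf) 2349401 228 Tr.leaf)) 2350734 735 (Tr.node (Tr.node (Tr.node Tr.leaf 2354655 249 Tr.leaf) 2363429 820 Tr.leaf) 2367440 879 (Tr.node (Tr.node Tr.leaf 2388361 814 Tr.leaf) 2400346 864 Tr.leaf))) 2466933 986 (Tr.node (Tr.node (Tr.node (Tr.node Tr.leaf 2467521 1136 Tr.leaf)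 2468184 410 Tr.leaf) 2468806 1532 (Tr.node (Tr.node Tr.leaf 2477404 740 Tr.leaf) 2478842 668 Tr.leaf)) 2485557 439 (Tr.node (Tr.node (Tr.node Tr.leaf 2486753 717 Tr.leaf) 2492820 628 Tr.leaf) 2493174 655 (Tr.node (Tr.node Tr.leaf 2499781 1075 Tr.leaf) 2502060 1335 Tr.leaf)))) 2506537 482 (Tr.node (Tr.node (Tr.node (Tr.node (Tr.node Tr.leaf 2508849 456 Tr.leaf) 2515566 959 Tr.leaf) 2515931 553 (Tr.node (Tr.node Tr.leaf 2521965 1285 Tr.leaf) 2523183 1348 Tr.leaf)) 2529788 1157 (Tr.node (Tr.node (Tr.node Tr.leaf 2531248 604 Tr.leaf) 2539824 1091 Tr.leaf) 2540424 662 (Tr.node (Tr.node Tr.leaf 2541219 1337 Tr.leaf) 2541829 912 Tr.leaf))) 2578154 950 (Tr.node (Tr.node (Tr.node (Tr.node Tr.leaf 2583866 1218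 Tr.leaf) 2584548 1384 Tr.leaf) 2585265 460 (Tr.node (Tr.node Tr.leaf 2585793 1457 Tr.leaf) 2590130 1465 Tr.leaf)) 2593816 1264 (Tr.node (Tr.node (Tr.node Tr.leaf 2594644 527 Tr.leaf) 2596198 1193 Tr.leaf) 2602930 673 (Tr.node (Tr.node Tr.leaf 2604011 53 Tr.leaf) 2605807 364 Tr.leaf))))) 2606969 203 (Tr.node (Tr.node (Tr.node (Tr.node (Tr.node (Tr.node Tr.leaf 2607053 143 Tr.leaf) 2653901 186 Tr.leaf) 2663213 1166 (Tr.node (Tr.node Tr.leaf 2667453 540 Tr.leaf) 2676765 755 Tr.leaf)) 2709100 738 (Tr.node (Tr.node (Tr.node Tr.leaf 2709170 1069 Tr.leaf) 2724991 1000 Tr.leaf) 2726831 179 (Tr.node (Tr.node Tr.leaf 2727923 1154 Tr.leaf) 2734501 709 Tr.leaf))) 2736088 240 (Tr.node (Tr.node (Tr.node (Tr.node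 Tr.leaf 2736960 400 Tr.leaf) 2739202 899 Tr.leaf) 2744908 1072 (Tr.node (Tr.node Tr.leaf 2745590 1108 Tr.leaf) 2746325 1485 Tr.leaf)) 2746853 955 (Tr.node (Tr.node (Tr.node Tr.leaf 2751184 1256 Tr.leaf) 2754274 116 Tr.leaf) 2756108 20 (Tr.node (Tr.node Tr.leaf 2757205 1370 Tr.leaf) 2763783 697 Tr.leaf)))) 2765375 414 (Tr.node (Tr.node (Tr.node (Tr.node (Tr.node Tr.leaf 2766241 821 Tr.leaf) 2767657 592 Tr.leaf) 2767741 436 (Tr.node (Tr.node Tr.leaf 2813858 1037 Tr.leaf) 2823180 57 Tr.leaf)) 2829588 270 (Tr.node (Tr.node (Tr.node Tr.leaf 2838910 534 Tr.leaf) 2870514 504 Tr.leaf) 2870584 1162 (Tr.node (Tr.node Tr.leaf 2886637 733 Tr.leaf) 2887459 66 Tr.leaf))) 2889018 930 (Tr.node (Tr.node (Tr.node (Tr.node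 Tr.leaf 2895750 361 Tr.leaf) 2896836 70 Tr.leaf) 2898626 681 (Tr.node (Tr.node Tr.leaf 2949781 1482 Tr.leaf) 2950369 132 Tr.leaf)) 2951158 1521 (Tr.node (Tr.node (Tr.node Tr.leaf 2951780 1260 Tr.leaf) 2961194 432 Tr.leaf) 2962418 1078 (Tr.node (Tr.node Tr.leaf 2969013 613 Tr.leaf) 2970479 1033 Tr.leaf))))))

def keyT5 : Tr := (Tr.node (Tr.node (Tr.node (Tr.node (Tr.node (Tr.node (Tr.node Tr.leaf 2977368 860 Tr.leaf) 2984071 748 Tr.leaf) 2984443 1311 (Tr.node (Tr.node Tr.leaf 2990614 371 Tr.leaf) 2990975 327 Tr.leaf)) 2997568 257 (Tr.node (Tr.node (Tr.node Tr.leaf 2999854 1133 Tr.leaf) 3004479 1058 Tr.leaf) 3005923 1410 (Tr.node (Tr.node Tr.leaf 3012628 213 Tr.leaf) 3013830 429 Tr.leaf))) 3023288 1486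 (Tr.node (Tr.node (Tr.node (Tr.node Tr.leaf 3023888 1497 Tr.leaf) 3024545 230 Tr.leaf) 3025155 1333 (Tr.node (Tr.node Tr.leaf 3091124 1155 Tr.leaf) 3103119 328 Tr.leaf)) 3124768 1306 (Tr.node (Tr.node (Tr.node Tr.leaf 3128765 1474 Tr.leaf) 3135853 245 Tr.leaf) 3140006 368 (Tr.node (Tr.node Tr.leaf 3141357 412 Tr.leaf) 3145268 359 Tr.leaf)))) 3150593 707 (Tr.node (Tr.node (Tr.node (Tr.node (Tr.node Tr.leaf 3155747 1200 Tr.leaf) 3157076 654 Tr.leaf) 3159810 233 (Tr.node (Tr.node Tr.leaf 3168339 1452 Tr.leaf) 3172314 1194 Tr.leaf)) 3193985 593 (Tr.node (Tr.node (Tr.node Tr.leaf 3205958 857 Tr.leaf) 3238322 1224 Tr.leaf) 3250193 176 (Tr.node (Tr.node Tr.leaf 3282860 698 Tr.leaf) 3284056 126 Tr.leaf)))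 3290611 239 (Tr.node (Tr.node (Tr.node (Tr.node Tr.leaf 3292170 1043 Tr.leaf) 3326904 651 Tr.leaf) 3328485 133 (Tr.node (Tr.node Tr.leaf 3335238 19 Tr.leaf) 3336214 742 Tr.leaf)) 3368903 86 (Tr.node (Tr.node (Tr.node Tr.leaf 3380972 1172 Tr.leaf) 3388730 136 Tr.leaf) 3390064 13 (Tr.node (Tr.node Tr.leaf 3399252 758 Tr.leaf) 3399362 1292 Tr.leaf))))) 3399372 490 (Tr.node (Tr.node (Tr.node (Tr.node (Tr.node (Tr.node Tr.leaf 3400704 765 Tr.leaf) 3409913 275 Tr.leaf) 3411123 648 (Tr.node (Tr.node Tr.leaf 3411245 272 Tr.leaf) 3411255 1097 Tr.leaf)) 3414014 155 (Tr.node (Tr.node (Tr.node Tr.leaf 3425885 1421 Tr.leaf) 3433271 704 Tr.leaf) 3434700 679 (Tr.node (Tr.node Tr.leaf 3445379 1467 Tr.leaf) 3452116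 782 Tr.leaf))) 3455923 1214 (Tr.node (Tr.node (Tr.node (Tr.node Tr.leaf 3455971 1472 Tr.leaf) 3470678 1459 Tr.leaf) 3470740 1388 (Tr.node (Tr.node Tr.leaf 3489258 1001 Tr.leaf) 3495841 1481 Tr.leaf)) 3506696 398 (Tr.node (Tr.node (Tr.node Tr.leaf 3507927 731 Tr.leaf) 3515313 468 Tr.leaf) 3527382 1116 (Tr.node (Tr.node Tr.leaf 3529953 519 Tr.leaf) 3529965 831 Tr.leaf)))) 3530075 945 (Tr.node (Tr.node (Tr.node (Tr.node (Tr.node Tr.leaf 3531285 1273 Tr.leaf) 3540692 1291 Tr.leaf) 3542012 392 (Tr.node (Tr.node Tr.leaf 3542024 1124 Tr.leaf) 3542144 839 Tr.leaf)) 3547456 60 (Tr.node (Tr.node (Tr.node Tr.leaf 3548226 196 Tr.leaf) 3554034 1185 Tr.leaf) 3554958 565 (Tr.node (Tr.node Tr.leaf 3563800 1145 Tr.leaf)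 3563837 1135 Tr.leaf))) 3564578 1049 (Tr.node (Tr.node (Tr.node (Tr.node Tr.leaf 3565721 385 Tr.leaf) 3565963 686 Tr.leaf) 3566998 1061 (Tr.node (Tr.node Tr.leaf 3567709 1081 Tr.leaf) 3567914 1522 Tr.leaf)) 3572446 302 (Tr.node (Tr.node (Tr.node Tr.leaf 3572494 335 Tr.leaf) 3604607 726 Tr.leaf) 3605552 502 (Tr.node (Tr.node Tr.leaf 3614022 167 Tr.leaf) 3614771 535 Tr.leaf))))))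

def keyT6 : Tr := (Tr.node (Tr.node (Tr.node (Tr.node (Tr.node (Tr.node (Tr.node Tr.leaf 3649476 434 Tr.leaf) 3657946 260 Tr.leaf) 3658693 865 (Tr.node (Tr.node Tr.leaf 3674926 1231 Tr.leaf) 3674988 200 Tr.leaf)) 3695562 953 (Tr.node (Tr.node (Tr.node Tr.leaf 3695613 752 Tr.leaf) 3696346 881 Tr.leaf) 3697491 1018 (Tr.node (Tr.node Tr.leaf 3697733 528 Tr.leaf) 3698766 713 Tr.leaf))) 3699485 1219 (Tr.node (Tr.node (Tr.node (Tr.node Tr.leaf 3699676 1312 Tr.leaf) 3708358 851 Tr.leaf) 3709436 1270 (Tr.node (Tr.node Tr.leaf 3715003 635 Tr.leaf) 3716103 958 Tr.leaf)) 3720278 308 (Tr.node (Tr.node (Tr.node Tr.leaf 3725543 868 Tr.leaf) 3726858 1092 Tr.leaf) 3732365 1030 (Tr.node (Tr.node Tr.leaf 3739087 425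 Tr.leaf) 3743069 564 Tr.leaf)))) 3753954 964 (Tr.node (Tr.node (Tr.node (Tr.node (Tr.node Tr.leaf 3757979 1173 Tr.leaf) 3769774 998 Tr.leaf) 3771199 746 (Tr.node (Tr.node Tr.leaf 3780119 356 Tr.leaf) 3789410 1127 Tr.leaf)) 3794727 80 (Tr.node (Tr.node (Tr.node Tr.leaf 3804084 852 Tr.leaf) 3814401 1104 Tr.leaf) 3815628 444 (Tr.node (Tr.node Tr.leaf 3827555 1035 Tr.leaf) 3831514 649 Tr.leaf))) 3842410 696 (Tr.node (Tr.node (Tr.node (Tr.node Tr.leaf 3846414 130 Tr.leaf) 3853235 466 Tr.leaf) 3857301 1503 (Tr.node (Tr.node Tr.leaf 3858638 1530 Tr.leaf) 3865124 877 Tr.leaf)) 3867107 1412 (Tr.node (Tr.node (Tr.node Tr.leaf 3867459 1383 Tr.leaf) 3867894 171 Tr.leaf) 3877206 760 (Tr.node (Tr.node Tr.leaf 3879082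 1298 Tr.leaf) 3879456 1491 Tr.leaf))))) 3886769 594 (Tr.node (Tr.node (Tr.node (Tr.node (Tr.node (Tr.node Tr.leaf 3888097 144 Tr.leaf) 3894677 1523 Tr.leaf) 3894709 1402 (Tr.node (Tr.node Tr.leaf 3899629 1331 Tr.leaf) 3906334 1191 Tr.leaf)) 3912214 810 (Tr.node (Tr.node (Tr.node Tr.leaf 3921579 995 Tr.leaf) 3986079 994 Tr.leaf) 3995334 1392 (Tr.node (Tr.node Tr.leaf 3998252 1082 Tr.leaf) 3998286 1461 Tr.leaf))) 4001324 503 (Tr.node (Tr.node (Tr.node (Tr.node Tr.leaf 4007919 845 Tr.leaf) 4019385 250 Tr.leaf) 4020713 438 (Tr.node (Tr.node Tr.leaf 4042824 1129 Tr.leaf) 4054749 399 Tr.leaf)) 4060014 1328 (Tr.node (Tr.node (Tr.node Tr.leaf 4066599 382 Tr.leaf) 4073209 1202 Tr.leaf) 4082444 1197 (Tr.node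 (Tr.node Tr.leaf 4091699 247 Tr.leaf) 4092994 1204 Tr.leaf)))) 4136678 935 (Tr.node (Tr.node (Tr.node (Tr.node (Tr.node Tr.leaf 4138039 365 Tr.leaf) 4147184 1427 Tr.leaf) 4156573 642 (Tr.node (Tr.node Tr.leaf 4163029 989 Tr.leaf) 4169768 1463 Tr.leaf)) 4174901 1415 (Tr.node (Tr.node (Tr.node Tr.leaf 4186936 1301 Tr.leaf) 4207724 1029 Tr.leaf) 4211709 411 (Tr.node (Tr.node Tr.leaf 4223372 1262 Tr.leaf) 4224617 946 Tr.leaf))) 4235439 619 (Tr.node (Tr.node (Tr.node (Tr.node Tr.leaf 4242074 113 Tr.leaf) 4309722 73 Tr.leaf) 4316379 226 (Tr.node (Tr.node Tr.leaf 4325782 395 Tr.leaf) 4327181 674 Tr.leaf)) 4340087 1456 (Tr.node (Tr.node (Tr.node Tr.leaf 4344094 467 Tr.leaf) 4351189 685 Tr.leaf) 4352355 234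 (Tr.node (Tr.node Tr.leaf 4360580 624 Tr.leaf) 4361592 669 Tr.leaf))))))

def keyT7 : Tr := (Tr.node (Tr.node (Tr.node (Tr.node (Tr.node (Tr.node (Tr.node Tr.leaf 4513403 812 Tr.leaf) 4521634 836 Tr.leaf) 4522646 241 (Tr.node (Tr.node Tr.leaf 4691474 390 Tr.leaf) 4695475 579 Tr.leaf)) 4706439 1098 (Tr.node (Tr.node (Tr.node Tr.leaf 4707856 687 Tr.leaf) 4719661 35 Tr.leaf) 4726336 312 (Tr.node (Tr.node Tr.leaf 4791788 177 Tr.leaf) 4798441 242 Tr.leaf))) 4809003 1229 (Tr.node (Tr.node (Tr.node (Tr.node Tr.leaf 4810266 992 Tr.leaf) 4822649 1117 Tr.leaf) 4826628 977 (Tr.node (Tr.node Tr.leaf 4848388 1002 Tr.leaf) 4860421 1518 Tr.leaf)) 4865804 973 (Tr.node (Tr.node (Tr.node Tr.leaf 4872529 652 Tr.leaf)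 4879229 1442 Tr.leaf) 4888628 1013 (Tr.node (Tr.node Tr.leaf 4898007 543 Tr.leaf) 4899374 701 Tr.leaf)))) 4940874 942 (Tr.node (Tr.node (Tr.node (Tr.node (Tr.node Tr.leaf 4942175 362 Tr.leaf) 4951664 972 Tr.leaf) 4960909 1086 (Tr.node (Tr.node Tr.leaf 4967763 1330 Tr.leaf) 4974334 1134 Tr.leaf)) 4979849 901 (Tr.node (Tr.node (Tr.node Tr.leaf 4991772 1409 Tr.leaf) 4994471 1450 Tr.leaf) 4994823 1111 (Tr.node (Tr.node Tr.leaf 4995246 350 Tr.leaf) 5004568 193 Tr.leaf))) 5006432 724 (Tr.node (Tr.node (Tr.node (Tr.node Tr.leaf 5006806 1417 Tr.leaf) 5014970 45 Tr.leaf) 5016304 643 (Tr.node (Tr.node Tr.leaf 5023123 1168 Tr.leaf) 5023155 1216 Tr.leaf)) 5026189 975 (Tr.node (Tr.node (Tr.node Tr.leaf 5032794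 1492 Tr.leaf) 5040224 1284 Tr.leaf) 5049493 1317 (Tr.node (Tr.node Tr.leaf 5112769 1489 Tr.leaf) 5122148 632 Tr.leaf))))) 5124520 441 (Tr.node (Tr.node (Tr.node (Tr.node (Tr.node (Tr.node Tr.leaf 5124554 1475 Tr.leaf) 5129468 1329 Tr.leaf) 5136183 1163 (Tr.node (Tr.node Tr.leaf 5145892 541 Tr.leaf) 5147226 78 Tr.leaf)) 5157818 927 (Tr.node (Tr.node (Tr.node Tr.leaf 5158896 550 Tr.leaf) 5164461 506 Tr.leaf) 5165561 322 (Tr.node (Tr.node Tr.leaf 5170934 832 Tr.leaf) 5174986 1319 Tr.leaf))) 5176333 1365 (Tr.node (Tr.node (Tr.node (Tr.node Tr.leaf 5182805 793 Tr.leaf) 5189382 664 Tr.leaf) 5193386 1052 (Tr.node (Tr.node Tr.leaf 5203808 1420 Tr.leaf) 5207769 1198 Tr.leaf)) 5219932 267 (Tr.node (Tr.node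 (Tr.node Tr.leaf 5221169 776 Tr.leaf) 5229552 813 Tr.leaf) 5238895 140 (Tr.node (Tr.node Tr.leaf 5244226 1094 Tr.leaf) 5253503 254 Tr.leaf)))) 5263151 145 (Tr.node (Tr.node (Tr.node (Tr.node (Tr.node Tr.leaf 5264586 458 Tr.leaf) 5276617 1226 Tr.leaf) 5280644 636 (Tr.node (Tr.node Tr.leaf 5291033 404 Tr.leaf) 5295015 1316 Tr.leaf)) 5301515 878 (Tr.node (Tr.node (Tr.node Tr.leaf 5306766 1242 Tr.leaf) 5308091 1110 Tr.leaf) 5313584 154 (Tr.node (Tr.node Tr.leaf 5320403 1515 Tr.leaf) 5321063 292 Tr.leaf))) 5324451 803 (Tr.node (Tr.node (Tr.node (Tr.node Tr.leaf 5325001 161 Tr.leaf) 5358653 279 Tr.leaf) 5358691 487 (Tr.node (Tr.node Tr.leaf 5379138 515 Tr.leaf) 5379467 1206 Tr.leaf)) 5383097 749 (Tr.node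 (Tr.node (Tr.node Tr.leaf 5383494 190 Tr.leaf) 5393646 533 Tr.leaf) 5394241 320 (Tr.node (Tr.node Tr.leaf 5395200 1283 Tr.leaf) 5395349 817 Tr.leaf))))))

def keyT8 : Tr := (Tr.node (Tr.node (Tr.node (Tr.node (Tr.node (Tr.node (Tr.node Tr.leaf 5396652 1366 Tr.leaf) 5397629 218 (Tr.node Tr.leaf 5398244 963 Tr.leaf)) 5408288 644 (Tr.node (Tr.node Tr.leaf 5408881 182 Tr.leaf) 5409836 1028 Tr.leaf)) 5409995 1205 (Tr.node (Tr.node (Tr.node Tr.leaf 5411205 1321 Tr.leaf) 5411288 891 Tr.leaf) 5412269 225 (Tr.node (Tr.node Tr.leaf 5412886 123 Tr.leaf) 5423060 815 Tr.leaf))) 5423391 1234 (Tr.node (Tr.node (Tr.node (Tr.node Tr.leaf 5427021 554 Tr.leaf) 5427416 269 Tr.leaf) 5431863 449 (Tr.node (Tr.node Tr.leaf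 5431891 804 Tr.leaf) 5496724 1514 Tr.leaf)) 5500735 1290 (Tr.node (Tr.node (Tr.node Tr.leaf 5523611 732 Tr.leaf) 5532896 545 Tr.leaf) 5540032 1015 (Tr.node (Tr.node Tr.leaf 5544063 1424 Tr.leaf) 5551411 96 Tr.leaf)))) 5556793 916 (Tr.node (Tr.node (Tr.node (Tr.node (Tr.node Tr.leaf 5558025 318 Tr.leaf) 5563418 39 Tr.leaf) 5565238 38 (Tr.node (Tr.node Tr.leaf 5570488 1208 Tr.leaf) 5571918 463 Tr.leaf)) 5577179 119 (Tr.node (Tr.node (Tr.node Tr.leaf 5584593 255 Tr.leaf) 5588558 372 Tr.leaf) 5595694 1123 (Tr.node (Tr.node Tr.leaf 5605045 925 Tr.leaf) 5627899 1494 Tr.leaf))) 5631888 1334 (Tr.node (Tr.node (Tr.node (Tr.node Tr.leaf 5653488 1046 Tr.leaf) 5657519 1100 Tr.leaf) 5661558 548 (Tr.node (Tr.node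 Tr.leaf 5665468 1436 Tr.leaf) 5667156 107 Tr.leaf)) 5669804 1385 (Tr.node (Tr.node (Tr.node Tr.leaf 5679039 1195 Tr.leaf) 5685814 993 Tr.leaf) 5692553 983 (Tr.node (Tr.node Tr.leaf 5758249 1423 Tr.leaf) 5764834 1315 Tr.leaf))))) 5768796 585 (Tr.node (Tr.node (Tr.node (Tr.node (Tr.node (Tr.node Tr.leaf 5771609 1320 Tr.leaf) 5780998 1203 Tr.leaf) 5785136 567 (Tr.node (Tr.node Tr.leaf 5789222 457 Tr.leaf) 5793151 258 Tr.leaf)) 5797116 1358 (Tr.node (Tr.node (Tr.node Tr.leaf 5801833 477 Tr.leaf) 5805169 936 Tr.leaf) 5805279 1389 (Tr.node (Tr.node Tr.leaf 5806486 1357 Tr.leaf) 5806618 976 Tr.leaf))) 5808491 366 (Tr.node (Tr.node (Tr.node (Tr.node Tr.leaf 5818322 948 Tr.leaf) 5820448 71 Tr.leaf) 5821699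 214 (Tr.node (Tr.node Tr.leaf 5822373 440 Tr.leaf) 5830959 1346 Tr.leaf)) 5840228 1435 (Tr.node (Tr.node (Tr.node Tr.leaf 5847891 1142 Tr.leaf) 5851852 1160 Tr.leaf) 5863976 779 (Tr.node (Tr.node Tr.leaf 5865291 785 Tr.leaf) 5878748 494 Tr.leaf)))) 5880043 85 (Tr.node (Tr.node (Tr.node (Tr.node (Tr.node Tr.leaf 5892751 744 Tr.leaf) 5894112 51 Tr.leaf) 5907525 283 (Tr.node (Tr.node Tr.leaf 5908862 1120 Tr.leaf) 5920942 1179 Tr.leaf)) 5924969 1414 (Tr.node (Tr.node (Tr.node Tr.leaf 5932544 846 Tr.leaf) 5941923 1164 Tr.leaf) 5950509 1399 (Tr.node (Tr.node Tr.leaf 5951051 227 Tr.leaf) 5952456 74 Tr.leaf))) 5954450 1080 (Tr.node (Tr.node (Tr.node (Tr.node Tr.leaf 5964757 419 Tr.leaf) 5965131 197 Tr.leaf)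 5968758 905 (Tr.node (Tr.node Tr.leaf 5969110 360 Tr.leaf) 6006972 1445 Tr.leaf)) 6010405 1039 (Tr.node (Tr.node (Tr.node Tr.leaf 6011682 90 Tr.leaf) 6013663 773 Tr.leaf) 6022472 157 (Tr.node (Tr.node Tr.leaf 6023524 1171 Tr.leaf) 6024187 184 Tr.leaf))))))

def keyT9 : Tr := (Tr.node (Tr.node (Tr.node (Tr.node (Tr.node (Tr.node (Tr.node Tr.leaf 6027603 843 Tr.leaf) 6029139 50 Tr.leaf) 6034349 1281 (Tr.node (Tr.node Tr.leaf 6038183 1245 Tr.leaf) 6042226 481 Tr.leaf)) 6046302 1054 (Tr.node (Tr.node (Tr.node Tr.leaf 6048594 856 Tr.leaf) 6052758 1177 Tr.leaf) 6056691 1128 (Tr.node (Tr.node Tr.leaf 6060613 606 Tr.leaf) 6065801 495 Tr.leaf))) 6067403 220 (Tr.node (Tr.node (Tr.node (Tr.node Tr.leaf 6068077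 739 Tr.leaf) 6069444 420 Tr.leaf) 6071328 1225 (Tr.node (Tr.node Tr.leaf 6072446 44 Tr.leaf) 6081299 949 Tr.leaf)) 6083192 421 (Tr.node (Tr.node (Tr.node Tr.leaf 6084579 1258 Tr.leaf) 6087924 1016 Tr.leaf) 6125960 1182 (Tr.node (Tr.node Tr.leaf 6126026 659 Tr.leaf) 6129899 1438 Tr.leaf)))) 6130075 1354 (Tr.node (Tr.node (Tr.node (Tr.node (Tr.node Tr.leaf 6150486 1019 Tr.leaf) 6150506 529 Tr.leaf) 6154441 1483 (Tr.node (Tr.node Tr.leaf 6161192 1524 Tr.leaf) 6170212 1048 Tr.leaf)) 6170566 1341 (Tr.node (Tr.node (Tr.node Tr.leaf 6171929 1355 Tr.leaf) 6174219 276 Tr.leaf) 6182128 348 (Tr.node (Tr.node Tr.leaf 6183261 475 Tr.leaf) 6189968 479 Tr.leaf))) 6191343 661 (Tr.node (Tr.node (Tr.node (Tr.node Tr.leaf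 6195221 397 Tr.leaf) 6197209 913 Tr.leaf) 6198035 310 (Tr.node (Tr.node Tr.leaf 6203850 639 Tr.leaf) 6204718 289 Tr.leaf)) 6207290 678 (Tr.node (Tr.node (Tr.node Tr.leaf 6209840 1342 Tr.leaf) 6211839 222 Tr.leaf) 6212346 92 (Tr.node (Tr.node Tr.leaf 6218502 120 Tr.leaf) 6218963 47 Tr.leaf))))) 6221711 629 (Tr.node (Tr.node (Tr.node (Tr.node (Tr.node (Tr.node Tr.leaf 6225589 909 Tr.leaf) 6227118 921 Tr.leaf) 6233715 416 (Tr.node (Tr.node Tr.leaf 6235002 376 Tr.leaf) 6242823 1272 Tr.leaf)) 6243804 1439 (Tr.node (Tr.node (Tr.node Tr.leaf 6245101 1021 Tr.leaf) 6246808 280 Tr.leaf) 6251893 430 (Tr.node (Tr.node Tr.leaf 6251895 423 Tr.leaf) 6255938 1468 Tr.leaf))) 6262491 911 (Tr.node (Tr.node (Tr.node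 (Tr.node Tr.leaf 6287012 1498 Tr.leaf) 6287078 1441 Tr.leaf) 6290949 1278 (Tr.node (Tr.node Tr.leaf 6291125 1288 Tr.leaf) 6310448 407 Tr.leaf)) 6310468 205 (Tr.node (Tr.node (Tr.node Tr.leaf 6314499 1004 Tr.leaf) 6321058 1130 Tr.leaf) 6330672 288 (Tr.node (Tr.node Tr.leaf 6331649 1289 Tr.leaf) 6332948 1183 Tr.leaf)))) 6334651 794 (Tr.node (Tr.node (Tr.node (Tr.node (Tr.node Tr.leaf 6342714 647 Tr.leaf) 6344243 286 Tr.leaf) 6350846 263 (Tr.node (Tr.node Tr.leaf 6352133 1027 Tr.leaf) 6356241 910 Tr.leaf)) 6358246 641 (Tr.node (Tr.node (Tr.node Tr.leaf 6358751 455 Tr.leaf) 6364915 349 Tr.leaf) 6365378 799 (Tr.node (Tr.node Tr.leaf 6368130 774 Tr.leaf) 6370904 448 Tr.leaf))) 6372898 375 (Tr.node (Tr.node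 (Tr.node (Tr.node Tr.leaf 6373722 151 Tr.leaf) 6379545 640 Tr.leaf) 6380415 291 (Tr.node (Tr.node Tr.leaf 6382991 211 Tr.leaf) 6387099 960 Tr.leaf)) 6388232 1038 (Tr.node (Tr.node (Tr.node Tr.leaf 6394945 1404 Tr.leaf) 6396320 1187 Tr.leaf) 6404471 174 (Tr.node (Tr.node Tr.leaf 6404821 966 Tr.leaf) 6406186 1527 Tr.leaf))))))

def keyT10 : Tr := (Tr.node (Tr.node (Tr.node (Tr.node (Tr.node (Tr.node (Tr.node Tr.leaf 6414033 1062 Tr.leaf) 6414035 690 Tr.leaf) 6417976 1336 (Tr.node (Tr.node Tr.leaf 6424733 1519 Tr.leaf) 6447907 931 Tr.leaf)) 6448281 1431 (Tr.node (Tr.node (Tr.node Tr.leaf 6451914 572 Tr.leaf) 6452266 1045 Tr.leaf) 6491250 1188 (Tr.node (Tr.node Tr.leaf 6493141 287 Tr.leaf) 6494526 741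 Tr.leaf))) 6497869 1302 (Tr.node (Tr.node (Tr.node (Tr.node Tr.leaf 6505032 297 Tr.leaf) 6506642 1271 Tr.leaf) 6507310 591 (Tr.node (Tr.node Tr.leaf 6508671 204 Tr.leaf) 6510549 511 Tr.leaf)) 6511675 95 (Tr.node (Tr.node (Tr.node Tr.leaf 6517113 427 Tr.leaf) 6521265 160 Tr.leaf) 6525208 573 (Tr.node (Tr.node Tr.leaf 6529118 601 Tr.leaf) 6532150 1286 Tr.leaf)))) 6535972 768 (Tr.node (Tr.node (Tr.node (Tr.node (Tr.node Tr.leaf 6540025 514 Tr.leaf) 6544089 1201 Tr.leaf) 6549549 265 (Tr.node (Tr.node Tr.leaf 6550609 1090 Tr.leaf) 6551266 137 Tr.leaf)) 6552561 261 (Tr.node (Tr.node (Tr.node Tr.leaf 6554670 634 Tr.leaf) 6556214 464 Tr.leaf) 6563333 800 (Tr.node (Tr.node Tr.leaf 6566764 791 Tr.leaf) 6568039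 520 Tr.leaf))) 6570018 369 (Tr.node (Tr.node (Tr.node (Tr.node Tr.leaf 6607091 737 Tr.leaf) 6610421 1458 Tr.leaf) 6610531 987 (Tr.node (Tr.node Tr.leaf 6611744 1444 Tr.leaf) 6611876 1454 Tr.leaf)) 6613743 158 (Tr.node (Tr.node (Tr.node Tr.leaf 6623998 1149 Tr.leaf) 6624534 795 Tr.leaf) 6625945 21 (Tr.node (Tr.node Tr.leaf 6627933 716 Tr.leaf) 6635319 855 Tr.leaf))))) 6644684 1192 (Tr.node (Tr.node (Tr.node (Tr.node (Tr.node (Tr.node Tr.leaf 6652993 944 Tr.leaf) 6657018 1221 Tr.leaf) 6668852 824 (Tr.node (Tr.node Tr.leaf 6670199 896 Tr.leaf) 6683362 25 Tr.leaf)) 6684729 435 (Tr.node (Tr.node (Tr.node Tr.leaf 6698641 166 Tr.leaf) 6699942 525 Tr.leaf) 6713149 1161 (Tr.node (Tr.node Tr.leaf 6714474 607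 Tr.leaf) 6726352 483 Tr.leaf))) 6730311 1118 (Tr.node (Tr.node (Tr.node (Tr.node Tr.leaf 6738708 1493 Tr.leaf) 6747963 388 Tr.leaf) 6755349 617 (Tr.node (Tr.node Tr.leaf 6757469 54 Tr.leaf) 6758726 173 Tr.leaf)) 6759394 1429 (Tr.node (Tr.node (Tr.node Tr.leaf 6780725 1398 Tr.leaf) 6784801 507 Tr.leaf) 6788748 557 (Tr.node (Tr.node Tr.leaf 6792703 1506 Tr.leaf) 6793666 336 Tr.leaf)))) 6796474 532 (Tr.node (Tr.node (Tr.node (Tr.node (Tr.node Tr.leaf 6805873 837 Tr.leaf) 6812408 1340 Tr.leaf) 6818979 1347 (Tr.node (Tr.node Tr.leaf 6886383 631 Tr.leaf) 6893108 1440 Tr.leaf)) 6897000 303 (Tr.node (Tr.node (Tr.node Tr.leaf 6899643 811 Tr.leaf) 6908888 1476 Tr.leaf) 6912615 1055 (Tr.node (Tr.node Tr.leaf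 6916636 924 Tr.leaf) 6920693 798 Tr.leaf))) 6924593 1215 (Tr.node (Tr.node (Tr.node (Tr.node Tr.leaf 6945596 1405 Tr.leaf) 6949571 1137 Tr.leaf) 6971949 729 (Tr.node (Tr.node Tr.leaf 6981298 549 Tr.leaf) 6990134 1294 Tr.leaf)) 6994089 1382 (Tr.node (Tr.node (Tr.node Tr.leaf 7000051 127 Tr.leaf) 7005306 847 Tr.leaf) 7006736 104 (Tr.node (Tr.node Tr.leaf 7012002 29 Tr.leaf) 7015506 41 Tr.leaf))))))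

def keyT11 : Tr := (Tr.node (Tr.node (Tr.node (Tr.node (Tr.node (Tr.node (Tr.node Tr.leaf 7022125 325 Tr.leaf) 7027523 840 Tr.leaf) 7033419 790 (Tr.node (Tr.node Tr.leaf 7037440 722 Tr.leaf) 7046276 1084 Tr.leaf)) 7055559 1209 (Tr.node (Tr.node (Tr.node Tr.leaf 7077959 657 Tr.leaf) 7081956 1252 Tr.leaf) 7150817 1487 (Tr.node (Tr.node Tr.leaf 7150910 688 Tr.leaf) 7154782 343 Tr.leaf))) 7154931 1512 (Tr.node (Tr.node (Tr.node (Tr.node Tr.leaf 7194745 1181 Tr.leaf) 7194828 1121 Tr.leaf) 7198700 1228 (Tr.node (Tr.node Tr.leaf 7198859 597 Tr.leaf) 7262662 3 Tr.leaf)) 7310624 676 (Tr.node (Tr.node (Tr.node Tr.leaf 7317319 1267 Tr.leaf) 7321710 903 Tr.leaf) 7335262 1250 (Tr.node (Tr.node Tr.leaf 7354459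 236 Tr.leaf) 7361088 762 Tr.leaf)))) 7394310 8 (Tr.node (Tr.node (Tr.node (Tr.node (Tr.node Tr.leaf 7439707 256 Tr.leaf) 7451763 720 Tr.leaf) 7458334 1443 (Tr.node (Tr.node Tr.leaf 7462429 207 Tr.leaf) 7468764 224 Tr.leaf)) 7480797 1026 (Tr.node (Tr.node (Tr.node Tr.leaf 7482660 650 Tr.leaf) 7482752 1017 Tr.leaf) 7496447 608 (Tr.node (Tr.node Tr.leaf 7496553 979 Tr.leaf) 7513105 907 Tr.leaf))) 7525028 1323 (Tr.node (Tr.node (Tr.node (Tr.node Tr.leaf 7531517 139 Tr.leaf) 7535414 1152 Tr.leaf) 7542150 81 (Tr.node (Tr.node Tr.leaf 7554052 854 Tr.leaf) 7613683 775 Tr.leaf)) 7614106 1235 (Tr.node (Tr.node (Tr.node Tr.leaf 7614118 1322 Tr.leaf) 7615182 1212 Tr.leaf) 7615489 373 (Tr.node (Tr.node Tr.leaf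 7620793 153 Tr.leaf) 7622072 93 Tr.leaf))))) 7627199 1305 (Tr.node (Tr.node (Tr.node (Tr.node (Tr.node (Tr.node Tr.leaf 7627376 135 Tr.leaf) 7628858 961 Tr.leaf) 7628890 598 (Tr.node (Tr.node Tr.leaf 7632332 834 Tr.leaf) 7633897 321 Tr.leaf)) 7637887 76 (Tr.node (Tr.node (Tr.node Tr.leaf 7639089 497 Tr.leaf) 7646352 1539 Tr.leaf) 7647172 1367 (Tr.node (Tr.node Tr.leaf 7648968 691 Tr.leaf) 7649093 932 Tr.leaf))) 7650230 980 (Tr.node (Tr.node (Tr.node (Tr.node Tr.leaf 7651562 216 Tr.leaf) 7652945 683 Tr.leaf) 7653062 623 (Tr.node (Tr.node Tr.leaf 7653773 97 Tr.leaf) 7655561 1266 Tr.leaf)) 7660289 1338 (Tr.node (Tr.node (Tr.node Tr.leaf 7662121 156 Tr.leaf) 7662854 235 Tr.leaf) 7662993 489 (Tr.node (Tr.node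 Tr.leaf 7664266 981 Tr.leaf) 7665598 124 Tr.leaf)))) 7666889 1303 (Tr.node (Tr.node (Tr.node (Tr.node (Tr.node Tr.leaf 7666992 1079 Tr.leaf) 7668832 789 Tr.leaf) 7669696 1496 (Tr.node (Tr.node Tr.leaf 7672417 109 Tr.leaf) 7672451 1374 Tr.leaf)) 7676959 807 (Tr.node (Tr.node (Tr.node Tr.leaf 7677941 358 Tr.leaf) 7681931 452 Tr.leaf) 7683518 611 (Tr.node (Tr.node Tr.leaf 7687191 1513 Tr.leaf) 7687201 1073 Tr.leaf))) 7687493 210 (Tr.node (Tr.node (Tr.node (Tr.node Tr.leaf 7688474 63 Tr.leaf) 7688783 474 Tr.leaf) 7693822 48 (Tr.node (Tr.node Tr.leaf 7695211 293 Tr.leaf) 7700559 98 Tr.leaf)) 7700734 1349 (Tr.node (Tr.node (Tr.node Tr.leaf 7764274 1359 Tr.leaf) 7770927 248 Tr.leaf) 7779043 271 (Tr.node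 (Tr.node Tr.leaf 7780092 405 Tr.leaf) 7780597 138 Tr.leaf))))))

def keyT12 : Tr := (Tr.node (Tr.node (Tr.node (Tr.node (Tr.node (Tr.node (Tr.node Tr.leaf 7784601 530 Tr.leaf) 7785682 87 (Tr.node Tr.leaf 7795150 1313 Tr.leaf)) 7796027 383 (Tr.node (Tr.node Tr.leaf 7796642 788 Tr.leaf) 7797254 819 Tr.leaf)) 7797970 970 (Tr.node (Tr.node (Tr.node Tr.leaf 7799088 170 Tr.leaf) 7804547 102 Tr.leaf) 7804585 315 (Tr.node (Tr.node Tr.leaf 7807617 1362 Tr.leaf) 7807697 551 Tr.leaf))) 7809417 578 (Tr.node (Tr.node (Tr.node (Tr.node Tr.leaf 7813377 1227 Tr.leaf) 7814382 486 Tr.leaf) 7816882 627 (Tr.node (Tr.node Tr.leaf 7818830 1153 Tr.leaf) 7818858 32 Tr.leaf)) 7821114 952 (Tr.node (Tr.node (Tr.node Tr.leaf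 7822371 169 Tr.leaf) 7824630 1279 Tr.leaf) 7828656 563 (Tr.node (Tr.node Tr.leaf 7828990 1112 Tr.leaf) 7830489 929 Tr.leaf)))) 7838897 1169 (Tr.node (Tr.node (Tr.node (Tr.node (Tr.node Tr.leaf 7839960 330 Tr.leaf) 7840698 1065 Tr.leaf) 7841288 94 (Tr.node (Tr.node Tr.leaf 7842123 1332 Tr.leaf) 7842945 189 Tr.leaf)) 7852358 1070 (Tr.node (Tr.node (Tr.node Tr.leaf 7853450 422 Tr.leaf) 7853957 454 Tr.leaf) 7857432 262 (Tr.node (Tr.node Tr.leaf 7857904 1189 Tr.leaf) 7859019 26 Tr.leaf))) 7867113 1241 (Tr.node (Tr.node (Tr.node (Tr.node Tr.leaf 7873788 703 Tr.leaf) 7897402 588 Tr.leaf) 7897710 202 (Tr.node (Tr.node Tr.leaf 7901337 56 Tr.leaf) 7901755 180 Tr.leaf)) 7907350 1140 (Tr.node (Tr.node (Tr.node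 Tr.leaf 7912418 849 Tr.leaf) 7916329 934 Tr.leaf) 7923164 872 (Tr.node (Tr.node Tr.leaf 7924542 780 Tr.leaf) 7933850 1083 Tr.leaf))))) 7935107 1036 (Tr.node (Tr.node (Tr.node (Tr.node (Tr.node (Tr.node Tr.leaf 7935957 298 Tr.leaf) 7935987 339 Tr.leaf) 7937744 926 (Tr.node (Tr.node Tr.leaf 7940432 802 Tr.leaf) 7943111 711 Tr.leaf)) 7944431 1434 (Tr.node (Tr.node (Tr.node Tr.leaf 7947121 1428 Tr.leaf) 7949809 745 Tr.leaf) 7954907 346 (Tr.node (Tr.node Tr.leaf 7957122 1422 Tr.leaf) 7958503 895 Tr.leaf))) 7961565 898 (Tr.node (Tr.node (Tr.node (Tr.node Tr.leaf 7998467 880 Tr.leaf) 8001705 1418 Tr.leaf) 8002976 282 (Tr.node (Tr.node Tr.leaf 8005125 1400 Tr.leaf) 8009522 558 Tr.leaf)) 8009558 1180 (Tr.node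 (Tr.node (Tr.node Tr.leaf 8010421 1099 Tr.leaf) 8013065 1139 Tr.leaf) 8015700 1022 (Tr.node (Tr.node Tr.leaf 8017042 1510 Tr.leaf) 8019688 500 Tr.leaf)))) 8022332 187 (Tr.node (Tr.node (Tr.node (Tr.node (Tr.node Tr.leaf 8025013 1276 Tr.leaf) 8026182 870 Tr.leaf) 8035490 1297 (Tr.node (Tr.node Tr.leaf 8037022 378 Tr.leaf) 8038030 555 Tr.leaf)) 8043747 941 (Tr.node (Tr.node (Tr.node Tr.leaf 8047812 700 Tr.leaf) 8058450 796 Tr.leaf) 8058758 17 (Tr.node (Tr.node Tr.leaf 8062391 61 Tr.leaf) 8062809 699 Tr.leaf))) 8067312 1210 (Tr.node (Tr.node (Tr.node (Tr.node Tr.leaf 8073024 1391 Tr.leaf) 8077099 718 Tr.leaf) 8083574 1125 (Tr.node (Tr.node Tr.leaf 8084737 1516 Tr.leaf) 8094063 968 Tr.leaf)) 8095589 1184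 (Tr.node (Tr.node (Tr.node Tr.leaf 8097371 816 Tr.leaf) 8097401 885 Tr.leaf) 8098276 997 (Tr.node (Tr.node Tr.leaf 8100912 1222 Tr.leaf) 8103546 1535 Tr.leaf))))))

def keyT13 : Tr := (Tr.node (Tr.node (Tr.node (Tr.node (Tr.node (Tr.node (Tr.node Tr.leaf 8107533 897 Tr.leaf) 8110169 443 Tr.leaf) 8115598 1051 (Tr.node (Tr.node Tr.leaf 8118828 823 Tr.leaf) 8120109 1119 Tr.leaf)) 8122250 1223 (Tr.node (Tr.node (Tr.node Tr.leaf 8159884 1109 Tr.leaf) 8162091 777 Tr.leaf) 8163482 470 (Tr.node (Tr.node Tr.leaf 8166536 337 Tr.leaf) 8170210 753 Tr.leaf))) 8170246 787 (Tr.node (Tr.node (Tr.node (Tr.node Tr.leaf 8172009 546 Tr.leaf) 8174689 469 Tr.leaf) 8177367 1529 (Tr.node (Tr.node Tr.leaf 8178687 1488 Tr.leaf)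 8181376 1462 Tr.leaf)) 8184056 730 (Tr.node (Tr.node (Tr.node Tr.leaf 8186699 965 Tr.leaf) 8188071 614 Tr.leaf) 8197397 1448 (Tr.node (Tr.node Tr.leaf 8198648 1199 Tr.leaf) 8200170 1122 Tr.leaf)))) 8205233 1066 (Tr.node (Tr.node (Tr.node (Tr.node (Tr.node Tr.leaf 8209154 1377 Tr.leaf) 8247788 1095 Tr.leaf) 8254445 937 (Tr.node (Tr.node Tr.leaf 8262301 876 Tr.leaf) 8263398 192 Tr.leaf)) 8263914 370 (Tr.node (Tr.node (Tr.node Tr.leaf 8267380 43 Tr.leaf) 8267843 1014 Tr.leaf) 8268972 52 (Tr.node (Tr.node Tr.leaf 8278127 268 Tr.leaf) 8279187 818 Tr.leaf))) 8279923 1426 (Tr.node (Tr.node (Tr.node (Tr.node Tr.leaf 8280521 340 Tr.leaf) 8281358 379 Tr.leaf) 8282175 568 (Tr.node (Tr.node Tr.leaf 8287337 451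 Tr.leaf) 8287375 112 Tr.leaf)) 8289629 217 (Tr.node (Tr.node (Tr.node Tr.leaf 8290880 1144 Tr.leaf) 8293142 1397 Tr.leaf) 8297168 1371 (Tr.node (Tr.node Tr.leaf 8297505 195 Tr.leaf) 8298998 708 Tr.leaf))))) 8302346 354 (Tr.node (Tr.node (Tr.node (Tr.node (Tr.node (Tr.node Tr.leaf 8302374 243 Tr.leaf) 8305414 1170 Tr.leaf) 8305488 1430 (Tr.node (Tr.node Tr.leaf 8307211 516 Tr.leaf) 8311171 1248 Tr.leaf)) 8312179 510 (Tr.node (Tr.node (Tr.node Tr.leaf 8314673 996 Tr.leaf) 8322226 552 Tr.leaf) 8323098 1277 (Tr.node (Tr.node Tr.leaf 8323715 299 Tr.leaf) 8324335 967 Tr.leaf))) 8325049 867 (Tr.node (Tr.node (Tr.node (Tr.node Tr.leaf 8326164 1146 Tr.leaf) 8335396 23 Tr.leaf) 8336459 721 (Tr.node (Tr.node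 Tr.leaf 8336955 82 Tr.leaf) 8340498 801 Tr.leaf)) 8340959 351 (Tr.node (Tr.node (Tr.node Tr.leaf 8342045 168 Tr.leaf) 8349923 251 Tr.leaf) 8356558 363 (Tr.node (Tr.node Tr.leaf 8419240 1101 Tr.leaf) 8419252 633 Tr.leaf)))) 8419543 825 (Tr.node (Tr.node (Tr.node (Tr.node (Tr.node Tr.leaf 8420531 305 Tr.leaf) 8420838 957 Tr.leaf) 8425875 27 (Tr.node (Tr.node Tr.leaf 8427258 715 Tr.leaf) 8432602 40 Tr.leaf)) 8432779 610 (Tr.node (Tr.node (Tr.node Tr.leaf 8433750 1364 Tr.leaf) 8433782 894 Tr.leaf) 8438294 667 (Tr.node (Tr.node Tr.leaf 8439270 244 Tr.leaf) 8443266 922 Tr.leaf))) 8444847 1437 (Tr.node (Tr.node (Tr.node (Tr.node Tr.leaf 8450894 734 Tr.leaf) 8452736 307 Tr.leaf) 8453477 1324 (Tr.node (Tr.node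 Tr.leaf 8453602 526 Tr.leaf) 8454881 67 Tr.leaf)) 8456211 584 (Tr.node (Tr.node (Tr.node Tr.leaf 8457494 401 Tr.leaf) 8457611 453 Tr.leaf) 8459445 492 (Tr.node (Tr.node Tr.leaf 8460319 1408 Tr.leaf) 8466239 1003 Tr.leaf))))))

def keyT14 : Tr := (Tr.node (Tr.node (Tr.node (Tr.node (Tr.node (Tr.node (Tr.node Tr.leaf 8468859 1053 Tr.leaf) 8468998 1263 Tr.leaf) 8470127 316 (Tr.node (Tr.node Tr.leaf 8471457 536 Tr.leaf) 8472846 162 Tr.leaf)) 8472949 582 (Tr.node (Tr.node (Tr.node Tr.leaf 8473668 473 Tr.leaf) 8475466 1533 Tr.leaf) 8478035 344 (Tr.node (Tr.node Tr.leaf 8478069 689 Tr.leaf) 8481513 212 Tr.leaf))) 8483072 147 (Tr.node (Tr.node (Tr.node (Tr.node Tr.leaf 8487068 106 Tr.leaf) 8488264 1077 Tr.leaf)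 8492143 88 (Tr.node (Tr.node Tr.leaf 8492567 1393 Tr.leaf) 8492577 646 Tr.leaf)) 8493647 1178 (Tr.node (Tr.node (Tr.node Tr.leaf 8493956 396 Tr.leaf) 8499256 618 Tr.leaf) 8500529 14 (Tr.node (Tr.node Tr.leaf 8505654 723 Tr.leaf) 8505829 129 Tr.leaf)))) 8567020 141 (Tr.node (Tr.node (Tr.node (Tr.node (Tr.node Tr.leaf 8578922 603 Tr.leaf) 8585672 602 Tr.leaf) 8589563 892 (Tr.node (Tr.node Tr.leaf 8596538 1343 Tr.leaf) 8608463 645 Tr.leaf)) 8609170 418 (Tr.node (Tr.node (Tr.node Tr.leaf 8609262 1190 Tr.leaf) 8624651 409 Tr.leaf) 8624757 1041 (Tr.node (Tr.node Tr.leaf 8640043 763 Tr.leaf) 8652078 347 Tr.leaf))) 8658899 1282 (Tr.node (Tr.node (Tr.node (Tr.node Tr.leaf 8662988 428 Tr.leaf) 8669551 324 Tr.leaf)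 8681607 501 (Tr.node (Tr.node Tr.leaf 8712000 24 Tr.leaf) 8760002 402 Tr.leaf)) 8766617 1237 (Tr.node (Tr.node (Tr.node Tr.leaf 8770080 1471 Tr.leaf) 8785810 575 Tr.leaf) 8804013 1008 (Tr.node (Tr.node Tr.leaf 8810694 1325 Tr.leaf) 8843890 28 Tr.leaf))))) 8863360 22 (Tr.node (Tr.node (Tr.node (Tr.node (Tr.node (Tr.node Tr.leaf 8864350 149 Tr.leaf) 8867254 18 Tr.leaf) 8868442 5 (Tr.node (Tr.node Tr.leaf 8872500 920 Tr.leaf) 8872524 1470 Tr.leaf)) 8888739 417 (Tr.node (Tr.node (Tr.node Tr.leaf 8889560 1063 Tr.leaf) 8900692 522 Tr.leaf) 8901565 131 (Tr.node (Tr.node Tr.leaf 8922107 426 Tr.leaf) 8922742 352 Tr.leaf))) 8923461 1432 (Tr.node (Tr.node (Tr.node (Tr.node Tr.leaf 8924050 1419 Tr.leaf) 8924776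 712 Tr.leaf) 8925397 1005 (Tr.node (Tr.node Tr.leaf 8926130 111 Tr.leaf) 8926705 264 Tr.leaf)) 8935356 1373 (Tr.node (Tr.node (Tr.node Tr.leaf 8936113 616 Tr.leaf) 8941921 1300 Tr.leaf) 8942858 1451 (Tr.node (Tr.node Tr.leaf 8950006 750 Tr.leaf) 8950745 1460 Tr.leaf)))) 8956553 1378 (Tr.node (Tr.node (Tr.node (Tr.node (Tr.node Tr.leaf 8957508 1394 Tr.leaf) 8966027 31 Tr.leaf) 8966668 559 (Tr.node (Tr.node Tr.leaf 8967379 1528 Tr.leaf) 8967978 1478 Tr.leaf)) 8968704 1502 (Tr.node (Tr.node (Tr.node Tr.leaf 8969315 1376 Tr.leaf) 8970056 493 Tr.leaf) 8970625 100 (Tr.node (Tr.node Tr.leaf 8991233 962 Tr.leaf) 8992040 1165 Tr.leaf))) 9003172 406 (Tr.node (Tr.node (Tr.node (Tr.node Tr.leaf 9004059 665 Tr.leaf)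 9004260 1249 Tr.leaf) 9004302 1469 (Tr.node (Tr.node Tr.leaf 9020194 770 Tr.leaf) 9032170 859 Tr.leaf)) 9038171 413 (Tr.node (Tr.node (Tr.node Tr.leaf 9044806 947 Tr.leaf) 9053914 313 Tr.leaf) 9057861 115 (Tr.node (Tr.node Tr.leaf 9069686 206 Tr.leaf) 9071008 1020 Tr.leaf))))))

def keyT15 : Tr := (Tr.node (Tr.node (Tr.node (Tr.node (Tr.node (Tr.node (Tr.node Tr.leaf 9087918 939 Tr.leaf) 9093606 65 Tr.leaf) 9105531 447 (Tr.node (Tr.node Tr.leaf 9109281 1174 Tr.leaf) 9121316 743 Tr.leaf)) 9127004 710 (Tr.node (Tr.node (Tr.node Tr.leaf 9130939 956 Tr.leaf) 9143738 596 Tr.leaf) 9145060 408 (Tr.node (Tr.node Tr.leaf 9156951 415 Tr.leaf) 9161008 36 Tr.leaf))) 9170050 1034 (Tr.node (Tr.node (Tr.node (Tr.node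 Tr.leaf 9176707 208 Tr.leaf) 9181961 638 Tr.leaf) 9181983 706 (Tr.node (Tr.node Tr.leaf 9185582 809 Tr.leaf) 9186352 295 Tr.leaf)) 9189489 1207 (Tr.node (Tr.node (Tr.node Tr.leaf 9190413 1211 Tr.leaf) 9193836 670 Tr.leaf) 9194056 314 (Tr.node (Tr.node Tr.leaf 9194928 999 Tr.leaf) 9195026 595 Tr.leaf)))) 9199439 848 (Tr.node (Tr.node (Tr.node (Tr.node (Tr.node Tr.leaf 9206124 991 Tr.leaf) 9211869 1217 Tr.leaf) 9221282 1310 (Tr.node (Tr.node Tr.leaf 9225334 1406 Tr.leaf) 9237341 1296 Tr.leaf)) 9299661 1265 (Tr.node (Tr.node (Tr.node Tr.leaf 9311602 1509 Tr.leaf) 9314455 1447 Tr.leaf) 9323670 725 (Tr.node (Tr.node Tr.leaf 9327301 621 Tr.leaf) 9327401 539 Tr.leaf))) 9330878 626 (Tr.node (Tr.node (Tr.node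 (Tr.node Tr.leaf 9337497 680 Tr.leaf) 9346847 1213 Tr.leaf) 9347177 1106 (Tr.node (Tr.node Tr.leaf 9348136 374 Tr.leaf) 9348554 122 Tr.leaf)) 9349521 319 (Tr.node (Tr.node (Tr.node Tr.leaf 9349829 393 Tr.leaf) 9350810 1167 Tr.leaf) 9351206 461 (Tr.node (Tr.node Tr.leaf 9359951 445 Tr.leaf) 9366504 727 Tr.leaf))))) 9371758 1299 (Tr.node (Tr.node (Tr.node (Tr.node (Tr.node (Tr.node Tr.leaf 9383726 702 Tr.leaf) 9389431 1416 Tr.leaf) 9396072 1247 (Tr.node (Tr.node Tr.leaf 9404205 612 Tr.leaf) 9405302 278 Tr.leaf)) 9409241 150 (Tr.node (Tr.node (Tr.node Tr.leaf 9410822 692 Tr.leaf) 9414710 1433 Tr.leaf) 9414716 1006 (Tr.node (Tr.node Tr.leaf 9418889 1309 Tr.leaf) 9425541 1352 Tr.leaf))) 9429709 1023 (Tr.node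 (Tr.node (Tr.node (Tr.node Tr.leaf 9429725 1351 Tr.leaf) 9433409 1480 Tr.leaf) 9440061 1196 (Tr.node (Tr.node Tr.leaf 9448216 367 Tr.leaf) 9449775 172 Tr.leaf)) 9453824 757 (Tr.node (Tr.node (Tr.node Tr.leaf 9454899 833 Tr.leaf) 9462988 805 Tr.leaf) 9469651 1401 (Tr.node (Tr.node Tr.leaf 9475323 1473 Tr.leaf) 9487313 1446 Tr.leaf)))) 9492468 326 (Tr.node (Tr.node (Tr.node (Tr.node (Tr.node Tr.leaf 9499219 1060 Tr.leaf) 9537877 1269 Tr.leaf) 9541898 199 (Tr.node (Tr.node Tr.leaf 9549996 1455 Tr.leaf) 9551340 933 Tr.leaf)) 9553002 1507 (Tr.node (Tr.node (Tr.node Tr.leaf 9553280 37 Tr.leaf) 9554361 277 Tr.leaf) 9554556 181 (Tr.node (Tr.node Tr.leaf 9555297 198 Tr.leaf) 9556641 1380 Tr.leaf))) 9579662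 1159 (Tr.node (Tr.node (Tr.node (Tr.node Tr.leaf 9586265 274 Tr.leaf) 9594853 1176 Tr.leaf) 9601566 480 (Tr.node (Tr.node Tr.leaf 9623190 1239 Tr.leaf) 9624512 1244 Tr.leaf)) 9626551 914 (Tr.node (Tr.node (Tr.node Tr.leaf 9626845 682 Tr.leaf) 9627937 69 Tr.leaf) 9628138 488 (Tr.node (Tr.node Tr.leaf 9628535 574 Tr.leaf) 9629857 988 Tr.leaf))))))

def keyT16 : Tr := (Tr.node (Tr.node (Tr.node (Tr.node (Tr.node (Tr.node (Tr.node Tr.leaf 9643263 1057 Tr.leaf) 9684496 117 (Tr.node Tr.leaf 9685921 478 Tr.leaf)) 9693716 928 (Tr.node (Tr.node Tr.leaf 9705741 103 Tr.leaf) 9707761 387 Tr.leaf)) 9707789 583 (Tr.node (Tr.node (Tr.node Tr.leaf 9712832 165 Tr.leaf) 9716875 191 Tr.leaf) 9725986 1360 (Tr.node (Tr.node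 Tr.leaf 9732640 1009 Tr.leaf) 9742590 1345 Tr.leaf))) 9746638 341 (Tr.node (Tr.node (Tr.node (Tr.node Tr.leaf 9756681 1240 Tr.leaf) 9760619 1085 Tr.leaf) 9770514 1236 (Tr.node (Tr.node Tr.leaf 9777168 1102 Tr.leaf) 9780840 386 Tr.leaf)) 9780878 215 (Tr.node (Tr.node (Tr.node Tr.leaf 9786455 84 Tr.leaf) 9790388 164 Tr.leaf) 9796258 1275 (Tr.node (Tr.node Tr.leaf 9808173 1113 Tr.leaf) 9817453 259 Tr.leaf)))) 9818680 940 (Tr.node (Tr.node (Tr.node (Tr.node (Tr.node Tr.leaf 9846730 1007 Tr.leaf) 9847967 653 Tr.leaf) 9854813 323 (Tr.node (Tr.node Tr.leaf 9866746 357 Tr.leaf) 9868691 850 Tr.leaf)) 9868719 630 (Tr.node (Tr.node (Tr.node Tr.leaf 9874296 142 Tr.leaf) 9878239 496 Tr.leaf) 9887641 890 (Tr.node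 (Tr.node Tr.leaf 9894297 1074 Tr.leaf) 9903091 889 Tr.leaf))) 9907029 663 (Tr.node (Tr.node (Tr.node (Tr.node Tr.leaf 9918282 1386 Tr.leaf) 9922330 1504 Tr.leaf) 9930959 728 (Tr.node (Tr.node Tr.leaf 9937615 569 Tr.leaf) 9942012 219 Tr.leaf)) 9942050 620 (Tr.node (Tr.node (Tr.node Tr.leaf 9947083 1114 Tr.leaf) 9951136 266 Tr.leaf) 9957245 462 (Tr.node (Tr.node Tr.leaf 9969288 984 Tr.leaf) 9977311 380 Tr.leaf))))) 9978746 581 (Tr.node (Tr.node (Tr.node (Tr.node (Tr.node (Tr.node Tr.leaf 10019969 580 Tr.leaf) 10023934 675 Tr.leaf) 10033139 719 (Tr.node (Tr.node Tr.leaf 10034457 562 Tr.leaf) 10036499 531 Tr.leaf)) 10036788 590 (Tr.node (Tr.node (Tr.node Tr.leaf 10037885 121 Tr.leaf) 10038091 521 Tr.leaf)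 10038486 1501 (Tr.node (Tr.node Tr.leaf 10039804 888 Tr.leaf) 10063368 767 Tr.leaf))) 10070075 1295 (Tr.node (Tr.node (Tr.node (Tr.node Tr.leaf 10077459 806 Tr.leaf) 10084056 1403 Tr.leaf) 10106355 1344 (Tr.node (Tr.node Tr.leaf 10107695 1396 Tr.leaf) 10109355 1147 Tr.leaf)) 10109638 223 (Tr.node (Tr.node (Tr.node Tr.leaf 10110724 175 Tr.leaf) 10110914 377 Tr.leaf) 10111658 1304 (Tr.node (Tr.node Tr.leaf 10112998 747 Tr.leaf) 10123512 1261 Tr.leaf)))) 10127543 391 (Tr.node (Tr.node (Tr.node (Tr.node (Tr.node Tr.leaf 10152105 566 Tr.leaf) 10152435 509 Tr.leaf) 10153390 221 (Tr.node (Tr.node Tr.leaf 10153808 985 Tr.leaf) 10154777 381 Tr.leaf)) 10155085 537 (Tr.node (Tr.node (Tr.node Tr.leaf 10156062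 333 Tr.leaf) 10156458 826 Tr.leaf) 10165951 771 (Tr.node (Tr.node Tr.leaf 10172708 1087 Tr.leaf) 10178091 1372 Tr.leaf))) 10190081 893 (Tr.node (Tr.node (Tr.node (Tr.node Tr.leaf 10195035 783 Tr.leaf) 10201704 1158 Tr.leaf) 10209543 919 (Tr.node (Tr.node Tr.leaf 10211108 290 Tr.leaf) 10215155 508 Tr.leaf)) 10216236 491 (Tr.node (Tr.node (Tr.node Tr.leaf 10220328 828 Tr.leaf) 10220334 1536 Tr.leaf) 10224020 672 (Tr.node (Tr.node Tr.leaf 10230678 1067 Tr.leaf) 10234601 1308 Tr.leaf))))))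

def keyT17 : Tr := (Tr.node (Tr.node (Tr.node (Tr.node (Tr.node (Tr.node (Tr.node Tr.leaf 10238782 1525 Tr.leaf) 10245440 1499 Tr.leaf) 10253378 306 (Tr.node (Tr.node Tr.leaf 10254481 79 Tr.leaf) 10258418 91 Tr.leaf)) 10260005 163 (Tr.node (Tr.node (Tr.node Tr.leaf 10267888 766 Tr.leaf) 10274535 874 Tr.leaf) 10279500 1449 (Tr.node (Tr.node Tr.leaf 10291468 1520 Tr.leaf) 10296972 1011 Tr.leaf))) 10303531 858 (Tr.node (Tr.node (Tr.node (Tr.node Tr.leaf 10309313 842 Tr.leaf) 10309335 1047 Tr.leaf) 10312930 450 (Tr.node (Tr.node Tr.leaf 10313700 714 Tr.leaf) 10316855 253 Tr.leaf)) 10317779 355 (Tr.node (Tr.node (Tr.node Tr.leaf 10321198 1230 Tr.leaf) 10321418 1368 Tr.leaf) 10322890 866 (Tr.node (Tr.node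 Tr.leaf 10322988 938 Tr.leaf) 10326463 978 Tr.leaf)))) 10333088 1220 (Tr.node (Tr.node (Tr.node (Tr.node (Tr.node Tr.leaf 10339322 1254 Tr.leaf) 10348543 1132 Tr.leaf) 10353808 1253 (Tr.node (Tr.node Tr.leaf 10365759 778 Tr.leaf) 10425891 1131 Tr.leaf)) 10437908 658 (Tr.node (Tr.node (Tr.node Tr.leaf 10441710 951 Tr.leaf) 10451129 1538 Tr.leaf) 10454053 754 (Tr.node (Tr.node Tr.leaf 10454153 185 Tr.leaf) 10458562 1361 Tr.leaf))) 10465253 1307 (Tr.node (Tr.node (Tr.node (Tr.node Tr.leaf 10469650 1175 Tr.leaf) 10481632 1233 Tr.leaf) 10487731 656 (Tr.node (Tr.node Tr.leaf 10494406 1059 Tr.leaf) 10503932 238 Tr.leaf)) 10507971 99 (Tr.node (Tr.node (Tr.node Tr.leaf 10519983 1064 Tr.leaf) 10521323 424 Tr.leaf)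 10532537 705 (Tr.node (Tr.node Tr.leaf 10536478 437 Tr.leaf) 10544100 1089 Tr.leaf))))) 10556133 209 (Tr.node (Tr.node (Tr.node (Tr.node (Tr.node (Tr.node Tr.leaf 10557707 660 Tr.leaf) 10569630 605 Tr.leaf) 10577252 1103 (Tr.node (Tr.node Tr.leaf 10581303 1096 Tr.leaf) 10592341 431 Tr.leaf)) 10593681 1050 (Tr.node (Tr.node (Tr.node Tr.leaf 10605869 10 Tr.leaf) 10609798 134 Tr.leaf) 10619390 229 (Tr.node (Tr.node Tr.leaf 10626043 1138 Tr.leaf) 10634822 5 Tr.leaf))) 10636010 18 (Tr.node (Tr.node (Tr.node (Tr.node Tr.leaf 10638914 149 Tr.leaf) 10639904 22 Tr.leaf) 10644052 1469 (Tr.node (Tr.node Tr.leaf 10644094 1249 Tr.leaf) 10660267 665 Tr.leaf)) 10661154 406 (Tr.node (Tr.node (Tr.node Tr.leaf 10672286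 1165 Tr.leaf) 10673093 962 Tr.leaf) 10693701 100 (Tr.node (Tr.node Tr.leaf 10694270 493 Tr.leaf) 10695011 1376 Tr.leaf)))) 10695622 1502 (Tr.node (Tr.node (Tr.node (Tr.node (Tr.node Tr.leaf 10696348 1478 Tr.leaf) 10696947 1528 Tr.leaf) 10697658 559 (Tr.node (Tr.node Tr.leaf 10698299 31 Tr.leaf) 10706818 1394 Tr.leaf)) 10707773 1378 (Tr.node (Tr.node (Tr.node Tr.leaf 10713581 1460 Tr.leaf) 10714320 750 Tr.leaf) 10721468 1451 (Tr.node (Tr.node Tr.leaf 10722405 1300 Tr.leaf) 10728213 616 Tr.leaf))) 10728970 1373 (Tr.node (Tr.node (Tr.node (Tr.node Tr.leaf 10737621 264 Tr.leaf) 10738196 111 Tr.leaf) 10738929 1005 (Tr.node (Tr.node Tr.leaf 10739550 712 Tr.leaf) 10740276 1419 Tr.leaf)) 10740865 1432 (Tr.node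 (Tr.node (Tr.node Tr.leaf 10741584 352 Tr.leaf) 10742219 426 Tr.leaf) 10762761 131 (Tr.node (Tr.node Tr.leaf 10763634 522 Tr.leaf) 10774766 1063 Tr.leaf))))))

def keyT18 : Tr := (Tr.node (Tr.node (Tr.node (Tr.node (Tr.node (Tr.node (Tr.node Tr.leaf 10775830 1470 Tr.leaf) 10775854 920 Tr.leaf) 10791752 1233 (Tr.node (Tr.node Tr.leaf 10803734 1175 Tr.leaf) 10809844 1138 Tr.leaf)) 10816497 229 (Tr.node (Tr.node (Tr.node Tr.leaf 10826089 134 Tr.leaf) 10830018 10 Tr.leaf) 10842085 1050 (Tr.node (Tr.node Tr.leaf 10843425 431 Tr.leaf) 10854584 1096 Tr.leaf))) 10858635 1103 (Tr.node (Tr.node (Tr.node (Tr.node Tr.leaf 10866257 605 Tr.leaf) 10878180 660 Tr.leaf) 10879754 209 (Tr.node (Tr.node Tr.leaf 10891787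 1089 Tr.leaf) 10899409 437 Tr.leaf)) 10903350 705 (Tr.node (Tr.node (Tr.node Tr.leaf 10914443 424 Tr.leaf) 10915783 1064 Tr.leaf) 10927916 99 (Tr.node (Tr.node Tr.leaf 10931955 238 Tr.leaf) 10941481 1059 Tr.leaf)))) 10948156 656 (Tr.node (Tr.node (Tr.node (Tr.node (Tr.node Tr.leaf 10953418 1368 Tr.leaf) 10953638 1230 Tr.leaf) 10957057 355 (Tr.node (Tr.node Tr.leaf 10957981 253 Tr.leaf) 10961136 714 Tr.leaf)) 10961906 450 (Tr.node (Tr.node (Tr.node Tr.leaf 10965501 1047 Tr.leaf) 10965523 842 Tr.leaf) 10967093 185 (Tr.node (Tr.node Tr.leaf 10967193 754 Tr.leaf) 10970634 1307 Tr.leaf))) 10977325 1361 (Tr.node (Tr.node (Tr.node (Tr.node Tr.leaf 10983427 1538 Tr.leaf) 10992846 951 Tr.leaf) 10997979 658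 (Tr.node (Tr.node Tr.leaf 11009996 1131 Tr.leaf) 11070128 778 Tr.leaf)) 11082079 1253 (Tr.node (Tr.node (Tr.node Tr.leaf 11086013 1132 Tr.leaf) 11095234 1254 Tr.leaf) 11098258 938 (Tr.node (Tr.node Tr.leaf 11098356 866 Tr.leaf) 11102799 1220 Tr.leaf))))) 11109424 978 (Tr.node (Tr.node (Tr.node (Tr.node (Tr.node (Tr.node Tr.leaf 11118378 826 Tr.leaf) 11118774 333 Tr.leaf) 11119751 537 (Tr.node (Tr.node Tr.leaf 11120059 381 Tr.leaf) 11121028 985 Tr.leaf)) 11121446 221 (Tr.node (Tr.node (Tr.node Tr.leaf 11122401 509 Tr.leaf) 11122731 566 Tr.leaf) 11132356 858 (Tr.node (Tr.node Tr.leaf 11138915 1011 Tr.leaf) 11144408 1520 Tr.leaf))) 11156376 1449 (Tr.node (Tr.node (Tr.node (Tr.node Tr.leaf 11161352 874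 Tr.leaf) 11167999 766 Tr.leaf) 11175882 163 (Tr.node (Tr.node Tr.leaf 11177469 91 Tr.leaf) 11181406 79 Tr.leaf)) 11182509 306 (Tr.node (Tr.node (Tr.node Tr.leaf 11186629 943 Tr.leaf) 11186645 1308 Tr.leaf) 11190326 1499 (Tr.node (Tr.node Tr.leaf 11196984 1525 Tr.leaf) 11200912 1536 Tr.leaf)))) 11200918 828 (Tr.node (Tr.node (Tr.node (Tr.node (Tr.node Tr.leaf 11205088 1067 Tr.leaf) 11211746 672 Tr.leaf) 11219651 491 (Tr.node (Tr.node Tr.leaf 11220732 508 Tr.leaf) 11224779 290 Tr.leaf)) 11226344 919 (Tr.node (Tr.node (Tr.node Tr.leaf 11234183 1158 Tr.leaf) 11240852 783 Tr.leaf) 11245795 893 (Tr.node (Tr.node Tr.leaf 11257785 1372 Tr.leaf) 11263179 1087 Tr.leaf))) 11269936 771 (Tr.node (Tr.node (Tr.node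 (Tr.node Tr.leaf 11308344 391 Tr.leaf) 11312375 1261 Tr.leaf) 11321558 747 (Tr.node (Tr.node Tr.leaf 11322898 1304 Tr.leaf) 11324962 377 Tr.leaf)) 11325163 175 (Tr.node (Tr.node (Tr.node Tr.leaf 11326238 223 Tr.leaf) 11326532 1147 Tr.leaf) 11326861 1396 (Tr.node (Tr.node Tr.leaf 11328201 1344 Tr.leaf) 11351831 1403 Tr.leaf))))))

def keyT19 : Tr := (Tr.node (Tr.node (Tr.node (Tr.node (Tr.node (Tr.node (Tr.node Tr.leaf 11365812 1295 Tr.leaf) 11372519 767 Tr.leaf) 11394752 888 (Tr.node (Tr.node Tr.leaf 11396070 1501 Tr.leaf) 11397796 521 Tr.leaf)) 11397991 121 (Tr.node (Tr.node (Tr.node Tr.leaf 11399099 590 Tr.leaf) 11399377 531 Tr.leaf) 11400099 562 (Tr.node (Tr.node Tr.leaf 11401417 719 Tr.leaf) 11411953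 675 Tr.leaf))) 11415918 580 (Tr.node (Tr.node (Tr.node (Tr.node Tr.leaf 11457141 581 Tr.leaf) 11458576 380 Tr.leaf) 11465268 984 (Tr.node (Tr.node Tr.leaf 11477311 462 Tr.leaf) 11479196 620 Tr.leaf)) 11479234 219 (Tr.node (Tr.node (Tr.node Tr.leaf 11484751 266 Tr.leaf) 11488804 1114 Tr.leaf) 11498151 569 (Tr.node (Tr.node Tr.leaf 11504807 728 Tr.leaf) 11513546 1504 Tr.leaf)))) 11517594 1386 (Tr.node (Tr.node (Tr.node (Tr.node (Tr.node Tr.leaf 11528847 663 Tr.leaf) 11532785 889 Tr.leaf) 11541469 1074 (Tr.node (Tr.node Tr.leaf 11548125 890 Tr.leaf) 11552527 630 Tr.leaf)) 11552555 850 (Tr.node (Tr.node (Tr.node Tr.leaf 11557648 496 Tr.leaf) 11561591 142 Tr.leaf) 11567810 357 (Tr.node (Tr.node Tr.leaf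 11579743 323 Tr.leaf) 11587920 653 Tr.leaf))) 11589157 1007 (Tr.node (Tr.node (Tr.node (Tr.node Tr.leaf 11617207 940 Tr.leaf) 11618434 259 Tr.leaf) 11626383 1113 (Tr.node (Tr.node Tr.leaf 11638298 1275 Tr.leaf) 11640368 215 Tr.leaf)) 11640406 386 (Tr.node (Tr.node (Tr.node Tr.leaf 11645499 164 Tr.leaf) 11649432 84 Tr.leaf) 11658598 1102 (Tr.node (Tr.node Tr.leaf 11665252 1236 Tr.leaf) 11675257 1085 Tr.leaf))))) 11679195 1240 (Tr.node (Tr.node (Tr.node (Tr.node (Tr.node (Tr.node Tr.leaf 11689238 341 Tr.leaf) 11693286 1345 Tr.leaf) 11703126 1009 (Tr.node (Tr.node Tr.leaf 11709780 1360 Tr.leaf) 11713457 583 Tr.leaf)) 11713485 387 (Tr.node (Tr.node (Tr.node Tr.leaf 11719012 191 Tr.leaf) 11723055 165 Tr.leaf)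 11728815 103 (Tr.node (Tr.node Tr.leaf 11740840 928 Tr.leaf) 11749966 478 Tr.leaf))) 11751391 117 (Tr.node (Tr.node (Tr.node (Tr.node Tr.leaf 11792624 1057 Tr.leaf) 11796579 622 Tr.leaf) 11804699 988 (Tr.node (Tr.node Tr.leaf 11806021 574 Tr.leaf) 11807749 488 Tr.leaf)) 11807939 69 (Tr.node (Tr.node (Tr.node Tr.leaf 11809042 682 Tr.leaf) 11809325 914 Tr.leaf) 11810044 1244 (Tr.node (Tr.node Tr.leaf 11811366 1239 Tr.leaf) 11834321 480 Tr.leaf)))) 11841034 1176 (Tr.node (Tr.node (Tr.node (Tr.node (Tr.node Tr.leaf 11849622 274 Tr.leaf) 11856225 1159 Tr.leaf) 11877915 1380 (Tr.node (Tr.node Tr.leaf 11879259 198 Tr.leaf) 11881320 181 Tr.leaf)) 11881526 277 (Tr.node (Tr.node (Tr.node Tr.leaf 11882596 37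 Tr.leaf) 11882885 1507 Tr.leaf) 11883216 933 (Tr.node (Tr.node Tr.leaf 11884560 1455 Tr.leaf) 11893989 199 Tr.leaf))) 11898010 1269 (Tr.node (Tr.node (Tr.node (Tr.node Tr.leaf 11923630 461 Tr.leaf) 11924026 1167 Tr.leaf) 11925007 393 (Tr.node (Tr.node Tr.leaf 11925315 319 Tr.leaf) 11926282 122 Tr.leaf)) 11926700 374 (Tr.node (Tr.node (Tr.node Tr.leaf 11927659 1106 Tr.leaf) 11927989 1213 Tr.leaf) 11936668 1060 (Tr.node (Tr.node Tr.leaf 11943419 326 Tr.leaf) 11948563 1446 Tr.leaf))))))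

def keyT20 : Tr := (Tr.node (Tr.node (Tr.node (Tr.node (Tr.node (Tr.node (Tr.node Tr.leaf 11966236 1401 Tr.leaf) 11972899 805 (Tr.node Tr.leaf 11980988 833 Tr.leaf)) 11982063 757 (Tr.node (Tr.node Tr.leaf 11986112 172 Tr.leaf) 11987671 367 Tr.leaf)) 11991521 1351 (Tr.node (Tr.node (Tr.node Tr.leaf 11991537 1023 Tr.leaf) 11995705 1196 Tr.leaf) 12002357 1480 (Tr.node (Tr.node Tr.leaf 12006530 1006 Tr.leaf) 12006536 1433 Tr.leaf))) 12010225 1352 (Tr.node (Tr.node (Tr.node (Tr.node Tr.leaf 12016877 1309 Tr.leaf) 12025065 692 Tr.leaf) 12026646 150 (Tr.node (Tr.node Tr.leaf 12030585 278 Tr.leaf) 12031682 612 Tr.leaf)) 12039815 1247 (Tr.node (Tr.node (Tr.node Tr.leaf 12046456 1416 Tr.leaf) 12052150 702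 Tr.leaf) 12064118 1299 (Tr.node (Tr.node Tr.leaf 12069383 727 Tr.leaf) 12075936 445 Tr.leaf)))) 12080780 314 (Tr.node (Tr.node (Tr.node (Tr.node (Tr.node Tr.leaf 12081000 670 Tr.leaf) 12084423 1211 Tr.leaf) 12085347 1207 (Tr.node (Tr.node Tr.leaf 12088484 295 Tr.leaf) 12089254 809 Tr.leaf)) 12092853 706 (Tr.node (Tr.node (Tr.node Tr.leaf 12092875 638 Tr.leaf) 12093845 539 Tr.leaf) 12093945 621 (Tr.node (Tr.node Tr.leaf 12098390 680 Tr.leaf) 12105009 626 Tr.leaf))) 12110886 725 (Tr.node (Tr.node (Tr.node (Tr.node Tr.leaf 12120101 1447 Tr.leaf) 12124285 1509 Tr.leaf) 12136226 1265 (Tr.node (Tr.node Tr.leaf 12198546 1296 Tr.leaf) 12210553 1406 Tr.leaf)) 12213274 1310 (Tr.node (Tr.node (Tr.node Tr.leaf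 12222687 1217 Tr.leaf) 12226220 595 Tr.leaf) 12226318 999 (Tr.node (Tr.node Tr.leaf 12229763 991 Tr.leaf) 12236448 848 Tr.leaf))))) 12241214 859 (Tr.node (Tr.node (Tr.node (Tr.node (Tr.node (Tr.node Tr.leaf 12253190 770 Tr.leaf) 12259180 208 Tr.leaf) 12265837 1034 (Tr.node (Tr.node Tr.leaf 12274879 36 Tr.leaf) 12278936 415 Tr.leaf)) 12290706 408 (Tr.node (Tr.node (Tr.node Tr.leaf 12292028 596 Tr.leaf) 12304948 956 Tr.leaf) 12308883 710 (Tr.node (Tr.node Tr.leaf 12314571 743 Tr.leaf) 12326606 1174 Tr.leaf))) 12330356 447 (Tr.node (Tr.node (Tr.node (Tr.node Tr.leaf 12342281 65 Tr.leaf) 12347969 939 Tr.leaf) 12352014 1071 (Tr.node (Tr.node Tr.leaf 12364758 1020 Tr.leaf) 12366080 206 Tr.leaf)) 12378026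 115 (Tr.node (Tr.node (Tr.node Tr.leaf 12381973 313 Tr.leaf) 12391081 947 Tr.leaf) 12397716 413 (Tr.node (Tr.node Tr.leaf 12465467 597 Tr.leaf) 12465626 1228 Tr.leaf)))) 12469498 1121 (Tr.node (Tr.node (Tr.node (Tr.node (Tr.node Tr.leaf 12469581 1181 Tr.leaf) 12509395 1512 Tr.leaf) 12509544 343 (Tr.node (Tr.node Tr.leaf 12513416 688 Tr.leaf) 12513509 1487 Tr.leaf)) 12577224 28 (Tr.node (Tr.node (Tr.node Tr.leaf 12625193 1325 Tr.leaf) 12631874 1008 Tr.leaf) 12635304 575 (Tr.node (Tr.node Tr.leaf 12651034 1471 Tr.leaf) 12669270 1237 Tr.leaf))) 12675885 402 (Tr.node (Tr.node (Tr.node (Tr.node Tr.leaf 12709114 24 Tr.leaf) 12754269 501 Tr.leaf) 12766325 324 (Tr.node (Tr.node Tr.leaf 12772899 428 Tr.leaf)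 12776988 1282 Tr.leaf)) 12783809 347 (Tr.node (Tr.node (Tr.node Tr.leaf 12795844 763 Tr.leaf) 12796489 1041 Tr.leaf) 12796595 409 (Tr.node (Tr.node Tr.leaf 12811984 1190 Tr.leaf) 12812076 418 Tr.leaf))))))

def keyT21 : Tr := (Tr.node (Tr.node (Tr.node (Tr.node (Tr.node (Tr.node (Tr.node Tr.leaf 12839349 1343 Tr.leaf) 12846324 892 Tr.leaf) 12850215 602 (Tr.node (Tr.node Tr.leaf 12856954 603 Tr.leaf) 12868856 141 Tr.leaf)) 12928669 646 (Tr.node (Tr.node (Tr.node Tr.leaf 12928679 1393 Tr.leaf) 12928971 88 Tr.leaf) 12930058 129 (Tr.node (Tr.node Tr.leaf 12930233 723 Tr.leaf) 12935358 14 Tr.leaf))) 12936631 618 (Tr.node (Tr.node (Tr.node (Tr.node Tr.leaf 12941931 396 Tr.leaf) 12942240 1178 Tr.leaf) 12943177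 689 (Tr.node (Tr.node Tr.leaf 12943211 344 Tr.leaf) 12947623 1077 Tr.leaf)) 12948698 106 (Tr.node (Tr.node (Tr.node Tr.leaf 12952694 147 Tr.leaf) 12954374 212 Tr.leaf) 12960421 1533 (Tr.node (Tr.node Tr.leaf 12962219 473 Tr.leaf) 12962938 582 Tr.leaf)))) 12963041 162 (Tr.node (Tr.node (Tr.node (Tr.node (Tr.node Tr.leaf 12964309 536 Tr.leaf) 12965639 316 Tr.leaf) 12966889 1263 (Tr.node (Tr.node Tr.leaf 12967028 1053 Tr.leaf) 12968818 353 Tr.leaf)) 12969648 1003 (Tr.node (Tr.node (Tr.node Tr.leaf 12975568 1408 Tr.leaf) 12976442 492 Tr.leaf) 12978276 453 (Tr.node (Tr.node Tr.leaf 12978393 401 Tr.leaf) 12979555 584 Tr.leaf))) 12980885 67 (Tr.node (Tr.node (Tr.node (Tr.node Tr.leaf 12982285 526 Tr.leaf)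 12982410 1324 Tr.leaf) 12983151 307 (Tr.node (Tr.node Tr.leaf 12984993 734 Tr.leaf) 12987464 894 Tr.leaf)) 12987496 1364 (Tr.node (Tr.node (Tr.node Tr.leaf 12991040 1437 Tr.leaf) 12992500 922 Tr.leaf) 12996496 244 (Tr.node (Tr.node Tr.leaf 12997593 667 Tr.leaf) 13001571 825 Tr.leaf))))) 13001994 633 (Tr.node (Tr.node (Tr.node (Tr.node (Tr.node (Tr.node Tr.leaf 13002006 1101 Tr.leaf) 13003108 610 Tr.leaf) 13003285 40 (Tr.node (Tr.node Tr.leaf 13008629 715 Tr.leaf) 13010012 27 Tr.leaf)) 13015049 957 (Tr.node (Tr.node (Tr.node Tr.leaf 13015356 305 Tr.leaf) 13079329 363 Tr.leaf) 13085964 251 (Tr.node (Tr.node Tr.leaf 13093842 168 Tr.leaf) 13094917 351 Tr.leaf))) 13095389 801 (Tr.node (Tr.node (Tr.node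 (Tr.node Tr.leaf 13098921 82 Tr.leaf) 13099428 721 Tr.leaf) 13100491 23 (Tr.node (Tr.node Tr.leaf 13109712 1146 Tr.leaf) 13110717 867 Tr.leaf)) 13111552 967 (Tr.node (Tr.node (Tr.node Tr.leaf 13112051 299 Tr.leaf) 13112789 1277 Tr.leaf) 13113650 552 (Tr.node (Tr.node Tr.leaf 13118872 243 Tr.leaf) 13118900 354 Tr.leaf)))) 13121214 996 (Tr.node (Tr.node (Tr.node (Tr.node (Tr.node Tr.leaf 13122377 510 Tr.leaf) 13124705 1248 Tr.leaf) 13128665 516 (Tr.node (Tr.node Tr.leaf 13129068 1430 Tr.leaf) 13130473 1170 Tr.leaf)) 13133871 112 (Tr.node (Tr.node (Tr.node Tr.leaf 13133909 451 Tr.leaf) 13136889 708 Tr.leaf) 13137051 195 (Tr.node (Tr.node Tr.leaf 13138708 1371 Tr.leaf) 13142734 1397 Tr.leaf))) 13143676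 1144 (Tr.node (Tr.node (Tr.node (Tr.node Tr.leaf 13146258 217 Tr.leaf) 13153701 568 Tr.leaf) 13154529 379 (Tr.node (Tr.node Tr.leaf 13155245 340 Tr.leaf) 13155964 1426 Tr.leaf)) 13156579 818 (Tr.node (Tr.node (Tr.node Tr.leaf 13157749 268 Tr.leaf) 13166915 52 Tr.leaf) 13168044 1014 (Tr.node (Tr.node Tr.leaf 13168496 43 Tr.leaf) 13171973 370 Tr.leaf))))))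

def keyT22 : Tr := (Tr.node (Tr.node (Tr.node (Tr.node (Tr.node (Tr.node (Tr.node Tr.leaf 13173586 876 Tr.leaf) 13181442 937 Tr.leaf) 13188099 1095 (Tr.node (Tr.node Tr.leaf 13212027 699 Tr.leaf) 13212445 61 Tr.leaf)) 13216078 17 (Tr.node (Tr.node (Tr.node Tr.leaf 13216386 796 Tr.leaf) 13220944 1122 Tr.leaf) 13226733 1377 (Tr.node (Tr.node Tr.leaf 13230654 1066 Tr.leaf) 13237239 1199 Tr.leaf))) 13238369 1448 (Tr.node (Tr.node (Tr.node (Tr.node Tr.leaf 13247695 614 Tr.leaf) 13249188 965 Tr.leaf) 13251000 787 (Tr.node (Tr.node Tr.leaf 13251036 753 Tr.leaf) 13251831 730 Tr.leaf)) 13254511 1462 (Tr.node (Tr.node (Tr.node Tr.leaf 13257189 1488 Tr.leaf) 13258509 1529 Tr.leaf) 13261198 469 (Tr.node (Tr.node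 Tr.leaf 13263878 546 Tr.leaf) 13269230 337 Tr.leaf)))) 13272405 470 (Tr.node (Tr.node (Tr.node (Tr.node (Tr.node Tr.leaf 13273796 777 Tr.leaf) 13275882 1109 Tr.leaf) 13313516 1223 (Tr.node (Tr.node Tr.leaf 13315778 1119 Tr.leaf) 13317059 823 Tr.leaf)) 13320168 1051 (Tr.node (Tr.node (Tr.node Tr.leaf 13323845 885 Tr.leaf) 13323875 816 Tr.leaf) 13325718 443 (Tr.node (Tr.node Tr.leaf 13328354 897 Tr.leaf) 13330988 1375 Tr.leaf))) 13332330 1535 (Tr.node (Tr.node (Tr.node (Tr.node Tr.leaf 13334975 1222 Tr.leaf) 13337611 997 Tr.leaf) 13340298 1184 (Tr.node (Tr.node Tr.leaf 13341703 968 Tr.leaf) 13351029 1516 Tr.leaf)) 13352313 1125 (Tr.node (Tr.node (Tr.node Tr.leaf 13353802 1210 Tr.leaf) 13358788 718 Tr.leaf)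 13362863 1391 (Tr.node (Tr.node Tr.leaf 13373081 180 Tr.leaf) 13373499 56 Tr.leaf))))) 13377126 202 (Tr.node (Tr.node (Tr.node (Tr.node (Tr.node (Tr.node Tr.leaf 13377434 588 Tr.leaf) 13383084 555 Tr.leaf) 13388075 700 (Tr.node (Tr.node Tr.leaf 13392140 941 Tr.leaf) 13398865 378 Tr.leaf)) 13400276 1297 (Tr.node (Tr.node (Tr.node Tr.leaf 13409584 870 Tr.leaf) 13410874 1276 Tr.leaf) 13411688 1180 (Tr.node (Tr.node Tr.leaf 13411724 558 Tr.leaf) 13413555 187 Tr.leaf))) 13416199 500 (Tr.node (Tr.node (Tr.node (Tr.node Tr.leaf 13418834 1510 Tr.leaf) 13420176 1022 Tr.leaf) 13422822 1139 (Tr.node (Tr.node Tr.leaf 13425466 1099 Tr.leaf) 13430641 1400 Tr.leaf)) 13432911 282 (Tr.node (Tr.node (Tr.node Tr.leaf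 13434182 1418 Tr.leaf) 13437299 880 Tr.leaf) 13474201 898 (Tr.node (Tr.node Tr.leaf 13477384 895 Tr.leaf) 13478765 1422 Tr.leaf)))) 13480859 346 (Tr.node (Tr.node (Tr.node (Tr.node (Tr.node Tr.leaf 13485259 339 Tr.leaf) 13485289 298 Tr.leaf) 13486078 745 (Tr.node (Tr.node Tr.leaf 13488766 1428 Tr.leaf) 13491445 1434 Tr.leaf)) 13492765 711 (Tr.node (Tr.node (Tr.node Tr.leaf 13495455 802 Tr.leaf) 13498143 926 Tr.leaf) 13500780 1036 (Tr.node (Tr.node Tr.leaf 13501916 1083 Tr.leaf) 13511224 780 Tr.leaf))) 13512723 872 (Tr.node (Tr.node (Tr.node (Tr.node Tr.leaf 13513764 1140 Tr.leaf) 13519558 934 Tr.leaf) 13523469 849 (Tr.node (Tr.node Tr.leaf 13562099 703 Tr.leaf) 13568774 1241 Tr.leaf)) 13576868 26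 (Tr.node (Tr.node (Tr.node Tr.leaf 13577983 1189 Tr.leaf) 13578444 262 Tr.leaf) 13581930 454 (Tr.node (Tr.node Tr.leaf 13582426 422 Tr.leaf) 13583529 1070 Tr.leaf))))))

def keyT23 : Tr := (Tr.node (Tr.node (Tr.node (Tr.node (Tr.node (Tr.node (Tr.node Tr.leaf 13593764 1332 Tr.leaf) 13594478 94 Tr.leaf) 13595189 1065 (Tr.node (Tr.node Tr.leaf 13595806 330 Tr.leaf) 13596979 1169 Tr.leaf)) 13602388 32 (Tr.node (Tr.node (Tr.node Tr.leaf 13602416 1153 Tr.leaf) 13605398 929 Tr.leaf) 13605566 1112 (Tr.node (Tr.node Tr.leaf 13607220 563 Tr.leaf) 13611246 1279 Tr.leaf))) 13612185 169 (Tr.node (Tr.node (Tr.node (Tr.node Tr.leaf 13614773 952 Tr.leaf) 13616661 315 Tr.leaf) 13616699 102 (Tr.node (Tr.node Tr.leaf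 13619005 627 Tr.leaf) 13620174 486 Tr.leaf)) 13622499 1227 (Tr.node (Tr.node (Tr.node Tr.leaf 13626459 578 Tr.leaf) 13626859 551 Tr.leaf) 13628270 1362 (Tr.node (Tr.node Tr.leaf 13636788 170 Tr.leaf) 13637796 970 Tr.leaf)))) 13638633 819 (Tr.node (Tr.node (Tr.node (Tr.node (Tr.node Tr.leaf 13639124 788 Tr.leaf) 13639860 383 Tr.leaf) 13640726 1313 (Tr.node (Tr.node Tr.leaf 13650205 87 Tr.leaf) 13651275 530 Tr.leaf)) 13651738 118 (Tr.node (Tr.node (Tr.node Tr.leaf 13655279 138 Tr.leaf) 13655795 405 Tr.leaf) 13656844 271 (Tr.node (Tr.node Tr.leaf 13664960 248 Tr.leaf) 13671613 1359 Tr.leaf))) 13733621 210 (Tr.node (Tr.node (Tr.node (Tr.node Tr.leaf 13734045 1073 Tr.leaf) 13734055 1513 Tr.leaf) 13735153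 1349 (Tr.node (Tr.node Tr.leaf 13735328 98 Tr.leaf) 13740676 293 Tr.leaf)) 13742065 48 (Tr.node (Tr.node (Tr.node Tr.leaf 13747104 474 Tr.leaf) 13747413 63 Tr.leaf) 13748795 1374 (Tr.node (Tr.node Tr.leaf 13748829 109 Tr.leaf) 13752369 611 Tr.leaf))))) 13753835 452 (Tr.node (Tr.node (Tr.node (Tr.node (Tr.node (Tr.node Tr.leaf 13757825 358 Tr.leaf) 13758928 807 Tr.leaf) 13766191 1496 (Tr.node (Tr.node Tr.leaf 13767055 789 Tr.leaf) 13768895 1079 Tr.leaf)) 13768998 1303 (Tr.node (Tr.node (Tr.node Tr.leaf 13770168 124 Tr.leaf) 13771500 981 Tr.leaf) 13772894 489 (Tr.node (Tr.node Tr.leaf 13773033 235 Tr.leaf) 13773766 156 Tr.leaf))) 13775598 1338 (Tr.node (Tr.node (Tr.node (Tr.node Tr.leaf 13780326 1266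 Tr.leaf) 13782114 97 Tr.leaf) 13782825 623 (Tr.node (Tr.node Tr.leaf 13782942 683 Tr.leaf) 13784204 216 Tr.leaf)) 13785536 980 (Tr.node (Tr.node (Tr.node Tr.leaf 13786794 932 Tr.leaf) 13786919 691 Tr.leaf) 13788715 1367 (Tr.node (Tr.node Tr.leaf 13789535 1539 Tr.leaf) 13792356 598 Tr.leaf)))) 13792388 961 (Tr.node (Tr.node (Tr.node (Tr.node (Tr.node Tr.leaf 13796798 497 Tr.leaf) 13797879 76 Tr.leaf) 13801869 321 (Tr.node (Tr.node Tr.leaf 13803555 834 Tr.leaf) 13807128 1322 Tr.leaf)) 13807140 1235 (Tr.node (Tr.node (Tr.node Tr.leaf 13807431 775 Tr.leaf) 13808511 135 Tr.leaf) 13808688 1305 (Tr.node (Tr.node Tr.leaf 13813815 93 Tr.leaf) 13815094 153 Tr.leaf))) 13820398 373 (Tr.node (Tr.node (Tr.node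 (Tr.node Tr.leaf 13820705 1212 Tr.leaf) 13881824 854 Tr.leaf) 13893726 81 (Tr.node (Tr.node Tr.leaf 13900473 1152 Tr.leaf) 13904370 139 Tr.leaf)) 13910859 1323 (Tr.node (Tr.node (Tr.node Tr.leaf 13922782 907 Tr.leaf) 13924693 979 Tr.leaf) 13924799 608 (Tr.node (Tr.node Tr.leaf 13938494 1017 Tr.leaf) 13938586 650 Tr.leaf))))))

def keyT24 : Tr := (Tr.node (Tr.node (Tr.node (Tr.node (Tr.node (Tr.node (Tr.node Tr.leaf 13967123 224 Tr.leaf) 13973458 207 (Tr.node Tr.leaf 13977553 1443 Tr.leaf)) 13984113 720 (Tr.node (Tr.node Tr.leaf 13996169 256 Tr.leaf) 14026804 8 Tr.leaf)) 14074799 762 (Tr.node (Tr.node (Tr.node Tr.leaf 14081428 236 Tr.leaf) 14085852 1250 Tr.leaf) 14099404 903 (Tr.node (Tr.node Tr.leaf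 14118568 1267 Tr.leaf) 14125263 676 Tr.leaf))) 14158452 3 (Tr.node (Tr.node (Tr.node (Tr.node Tr.leaf 14178263 161 Tr.leaf) 14178813 803 Tr.leaf) 14182201 292 (Tr.node (Tr.node Tr.leaf 14182861 1515 Tr.leaf) 14216463 804 Tr.leaf)) 14216491 449 (Tr.node (Tr.node (Tr.node Tr.leaf 14236910 269 Tr.leaf) 14237305 554 Tr.leaf) 14240935 1234 (Tr.node (Tr.node Tr.leaf 14241266 815 Tr.leaf) 14251440 123 Tr.leaf)))) 14252057 225 (Tr.node (Tr.node (Tr.node (Tr.node (Tr.node Tr.leaf 14253038 891 Tr.leaf) 14253121 1321 Tr.leaf) 14254331 1205 (Tr.node (Tr.node Tr.leaf 14254490 1028 Tr.leaf) 14255445 182 Tr.leaf)) 14256038 644 (Tr.node (Tr.node (Tr.node Tr.leaf 14266082 963 Tr.leaf) 14266697 218 Tr.leaf) 14267674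 1366 (Tr.node (Tr.node Tr.leaf 14267767 1326 Tr.leaf) 14268977 817 Tr.leaf))) 14269126 1283 (Tr.node (Tr.node (Tr.node (Tr.node Tr.leaf 14270085 320 Tr.leaf) 14270680 533 Tr.leaf) 14280832 190 (Tr.node (Tr.node Tr.leaf 14281229 749 Tr.leaf) 14284859 1206 Tr.leaf)) 14285188 515 (Tr.node (Tr.node (Tr.node Tr.leaf 14289663 487 Tr.leaf) 14289701 279 Tr.leaf) 14353931 1252 (Tr.node (Tr.node Tr.leaf 14357928 657 Tr.leaf) 14380328 1209 Tr.leaf))))) 14389611 1084 (Tr.node (Tr.node (Tr.node (Tr.node (Tr.node (Tr.node Tr.leaf 14398447 722 Tr.leaf) 14402468 790 Tr.leaf) 14408364 840 (Tr.node (Tr.node Tr.leaf 14413751 325 Tr.leaf) 14414983 853 Tr.leaf)) 14420381 41 (Tr.node (Tr.node (Tr.node Tr.leaf 14423885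 29 Tr.leaf) 14429140 104 Tr.leaf) 14430570 847 (Tr.node (Tr.node Tr.leaf 14435836 127 Tr.leaf) 14441798 1382 Tr.leaf))) 14445753 1294 (Tr.node (Tr.node (Tr.node (Tr.node Tr.leaf 14454589 549 Tr.leaf) 14463938 729 Tr.leaf) 14486316 1137 (Tr.node (Tr.node Tr.leaf 14490291 1405 Tr.leaf) 14511173 1215 Tr.leaf)) 14515194 798 (Tr.node (Tr.node (Tr.node Tr.leaf 14519251 924 Tr.leaf) 14523151 1055 Tr.leaf) 14524114 303 (Tr.node (Tr.node Tr.leaf 14526999 1476 Tr.leaf) 14536244 811 Tr.leaf)))) 14542779 1440 (Tr.node (Tr.node (Tr.node (Tr.node (Tr.node Tr.leaf 14549504 631 Tr.leaf) 14616908 1347 Tr.leaf) 14623479 1340 (Tr.node (Tr.node Tr.leaf 14627448 336 Tr.leaf) 14630014 837 Tr.leaf)) 14639413 532 (Tr.node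 (Tr.node (Tr.node Tr.leaf 14643063 1506 Tr.leaf) 14647139 557 Tr.leaf) 14651086 507 (Tr.node (Tr.node Tr.leaf 14655041 1398 Tr.leaf) 14659641 158 Tr.leaf))) 14662960 1454 (Tr.node (Tr.node (Tr.node (Tr.node Tr.leaf 14663092 1444 Tr.leaf) 14664305 987 Tr.leaf) 14664415 1458 (Tr.node (Tr.node Tr.leaf 14666293 737 Tr.leaf) 14676493 1429 Tr.leaf)) 14677161 173 (Tr.node (Tr.node (Tr.node Tr.leaf 14678418 54 Tr.leaf) 14680538 617 Tr.leaf) 14687924 388 (Tr.node (Tr.node Tr.leaf 14697179 1493 Tr.leaf) 14705576 1118 Tr.leaf))))))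

def keyT25 : Tr := (Tr.node (Tr.node (Tr.node (Tr.node (Tr.node (Tr.node (Tr.node Tr.leaf 14721413 607 Tr.leaf) 14722738 1161 Tr.leaf) 14735945 525 (Tr.node (Tr.node Tr.leaf 14737246 166 Tr.leaf) 14751158 435 Tr.leaf)) 14752525 25 (Tr.node (Tr.node (Tr.node Tr.leaf 14765688 896 Tr.leaf) 14767035 824 Tr.leaf) 14778869 1221 (Tr.node (Tr.node Tr.leaf 14782894 944 Tr.leaf) 14791203 1192 Tr.leaf))) 14800568 855 (Tr.node (Tr.node (Tr.node (Tr.node Tr.leaf 14807954 716 Tr.leaf) 14809942 21 Tr.leaf) 14811353 795 (Tr.node (Tr.node Tr.leaf 14811889 1149 Tr.leaf) 14822570 1045 Tr.leaf)) 14822922 572 (Tr.node (Tr.node (Tr.node Tr.leaf 14826555 1431 Tr.leaf) 14826929 931 Tr.leaf) 14865869 369 (Tr.node (Tr.node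 Tr.leaf 14867848 520 Tr.leaf) 14869123 791 Tr.leaf)))) 14872554 800 (Tr.node (Tr.node (Tr.node (Tr.node (Tr.node Tr.leaf 14879673 464 Tr.leaf) 14881217 634 Tr.leaf) 14881995 261 (Tr.node (Tr.node Tr.leaf 14883290 137 Tr.leaf) 14885278 1090 Tr.leaf)) 14886338 265 (Tr.node (Tr.node (Tr.node Tr.leaf 14891798 1201 Tr.leaf) 14895862 514 Tr.leaf) 14899915 768 (Tr.node (Tr.node Tr.leaf 14903737 1286 Tr.leaf) 14906769 601 Tr.leaf))) 14910679 573 (Tr.node (Tr.node (Tr.node (Tr.node Tr.leaf 14914622 160 Tr.leaf) 14918774 427 Tr.leaf) 14924212 95 (Tr.node (Tr.node Tr.leaf 14925338 511 Tr.leaf) 14925885 204 Tr.leaf)) 14927246 591 (Tr.node (Tr.node (Tr.node Tr.leaf 14929245 1271 Tr.leaf) 14930855 297 Tr.leaf)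 14938018 1302 (Tr.node (Tr.node Tr.leaf 14941361 741 Tr.leaf) 14942746 287 Tr.leaf))))) 14944637 1188 (Tr.node (Tr.node (Tr.node (Tr.node (Tr.node (Tr.node Tr.leaf 14983711 1288 Tr.leaf) 14983887 1278 Tr.leaf) 14987758 1441 (Tr.node (Tr.node Tr.leaf 14987824 1498 Tr.leaf) 15007211 690 Tr.leaf)) 15007213 1062 (Tr.node (Tr.node (Tr.node Tr.leaf 15011154 1519 Tr.leaf) 15017911 1336 Tr.leaf) 15027415 589 (Tr.node (Tr.node Tr.leaf 15028370 1527 Tr.leaf) 15029735 966 Tr.leaf))) 15031416 174 (Tr.node (Tr.node (Tr.node (Tr.node Tr.leaf 15039567 1187 Tr.leaf) 15040942 1404 Tr.leaf) 15047655 1038 (Tr.node (Tr.node Tr.leaf 15048788 960 Tr.leaf) 15052896 211 Tr.leaf)) 15055011 640 (Tr.node (Tr.node (Tr.node Tr.leaf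 15055472 291 Tr.leaf) 15061658 375 Tr.leaf) 15062165 151 (Tr.node (Tr.node Tr.leaf 15064983 448 Tr.leaf) 15067757 774 Tr.leaf)))) 15069641 349 (Tr.node (Tr.node (Tr.node (Tr.node (Tr.node Tr.leaf 15070509 799 Tr.leaf) 15076310 641 Tr.leaf) 15077136 455 (Tr.node (Tr.node Tr.leaf 15079646 910 Tr.leaf) 15083754 1027 Tr.leaf)) 15085041 263 (Tr.node (Tr.node (Tr.node Tr.leaf 15091644 286 Tr.leaf) 15093173 647 Tr.leaf) 15101236 794 (Tr.node (Tr.node Tr.leaf 15101608 1183 Tr.leaf) 15102907 1289 Tr.leaf))) 15105215 288 (Tr.node (Tr.node (Tr.node (Tr.node Tr.leaf 15110778 205 Tr.leaf) 15110798 407 Tr.leaf) 15114829 1130 (Tr.node (Tr.node Tr.leaf 15121388 1004 Tr.leaf) 15144761 1354 Tr.leaf)) 15144937 1438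 (Tr.node (Tr.node (Tr.node Tr.leaf 15148810 659 Tr.leaf) 15148876 1182 Tr.leaf) 15169351 423 (Tr.node (Tr.node Tr.leaf 15169353 430 Tr.leaf) 15173396 911 Tr.leaf))))))

def keyT26 : Tr := (Tr.node (Tr.node (Tr.node (Tr.node (Tr.node (Tr.node (Tr.node Tr.leaf 15189079 280 Tr.leaf) 15189455 1021 Tr.leaf) 15190752 1439 (Tr.node (Tr.node Tr.leaf 15193064 1272 Tr.leaf) 15200885 376 Tr.leaf)) 15202172 416 (Tr.node (Tr.node (Tr.node Tr.leaf 15208769 921 Tr.leaf) 15210298 909 Tr.leaf) 15214176 629 (Tr.node (Tr.node Tr.leaf 15216054 120 Tr.leaf) 15216924 47 Tr.leaf))) 15222717 222 (Tr.node (Tr.node (Tr.node (Tr.node Tr.leaf 15223541 92 Tr.leaf) 15226047 1342 Tr.leaf) 15228597 678 (Tr.node (Tr.node Tr.leaf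 15230706 639 Tr.leaf) 15231169 289 Tr.leaf)) 15237347 913 (Tr.node (Tr.node (Tr.node Tr.leaf 15237852 310 Tr.leaf) 15240666 397 Tr.leaf) 15244544 661 (Tr.node (Tr.node Tr.leaf 15245919 479 Tr.leaf) 15252626 475 Tr.leaf)))) 15253759 348 (Tr.node (Tr.node (Tr.node (Tr.node (Tr.node Tr.leaf 15261668 276 Tr.leaf) 15262627 1355 Tr.leaf) 15263990 1341 (Tr.node (Tr.node Tr.leaf 15265675 1048 Tr.leaf) 15270740 529 Tr.leaf)) 15270760 1019 (Tr.node (Tr.node (Tr.node Tr.leaf 15274695 1524 Tr.leaf) 15281446 1483 Tr.leaf) 15305726 360 (Tr.node (Tr.node Tr.leaf 15306078 905 Tr.leaf) 15309705 197 Tr.leaf))) 15310079 419 (Tr.node (Tr.node (Tr.node (Tr.node Tr.leaf 15347963 1016 Tr.leaf) 15351308 1258 Tr.leaf) 15352695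 421 (Tr.node (Tr.node Tr.leaf 15354588 949 Tr.leaf) 15363441 44 Tr.leaf)) 15364559 1225 (Tr.node (Tr.node (Tr.node Tr.leaf 15365112 420 Tr.leaf) 15366479 739 Tr.leaf) 15368484 220 (Tr.node (Tr.node Tr.leaf 15370086 495 Tr.leaf) 15375274 606 Tr.leaf))))) 15379196 1128 (Tr.node (Tr.node (Tr.node (Tr.node (Tr.node (Tr.node Tr.leaf 15383129 1177 Tr.leaf) 15387293 856 Tr.leaf) 15389585 1054 (Tr.node (Tr.node Tr.leaf 15393661 481 Tr.leaf) 15397704 1245 Tr.leaf)) 15401538 1281 (Tr.node (Tr.node (Tr.node Tr.leaf 15406748 50 Tr.leaf) 15408284 843 Tr.leaf) 15409068 58 (Tr.node (Tr.node Tr.leaf 15410369 184 Tr.leaf) 15412363 1171 Tr.leaf))) 15413415 157 (Tr.node (Tr.node (Tr.node (Tr.node Tr.leaf 15422224 773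 Tr.leaf) 15424205 90 Tr.leaf) 15425482 1039 (Tr.node (Tr.node Tr.leaf 15428915 1445 Tr.leaf) 15464893 366 Tr.leaf)) 15468218 976 (Tr.node (Tr.node (Tr.node Tr.leaf 15468350 1357 Tr.leaf) 15469557 1389 Tr.leaf) 15469667 936 (Tr.node (Tr.node Tr.leaf 15471551 477 Tr.leaf) 15481437 1080 Tr.leaf)))) 15483431 74 (Tr.node (Tr.node (Tr.node (Tr.node (Tr.node Tr.leaf 15484836 227 Tr.leaf) 15485378 1399 Tr.leaf) 15493964 1164 (Tr.node (Tr.node Tr.leaf 15503343 846 Tr.leaf) 15510918 1414 Tr.leaf)) 15514945 1179 (Tr.node (Tr.node (Tr.node Tr.leaf 15527025 1120 Tr.leaf) 15528362 283 Tr.leaf) 15541775 51 (Tr.node (Tr.node Tr.leaf 15543136 744 Tr.leaf) 15555844 85 Tr.leaf))) 15557139 494 (Tr.node (Tr.node (Tr.node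 (Tr.node Tr.leaf 15570596 785 Tr.leaf) 15571911 779 Tr.leaf) 15584035 1160 (Tr.node (Tr.node Tr.leaf 15587996 1142 Tr.leaf) 15595659 1435 Tr.leaf)) 15604928 1346 (Tr.node (Tr.node (Tr.node Tr.leaf 15613514 440 Tr.leaf) 15614188 214 Tr.leaf) 15615439 71 (Tr.node (Tr.node Tr.leaf 15617565 948 Tr.leaf) 15638650 1358 Tr.leaf))))))

def keyT27 : Tr := (Tr.node (Tr.node (Tr.node (Tr.node (Tr.node (Tr.node (Tr.node Tr.leaf 15646665 457 Tr.leaf) 15650630 567 Tr.leaf) 15652318 585 (Tr.node (Tr.node Tr.leaf 15654889 1203 Tr.leaf) 15664278 1320 Tr.leaf)) 15671053 1315 (Tr.node (Tr.node (Tr.node Tr.leaf 15677638 1423 Tr.leaf) 15743334 983 Tr.leaf) 15750073 993 (Tr.node (Tr.node Tr.leaf 15753958 107 Tr.leaf) 15756848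 1195 Tr.leaf))) 15766083 1385 (Tr.node (Tr.node (Tr.node (Tr.node Tr.leaf 15770298 1436 Tr.leaf) 15774329 548 Tr.leaf) 15778368 1100 (Tr.node (Tr.node Tr.leaf 15782278 1046 Tr.leaf) 15803999 1334 Tr.leaf)) 15807988 1494 (Tr.node (Tr.node (Tr.node Tr.leaf 15830842 925 Tr.leaf) 15840193 1123 Tr.leaf) 15847329 372 (Tr.node (Tr.node Tr.leaf 15851294 255 Tr.leaf) 15858708 119 Tr.leaf)))) 15863958 463 (Tr.node (Tr.node (Tr.node (Tr.node (Tr.node Tr.leaf 15865388 1208 Tr.leaf) 15870649 38 Tr.leaf) 15872469 39 (Tr.node (Tr.node Tr.leaf 15877851 318 Tr.leaf) 15879083 916 Tr.leaf)) 15884476 96 (Tr.node (Tr.node (Tr.node Tr.leaf 15891824 1424 Tr.leaf) 15895855 1015 Tr.leaf) 15902991 545 (Tr.node (Tr.node Tr.leaf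 15912276 732 Tr.leaf) 15935152 1290 Tr.leaf))) 15939163 1514 (Tr.node (Tr.node (Tr.node (Tr.node Tr.leaf 15948306 565 Tr.leaf) 15949230 1185 Tr.leaf) 15955038 196 (Tr.node (Tr.node Tr.leaf 15955808 60 Tr.leaf) 15964650 1312 Tr.leaf)) 15964841 1219 (Tr.node (Tr.node (Tr.node Tr.leaf 15965560 713 Tr.leaf) 15966593 528 Tr.leaf) 15966835 1018 (Tr.node (Tr.node Tr.leaf 15967980 881 Tr.leaf) 15968713 752 Tr.leaf))))) 15968764 953 (Tr.node (Tr.node (Tr.node (Tr.node (Tr.node (Tr.node Tr.leaf 15973366 200 Tr.leaf) 15973428 1231 Tr.leaf) 16005633 865 (Tr.node (Tr.node Tr.leaf 16006380 260 Tr.leaf) 16014850 434 Tr.leaf)) 16015797 861 (Tr.node (Tr.node (Tr.node Tr.leaf 16049555 535 Tr.leaf) 16050304 167 Tr.leaf)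 16058774 502 (Tr.node (Tr.node Tr.leaf 16059719 726 Tr.leaf) 16075860 335 Tr.leaf))) 16075908 302 (Tr.node (Tr.node (Tr.node (Tr.node Tr.leaf 16096412 1522 Tr.leaf) 16096617 1081 Tr.leaf) 16097328 1061 (Tr.node (Tr.node Tr.leaf 16098363 686 Tr.leaf) 16098605 385 Tr.leaf)) 16099748 1049 (Tr.node (Tr.node (Tr.node Tr.leaf 16100489 1135 Tr.leaf) 16100526 1145 Tr.leaf) 16109275 322 (Tr.node (Tr.node Tr.leaf 16110375 506 Tr.leaf) 16115940 550 Tr.leaf)))) 16117018 927 (Tr.node (Tr.node (Tr.node (Tr.node (Tr.node Tr.leaf 16122303 154 Tr.leaf) 16126465 1110 Tr.leaf) 16127790 1242 (Tr.node (Tr.node Tr.leaf 16134372 878 Tr.leaf) 16140861 1316 Tr.leaf)) 16144843 404 (Tr.node (Tr.node (Tr.node Tr.leaf 16155243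 636 Tr.leaf) 16159270 1226 Tr.leaf) 16171301 458 (Tr.node (Tr.node Tr.leaf 16172736 145 Tr.leaf) 16181053 254 Tr.leaf))) 16190330 1094 (Tr.node (Tr.node (Tr.node (Tr.node Tr.leaf 16195661 140 Tr.leaf) 16205004 813 Tr.leaf) 16214718 776 (Tr.node (Tr.node Tr.leaf 16215955 267 Tr.leaf) 16228118 1198 Tr.leaf)) 16232079 1420 (Tr.node (Tr.node (Tr.node Tr.leaf 16242490 1052 Tr.leaf) 16246494 664 Tr.leaf) 16253082 793 (Tr.node (Tr.node Tr.leaf 16258223 1365 Tr.leaf) 16259570 1319 Tr.leaf))))))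

def keyT28 : Tr := (Tr.node (Tr.node (Tr.node (Tr.node (Tr.node (Tr.node (Tr.node Tr.leaf 16268030 1417 Tr.leaf) 16268404 724 (Tr.node Tr.leaf 16268816 193 Tr.leaf)) 16278138 350 (Tr.node (Tr.node Tr.leaf 16280013 1111 Tr.leaf) 16280365 1450 Tr.leaf)) 16288540 78 (Tr.node (Tr.node (Tr.node Tr.leaf 16289874 541 Tr.leaf) 16296692 1475 Tr.leaf) 16296726 441 (Tr.node (Tr.node Tr.leaf 16299704 1163 Tr.leaf) 16306419 1329 Tr.leaf))) 16313739 632 (Tr.node (Tr.node (Tr.node (Tr.node Tr.leaf 16323118 1489 Tr.leaf) 16386394 1317 Tr.leaf) 16395663 1284 (Tr.node (Tr.node Tr.leaf 16398091 1216 Tr.leaf) 16398123 1168 Tr.leaf)) 16403093 1492 (Tr.node (Tr.node (Tr.node Tr.leaf 16409698 975 Tr.leaf) 16419462 643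 Tr.leaf) 16420796 45 (Tr.node (Tr.node Tr.leaf 16444115 1409 Tr.leaf) 16456038 901 Tr.leaf)))) 16461553 1134 (Tr.node (Tr.node (Tr.node (Tr.node (Tr.node Tr.leaf 16468124 1330 Tr.leaf) 16474978 1086 Tr.leaf) 16484223 972 (Tr.node (Tr.node Tr.leaf 16493712 362 Tr.leaf) 16495013 942 Tr.leaf)) 16536513 701 (Tr.node (Tr.node (Tr.node Tr.leaf 16537880 543 Tr.leaf) 16547259 1013 Tr.leaf) 16556658 1442 (Tr.node (Tr.node Tr.leaf 16563358 652 Tr.leaf) 16570083 973 Tr.leaf))) 16575466 1518 (Tr.node (Tr.node (Tr.node (Tr.node Tr.leaf 16587499 1002 Tr.leaf) 16609259 977 Tr.leaf) 16613238 1117 (Tr.node (Tr.node Tr.leaf 16624290 992 Tr.leaf) 16625553 1229 Tr.leaf)) 16637446 242 (Tr.node (Tr.node (Tr.node Tr.leaf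 16644099 177 Tr.leaf) 16709551 312 Tr.leaf) 16716226 35 (Tr.node (Tr.node Tr.leaf 16726700 687 Tr.leaf) 16728117 1098 Tr.leaf))))) 16740412 579 (Tr.node (Tr.node (Tr.node (Tr.node (Tr.node (Tr.node Tr.leaf 16744413 390 Tr.leaf) 16752190 241 Tr.leaf) 16753202 836 (Tr.node (Tr.node Tr.leaf 16761433 812 Tr.leaf) 16762599 599 Tr.leaf)) 16913244 669 (Tr.node (Tr.node (Tr.node Tr.leaf 16914256 624 Tr.leaf) 16922481 234 Tr.leaf) 16923647 685 (Tr.node (Tr.node Tr.leaf 17091793 467 Tr.leaf) 17095800 1456 Tr.leaf))) 17107375 674 (Tr.node (Tr.node (Tr.node (Tr.node Tr.leaf 17108774 395 Tr.leaf) 17119508 226 Tr.leaf) 17126165 73 (Tr.node (Tr.node Tr.leaf 17193813 113 Tr.leaf) 17200448 619 Tr.leaf)) 17209939 946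 (Tr.node (Tr.node (Tr.node Tr.leaf 17211184 1262 Tr.leaf) 17224178 411 Tr.leaf) 17228163 1029 (Tr.node (Tr.node Tr.leaf 17248951 1301 Tr.leaf) 17260986 1415 Tr.leaf)))) 17266119 1463 (Tr.node (Tr.node (Tr.node (Tr.node (Tr.node Tr.leaf 17272858 989 Tr.leaf) 17279314 642 Tr.leaf) 17288703 1427 (Tr.node (Tr.node Tr.leaf 17297848 365 Tr.leaf) 17299209 935 Tr.leaf)) 17342893 1204 (Tr.node (Tr.node (Tr.node Tr.leaf 17344188 247 Tr.leaf) 17353443 1197 Tr.leaf) 17362678 1202 (Tr.node (Tr.node Tr.leaf 17369288 382 Tr.leaf) 17375873 1328 Tr.leaf))) 17381138 399 (Tr.node (Tr.node (Tr.node (Tr.node Tr.leaf 17393063 1129 Tr.leaf) 17395380 1491 Tr.leaf) 17395754 1298 (Tr.node (Tr.node Tr.leaf 17396178 760 Tr.leaf)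 17405490 171 Tr.leaf)) 17407377 1383 (Tr.node (Tr.node (Tr.node Tr.leaf 17407729 1412 Tr.leaf) 17415053 438 Tr.leaf) 17416381 250 (Tr.node (Tr.node Tr.leaf 17422960 1461 Tr.leaf) 17422994 1082 Tr.leaf))))))

def keyT29 : Tr := (Tr.node (Tr.node (Tr.node (Tr.node (Tr.node (Tr.node (Tr.node Tr.leaf 17434563 503 Tr.leaf) 17440553 1392 Tr.leaf) 17449808 994 (Tr.node (Tr.node Tr.leaf 17514308 995 Tr.leaf) 17523673 810 Tr.leaf)) 17526537 1402 (Tr.node (Tr.node (Tr.node Tr.leaf 17526569 1523 Tr.leaf) 17529553 1191 Tr.leaf) 17536258 1331 (Tr.node (Tr.node Tr.leaf 17547669 144 Tr.leaf) 17548997 594 Tr.leaf))) 17558733 958 (Tr.node (Tr.node (Tr.node (Tr.node Tr.leaf 17559833 635 Tr.leaf) 17565400 1270 Tr.leaf)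 17566478 851 (Tr.node (Tr.node Tr.leaf 17570763 877 Tr.leaf) 17575918 1530 Tr.leaf)) 17577255 1503 (Tr.node (Tr.node (Tr.node Tr.leaf 17582652 466 Tr.leaf) 17589462 130 Tr.leaf) 17593466 696 (Tr.node (Tr.node Tr.leaf 17604373 649 Tr.leaf) 17608332 1035 Tr.leaf)))) 17620259 444 (Tr.node (Tr.node (Tr.node (Tr.node (Tr.node Tr.leaf 17621486 1104 Tr.leaf) 17630472 852 Tr.leaf) 17639829 80 (Tr.node (Tr.node Tr.leaf 17645146 1127 Tr.leaf) 17654437 356 Tr.leaf)) 17664688 746 (Tr.node (Tr.node (Tr.node Tr.leaf 17666113 998 Tr.leaf) 17677908 1173 Tr.leaf) 17681933 964 (Tr.node (Tr.node Tr.leaf 17692807 564 Tr.leaf) 17696789 425 Tr.leaf))) 17703522 1030 (Tr.node (Tr.node (Tr.node (Tr.node Tr.leaf 17707698 1092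 Tr.leaf) 17709013 868 Tr.leaf) 17715609 308 (Tr.node (Tr.node Tr.leaf 17721110 1040 Tr.leaf) 17721550 284 Tr.leaf)) 17721770 875 (Tr.node (Tr.node (Tr.node Tr.leaf 17722210 1466 Tr.leaf) 17725114 1259 Tr.leaf) 17725642 1105 (Tr.node (Tr.node Tr.leaf 17725664 300 Tr.leaf) 17726192 902 Tr.leaf))))) 17730300 822 (Tr.node (Tr.node (Tr.node (Tr.node (Tr.node (Tr.node Tr.leaf 17730334 786 Tr.leaf) 17761533 808 Tr.leaf) 17761658 982 (Tr.node (Tr.node Tr.leaf 17773516 329 Tr.leaf) 17773633 1156 Tr.leaf)) 17788860 75 (Tr.node (Tr.node (Tr.node Tr.leaf 17788902 0 Tr.leaf) 17803510 62 Tr.leaf) 17803534 6 (Tr.node (Tr.node Tr.leaf 17834731 296 Tr.leaf) 17834870 917 Tr.leaf))) 17846728 538 (Tr.node (Tr.node (Tr.node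 (Tr.node Tr.leaf 17846831 764 Tr.leaf) 17862070 471 Tr.leaf) 17862102 886 (Tr.node (Tr.node Tr.leaf 17883320 13 Tr.leaf) 17884654 136 Tr.leaf)) 17893743 839 (Tr.node (Tr.node (Tr.node Tr.leaf 17893863 1124 Tr.leaf) 17893875 392 Tr.leaf) 17895195 1291 (Tr.node (Tr.node Tr.leaf 17904602 1273 Tr.leaf) 17905812 945 Tr.leaf)))) 17905922 831 (Tr.node (Tr.node (Tr.node (Tr.node (Tr.node Tr.leaf 17905934 519 Tr.leaf) 17908505 1116 Tr.leaf) 17920574 468 (Tr.node (Tr.node Tr.leaf 17927960 731 Tr.leaf) 17929191 398 Tr.leaf)) 17940046 1481 (Tr.node (Tr.node (Tr.node Tr.leaf 17946629 1001 Tr.leaf) 17950506 1388 Tr.leaf) 17950568 1459 (Tr.node (Tr.node Tr.leaf 17965275 1472 Tr.leaf) 17965323 1214 Tr.leaf))) 17983771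 782 (Tr.node (Tr.node (Tr.node (Tr.node Tr.leaf 17990508 1467 Tr.leaf) 18001187 679 Tr.leaf) 18002616 704 (Tr.node (Tr.node Tr.leaf 18010002 1421 Tr.leaf) 18021873 155 Tr.leaf)) 18024632 1097 (Tr.node (Tr.node (Tr.node Tr.leaf 18024642 272 Tr.leaf) 18024764 648 Tr.leaf) 18025974 275 (Tr.node (Tr.node Tr.leaf 18035183 765 Tr.leaf) 18036515 490 Tr.leaf))))))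

def keyT30 : Tr := (Tr.node (Tr.node (Tr.node (Tr.node (Tr.node (Tr.node (Tr.node Tr.leaf 18036635 758 Tr.leaf) 18054915 1172 Tr.leaf) 18066984 86 (Tr.node (Tr.node Tr.leaf 18099552 742 Tr.leaf) 18100649 19 Tr.leaf)) 18107402 133 (Tr.node (Tr.node (Tr.node Tr.leaf 18108862 651 Tr.leaf) 18143596 1043 Tr.leaf) 18145276 239 (Tr.node (Tr.node Tr.leaf 18151831 126 Tr.leaf) 18152906 698 Tr.leaf))) 18185694 176 (Tr.node (Tr.node (Tr.node (Tr.node Tr.leaf 18197565 1224 Tr.leaf) 18229929 857 Tr.leaf) 18241902 593 (Tr.node (Tr.node Tr.leaf 18263573 1194 Tr.leaf) 18267548 1452 Tr.leaf)) 18274746 233 (Tr.node (Tr.node (Tr.node Tr.leaf 18278811 654 Tr.leaf) 18280140 1200 Tr.leaf) 18283963 707 (Tr.node (Tr.node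 Tr.leaf 18289288 359 Tr.leaf) 18294530 412 Tr.leaf)))) 18295881 368 (Tr.node (Tr.node (Tr.node (Tr.node (Tr.node Tr.leaf 18298703 245 Tr.leaf) 18307122 1474 Tr.leaf) 18311119 1306 (Tr.node (Tr.node Tr.leaf 18332768 328 Tr.leaf) 18344763 1155 Tr.leaf)) 18410732 1333 (Tr.node (Tr.node (Tr.node Tr.leaf 18411342 230 Tr.leaf) 18411999 1497 Tr.leaf) 18412599 1486 (Tr.node (Tr.node Tr.leaf 18422057 429 Tr.leaf) 18423259 213 Tr.leaf))) 18429964 1410 (Tr.node (Tr.node (Tr.node (Tr.node Tr.leaf 18431408 1058 Tr.leaf) 18436022 1133 Tr.leaf) 18438319 257 (Tr.node (Tr.node Tr.leaf 18444912 327 Tr.leaf) 18445262 371 Tr.leaf)) 18451433 1311 (Tr.node (Tr.node (Tr.node Tr.leaf 18451816 748 Tr.leaf) 18458519 860 Tr.leaf)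 18460827 974 (Tr.node (Tr.node Tr.leaf 18465408 1033 Tr.leaf) 18466874 613 Tr.leaf))))) 18473469 1078 (Tr.node (Tr.node (Tr.node (Tr.node (Tr.node (Tr.node Tr.leaf 18474693 432 Tr.leaf) 18484107 1260 Tr.leaf) 18484729 1521 (Tr.node (Tr.node Tr.leaf 18485518 132 Tr.leaf) 18486106 1482 Tr.leaf)) 18522200 1256 (Tr.node (Tr.node (Tr.node Tr.leaf 18527983 955 Tr.leaf) 18528511 1485 Tr.leaf) 18529246 1108 (Tr.node (Tr.node Tr.leaf 18529928 1072 Tr.leaf) 18534182 899 Tr.leaf))) 18537261 681 (Tr.node (Tr.node (Tr.node (Tr.node Tr.leaf 18539051 70 Tr.leaf) 18540126 361 Tr.leaf) 18546858 930 (Tr.node (Tr.node Tr.leaf 18548428 66 Tr.leaf) 18549250 733 Tr.leaf)) 18550662 1162 (Tr.node (Tr.node (Tr.node Tr.leaf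 18550732 504 Tr.leaf) 18596856 534 Tr.leaf) 18606178 270 (Tr.node (Tr.node Tr.leaf 18612586 57 Tr.leaf) 18621908 1037 Tr.leaf)))) 18653505 436 (Tr.node (Tr.node (Tr.node (Tr.node (Tr.node Tr.leaf 18653589 592 Tr.leaf) 18669646 821 Tr.leaf) 18670512 414 (Tr.node (Tr.node Tr.leaf 18672093 697 Tr.leaf) 18678671 1370 Tr.leaf)) 18679779 20 (Tr.node (Tr.node (Tr.node Tr.leaf 18681613 116 Tr.leaf) 18683254 1465 Tr.leaf) 18689043 1457 (Tr.node (Tr.node Tr.leaf 18689571 460 Tr.leaf) 18690288 1384 Tr.leaf))) 18690970 1218 (Tr.node (Tr.node (Tr.node (Tr.node Tr.leaf 18695230 950 Tr.leaf) 18698927 400 Tr.leaf) 18699799 240 (Tr.node (Tr.node Tr.leaf 18701375 709 Tr.leaf) 18707953 1154 Tr.leaf)) 18709056 179 (Tr.node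 (Tr.node (Tr.node Tr.leaf 18710896 1000 Tr.leaf) 18712076 1069 Tr.leaf) 18712146 738 (Tr.node (Tr.node Tr.leaf 18759001 755 Tr.leaf) 18768313 540 Tr.leaf))))))

def keyT31 : Tr := (Tr.node (Tr.node (Tr.node (Tr.node (Tr.node (Tr.node (Tr.node Tr.leaf 18781865 186 Tr.leaf) 18814193 143 Tr.leaf) 18814277 203 (Tr.node (Tr.node Tr.leaf 18830080 364 Tr.leaf) 18831876 53 Tr.leaf)) 18832946 673 (Tr.node (Tr.node (Tr.node Tr.leaf 18839678 1193 Tr.leaf) 18841243 527 Tr.leaf) 18842071 1264 (Tr.node (Tr.node Tr.leaf 18894058 912 Tr.leaf) 18894668 1337 Tr.leaf))) 18895463 662 (Tr.node (Tr.node (Tr.node (Tr.node Tr.leaf 18896063 1091 Tr.leaf) 18904639 604 Tr.leaf) 18906099 1157 (Tr.node (Tr.node Tr.leaf 18912704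 1348 Tr.leaf) 18913922 1285 Tr.leaf)) 18919945 553 (Tr.node (Tr.node (Tr.node Tr.leaf 18920321 959 Tr.leaf) 18927038 456 Tr.leaf) 18929339 482 (Tr.node (Tr.node Tr.leaf 18933816 1335 Tr.leaf) 18936106 1075 Tr.leaf)))) 18942713 655 (Tr.node (Tr.node (Tr.node (Tr.node (Tr.node Tr.leaf 18943056 628 Tr.leaf) 18949134 717 Tr.leaf) 18950330 439 (Tr.node (Tr.node Tr.leaf 18957045 668 Tr.leaf) 18958483 740 Tr.leaf)) 18967081 1532 (Tr.node (Tr.node (Tr.node Tr.leaf 18967703 410 Tr.leaf) 18968366 1136 Tr.leaf) 18968954 986 (Tr.node (Tr.node Tr.leaf 19035541 864 Tr.leaf) 19047526 814 Tr.leaf))) 19068447 879 (Tr.node (Tr.node (Tr.node (Tr.node Tr.leaf 19072458 820 Tr.leaf) 19079901 249 Tr.leaf) 19085153 735 (Tr.node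 (Tr.node Tr.leaf 19086486 228 Tr.leaf) 19089318 671 Tr.leaf)) 19094641 695 (Tr.node (Tr.node (Tr.node Tr.leaf 19098716 971 Tr.leaf) 19100027 1032 Tr.leaf) 19103860 114 (Tr.node (Tr.node Tr.leaf 19112744 384 Tr.leaf) 19116733 918 Tr.leaf))))) 19137676 446 (Tr.node (Tr.node (Tr.node (Tr.node (Tr.node (Tr.node Tr.leaf 19149639 863 Tr.leaf) 19181273 273 Tr.leaf) 19193162 677 (Tr.node (Tr.node Tr.leaf 19227023 231 Tr.leaf) 19228709 311 Tr.leaf)) 19235266 64 (Tr.node (Tr.node (Tr.node Tr.leaf 19236347 908 Tr.leaf) 19270825 1025 Tr.leaf) 19271928 394 (Tr.node (Tr.node Tr.leaf 19278683 178 Tr.leaf) 19280149 1293 Tr.leaf))) 19314032 761 (Tr.node (Tr.node (Tr.node (Tr.node Tr.leaf 19326119 523 Tr.leaf) 19332782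 1 Tr.leaf) 19334110 15 (Tr.node (Tr.node Tr.leaf 19342313 304 Tr.leaf) 19342325 561 Tr.leaf)) 19342445 518 (Tr.node (Tr.node (Tr.node Tr.leaf 19343655 830 Tr.leaf) 19352882 1115 Tr.leaf) 19354212 1246 (Tr.node (Tr.node Tr.leaf 19354224 792 Tr.leaf) 19354334 472 Tr.leaf)))) 19356965 1186 (Tr.node (Tr.node (Tr.node (Tr.node (Tr.node Tr.leaf 19368854 309 Tr.leaf) 19377440 128 Tr.leaf) 19378871 609 (Tr.node (Tr.node Tr.leaf 19389312 1143 Tr.leaf) 19396039 1534 Tr.leaf)) 19400086 1395 (Tr.node (Tr.node (Tr.node Tr.leaf 19400148 1379 Tr.leaf) 19414613 1505 Tr.leaf) 19414661 751 (Tr.node (Tr.node Tr.leaf 19433433 1387 Tr.leaf) 19440006 1413 Tr.leaf))) 19450623 1093 (Tr.node (Tr.node (Tr.node (Tr.node Tr.leaf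 19451856 237 Tr.leaf) 19460442 1031 Tr.leaf) 19472529 838 (Tr.node (Tr.node Tr.leaf 19474962 1150 Tr.leaf) 19475084 1151 Tr.leaf)) 19475094 772 (Tr.node (Tr.node (Tr.node Tr.leaf 19476414 524 Tr.leaf) 19485839 990 Tr.leaf) 19487049 1327 (Tr.node (Tr.node Tr.leaf 19487159 465 Tr.leaf) 19487169 759 Tr.leaf))))))

def keyT : Tr := (Tr.node (Tr.node (Tr.node (Tr.node (Tr.node keyT0 676337 442 keyT1) 1061387 1381 (Tr.node keyT2 1611050 485 keyT3)) 2323143 384 (Tr.node (Tr.node keyT4 2975049 974 keyT5) 3648529 861 (Tr.node keyT6 4512237 599 keyT7))) 5396559 1326 (Tr.node (Tr.node (Tr.node keyT8 6025488 58 keyT9) 6408472 589 (Tr.node keyT10 7020893 853 keyT11)) 7784149 118 (Tr.node (Tr.node keyT12 8104888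 1375 keyT13) 8467069 353 (Tr.node keyT14 9083873 1071 keyT15)))) 9639308 622 (Tr.node (Tr.node (Tr.node (Tr.node keyT16 10234617 943 keyT17) 10775587 417 (Tr.node keyT18 11358428 806 keyT19)) 11960553 1473 (Tr.node (Tr.node keyT20 12827424 645 keyT21) 13172478 192 (Tr.node keyT22 13592931 189 keyT23))) 13955090 1026 (Tr.node (Tr.node (Tr.node keyT24 14709535 483 keyT25) 15179949 1468 (Tr.node keyT26 15642736 258 keyT27)) 16264953 832 (Tr.node (Tr.node keyT28 17427968 845 keyT29) 18036525 1292 (Tr.node keyT30 18772553 1166 keyT31)))))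

end Cfsg.Agent.Lib.helper27.J1B
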