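import Cfsg.Agent.Lib.helper27.J1Data

set_option autoImplicit false

namespace Cfsg.Agent.Lib.helper27.J1B

open Matrix

/-- The ambient general linear group. -/
abbrev GL7 : Type := GL (Fin 7) (ZMod 11)

/-! ### Decoding -/

/-- The residue vector of a coded vector. -/
def decV (v : V7) : Fin 7 → ZMod 11 :=
  ![(v.a : ZMod 11), (v.b : ZMod 11), (v.c : ZMod 11), (v.d : ZMod 11), (v.e : ZMod 11),
    (v.f : ZMod 11), (v.g : ZMod 11)]

/-- The residue matrix of a coded matrix. -/
def decM (m : M7) : Matrix (Fin 7) (Fin 7) (ZMod 11) :=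
  Matrix.of ![decV m.r0, decV m.r1, decV m.r2, decV m.r3, decV m.r4, decV m.r5, decV m.r6]

/-- Reduced vectors. -/
def V7.red (x : V7) : Prop :=
  x.a < 11 ∧ x.b < 11 ∧ x.c < 11 ∧ x.d < 11 ∧ x.e < 11 ∧ x.f < 11 ∧ x.g < 11

/-- Reduced matrices. -/
def M7.red (A : M7) : Prop :=
  A.r0.red ∧ A.r1.red ∧ A.r2.red ∧ A.r3.red ∧ A.r4.red ∧ A.r5.red ∧ A.r6.red

theorem cast_inj11 (a b : ℕ) (ha : a < 11) (hb : b < 11)
    (h : (a : ZMod 11) = (b : ZMod 11)) : a = b := by
  rw [ZMod.natCast_eq_natCast_iff'] at h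
  rwa [Nat.mod_eq_of_lt ha, Nat.mod_eq_of_lt hb] at h

theorem neg_cast11 (a : ℕ) (h : a < 11) : (((11 - a) % 11 : ℕ) : ZMod 11) = -(a : ZMod 11) := by
  interval_cases a <;> decide

theorem decV_dot (x y : V7) : ((x.dot y : ℕ) : ZMod 11) = decV x ⬝ᵥ decV y := by
  simp [V7.dot, decV, dotProduct, Fin.sum_univ_seven]

theorem decV_comb (x : V7) (B : M7) : decV (x.comb B) = Matrix.vecMul (decV x) (decM B) := by
  funext k
  fin_cases k <;>
    simp [V7.comb, decV, decM, Matrix.vecMul, dotProduct, Fin.sum_univ_seven]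

theorem decM_mul (A B : M7) : decM (A.mul B) = decM A * decM B := by
  ext i k
  rw [Matrix.mul_apply_eq_vecMul]
  fin_cases i
  · exact congrFun (decV_comb A.r0 B) k
  · exact congrFun (decV_comb A.r1 B) k
  · exact congrFun (decV_comb A.r2 B) k
  · exact congrFun (decV_comb A.r3 B) k
  · exact congrFun (decV_comb A.r4 B) k
  · exact congrFun (decV_comb A.r5 B) k
  · exact congrFun (decV_comb A.r6 B) k

theorem decV_app (A : M7) (w : V7) : decV (A.app w) = (decM A).mulVec (decV w) := by
  funext i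
  fin_cases i
  · exact decV_dot A.r0 w
  · exact decV_dot A.r1 w
  · exact decV_dot A.r2 w
  · exact decV_dot A.r3 w
  · exact decV_dot A.r4 w
  · exact decV_dot A.r5 w
  · exact decV_dot A.r6 w

theorem decV_neg (v : V7) (h : v.red) : decV v.neg = -decV v := by
  obtain ⟨h0, h1, h2, h3, h4, h5, h6⟩ := h
  funext i
  fin_cases i
  · exact neg_cast11 _ h0
  · exact neg_cast11 _ h1
  · exact neg_cast11 _ h2
  · exact neg_cast11 _ h3
  · exact neg_cast11 _ h4
  · exact neg_cast11 _ h5
  · exact neg_cast11 _ h6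

theorem decV_inj {v v' : V7} (hv : v.red) (hv' : v'.red) (h : decV v = decV v') : v = v' := by
  obtain ⟨a, b, c, d, e, f, g⟩ := v
  obtain ⟨a', b', c', d', e', f', g'⟩ := v'
  obtain ⟨h0, h1, h2, h3, h4, h5, h6⟩ := hv
  obtain ⟨h0', h1', h2', h3', h4', h5', h6'⟩ := hv'
  have e0 := cast_inj11 _ _ h0 h0' (congrFun h 0)
  have e1 := cast_inj11 _ _ h1 h1' (congrFun h 1)
  have e2 := cast_inj11 _ _ h2 h2' (congrFun h 2)
  have e3 := cast_inj11 _ _ h3 h3' (congrFun h 3)
  have e4 := cast_inj11 _ _ h4 h4' (congrFun h 4)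
  have e5 := cast_inj11 _ _ h5 h5' (congrFun h 5)
  have e6 := cast_inj11 _ _ h6 h6' (congrFun h 6)
  simp only [V7.mk.injEq]
  exact ⟨e0, e1, e2, e3, e4, e5, e6⟩

theorem decM_inj {A B : M7} (hA : A.red) (hB : B.red) (h : decM A = decM B) : A = B := by
  obtain ⟨a0, a1, a2, a3, a4, a5, a6⟩ := A
  obtain ⟨b0, b1, b2, b3, b4, b5, b6⟩ := B
  obtain ⟨h0, h1, h2, h3, h4, h5, h6⟩ := hA
  obtain ⟨h0', h1', h2', h3', h4', h5', h6'⟩ := hB
  have row : ∀ i : Fin 7, decM (M7.mk a0 a1 a2 a3 a4 a5 a6) i = decM (M7.mk b0 b1 b2 b3 b4 b5 b6) i :=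
    fun i => congrFun h i
  have e0 := decV_inj h0 h0' (row 0)
  have e1 := decV_inj h1 h1' (row 1)
  have e2 := decV_inj h2 h2' (row 2)
  have e3 := decV_inj h3 h3' (row 3)
  have e4 := decV_inj h4 h4' (row 4)
  have e5 := decV_inj h5 h5' (row 5)
  have e6 := decV_inj h6 h6' (row 6)
  simp only [M7.mk.injEq]
  exact ⟨e0, e1, e2, e3, e4, e5, e6⟩

theorem comb_red (x : V7) (B : M7) : (x.comb B).red :=
  ⟨Nat.mod_lt _ (by norm_num), Nat.mod_lt _ (by norm_num), Nat.mod_lt _ (by norm_num),
    Nat.mod_lt _ (by norm_num), Nat.mod_lt _ (by norm_num), Nat.mod_lt _ (by norm_num),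
    Nat.mod_lt _ (by norm_num)⟩

theorem mul_red (A B : M7) : (A.mul B).red :=
  ⟨comb_red _ _, comb_red _ _, comb_red _ _, comb_red _ _, comb_red _ _, comb_red _ _,
    comb_red _ _⟩

theorem app_red (A : M7) (w : V7) : (A.app w).red :=
  ⟨Nat.mod_lt _ (by norm_num), Nat.mod_lt _ (by norm_num), Nat.mod_lt _ (by norm_num),
    Nat.mod_lt _ (by norm_num), Nat.mod_lt _ (by norm_num), Nat.mod_lt _ (by norm_num),
    Nat.mod_lt _ (by norm_num)⟩

theorem neg_red (x : V7) : x.neg.red :=
  ⟨Nat.mod_lt _ (by norm_num), Nat.mod_lt _ (by norm_num), Nat.mod_lt _ (by norm_num),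
    Nat.mod_lt _ (by norm_num), Nat.mod_lt _ (by norm_num), Nat.mod_lt _ (by norm_num),
    Nat.mod_lt _ (by norm_num)⟩

instance (x : V7) : Decidable x.red := by unfold V7.red; infer_instance

instance (A : M7) : Decidable A.red := by unfold M7.red; infer_instance

theorem one7_red : one7.red := by decide

theorem decM_one : decM one7 = 1 := by
  ext i j
  fin_cases i <;> fin_cases j <;> decide

theorem decM_xc : decM xc = Cfsg.jankoMatrixX := by
  ext i j
  fin_cases i <;> fin_cases j <;> decide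

theorem decM_yc : decM yc = Cfsg.jankoMatrixY := by
  ext i j
  fin_cases i <;> fin_cases j <;> decide


/-! ### Representing group elements by coded matrices -/

/-- The element `g` has the coded matrix `m`. -/
def Rep (g : GL7) (m : M7) : Prop := (g : Matrix (Fin 7) (Fin 7) (ZMod 11)) = decM m

theorem Rep.mul {g h : GL7} {m k : M7} (hg : Rep g m) (hh : Rep h k) : Rep (g * h) (m.mul k) := by
  unfold Rep at *
  rw [Units.val_mul, hg, hh, decM_mul]

theorem rep_one : Rep 1 one7 := by
  unfold Rep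
  rw [Units.val_one, decM_one]

theorem Rep.pow {g : GL7} {m : M7} (hg : Rep g m) (n : ℕ) : Rep (g ^ n) (mpow m n) := by
  induction n with
  | zero => rw [pow_zero]; exact rep_one
  | succ n ih => rw [pow_succ']; exact hg.mul ih

theorem Rep.eq {g h : GL7} {m : M7} (hg : Rep g m) (hh : Rep h m) : g = h :=
  Units.ext (hg.trans hh.symm)

theorem Rep.code_eq {g : GL7} {m k : M7} (hg : Rep g m) (hh : Rep g k) (hm : m.red) (hk : k.red) :
    m = k :=
  decM_inj hm hk (hg.symm.trans hh)

theorem rep_x : Rep Cfsg.Spor.jankoX xc := decM_xc.symm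

theorem rep_y : Rep Cfsg.Spor.jankoY yc := decM_yc.symm

/-- The generators of the group, indexed by a Boolean. -/
def genG (b : Bool) : GL7 := if b then Cfsg.Spor.jankoY else Cfsg.Spor.jankoX

theorem rep_genG (b : Bool) : Rep (genG b) (genB b) := by
  cases b
  · exact rep_x
  · exact rep_y

theorem genG_mem (b : Bool) : genG b ∈ Cfsg.Spor.J1 := by
  cases b
  · exact Subgroup.subset_closure (by simp [genG])
  · exact Subgroup.subset_closure (by simp [genG])

/-- The group element of a word in the generators. -/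
def wordG : List Bool → GL7
  | [] => 1
  | b :: l => genG b * wordG l

theorem rep_wordG (l : List Bool) : Rep (wordG l) (wordM l) := by
  induction l with
  | nil => exact rep_one
  | cons b l ih => exact (rep_genG b).mul ih

theorem wordG_mem (l : List Bool) : wordG l ∈ Cfsg.Spor.J1 := by
  induction l with
  | nil => exact Subgroup.one_mem _
  | cons b l ih => exact Subgroup.mul_mem _ (genG_mem b) ih

theorem wordG_append (l l' : List Bool) : wordG (l ++ l') = wordG l * wordG l' := by
  induction l with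
  | nil => simp [wordG]
  | cons b l ih => simp [wordG, ih, mul_assoc]

theorem genB_red (b : Bool) : (genB b).red := by
  cases b <;> decide

theorem wordM_red (l : List Bool) : (wordM l).red := by
  cases l with
  | nil => exact one7_red
  | cons b l => exact mul_red _ _

/-! ### A counting lemma of Schreier–Sims type -/

theorem card_closure_eq {G : Type*} [Group G] [Finite G] (S : Set G) (K : Subgroup G) (n : ℕ)
    (f : ℕ → G) (hn : 0 < n) (h1 : f 0 = 1)
    (hstep : ∀ s ∈ S, ∀ i < n, ∃ j < n, ∃ k ∈ K, s * f i = f j * k)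
    (hfS : ∀ i < n, f i ∈ Subgroup.closure S) (hK : K ≤ Subgroup.closure S)
    (hinj : ∀ i < n, ∀ j < n, ∀ k ∈ K, ∀ k' ∈ K, f i * k = f j * k' → i = j) :
    Nat.card (Subgroup.closure S) = n * Nat.card K := by
  -- every element of the closure is of the form `f i * k`
  have hT : ∀ g ∈ Subgroup.closure S, ∃ i < n, ∃ k ∈ K, g = f i * k := by
    let M : Submonoid G :=
      { carrier := {g | ∀ t : G, (∃ i < n, ∃ k ∈ K, t = f i * k) → ∃ i < n, ∃ k ∈ K, g * t = f i * k}
        mul_mem' := by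
          intro a b ha hb t ht
          rw [mul_assoc]
          exact ha _ (hb t ht)
        one_mem' := by
          intro t ht
          rw [one_mul]
          exact ht }
    have hSM : S ⊆ M := by
      intro s hs t ht
      obtain ⟨i, hi, k, hk, rfl⟩ := ht
      obtain ⟨j, hj, k', hk', e⟩ := hstep s hs i hi
      refine ⟨j, hj, k' * k, K.mul_mem hk' hk, ?_⟩
      rw [← mul_assoc, e, mul_assoc]
    intro g hg
    have hg' : g ∈ (Subgroup.closure S).toSubmonoid := hg
    rw [Subgroup.closure_toSubmonoid_of_finite] at hg'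
    have hgM : g ∈ M := (Submonoid.closure_le.mpr hSM) hg'
    have h := hgM 1 ⟨0, hn, 1, K.one_mem, by rw [h1, one_mul]⟩
    rwa [mul_one] at h
  have hbij : Function.Bijective
      (fun p : Fin n × K => (⟨f p.1 * p.2, Subgroup.mul_mem _ (hfS p.1 p.1.2) (hK p.2.2)⟩ :
        Subgroup.closure S)) := by
    constructor
    · rintro ⟨i, k⟩ ⟨j, k'⟩ h
      have h' : f i * k = f j * k' := congrArg Subtype.val h
      have hij : (i : ℕ) = j := hinj i i.2 j j.2 k k.2 k' k'.2 h'
      have hij' : i = j := Fin.ext hij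
      subst hij'
      have hk : (k : G) = k' := mul_left_cancel h'
      rw [Subtype.ext hk]
    · rintro ⟨g, hg⟩
      obtain ⟨i, hi, k, hk, rfl⟩ := hT g hg
      exact ⟨(⟨i, hi⟩, ⟨k, hk⟩), rfl⟩
  rw [← Nat.card_congr (Equiv.ofBijective _ hbij), Nat.card_prod, Nat.card_fin]


/-! ### The certificate checks -/

theorem chk_tab0 : tab 0 = one7 := by decide +kernel

theorem chk_par : ∀ i < 1540, i = 0 ∨ (pi i < i ∧ tab i = (genN (pg i)).mul (tab (pi i))) := by
  decide +kernel

theorem chk_x : ∀ i < 1540, cjx i < 1540 ∧ cex i < 19 ∧ cfx i < 6 ∧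
    xc.mul (tab i) = (tab (cjx i)).mul ((bP (cex i)).mul (cP (cfx i))) := by
  decide +kernel

theorem chk_y : ∀ i < 1540, cjy i < 1540 ∧ cey i < 19 ∧ cfy i < 6 ∧
    yc.mul (tab i) = (tab (cjy i)).mul ((bP (cey i)).mul (cP (cfy i))) := by
  decide +kernel

theorem chk_bP : ∀ e < 19, bP e = mpow bc e := by decide +kernel

theorem chk_cP : ∀ e < 6, cP e = mpow cc e := by decide +kernel

theorem chk_b19 : mpow bc 19 = one7 := by decide +kernel

theorem chk_b1 : bc ≠ one7 := by decide +kernel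

theorem chk_c6 : mpow cc 6 = one7 := by decide +kernel

theorem chk_c2 : mpow cc 2 ≠ one7 := by decide +kernel

theorem chk_c3 : mpow cc 3 ≠ one7 := by decide +kernel

theorem chk_cb : cc.mul bc = (mpow bc 8).mul cc := by decide +kernel

theorem chk_bw : bc.app wc = wc := by decide +kernel

theorem chk_cw : cc.app wc = wc.neg := by decide +kernel

theorem chk_key : ∀ i < 1540, keyT.look ((tab i).app wc).code = i ∧
    keyT.look ((tab i).app wc).neg.code = i := by
  decide +kernel


/-! ### The order of the group -/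

/-- The generators of the group, indexed by a number. -/
def genGN (k : ℕ) : GL7 := if k = 0 then Cfsg.Spor.jankoX else Cfsg.Spor.jankoY

theorem rep_genGN (k : ℕ) : Rep (genGN k) (genN k) := by
  unfold genGN genN
  split_ifs
  · exact rep_x
  · exact rep_y

theorem genGN_mem (k : ℕ) : genGN k ∈ Cfsg.Spor.J1 := by
  unfold genGN
  split_ifs
  · exact Subgroup.subset_closure (by simp)
  · exact Subgroup.subset_closure (by simp)

/-- An element of order 19. -/
def bG : GL7 := wordG bword

/-- An element of order 6 normalizing `⟨bG⟩`. -/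
def cG : GL7 := wordG cword

theorem rep_b : Rep bG bc := rep_wordG bword

theorem rep_c : Rep cG cc := rep_wordG cword

theorem tab_rep : ∀ i < 1540, ∃ g ∈ Cfsg.Spor.J1, Rep g (tab i) := by
  intro i
  induction i using Nat.strong_induction_on with
  | _ i ih =>
    intro hi
    rcases chk_par i hi with h0 | ⟨hlt, he⟩
    · subst h0
      exact ⟨1, Subgroup.one_mem _, by rw [chk_tab0]; exact rep_one⟩
    · obtain ⟨g, hg, hr⟩ := ih (pi i) hlt (lt_trans hlt hi)
      refine ⟨genGN (pg i) * g, Subgroup.mul_mem _ (genGN_mem _) hg, ?_⟩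
      rw [he]
      exact (rep_genGN _).mul hr

/-- The transversal, as group elements. -/
noncomputable def fU (i : ℕ) : GL7 := if h : i < 1540 then Classical.choose (tab_rep i h) else 1

theorem fU_mem (i : ℕ) (h : i < 1540) : fU i ∈ Cfsg.Spor.J1 := by
  unfold fU
  rw [dif_pos h]
  exact (Classical.choose_spec (tab_rep i h)).1

theorem fU_rep (i : ℕ) (h : i < 1540) : Rep (fU i) (tab i) := by
  unfold fU
  rw [dif_pos h]
  exact (Classical.choose_spec (tab_rep i h)).2

/-- The stabilizer of the base line. -/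
def KG : Subgroup GL7 := Subgroup.closure {bG, cG}

theorem bG_pow19 : bG ^ 19 = 1 := (rep_b.pow 19).eq (by rw [chk_b19]; exact rep_one)

theorem bG_ne : bG ≠ 1 := fun h =>
  chk_b1 (Rep.code_eq rep_b (by rw [h]; exact rep_one) (wordM_red _) one7_red)

theorem orderOf_bG : orderOf bG = 19 := by
  haveI : Fact (Nat.Prime 19) := ⟨by norm_num⟩
  exact orderOf_eq_prime bG_pow19 bG_ne

theorem mpow_red (m : M7) (n : ℕ) : (mpow m n).red := by
  cases n with
  | zero => exact one7_red
  | succ n => exact mul_red _ _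

theorem cG_pow6 : cG ^ 6 = 1 := (rep_c.pow 6).eq (by rw [chk_c6]; exact rep_one)

theorem orderOf_cG : orderOf cG = 6 := by
  refine orderOf_eq_of_pow_and_pow_div_prime (by norm_num) cG_pow6 ?_
  intro p hp hd
  have hle : p ≤ 6 := Nat.le_of_dvd (by norm_num) hd
  interval_cases p
  · exact absurd hp (by norm_num)
  · exact absurd hp (by norm_num)
  · intro h
    exact chk_c3 (Rep.code_eq (rep_c.pow 3) (by rw [show 6 / 2 = 3 from rfl] at h; rw [h]; exact rep_one)
      (mpow_red _ _) one7_red)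
  · intro h
    exact chk_c2 (Rep.code_eq (rep_c.pow 2) (by rw [show 6 / 3 = 2 from rfl] at h; rw [h]; exact rep_one)
      (mpow_red _ _) one7_red)
  · exact absurd hp (by norm_num)
  · exact absurd hd (by norm_num)
  · exact absurd hp (by norm_num)

theorem cG_bG : cG * bG = bG ^ 8 * cG :=
  (rep_c.mul rep_b).eq (by rw [chk_cb]; exact (rep_b.pow 8).mul rep_c)

theorem cG_bG_pow (e : ℕ) : cG * bG ^ e = bG ^ (8 * e) * cG := by
  induction e with
  | zero => simp
  | succ e ih =>
    rw [pow_succ, ← mul_assoc, ih, mul_assoc, cG_bG, ← mul_assoc, ← pow_add]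
    congr 2

theorem card_KG : Nat.card KG = 114 := by
  have h := card_closure_eq ({bG, cG} : Set GL7) (Subgroup.zpowers cG) 19 (fun e => bG ^ e)
    (by norm_num) (pow_zero _) ?_ ?_ ?_ ?_
  · rw [Nat.card_zpowers, orderOf_cG] at h
    exact h
  · intro s hs i _
    simp only [Set.mem_insert_iff, Set.mem_singleton_iff] at hs
    rcases hs with rfl | rfl
    · refine ⟨(i + 1) % 19, Nat.mod_lt _ (by norm_num), 1, Subgroup.one_mem _, ?_⟩
      rw [mul_one, ← pow_succ', pow_eq_pow_mod (i + 1) bG_pow19]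
    · refine ⟨(8 * i) % 19, Nat.mod_lt _ (by norm_num), cG, Subgroup.mem_zpowers _, ?_⟩
      show cG * bG ^ i = bG ^ (8 * i % 19) * cG
      rw [cG_bG_pow, pow_eq_pow_mod (8 * i) bG_pow19]
  · intro i _
    exact Subgroup.pow_mem _ (Subgroup.subset_closure (by simp)) _
  · rw [Subgroup.zpowers_le]
    exact Subgroup.subset_closure (by simp)
  · intro i hi j hj k hk k' hk' h
    have h' : bG ^ i * k = bG ^ j * k' := h
    have hd : (bG ^ j)⁻¹ * bG ^ i = k' * k⁻¹ := by
      rw [inv_mul_eq_iff_eq_mul, ← mul_assoc, ← h', mul_inv_cancel_right]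
    have hcop : Nat.Coprime (Nat.card (Subgroup.zpowers bG)) (Nat.card (Subgroup.zpowers cG)) := by
      rw [Nat.card_zpowers, Nat.card_zpowers, orderOf_bG, orderOf_cG]
      decide
    have hbot := Subgroup.inf_eq_bot_of_coprime hcop
    have hmem : (bG ^ j)⁻¹ * bG ^ i ∈ Subgroup.zpowers bG ⊓ Subgroup.zpowers cG := by
      refine Subgroup.mem_inf.mpr ⟨?_, ?_⟩
      · exact Subgroup.mul_mem _ (Subgroup.inv_mem _ (Subgroup.pow_mem _ (Subgroup.mem_zpowers _) _))
          (Subgroup.pow_mem _ (Subgroup.mem_zpowers _) _)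
      · rw [hd]
        exact Subgroup.mul_mem _ hk' (Subgroup.inv_mem _ hk)
    rw [hbot, Subgroup.mem_bot, inv_mul_eq_one] at hmem
    exact pow_injOn_Iio_orderOf (by rw [Set.mem_Iio, orderOf_bG]; exact hj)
      (by rw [Set.mem_Iio, orderOf_bG]; exact hi) hmem |>.symm

theorem bG_mem : bG ∈ Cfsg.Spor.J1 := wordG_mem bword

theorem cG_mem : cG ∈ Cfsg.Spor.J1 := wordG_mem cword

/-- The base vector. -/
def wv : Fin 7 → ZMod 11 := decV wc

theorem KG_sign : ∀ k ∈ KG, (k : Matrix (Fin 7) (Fin 7) (ZMod 11)) *ᵥ wv = wv ∨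
    (k : Matrix (Fin 7) (Fin 7) (ZMod 11)) *ᵥ wv = -wv := by
  intro k hk
  unfold KG at hk
  induction hk using Subgroup.closure_induction with
  | mem s hs =>
    simp only [Set.mem_insert_iff, Set.mem_singleton_iff] at hs
    rcases hs with rfl | rfl
    · left
      rw [show (bG : Matrix (Fin 7) (Fin 7) (ZMod 11)) = decM bc from rep_b]
      unfold wv
      rw [← decV_app, chk_bw]
    · right
      rw [show (cG : Matrix (Fin 7) (Fin 7) (ZMod 11)) = decM cc from rep_c]
      unfold wv
      rw [← decV_app, chk_cw, decV_neg _ (by decide)]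
  | one => left; rw [Units.val_one, Matrix.one_mulVec]
  | mul a b _ _ ha hb =>
    rw [Units.val_mul, ← Matrix.mulVec_mulVec]
    rcases hb with hb | hb <;> rcases ha with ha | ha
    · left; rw [hb, ha]
    · right; rw [hb, ha]
    · right; rw [hb, Matrix.mulVec_neg, ha]
    · left; rw [hb, Matrix.mulVec_neg, ha, neg_neg]
  | inv a _ ha =>
    have e : (↑a⁻¹ : Matrix (Fin 7) (Fin 7) (ZMod 11)) *ᵥ
        ((a : Matrix (Fin 7) (Fin 7) (ZMod 11)) *ᵥ wv) = wv := by
      rw [Matrix.mulVec_mulVec, ← Units.val_mul, inv_mul_cancel, Units.val_one, Matrix.one_mulVec]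
    rcases ha with ha | ha
    · left; rw [ha] at e; exact e
    · right; rw [ha, Matrix.mulVec_neg] at e; exact neg_eq_iff_eq_neg.mp e

theorem fU_inj : ∀ i < 1540, ∀ j < 1540, ∀ k ∈ KG, ∀ k' ∈ KG, fU i * k = fU j * k' → i = j := by
  intro i hi j hj k hk k' hk' h
  have h2 : (fU i : Matrix (Fin 7) (Fin 7) (ZMod 11)) *ᵥ
      ((k : Matrix (Fin 7) (Fin 7) (ZMod 11)) *ᵥ wv) =
      (fU j : Matrix (Fin 7) (Fin 7) (ZMod 11)) *ᵥ
      ((k' : Matrix (Fin 7) (Fin 7) (ZMod 11)) *ᵥ wv) := by
    rw [Matrix.mulVec_mulVec, Matrix.mulVec_mulVec, ← Units.val_mul, ← Units.val_mul, h]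
  have ri : (fU i : Matrix (Fin 7) (Fin 7) (ZMod 11)) *ᵥ wv = decV ((tab i).app wc) := by
    rw [show (fU i : Matrix (Fin 7) (Fin 7) (ZMod 11)) = decM (tab i) from fU_rep i hi, decV_app]
    rfl
  have rj : (fU j : Matrix (Fin 7) (Fin 7) (ZMod 11)) *ᵥ wv = decV ((tab j).app wc) := by
    rw [show (fU j : Matrix (Fin 7) (Fin 7) (ZMod 11)) = decM (tab j) from fU_rep j hj, decV_app]
    rfl
  obtain ⟨ki, kin⟩ := chk_key i hi
  obtain ⟨kj, kjn⟩ := chk_key j hj
  have hri := app_red (tab i) wc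
  have hrj := app_red (tab j) wc
  rcases KG_sign k hk with e1 | e1 <;> rcases KG_sign k' hk' with e2 | e2
  · rw [e1, e2, ri, rj] at h2
    have h3 := decV_inj hri hrj h2
    calc i = keyT.look ((tab i).app wc).code := ki.symm
      _ = keyT.look ((tab j).app wc).code := by rw [h3]
      _ = j := kj
  · rw [e1, e2, Matrix.mulVec_neg, ri, rj, ← decV_neg _ hrj] at h2
    have h3 := decV_inj hri (neg_red _) h2
    calc i = keyT.look ((tab i).app wc).code := ki.symm
      _ = keyT.look ((tab j).app wc).neg.code := by rw [h3]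
      _ = j := kjn
  · rw [e1, e2, Matrix.mulVec_neg, ri, rj, ← decV_neg _ hri] at h2
    have h3 := decV_inj (neg_red _) hrj h2
    calc i = keyT.look ((tab i).app wc).neg.code := kin.symm
      _ = keyT.look ((tab j).app wc).code := by rw [h3]
      _ = j := kj
  · rw [e1, e2, Matrix.mulVec_neg, Matrix.mulVec_neg, ri, rj, neg_inj] at h2
    have h3 := decV_inj hri hrj h2
    calc i = keyT.look ((tab i).app wc).code := ki.symm
      _ = keyT.look ((tab j).app wc).code := by rw [h3]
      _ = j := kj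

theorem KG_le : KG ≤ Cfsg.Spor.J1 := by
  unfold KG
  rw [Subgroup.closure_le]
  intro s hs
  simp only [Set.mem_insert_iff, Set.mem_singleton_iff] at hs
  rcases hs with rfl | rfl
  · exact bG_mem
  · exact cG_mem

theorem bG_pow_rep (e : ℕ) (he : e < 19) : Rep (bG ^ e) (bP e) := by
  rw [chk_bP e he]; exact rep_b.pow e

theorem cG_pow_rep (e : ℕ) (he : e < 6) : Rep (cG ^ e) (cP e) := by
  rw [chk_cP e he]; exact rep_c.pow e

/-- The order of the Janko group `J₁`. -/
theorem card_J1 : Nat.card Cfsg.Spor.J1 = 175560 := by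
  have h := card_closure_eq ({Cfsg.Spor.jankoX, Cfsg.Spor.jankoY} : Set GL7) KG 1540 fU
    (by norm_num) ((fU_rep 0 (by norm_num)).eq (by rw [chk_tab0]; exact rep_one)) ?_ ?_ ?_ fU_inj
  · rw [card_KG] at h
    exact h
  · intro s hs i hi
    simp only [Set.mem_insert_iff, Set.mem_singleton_iff] at hs
    rcases hs with rfl | rfl
    · obtain ⟨hj, he, hf, hc⟩ := chk_x i hi
      refine ⟨cjx i, hj, bG ^ cex i * cG ^ cfx i, ?_, ?_⟩
      · exact Subgroup.mul_mem _ (Subgroup.pow_mem _ (Subgroup.subset_closure (by simp)) _)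
          (Subgroup.pow_mem _ (Subgroup.subset_closure (by simp)) _)
      · exact (rep_x.mul (fU_rep i hi)).eq
          (by rw [hc]; exact (fU_rep _ hj).mul ((bG_pow_rep _ he).mul (cG_pow_rep _ hf)))
    · obtain ⟨hj, he, hf, hc⟩ := chk_y i hi
      refine ⟨cjy i, hj, bG ^ cey i * cG ^ cfy i, ?_, ?_⟩
      · exact Subgroup.mul_mem _ (Subgroup.pow_mem _ (Subgroup.subset_closure (by simp)) _)
          (Subgroup.pow_mem _ (Subgroup.subset_closure (by simp)) _)
      · exact (rep_y.mul (fU_rep i hi)).eq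
          (by rw [hc]; exact (fU_rep _ hj).mul ((bG_pow_rep _ he).mul (cG_pow_rep _ hf)))
  · exact fU_mem
  · exact KG_le

end Cfsg.Agent.Lib.helper27.J1B
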