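import Cfsg.Agent.Lib.helper27.J1Spec

set_option autoImplicit false

/-! Every automorphism of the Janko group `J₁` is inner. -/

namespace Cfsg.Agent.Lib.helper27.J1B

open scoped Pointwise

/-! ### Words in three letters -/

/-- The value of a word in three letters in a monoid. -/
def evG {G : Type*} [Monoid G] (b c s : G) : List ℕ → G
  | [] => 1
  | l :: w => (if l = 0 then b else if l = 1 then c else s) * evG b c s w

/-- The value of a word in three letters, for coded matrices. -/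
def evM (b c s : M7) : List ℕ → M7
  | [] => one7
  | l :: w => (if l = 0 then b else if l = 1 then c else s).mul (evM b c s w)

theorem evG_map {G H : Type*} [Monoid G] [Monoid H] (f : G →* H) (b c s : G) (w : List ℕ) :
    f (evG b c s w) = evG (f b) (f c) (f s) w := by
  induction w with
  | nil => simp [evG]
  | cons l w ih =>
    simp only [evG, map_mul, ih]
    split_ifs <;> rfl

theorem rep_evG (b c s : ↥Cfsg.Spor.J1) (mb mc ms : M7) (hb : Rep b.1 mb) (hc : Rep c.1 mc)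
    (hs : Rep s.1 ms) (w : List ℕ) : Rep (evG b c s w).1 (evM mb mc ms w) := by
  induction w with
  | nil => exact rep_one
  | cons l w ih =>
    simp only [evG, evM]
    split_ifs
    · exact hb.mul ih
    · exact hc.mul ih
    · exact hs.mul ih

theorem evM_red (mb mc ms : M7) (w : List ℕ) : (evM mb mc ms w).red := by
  cases w with
  | nil => exact one7_red
  | cons l w => exact mul_red _ _

theorem evG_eq_one_iff (b c s : ↥Cfsg.Spor.J1) (mb mc ms : M7) (hb : Rep b.1 mb)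
    (hc : Rep c.1 mc) (hs : Rep s.1 ms) (w : List ℕ) :
    evG b c s w = 1 ↔ evM mb mc ms w = one7 := by
  constructor
  · intro h
    have h1 := rep_evG b c s mb mc ms hb hc hs w
    rw [h] at h1
    exact Rep.code_eq h1 rep_one (evM_red _ _ _ _) one7_red
  · intro h
    apply Subtype.ext
    have h1 := rep_evG b c s mb mc ms hb hc hs w
    rw [h] at h1
    exact h1.eq rep_one

/-! ### Data -/

/-- An involution of the subgroup `A₅` of the centralizer. -/
def sword : List Bool := [false, false, false, true, true, true, false, true, true, true, true, false, true, true, true, false, false, false, false]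

/-- The relations. -/
def relL : List (List ℕ) := [[2, 2],
  [1, 1, 1, 1, 2, 1, 1, 1, 1, 2, 1, 1, 1, 1, 2, 1, 1, 1, 1, 2, 1, 1, 1, 1, 2],
  [0, 0, 0, 0, 0, 2, 0, 0, 0, 0, 0, 2, 0, 0, 0, 0, 0, 2]]

/-- The first generator as a word in the three elements. -/
def wxL : List ℕ := [1, 0, 2, 0, 2, 0, 2, 1, 0, 1, 0, 1]

/-- The second generator as a word in the three elements. -/
def wyL : List ℕ := [0, 1, 0, 2, 1, 0, 1, 1, 2, 0, 0, 1, 1]

theorem chk_sword : wordM sword = a5mat 13 := by decide +kernel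

theorem chk_rel : ∀ w ∈ relL, evM bc cc (a5mat 13) w = one7 := by decide +kernel

theorem chk_out : ∀ ε < 2, ∀ j < 60, ∀ m ∈ [1, 2, 4],
    (∀ w ∈ relL, evM (bP m) cc ((tpc ε).mul (a5mat j)) w = one7) →
      (m = 1 ∧ (tpc ε).mul (a5mat j) = a5mat 13) := by decide +kernel

theorem chk_wx : evM bc cc (a5mat 13) wxL = xc := by decide +kernel

theorem chk_wy : evM bc cc (a5mat 13) wyL = yc := by decide +kernel

theorem chk_ts : wordM (tword ++ sword) = wordM (sword ++ tword) := by decide +kernel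

theorem chk_i12 : ∀ j < 19, (12 * j % 19 + 8 * j) % 19 = (8 * (12 * j % 19)) % 19 := by decide

theorem chk_e : ∀ m < 19, m ≠ 0 → ∃ e < 6, (8 ^ e * m) % 19 ∈ [1, 2, 4] := by decide


/-! ### The three elements -/

/-- The element of order 19. -/
def Bj : ↥Cfsg.Spor.J1 := wJ bword

/-- The element of order 6. -/
def Cj : ↥Cfsg.Spor.J1 := wJ cword

/-- The involution of `A₅`. -/
def Sj : ↥Cfsg.Spor.J1 := wJ sword

theorem ord_Bj : orderOf Bj = 19 := ord_g19

theorem rep_Bj : Rep Bj.1 bc := rep_wordG bword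

theorem rep_Cj : Rep Cj.1 cc := rep_wordG cword

theorem rep_Sj : Rep Sj.1 (a5mat 13) := by
  have h := rep_wordG sword
  rwa [chk_sword] at h

theorem rep_Bj_pow (m : ℕ) (hm : m < 19) : Rep (Bj ^ m).1 (bP m) := by
  rw [chk_bP m hm]
  exact rep_Bj.pow m

theorem Cj_Bj : Cj * Bj = Bj ^ 8 * Cj := by
  show wJ cword * wJ u19w = wJ u19w ^ 8 * wJ cword
  rw [wJ_pow, wJ_mul, wJ_mul]
  exact wJ_eq chk_w19

theorem Cj_cube : Cj ^ 3 = tJ := by
  show wJ cword ^ 3 = wJ tword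
  rw [wJ_pow]
  rfl

theorem cent_Bj : Subgroup.centralizer ({Bj} : Set ↥Cfsg.Spor.J1) = Subgroup.zpowers Bj := by
  symm
  refine Subgroup.eq_of_le_of_card_ge ?_ ?_
  · rw [Subgroup.zpowers_le, Subgroup.mem_centralizer_iff]
    intro y hy
    rw [Set.mem_singleton_iff.mp hy]
  · have h : Nat.card (Subgroup.centralizer ({Bj} : Set ↥Cfsg.Spor.J1)) = 19 := cent19
    rw [h, Nat.card_zpowers, ord_Bj]

theorem mem_zpowers_Bj (z : ↥Cfsg.Spor.J1) (hz : z ∈ Subgroup.zpowers Bj) :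
    ∃ j < 19, z = Bj ^ j := by
  have h1 : z ∈ Submonoid.powers Bj := mem_powers_iff_mem_zpowers.mpr hz
  obtain ⟨n, rfl⟩ := h1
  refine ⟨n % 19, Nat.mod_lt _ (by norm_num), ?_⟩
  show Bj ^ n = Bj ^ (n % 19)
  rw [← ord_Bj, pow_mod_orderOf]

/-- Conjugacy of Sylow subgroups of prime order. -/
theorem sylow_conj_mem {G : Type*} [Group G] [Finite G] (p : ℕ) [hp : Fact p.Prime] (u v : G)
    (hu : orderOf u = p) (hv : orderOf v = p) (hidx : ¬ p ∣ (Subgroup.zpowers u).index) :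
    ∃ k : G, k * v * k⁻¹ ∈ Subgroup.zpowers u := by
  have hP : IsPGroup p (Subgroup.zpowers u) :=
    IsPGroup.of_card (n := 1) (by rw [Nat.card_zpowers, hu, pow_one])
  have hQ : IsPGroup p (Subgroup.zpowers v) :=
    IsPGroup.of_card (n := 1) (by rw [Nat.card_zpowers, hv, pow_one])
  obtain ⟨S, hS⟩ := hQ.exists_le_sylow
  obtain ⟨k, hk⟩ := MulAction.exists_smul_eq G S (hP.toSylow hidx)
  refine ⟨k, ?_⟩
  have h1 : v ∈ (S : Subgroup G) := hS (Subgroup.mem_zpowers _)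
  have h2 : MulAut.conj k • v ∈ MulAut.conj k • (S : Subgroup G) :=
    Subgroup.smul_mem_pointwise_smul _ _ _ h1
  rw [← Sylow.coe_subgroup_smul, hk] at h2
  exact h2

/-! ### Normalizing an automorphism -/

theorem normalize_aut (α : MulAut ↥Cfsg.Spor.J1) :
    ∃ g : ↥Cfsg.Spor.J1, ∃ m ∈ [1, 2, 4],
      (MulAut.conj g * α) Bj = Bj ^ m ∧ (MulAut.conj g * α) Cj = Cj := by
  haveI : Fact (Nat.Prime 19) := ⟨by norm_num⟩
  -- step 1: the image of `Bj` is a power of `Bj`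
  have ho : orderOf (α Bj) = 19 := by rw [MulEquiv.orderOf_eq]; exact ord_Bj
  obtain ⟨k, hk⟩ := sylow_conj_mem 19 Bj (α Bj) ord_Bj ho
    (index_zpowers _ 19 ord_Bj (by norm_num))
  obtain ⟨m, hm, hBm⟩ := mem_zpowers_Bj _ hk
  have hm0 : m ≠ 0 := by
    rintro rfl
    rw [pow_zero, mul_inv_eq_one] at hBm
    have h2 : α Bj = 1 := mul_left_cancel (hBm.trans (mul_one k).symm)
    rw [h2, orderOf_one] at ho
    norm_num at ho
  -- step 2: the image of `Cj`
  obtain ⟨n, hn⟩ : ∃ n, n = k * α Cj * k⁻¹ := ⟨_, rfl⟩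
  have hrel : n * Bj ^ m = (Bj ^ m) ^ 8 * n := by
    have h1 : α Cj * α Bj = α Bj ^ 8 * α Cj := by
      rw [← map_mul, Cj_Bj, map_mul, map_pow]
    have h2 : n * (k * α Bj * k⁻¹) = (k * α Bj * k⁻¹) ^ 8 * n := by
      have e1 : n * (k * α Bj * k⁻¹) = k * (α Cj * α Bj) * k⁻¹ := by rw [hn]; group
      have e2 : (k * α Bj * k⁻¹) ^ 8 * n = k * (α Bj ^ 8 * α Cj) * k⁻¹ := by
        rw [hn, conj_pow]; group
      rw [e1, e2, h1]
    rwa [hBm] at h2
  have hcop : Nat.Coprime m 19 := by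
    rw [Nat.coprime_comm]
    refine (Nat.Prime.coprime_iff_not_dvd (by norm_num)).mpr ?_
    intro hd
    have := Nat.le_of_dvd (Nat.pos_of_ne_zero hm0) hd
    omega
  obtain ⟨m', -, hm'⟩ := Nat.exists_mul_mod_eq_one_of_coprime hcop (by norm_num : 1 < 19)
  have hpow : (Bj ^ m) ^ m' = Bj := by
    rw [← pow_mul]
    conv_rhs => rw [← pow_one Bj]
    rw [pow_eq_pow_iff_modEq, ord_Bj]
    exact hm'
  have hnB : n * Bj = Bj ^ 8 * n := by
    have h0 : SemiconjBy n (Bj ^ m) ((Bj ^ m) ^ 8) := hrel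
    have h1 := h0.pow_right m'
    rw [hpow, ← pow_mul, mul_comm 8 m', pow_mul, hpow] at h1
    exact h1
  -- `Cj⁻¹ * n` centralizes `Bj`
  have hz : Cj⁻¹ * n ∈ Subgroup.zpowers Bj := by
    rw [← cent_Bj, Subgroup.mem_centralizer_iff]
    intro y hy
    rw [Set.mem_singleton_iff.mp hy]
    have e1 : Cj⁻¹ * Bj ^ 8 = Bj * Cj⁻¹ := by
      rw [inv_mul_eq_iff_eq_mul, ← mul_assoc, Cj_Bj, mul_inv_cancel_right]
    show Bj * (Cj⁻¹ * n) = Cj⁻¹ * n * Bj
    rw [mul_assoc Cj⁻¹ n Bj, hnB, ← mul_assoc Cj⁻¹, e1, mul_assoc]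
  obtain ⟨j, hj, hzj⟩ := mem_zpowers_Bj _ hz
  have hnj : n = Cj * Bj ^ j := by rw [← hzj, mul_inv_cancel_left]
  -- step 3: conjugate by a power of `Bj`
  have hCB : ∀ a : ℕ, Cj * Bj ^ a = Bj ^ (8 * a) * Cj := by
    intro a
    have h0 : SemiconjBy Cj Bj (Bj ^ 8) := Cj_Bj
    have h1 := h0.pow_right a
    rw [← pow_mul] at h1
    exact h1
  obtain ⟨i, hi⟩ : ∃ i, i = 12 * j % 19 := ⟨_, rfl⟩
  have hconj : Bj ^ i * n * (Bj ^ i)⁻¹ = Cj := by
    have hp : Bj ^ (i + 8 * j) = Bj ^ (8 * i) := by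
      rw [pow_eq_pow_iff_modEq, ord_Bj, hi]
      exact chk_i12 j hj
    rw [mul_inv_eq_iff_eq_mul, hnj, hCB i, hCB j, ← mul_assoc, ← pow_add, hp]
  -- step 4: conjugate by a power of `Cj`
  obtain ⟨e, -, he⟩ := chk_e m hm hm0
  have hCe : Cj ^ e * Bj ^ m * (Cj ^ e)⁻¹ = Bj ^ (8 ^ e * m % 19) := by
    have h0 : SemiconjBy (Cj ^ e) Bj (Bj ^ (8 ^ e)) := semiconj_pow Bj Cj 8 Cj_Bj e
    have h1 := h0.pow_right m
    rw [← pow_mul] at h1
    rw [mul_inv_eq_iff_eq_mul, ← ord_Bj, pow_mod_orderOf]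
    exact h1
  refine ⟨Cj ^ e * Bj ^ i * k, 8 ^ e * m % 19, he, ?_, ?_⟩
  · rw [MulAut.mul_apply, MulAut.conj_apply]
    have e1 : Cj ^ e * Bj ^ i * k * α Bj * (Cj ^ e * Bj ^ i * k)⁻¹ =
        Cj ^ e * (Bj ^ i * (k * α Bj * k⁻¹) * (Bj ^ i)⁻¹) * (Cj ^ e)⁻¹ := by group
    rw [e1, hBm]
    have e2 : Bj ^ i * Bj ^ m * (Bj ^ i)⁻¹ = Bj ^ m := by
      rw [← pow_add, add_comm, pow_add, mul_inv_cancel_right]
    rw [e2, hCe]
  · rw [MulAut.mul_apply, MulAut.conj_apply]
    have e1 : Cj ^ e * Bj ^ i * k * α Cj * (Cj ^ e * Bj ^ i * k)⁻¹ =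
        Cj ^ e * (Bj ^ i * (k * α Cj * k⁻¹) * (Bj ^ i)⁻¹) * (Cj ^ e)⁻¹ := by group
    rw [e1, ← hn, hconj, ← pow_succ, pow_succ', mul_inv_cancel_right]


/-! ### Rigidity -/

theorem tJ_Sj : tJ * Sj = Sj * tJ := by
  show wJ tword * wJ sword = wJ sword * wJ tword
  rw [wJ_mul, wJ_mul]
  exact wJ_eq chk_ts

theorem rigid_aut (β : MulAut ↥Cfsg.Spor.J1) (m : ℕ) (hm : m ∈ [1, 2, 4])
    (hB : β Bj = Bj ^ m) (hC : β Cj = Cj) : β = 1 := by
  have hm19 : m < 19 := by
    simp only [List.mem_cons, List.not_mem_nil, or_false] at hm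
    omega
  -- the involution is fixed
  have hT : β tJ = tJ := by rw [← Cj_cube, map_pow, hC]
  -- the image of `Sj` lies in the centralizer of the involution
  have hmem : β Sj ∈ Subgroup.centralizer ({tJ} : Set ↥Cfsg.Spor.J1) := by
    rw [Subgroup.mem_centralizer_iff]
    intro y hy
    rw [Set.mem_singleton_iff.mp hy]
    have h := congrArg β tJ_Sj
    rwa [map_mul, map_mul, hT] at h
  obtain ⟨x, hx⟩ := psi_surj _ hmem
  have hε : (Multiplicative.toAdd x.1).val < 2 := ZMod.val_lt _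
  have hrepS : Rep (β Sj).1 ((tpc (Multiplicative.toAdd x.1).val).mul (a5mat (idx5 x.2.1))) := by
    rw [← hx, psi_apply]
    exact (rep_tpow _ hε).mul (rep_psi0 x.2)
  -- the relations
  have hrel : ∀ w ∈ relL, evM (bP m) cc
      ((tpc (Multiplicative.toAdd x.1).val).mul (a5mat (idx5 x.2.1))) w = one7 := by
    intro w hw
    have h1 : evG Bj Cj Sj w = 1 :=
      (evG_eq_one_iff Bj Cj Sj bc cc (a5mat 13) rep_Bj rep_Cj rep_Sj w).mpr (chk_rel w hw)
    have h2 : evG (β Bj) (β Cj) (β Sj) w = 1 := by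
      have h' : β (evG Bj Cj Sj w) = evG (β Bj) (β Cj) (β Sj) w :=
        evG_map β.toMonoidHom Bj Cj Sj w
      rw [← h', h1, map_one]
    rw [hB, hC] at h2
    exact (evG_eq_one_iff (Bj ^ m) Cj (β Sj) _ _ _ (rep_Bj_pow m hm19) rep_Cj hrepS w).mp h2
  obtain ⟨hm1, hcode⟩ := chk_out _ hε _ (idx5_lt x.2) m hm hrel
  have hS : β Sj = Sj := by
    apply Subtype.ext
    rw [hcode] at hrepS
    exact hrepS.eq rep_Sj
  have hB' : β Bj = Bj := by rw [hB, hm1, pow_one]
  -- the generators are fixed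
  have hX : wJ [false] = evG Bj Cj Sj wxL := by
    apply Subtype.ext
    have h1 := rep_evG Bj Cj Sj bc cc (a5mat 13) rep_Bj rep_Cj rep_Sj wxL
    rw [chk_wx] at h1
    exact (rep_wordG [false]).eq (by
      have : wordM [false] = xc := by decide +kernel
      rw [this]; exact h1)
  have hY : wJ [true] = evG Bj Cj Sj wyL := by
    apply Subtype.ext
    have h1 := rep_evG Bj Cj Sj bc cc (a5mat 13) rep_Bj rep_Cj rep_Sj wyL
    rw [chk_wy] at h1
    exact (rep_wordG [true]).eq (by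
      have : wordM [true] = yc := by decide +kernel
      rw [this]; exact h1)
  have hfix : ∀ w : List ℕ, β (evG Bj Cj Sj w) = evG Bj Cj Sj w := by
    intro w
    have h := evG_map β.toMonoidHom Bj Cj Sj w
    have h' : β (evG Bj Cj Sj w) = evG (β Bj) (β Cj) (β Sj) w := h
    rw [h', hB', hC, hS]
  have htop : (β.toMonoidHom.eqLocus (MonoidHom.id ↥Cfsg.Spor.J1)) = ⊤ := by
    refine eq_top_of_gens _ ?_ ?_
    · show β (wJ [false]) = wJ [false]
      rw [hX]; exact hfix wxL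
    · show β (wJ [true]) = wJ [true]
      rw [hY]; exact hfix wyL
  apply MulEquiv.ext
  intro g
  have hg : g ∈ β.toMonoidHom.eqLocus (MonoidHom.id ↥Cfsg.Spor.J1) := by rw [htop]; trivial
  exact hg

/-- Every automorphism of `J₁` is inner. -/
theorem all_inner_J1 (α : MulAut ↥Cfsg.Spor.J1) : ∃ g : ↥Cfsg.Spor.J1, α = MulAut.conj g := by
  obtain ⟨g, m, hm, hB, hC⟩ := normalize_aut α
  have h1 := rigid_aut (MulAut.conj g * α) m hm hB hC
  refine ⟨g⁻¹, ?_⟩
  rw [map_inv]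
  exact eq_inv_of_mul_eq_one_right h1

end Cfsg.Agent.Lib.helper27.J1B
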