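import Cfsg.Agent.Lib.helper27.J1Order

set_option autoImplicit false

/-! The Janko group `J₁` is simple: elements given by words, a Sylow 2-subgroup, and normal
closures of elements of prime order. -/

namespace Cfsg.Agent.Lib.helper27.J1B

open scoped Pointwise

/-! ### Elements of `J₁` given by words -/

/-- The element of `J₁` of a word in the generators. -/
def wJ (l : List Bool) : ↥Cfsg.Spor.J1 := ⟨wordG l, wordG_mem l⟩

theorem wJ_mul (l l' : List Bool) : wJ l * wJ l' = wJ (l ++ l') :=
  Subtype.ext (wordG_append l l').symm

theorem wJ_nil : wJ [] = 1 := rfl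

theorem wJ_eq {l l' : List Bool} (h : wordM l = wordM l') : wJ l = wJ l' :=
  Subtype.ext ((rep_wordG l).eq (by rw [h]; exact rep_wordG l'))

theorem wJ_ne {l l' : List Bool} (h : wordM l ≠ wordM l') : wJ l ≠ wJ l' := by
  intro e
  have e' : wordG l = wordG l' := congrArg Subtype.val e
  exact h (Rep.code_eq (rep_wordG l) (by rw [e']; exact rep_wordG l') (wordM_red _) (wordM_red _))

theorem wJ_pow (l : List Bool) (n : ℕ) : wJ l ^ n = wJ (List.replicate n l).flatten := by
  induction n with
  | zero => rfl
  | succ n ih => rw [pow_succ', ih, wJ_mul, List.replicate_succ, List.flatten_cons]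

theorem orderOf_wJ (l : List Bool) (p : ℕ) [Fact p.Prime]
    (h1 : wordM (List.replicate p l).flatten = one7) (h2 : wordM l ≠ one7) :
    orderOf (wJ l) = p := by
  refine orderOf_eq_prime ?_ ?_
  · rw [wJ_pow, ← wJ_nil]; exact wJ_eq h1
  · rw [← wJ_nil]; exact wJ_ne h2

theorem nodup_wJ (ws : List (List Bool)) (h : (ws.map wordM).Nodup) : (ws.map wJ).Nodup := by
  have hws : ws.Nodup := List.Nodup.of_map _ h
  refine List.Nodup.map_on ?_ hws
  intro x hx y hy hxy
  by_contra hne
  have hm : wordM x ≠ wordM y := fun e => hne (List.inj_on_of_nodup_map h hx hy e)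
  exact wJ_ne hm hxy

theorem length_le_card {G : Type*} [Group G] (H : Subgroup G) [Finite H] (l : List G)
    (hl : l.Nodup) (hm : ∀ x ∈ l, x ∈ H) : l.length ≤ Nat.card H := by
  classical
  have h1 : l.toFinset.card = l.length := List.toFinset_card_of_nodup hl
  have h2 : (l.toFinset : Set G) ⊆ (H : Set G) := by
    intro x hx
    exact hm x (List.mem_toFinset.mp hx)
  have h3 := Set.ncard_le_ncard h2 (Set.toFinite _)
  rw [Set.ncard_coe_finset, h1] at h3
  rwa [← Nat.card_coe_set_eq] at h3

/-- A normal subgroup of order divisible by `p` meets every Sylow `p`-subgroup. -/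
theorem exists_mem_inf_of_dvd {G : Type*} [Group G] [Finite G] (p : ℕ) [Fact p.Prime]
    (P : Subgroup G) (hP : IsPGroup p P) (hidx : ¬ p ∣ P.index)
    (N : Subgroup G) [hN : N.Normal] (hpN : p ∣ Nat.card N) : ∃ y ∈ N, y ∈ P ∧ y ≠ 1 := by
  obtain ⟨x, hx⟩ := exists_prime_orderOf_dvd_card' p hpN
  have hx' : orderOf (x : G) = p := by rw [Subgroup.orderOf_coe]; exact hx
  have hQ : IsPGroup p (Subgroup.zpowers (x : G)) :=
    IsPGroup.of_card (n := 1) (by rw [Nat.card_zpowers, hx', pow_one])
  obtain ⟨S, hS⟩ := hQ.exists_le_sylow
  obtain ⟨g, hg⟩ := MulAction.exists_smul_eq G S (hP.toSylow hidx)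
  refine ⟨g * x * g⁻¹, hN.conj_mem _ x.2 g, ?_, ?_⟩
  · have h1 : (x : G) ∈ (S : Subgroup G) := hS (Subgroup.mem_zpowers _)
    have h2 : MulAut.conj g • (x : G) ∈ MulAut.conj g • (S : Subgroup G) :=
      Subgroup.smul_mem_pointwise_smul _ _ _ h1
    rw [← Sylow.coe_subgroup_smul, hg] at h2
    exact h2
  · intro h
    have h' : g * (x : G) * g⁻¹ = 1 := h
    rw [mul_inv_eq_one] at h'
    have h1 : (x : G) = 1 := mul_left_cancel (h'.trans (mul_one g).symm)
    rw [h1, orderOf_one] at hx'
    exact (Fact.out : p.Prime).one_lt.ne hx'

theorem prime_dvd_card (p : ℕ) (hp : p.Prime) (h : p ∣ 175560) :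
    p = 2 ∨ p = 3 ∨ p = 5 ∨ p = 7 ∨ p = 11 ∨ p = 19 := by
  have e : 175560 = 2 ^ 3 * 3 * 5 * 7 * 11 * 19 := by norm_num
  rw [e] at h
  rcases hp.dvd_mul.mp h with h | h
  · rcases hp.dvd_mul.mp h with h | h
    · rcases hp.dvd_mul.mp h with h | h
      · rcases hp.dvd_mul.mp h with h | h
        · rcases hp.dvd_mul.mp h with h | h
          · left; exact (Nat.prime_dvd_prime_iff_eq hp Nat.prime_two).mp (hp.dvd_of_dvd_pow h)
          · right; left; exact (Nat.prime_dvd_prime_iff_eq hp (by norm_num)).mp h
        · right; right; left; exact (Nat.prime_dvd_prime_iff_eq hp (by norm_num)).mp h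
      · right; right; right; left; exact (Nat.prime_dvd_prime_iff_eq hp (by norm_num)).mp h
    · right; right; right; right; left
      exact (Nat.prime_dvd_prime_iff_eq hp (by norm_num)).mp h
  · right; right; right; right; right
    exact (Nat.prime_dvd_prime_iff_eq hp (by norm_num)).mp h

/-- A cyclic Sylow subgroup of prime order lies in every normal subgroup of order divisible by
the prime. -/
theorem sylow_cyc (g : ↥Cfsg.Spor.J1) (p : ℕ) [Fact p.Prime] (ho : orderOf g = p)
    (hp2 : ¬ p * p ∣ 175560) (N : Subgroup ↥Cfsg.Spor.J1) [N.Normal] (hpN : p ∣ Nat.card N) :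
    g ∈ N := by
  have hP : IsPGroup p (Subgroup.zpowers g) :=
    IsPGroup.of_card (n := 1) (by rw [Nat.card_zpowers, ho, pow_one])
  have hidx : ¬ p ∣ (Subgroup.zpowers g).index := by
    rintro ⟨k, hk⟩
    have h := Subgroup.card_mul_index (Subgroup.zpowers g)
    rw [Nat.card_zpowers, ho, card_J1, hk] at h
    exact hp2 ⟨k, by rw [← h, mul_assoc]⟩
  obtain ⟨y, hyN, hyP, hy1⟩ := exists_mem_inf_of_dvd p (Subgroup.zpowers g) hP hidx N hpN
  have hcard : Nat.card (Subgroup.zpowers g) = p := by rw [Nat.card_zpowers, ho]
  have hm := mem_zpowers_of_prime_card hcard (g := (⟨y, hyP⟩ : Subgroup.zpowers g))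
    (g' := ⟨g, Subgroup.mem_zpowers g⟩) (fun h => hy1 (congrArg Subtype.val h))
  obtain ⟨k, hk⟩ := hm
  have hk' : y ^ k = g := by simpa using congrArg Subtype.val hk
  rw [← hk']
  exact N.zpow_mem hyN k

/-! ### A Sylow 2-subgroup -/

/-- An involution. -/
def e1w : List Bool := [true, true, true, true, false, true, false]

def e1_g : List Bool := [true, true, true, true, false, true, false]
def e1_w1 : List Bool := [true, true, true, false, false, false]
def e1_v1 : List Bool := [false, false, false, false, false, false, false, false, false, false, false, false, false, false, false, false, false, false, true, true, true, true, true, true, true, true, true, true, true, true]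
def e1_w2 : List Bool := [false, false, false, true, true, true, false, false, false]
def e1_v2 : List Bool := [false, false, false, false, false, false, false, false, false, false, false, false, false, false, false, false, false, false, true, true, true, true, true, true, true, true, true, true, true, true, false, false, false, false, false, false, false, false, false, false, false, false, false, false, false, false, false, false]

def g3_g : List Bool := [false, false, false, true, false, true, false, true]
def g3_w1 : List Bool := [true, true, false, false, true]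
def g3_v1 : List Bool := [true, true, true, true, false, false, false, false, false, false, false, false, false, false, false, false, true, true, true, true, true, true, true, true]
def g3_w2 : List Bool := [false, false, true, true, false, true, false, true, false, false, true, false]
def g3_v2 : List Bool := [false, false, false, false, false, false, true, true, true, true, false, false, false, false, false, false, false, false, false, false, false, false, true, true, true, true, false, false, false, false, false, false, true, true, true, true, false, false, false, false, false, false, true, true, true, true, true, true, true, true, false, false, false, false, false, false, false, false, false, false, false, false]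

def g5_g : List Bool := [true]
def g5_w1 : List Bool := [true, true, true, true, false]
def g5_v1 : List Bool := [false, false, false, false, false, false, true, true, true, true, true, true, true, true, true, true, true, true, true, true, true, true]
def g5_w2 : List Bool := [false, false, false, true, true, true, true, false]
def g5_v2 : List Bool := [false, false, false, false, false, false, true, true, true, true, true, true, true, true, true, true, true, true, true, true, true, true, false, false, false, false, false, false, false, false, false, false, false, false, false, false, false, false, false, false]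

def g11_g : List Bool := [false, true, true]
def g11_w1 : List Bool := [true, false, false, true, false]
def g11_v1 : List Bool := [false, false, false, false, false, false, true, true, true, true, false, false, false, false, false, false, false, false, false, false, false, false, true, true, true, true]
def g11_w2 : List Bool := [true, false, false, false, true, true, false, true, false, false, false, true]
def g11_v2 : List Bool := [true, true, true, true, false, false, false, false, false, false, false, false, false, false, false, false, false, false, false, false, false, false, true, true, true, true, false, false, false, false, false, false, true, true, true, true, true, true, true, true, false, false, false, false, false, false, false, false, false, false, false, false, false, false, false, false, false, false, true, true, true, true]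

def g19_g : List Bool := [false, false, false, true]
def g19_w1 : List Bool := [true, false, false, true]
def g19_v1 : List Bool := [true, true, true, true, false, false, false, false, false, false, false, false, false, false, false, false, true, true, true, true]
def g19_w2 : List Bool := [false, false, false, true, false, false, true]
def g19_v2 : List Bool := [true, true, true, true, false, false, false, false, false, false, false, false, false, false, false, false, true, true, true, true, false, false, false, false, false, false, false, false, false, false, false, false, false, false, false, false, false, false]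

def xy_g : List Bool := [false]
def xy_w1 : List Bool := [false, true, false, false, true, true]
def xy_v1 : List Bool := [true, true, true, true, true, true, true, true, false, false, false, false, false, false, false, false, false, false, false, false, true, true, true, true, false, false, false, false, false, false]
def xy_w2 : List Bool := [true, true, false, true, false, false, true, true]
def xy_v2 : List Bool := [true, true, true, true, true, true, true, true, false, false, false, false, false, false, false, false, false, false, false, false, true, true, true, true, false, false, false, false, false, false, true, true, true, true, true, true, true, true]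

def ctL : List (List ℕ) := [[0, 5, 3, 2, 6, 1, 4], [5, 0, 6, 4, 3, 0, 2], [3, 6, 0, 0, 5, 4, 1], [2, 4, 0, 0, 1, 6, 5], [6, 3, 5, 1, 0, 2, 0], [1, 0, 4, 6, 2, 0, 3], [4, 2, 1, 5, 0, 3, 0]]


/-- Powers of the first generator, as words. -/
def xpw (i : ℕ) : List Bool := List.replicate i false

/-- The conjugates of the involution under the first generator, as words. -/
def cw (i : ℕ) : List Bool := xpw i ++ e1w ++ xpw (7 - i)

/-- The multiplication table of the conjugates. -/
def ct (i j : ℕ) : ℕ := (ctL.getD i []).getD j 0

theorem chkE : ∀ i < 7, ∀ j < 7, (i = j → wordM (cw i ++ cw j) = one7) ∧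
    (i ≠ j → ct i j < 7 ∧ wordM (cw i ++ cw j) = wordM (cw (ct i j))) := by
  decide +kernel

theorem chkE1 : ∀ i < 7, wordM (xpw (7 - i) ++ xpw i) = one7 ∧
    wordM e1w = wordM (xpw (7 - i) ++ cw i ++ xpw i) := by
  decide +kernel

theorem chkE5 : ([[], cw 0, cw 1, cw 2, cw 3].map wordM).Nodup := by decide +kernel

/-- An elementary abelian subgroup of order eight. -/
def E2 : Subgroup ↥Cfsg.Spor.J1 where
  carrier := {g | g = 1 ∨ ∃ i < 7, g = wJ (cw i)}
  mul_mem' := by
    rintro a b (rfl | ⟨i, hi, rfl⟩) (rfl | ⟨j, hj, rfl⟩)
    · left; rw [mul_one]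
    · right; exact ⟨j, hj, by rw [one_mul]⟩
    · right; exact ⟨i, hi, by rw [mul_one]⟩
    · rw [wJ_mul]
      by_cases hij : i = j
      · left; rw [← wJ_nil]; exact wJ_eq ((chkE i hi j hj).1 hij)
      · right; exact ⟨ct i j, ((chkE i hi j hj).2 hij).1, wJ_eq ((chkE i hi j hj).2 hij).2⟩
  one_mem' := Or.inl rfl
  inv_mem' := by
    rintro a (rfl | ⟨i, hi, rfl⟩)
    · left; rw [inv_one]
    · right
      refine ⟨i, hi, ?_⟩
      rw [inv_eq_iff_mul_eq_one, wJ_mul, ← wJ_nil]
      exact wJ_eq ((chkE i hi i hi).1 rfl)

theorem E2_sq : ∀ g ∈ E2, g ^ 2 = 1 := by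
  rintro g (rfl | ⟨i, hi, rfl⟩)
  · exact one_pow 2
  · rw [pow_two, wJ_mul, ← wJ_nil]; exact wJ_eq ((chkE i hi i hi).1 rfl)

theorem E2_pgroup : IsPGroup 2 E2 := by
  rintro ⟨g, hg⟩
  refine ⟨1, Subtype.ext ?_⟩
  show g ^ 2 ^ 1 = 1
  rw [pow_one]; exact E2_sq g hg

theorem E2_card : Nat.card E2 = 8 := by
  haveI : Fact (Nat.Prime 2) := ⟨Nat.prime_two⟩
  obtain ⟨k, hk⟩ := IsPGroup.iff_card.mp E2_pgroup
  have h5 : 5 ≤ Nat.card E2 := by
    have h := length_le_card E2 ([[], cw 0, cw 1, cw 2, cw 3].map wJ) (nodup_wJ _ chkE5) ?_
    · simpa using h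
    · intro x hx
      simp only [List.map_cons, List.map_nil, List.mem_cons, List.not_mem_nil, or_false] at hx
      rcases hx with rfl | rfl | rfl | rfl | rfl
      · exact Or.inl rfl
      · exact Or.inr ⟨0, by norm_num, rfl⟩
      · exact Or.inr ⟨1, by norm_num, rfl⟩
      · exact Or.inr ⟨2, by norm_num, rfl⟩
      · exact Or.inr ⟨3, by norm_num, rfl⟩
  have hdvd : Nat.card E2 ∣ 175560 := by
    rw [← card_J1]; exact Subgroup.card_subgroup_dvd_card E2
  rw [hk] at h5 hdvd ⊢
  have hk3 : 3 ≤ k := by
    by_contra hlt
    have h2 : k ≤ 2 := by omega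
    have h3 : 2 ^ k ≤ 2 ^ 2 := Nat.pow_le_pow_right (by norm_num) h2
    omega
  have hk3' : k ≤ 3 := by
    by_contra hlt
    have h4 : 2 ^ 4 ∣ 2 ^ k := pow_dvd_pow 2 (by omega)
    have h5 := h4.trans hdvd
    norm_num at h5
  have hk3'' : k = 3 := le_antisymm hk3' hk3
  rw [hk3'']; norm_num

theorem E2_index : E2.index = 21945 := by
  have h := Subgroup.card_mul_index E2
  rw [E2_card, card_J1] at h
  omega

/-! ### Normal closures -/

theorem conj_word_mem (N : Subgroup ↥Cfsg.Spor.J1) [hN : N.Normal] {y : ↥Cfsg.Spor.J1}
    (hy : y ∈ N) (w v : List Bool) (hwv : wordM (w ++ v) = one7) : wJ w * y * wJ v ∈ N := by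
  have hv : wJ v = (wJ w)⁻¹ :=
    eq_inv_of_mul_eq_one_right (by rw [wJ_mul, ← wJ_nil]; exact wJ_eq hwv)
  rw [hv]; exact hN.conj_mem y hy (wJ w)

theorem mem_of_two_conj (N : Subgroup ↥Cfsg.Spor.J1) [N.Normal] (gw w1 v1 w2 v2 tw : List Bool)
    (h1 : wordM (w1 ++ v1) = one7) (h2 : wordM (w2 ++ v2) = one7)
    (h : wordM tw = wordM (w1 ++ gw ++ v1 ++ (w2 ++ gw ++ v2))) (hg : wJ gw ∈ N) :
    wJ tw ∈ N := by
  rw [wJ_eq h]
  simp only [← wJ_mul]
  exact N.mul_mem (conj_word_mem N hg w1 v1 h1) (conj_word_mem N hg w2 v2 h2)

theorem mem_x_of_e1 (N : Subgroup ↥Cfsg.Spor.J1) [N.Normal] (hg : wJ e1w ∈ N) :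
    wJ [false] ∈ N :=
  mem_of_two_conj N e1w e1_w1 e1_v1 e1_w2 e1_v2 [false] (by decide +kernel) (by decide +kernel)
    (by decide +kernel) hg

theorem mem_x_of_g3 (N : Subgroup ↥Cfsg.Spor.J1) [N.Normal] (hg : wJ g3_g ∈ N) :
    wJ [false] ∈ N :=
  mem_of_two_conj N g3_g g3_w1 g3_v1 g3_w2 g3_v2 [false] (by decide +kernel) (by decide +kernel)
    (by decide +kernel) hg

theorem mem_x_of_g5 (N : Subgroup ↥Cfsg.Spor.J1) [N.Normal] (hg : wJ g5_g ∈ N) :
    wJ [false] ∈ N :=
  mem_of_two_conj N g5_g g5_w1 g5_v1 g5_w2 g5_v2 [false] (by decide +kernel) (by decide +kernel)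
    (by decide +kernel) hg

theorem mem_x_of_g11 (N : Subgroup ↥Cfsg.Spor.J1) [N.Normal] (hg : wJ g11_g ∈ N) :
    wJ [false] ∈ N :=
  mem_of_two_conj N g11_g g11_w1 g11_v1 g11_w2 g11_v2 [false] (by decide +kernel)
    (by decide +kernel) (by decide +kernel) hg

theorem mem_x_of_g19 (N : Subgroup ↥Cfsg.Spor.J1) [N.Normal] (hg : wJ g19_g ∈ N) :
    wJ [false] ∈ N :=
  mem_of_two_conj N g19_g g19_w1 g19_v1 g19_w2 g19_v2 [false] (by decide +kernel)
    (by decide +kernel) (by decide +kernel) hg

theorem mem_y_of_x (N : Subgroup ↥Cfsg.Spor.J1) [N.Normal] (hg : wJ [false] ∈ N) :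
    wJ [true] ∈ N :=
  mem_of_two_conj N [false] xy_w1 xy_v1 xy_w2 xy_v2 [true] (by decide +kernel) (by decide +kernel)
    (by decide +kernel) hg

theorem ord_x : orderOf (wJ [false]) = 7 := by
  haveI : Fact (Nat.Prime 7) := ⟨by norm_num⟩
  exact orderOf_wJ _ 7 (by decide +kernel) (by decide +kernel)

theorem ord_g3 : orderOf (wJ g3_g) = 3 := by
  haveI : Fact (Nat.Prime 3) := ⟨by norm_num⟩
  exact orderOf_wJ _ 3 (by decide +kernel) (by decide +kernel)

theorem ord_g5 : orderOf (wJ g5_g) = 5 := by
  haveI : Fact (Nat.Prime 5) := ⟨by norm_num⟩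
  exact orderOf_wJ _ 5 (by decide +kernel) (by decide +kernel)

theorem ord_g11 : orderOf (wJ g11_g) = 11 := by
  haveI : Fact (Nat.Prime 11) := ⟨by norm_num⟩
  exact orderOf_wJ _ 11 (by decide +kernel) (by decide +kernel)

theorem ord_g19 : orderOf (wJ g19_g) = 19 := by
  haveI : Fact (Nat.Prime 19) := ⟨by norm_num⟩
  exact orderOf_wJ _ 19 (by decide +kernel) (by decide +kernel)

theorem eq_top_of_gens (N : Subgroup ↥Cfsg.Spor.J1) (hx : wJ [false] ∈ N) (hy : wJ [true] ∈ N) :
    N = ⊤ := by
  have hle : Cfsg.Spor.J1 ≤ N.map (Cfsg.Spor.J1).subtype := by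
    refine (Subgroup.closure_le _).mpr ?_
    intro s hs
    simp only [Set.mem_insert_iff, Set.mem_singleton_iff] at hs
    rcases hs with rfl | rfl
    · exact ⟨wJ [false], hx, by simp [wJ, wordG, genG]⟩
    · exact ⟨wJ [true], hy, by simp [wJ, wordG, genG]⟩
  rw [eq_top_iff]
  rintro ⟨g, hg⟩ -
  obtain ⟨n, hn, e⟩ := hle hg
  have e' : n = ⟨g, hg⟩ := Subtype.ext e
  rw [← e']; exact hn

/-- The Janko group `J₁` is simple. -/
theorem simple_J1 : IsSimpleGroup ↥Cfsg.Spor.J1 := by
  haveI : Nontrivial ↥Cfsg.Spor.J1 :=
    Finite.one_lt_card_iff_nontrivial.mp (by rw [card_J1]; norm_num)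
  refine { eq_bot_or_eq_top_of_normal := fun N hN => ?_ }
  by_cases hbot : N = ⊥
  · exact Or.inl hbot
  · right
    haveI := hN
    have hcard : Nat.card N ≠ 1 := fun h => hbot (Subgroup.card_eq_one.mp h)
    obtain ⟨p, hp, hpN⟩ := Nat.exists_prime_and_dvd hcard
    have hpG : p ∣ 175560 := by
      rw [← card_J1]; exact hpN.trans (Subgroup.card_subgroup_dvd_card N)
    haveI : Fact p.Prime := ⟨hp⟩
    have hx : wJ [false] ∈ N := by
      rcases prime_dvd_card p hp hpG with rfl | rfl | rfl | rfl | rfl | rfl
      · obtain ⟨y, hyN, hyE, hy1⟩ := exists_mem_inf_of_dvd 2 E2 E2_pgroup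
          (by rw [E2_index]; norm_num) N hpN
        rcases hyE with rfl | ⟨i, hi, rfl⟩
        · exact absurd rfl hy1
        · have he1 : wJ e1w ∈ N := by
            have h := conj_word_mem N hyN (xpw (7 - i)) (xpw i) ((chkE1 i hi).1)
            rw [wJ_mul, wJ_mul] at h
            rw [wJ_eq ((chkE1 i hi).2)]
            exact h
          exact mem_x_of_e1 N he1
      · exact mem_x_of_g3 N (sylow_cyc _ 3 ord_g3 (by norm_num) N hpN)
      · exact mem_x_of_g5 N (sylow_cyc _ 5 ord_g5 (by norm_num) N hpN)
      · exact sylow_cyc _ 7 ord_x (by norm_num) N hpN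
      · exact mem_x_of_g11 N (sylow_cyc _ 11 ord_g11 (by norm_num) N hpN)
      · exact mem_x_of_g19 N (sylow_cyc _ 19 ord_g19 (by norm_num) N hpN)
    exact eq_top_of_gens N hx (mem_y_of_x N hx)

end Cfsg.Agent.Lib.helper27.J1B
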