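import Cfsg.Agent.Lib.helper27.J1Cent
import Cfsg.Agent.Lib.helper27.J1SpecData

set_option autoImplicit false

/-! The element orders of the Janko group `J₁`: the centralizers of elements of order 7, 11, 19
have prime order, by counting the orbit of the fixed line. -/

namespace Cfsg.Agent.Lib.helper27.J1B

open Matrix

/-! ### Packed tables -/

/-- Strict evaluation of a natural number. -/
def natK {β : Type} : ℕ → (ℕ → β) → β
  | 0, k => k 0
  | m + 1, k => k (m + 1)

theorem natK_eq {β : Type} (n : ℕ) (k : ℕ → β) : natK n k = k n := by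
  cases n <;> rfl

/-- Strict evaluation of a vector. -/
def V7.k {β : Type} : V7 → (V7 → β) → β
  | V7.mk a b c d e f g, k =>
    natK a fun a => natK b fun b => natK c fun c => natK d fun d => natK e fun e =>
      natK f fun f => natK g fun g => k (V7.mk a b c d e f g)

theorem V7.k_eq {β : Type} (v : V7) (k : V7 → β) : v.k k = k v := by
  cases v; simp [V7.k, natK_eq]

/-- Bounded universal quantifier. -/
def allB (f : ℕ → Bool) : ℕ → Bool
  | 0 => true
  | n + 1 => f n && allB f n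

theorem allB_spec (f : ℕ → Bool) (n : ℕ) (h : allB f n = true) : ∀ i < n, f i = true := by
  induction n with
  | zero => intro i hi; omega
  | succ n ih =>
    intro i hi
    simp only [allB, Bool.and_eq_true] at h
    rcases Nat.lt_succ_iff_lt_or_eq.mp hi with h1 | h1
    · exact ih h.2 i h1
    · rw [h1]; exact h.1

/-- Two-level bounded universal quantifier. -/
def allB2 (f : ℕ → Bool) (n : ℕ) : Bool := allB (fun a => allB (fun b => f (64 * a + b)) 64) n

theorem allB2_spec (f : ℕ → Bool) (n : ℕ) (h : allB2 f n = true) : ∀ i < 64 * n, f i = true := by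
  intro i hi
  have h1 := allB_spec _ _ (allB_spec _ _ h (i / 64) (by omega)) (i % 64)
    (Nat.mod_lt _ (by norm_num))
  rwa [Nat.div_add_mod] at h1

/-- The entry of a packed table. -/
def pkEnt (D i : ℕ) : ℕ := (D >>> (64 * i)) % 18446744073709551616

/-- The vector of an entry. -/
def pkV (e : ℕ) : V7 := V7.dec (e % 33554432)

/-- The parent of an entry. -/
def pkP (e : ℕ) : ℕ := (e >>> 25) % 8192

/-- The generator of an entry. -/
def pkG (e : ℕ) : ℕ := (e >>> 38) % 2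

/-- The scalar of an entry. -/
def pkS (e : ℕ) : ℕ := (e >>> 39) % 16

/-- The depth of an entry. -/
def pkD (e : ℕ) : ℕ := e >>> 43

/-- Normalized vectors. -/
def V7.nrmd (v : V7) : Bool :=
  Nat.beq v.a 1 || (Nat.beq v.a 0 && (Nat.beq v.b 1 || (Nat.beq v.b 0 && (Nat.beq v.c 1 ||
    (Nat.beq v.c 0 && (Nat.beq v.d 1 || (Nat.beq v.d 0 && (Nat.beq v.e 1 || (Nat.beq v.e 0 &&
      (Nat.beq v.f 1 || (Nat.beq v.f 0 && Nat.beq v.g 1)))))))))))

/-- The check of one entry of a packed table. -/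
def pkChk (D : ℕ) (fc : V7) (n i : ℕ) : Bool :=
  Nat.ble n i || natK (pkEnt D i) fun e => (pkV e).k fun v =>
    v.nrmd &&
    (natK (pkD e) fun d => (Nat.beq d 0 && decide (v = fc)) ||
      natK (pkP e) fun p => natK (pkEnt D p) fun ep =>
        Nat.blt p n && Nat.blt (pkD ep) d &&
          ((genN (pkG e)).app (pkV ep)).k fun w => decide (V7.smul (pkS e) w = v)) &&
    (Nat.ble n (i + 1) || Nat.blt v.code (pkV (pkEnt D (i + 1))).code)

theorem pkChk_spec (D : ℕ) (fc : V7) (n i : ℕ) (hi : i < n) (h : pkChk D fc n i = true) :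
    (pkV (pkEnt D i)).nrmd = true ∧
    ((pkD (pkEnt D i) = 0 ∧ pkV (pkEnt D i) = fc) ∨
      (pkP (pkEnt D i) < n ∧ pkD (pkEnt D (pkP (pkEnt D i))) < pkD (pkEnt D i) ∧
        V7.smul (pkS (pkEnt D i))
          ((genN (pkG (pkEnt D i))).app (pkV (pkEnt D (pkP (pkEnt D i))))) = pkV (pkEnt D i))) ∧
    (i + 1 < n → (pkV (pkEnt D i)).code < (pkV (pkEnt D (i + 1))).code) := by
  unfold pkChk at h
  simp only [natK_eq, V7.k_eq, Bool.or_eq_true, Bool.and_eq_true, Nat.ble_eq, Nat.blt_eq,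
    Nat.beq_eq, decide_eq_true_eq] at h
  rcases h with h | ⟨⟨h1, h2⟩, h3⟩
  · omega
  · refine ⟨h1, ?_, ?_⟩
    · rcases h2 with h2 | ⟨⟨h2, h2'⟩, h2''⟩
      · exact Or.inl h2
      · exact Or.inr ⟨h2, h2', h2''⟩
    · intro hlt
      rcases h3 with h3 | h3
      · omega
      · exact h3

theorem dec_red (c : ℕ) : (V7.dec c).red :=
  ⟨Nat.mod_lt _ (by norm_num), Nat.mod_lt _ (by norm_num), Nat.mod_lt _ (by norm_num),
    Nat.mod_lt _ (by norm_num), Nat.mod_lt _ (by norm_num), Nat.mod_lt _ (by norm_num),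
    Nat.mod_lt _ (by norm_num)⟩

theorem decV_smul (m : ℕ) (v : V7) : decV (V7.smul m v) = (m : ZMod 11) • decV v := by
  funext i
  fin_cases i <;> simp [V7.smul, decV]

/-- Normalized residue vectors: the first nonzero coordinate is one. -/
def NrmZ (x : Fin 7 → ZMod 11) : Prop := ∃ j : Fin 7, x j = 1 ∧ ∀ k < j, x k = 0

theorem NrmZ_eq (x y : Fin 7 → ZMod 11) (hx : NrmZ x) (hy : NrmZ y) (ν : ZMod 11)
    (h : x = ν • y) : x = y := by
  haveI : Fact (Nat.Prime 11) := ⟨by norm_num⟩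
  obtain ⟨j', hj', hk'⟩ := hx
  obtain ⟨j, hj, hk⟩ := hy
  have hxj : x j = ν := by rw [h, Pi.smul_apply, hj, smul_eq_mul, mul_one]
  rcases lt_trichotomy j' j with hlt | heq | hgt
  · exfalso
    have h0 : x j' = 0 := by rw [h, Pi.smul_apply, hk j' hlt, smul_zero]
    rw [hj'] at h0
    exact one_ne_zero h0
  · subst heq
    rw [hj'] at hxj
    rw [h, ← hxj, one_smul]
  · exfalso
    have h0 : ν = 0 := by rw [← hxj]; exact hk' j hgt
    have h1 : x j' = 0 := by rw [h, h0, zero_smul]; rfl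
    rw [hj'] at h1
    exact one_ne_zero h1

theorem nrmd_NrmZ (v : V7) (h : v.nrmd = true) : NrmZ (decV v) := by
  unfold V7.nrmd at h
  simp only [Bool.or_eq_true, Bool.and_eq_true, Nat.beq_eq] at h
  rcases h with h | ⟨h0, h | ⟨h1, h | ⟨h2, h | ⟨h3, h | ⟨h4, h | ⟨h5, h⟩⟩⟩⟩⟩⟩
  · refine ⟨0, by simp [decV, h], ?_⟩
    intro k hk
    exact absurd hk (by fin_cases k <;> decide)
  · refine ⟨1, by simp [decV, h], ?_⟩
    intro k hk
    fin_cases k <;> first | exact absurd hk (by decide) | simp [decV, h0]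
  · refine ⟨2, by simp [decV, h], ?_⟩
    intro k hk
    fin_cases k <;> first | exact absurd hk (by decide) | simp [decV, h0, h1]
  · refine ⟨3, by simp [decV, h], ?_⟩
    intro k hk
    fin_cases k <;> first | exact absurd hk (by decide) | simp [decV, h0, h1, h2]
  · refine ⟨4, by simp [decV, h], ?_⟩
    intro k hk
    fin_cases k <;> first | exact absurd hk (by decide) | simp [decV, h0, h1, h2, h3]
  · refine ⟨5, by simp [decV, h], ?_⟩
    intro k hk
    fin_cases k <;> first | exact absurd hk (by decide) | simp [decV, h0, h1, h2, h3, h4]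
  · refine ⟨6, by simp [decV, h], ?_⟩
    intro k hk
    fin_cases k <;> first | exact absurd hk (by decide) | simp [decV, h0, h1, h2, h3, h4, h5]

theorem NrmZ_ne_zero (x : Fin 7 → ZMod 11) (hx : NrmZ x) : x ≠ 0 := by
  haveI : Fact (Nat.Prime 11) := ⟨by norm_num⟩
  obtain ⟨j, hj, -⟩ := hx
  intro h
  rw [h] at hj
  exact zero_ne_one hj


/-! ### Orbits of lines from packed tables -/

theorem pk_orbit (D : ℕ) (fc : V7) (n B : ℕ) (hB : n ≤ 64 * B)
    (hchk : allB2 (pkChk D fc n) B = true) :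
    ∀ i < n, ∃ g ∈ Cfsg.Spor.J1, ∃ c : ZMod 11,
      decV (pkV (pkEnt D i)) = c • ((g : Matrix (Fin 7) (Fin 7) (ZMod 11)) *ᵥ decV fc) := by
  have hspec := fun i (hi : i < n) => pkChk_spec D fc n i hi (allB2_spec _ _ hchk i (by omega))
  have key : ∀ d, ∀ i < n, pkD (pkEnt D i) = d → ∃ g ∈ Cfsg.Spor.J1, ∃ c : ZMod 11,
      decV (pkV (pkEnt D i)) = c • ((g : Matrix (Fin 7) (Fin 7) (ZMod 11)) *ᵥ decV fc) := by
    intro d
    induction d using Nat.strong_induction_on with
    | _ d ih =>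
      intro i hi hd
      obtain ⟨-, h2, -⟩ := hspec i hi
      rcases h2 with ⟨-, h0⟩ | ⟨hp, hdp, hv⟩
      · exact ⟨1, Subgroup.one_mem _, 1, by rw [h0, Units.val_one, Matrix.one_mulVec, one_smul]⟩
      · obtain ⟨g, hg, c, hc⟩ := ih _ (hd ▸ hdp) _ hp rfl
        refine ⟨genGN (pkG (pkEnt D i)) * g, Subgroup.mul_mem _ (genGN_mem _) hg,
          (pkS (pkEnt D i) : ZMod 11) * c, ?_⟩
        rw [← hv, decV_smul, decV_app, hc, Matrix.mulVec_smul, Units.val_mul,
          ← Matrix.mulVec_mulVec,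
          show ((genGN (pkG (pkEnt D i)) : GL7) : Matrix (Fin 7) (Fin 7) (ZMod 11)) =
            decM (genN (pkG (pkEnt D i))) from rep_genGN _, smul_smul]
  exact fun i hi => key _ i hi rfl

theorem pk_inj (D : ℕ) (fc : V7) (n B : ℕ) (hB : n ≤ 64 * B)
    (hchk : allB2 (pkChk D fc n) B = true) :
    ∀ i < n, ∀ j < n, pkV (pkEnt D i) = pkV (pkEnt D j) → i = j := by
  have hspec := fun i (hi : i < n) => pkChk_spec D fc n i hi (allB2_spec _ _ hchk i (by omega))
  have mono : ∀ j, j < n → ∀ i < j, (pkV (pkEnt D i)).code < (pkV (pkEnt D j)).code := by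
    intro j
    induction j with
    | zero => intro _ i hi; omega
    | succ j ih =>
      intro hj i hi
      have h1 := (hspec j (by omega)).2.2 hj
      rcases Nat.lt_succ_iff_lt_or_eq.mp hi with h2 | h2
      · exact lt_trans (ih (by omega) i h2) h1
      · rw [h2]; exact h1
  intro i hi j hj h
  rcases lt_trichotomy i j with hlt | heq | hgt
  · have := mono j hj i hlt
    rw [h] at this
    exact absurd this (lt_irrefl _)
  · exact heq
  · have := mono i hi j hgt
    rw [h] at this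
    exact absurd this (lt_irrefl _)

theorem pk_lines (D : ℕ) (fc : V7) (n B : ℕ) (hB : n ≤ 64 * B)
    (hchk : allB2 (pkChk D fc n) B = true) (g : ℕ → GL7) (c : ℕ → ZMod 11)
    (hg : ∀ i < n, decV (pkV (pkEnt D i)) =
      c i • ((g i : Matrix (Fin 7) (Fin 7) (ZMod 11)) *ᵥ decV fc)) :
    ∀ i < n, ∀ j < n, ∀ μ : ZMod 11,
      (g i : Matrix (Fin 7) (Fin 7) (ZMod 11)) *ᵥ decV fc =
        μ • ((g j : Matrix (Fin 7) (Fin 7) (ZMod 11)) *ᵥ decV fc) → i = j := by
  haveI : Fact (Nat.Prime 11) := ⟨by norm_num⟩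
  have hspec := fun i (hi : i < n) => pkChk_spec D fc n i hi (allB2_spec _ _ hchk i (by omega))
  intro i hi j hj μ h
  have hni := nrmd_NrmZ _ (hspec i hi).1
  have hnj := nrmd_NrmZ _ (hspec j hj).1
  have hcj : c j ≠ 0 := by
    intro h0
    apply NrmZ_ne_zero _ hnj
    rw [hg j hj, h0, zero_smul]
  have e1 : (g j : Matrix (Fin 7) (Fin 7) (ZMod 11)) *ᵥ decV fc =
      (c j)⁻¹ • decV (pkV (pkEnt D j)) := by
    rw [hg j hj, smul_smul, inv_mul_cancel₀ hcj, one_smul]
  have e2 : decV (pkV (pkEnt D i)) = (c i * μ * (c j)⁻¹) • decV (pkV (pkEnt D j)) := by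
    rw [hg i hi, h, e1, smul_smul, smul_smul]
  have e3 := NrmZ_eq _ _ hni hnj _ e2
  exact pk_inj D fc n B hB hchk i hi j hj (decV_inj (dec_red _) (dec_red _) e3)

/-! ### Fixed lines -/

theorem fix_line (Lc uc : M7) (fc : V7) (j0 : Fin 7)
    (h : ∀ i j : Fin 7, decM (Lc.mul uc) i j + decV fc i * (if j = j0 then 1 else 0) =
      decM Lc i j + (if i = j then 1 else 0))
    (v : Fin 7 → ZMod 11) (hv : decM uc *ᵥ v = v) : v = v j0 • decV fc := by
  funext i
  have h1 : (decM (Lc.mul uc) *ᵥ v) i = (decM Lc *ᵥ v) i := by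
    rw [decM_mul, ← Matrix.mulVec_mulVec, hv]
  have h2 : ∀ j : Fin 7, decM (Lc.mul uc) i j * v j =
      decM Lc i j * v j + ((if i = j then v j else 0) - decV fc i * (if j = j0 then v j else 0)) := by
    intro j
    have := h i j
    split_ifs at this ⊢ <;> linear_combination (v j) * this
  simp only [Matrix.mulVec, dotProduct] at h1
  rw [Finset.sum_congr rfl (fun j _ => h2 j), Finset.sum_add_distrib, Finset.sum_sub_distrib,
    ← Finset.mul_sum, Finset.sum_ite_eq, Finset.sum_ite_eq'] at h1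
  simp only [Finset.mem_univ, if_true] at h1
  rw [Pi.smul_apply, smul_eq_mul]
  linear_combination h1


/-! ### The counting argument -/

/-- The matrix of an element of the group. -/
def mat (g : ↥Cfsg.Spor.J1) : Matrix (Fin 7) (Fin 7) (ZMod 11) := ((g : GL7) : Matrix (Fin 7) (Fin 7) (ZMod 11))

theorem mat_mul (g h : ↥Cfsg.Spor.J1) : mat (g * h) = mat g * mat h := by
  unfold mat
  rw [Subgroup.coe_mul, Units.val_mul]

theorem mat_one : mat 1 = 1 := by
  unfold mat
  rw [Subgroup.coe_one, Units.val_one]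

theorem mat_pow_fix (g : ↥Cfsg.Spor.J1) (v : Fin 7 → ZMod 11) (h : mat g *ᵥ v = v) (k : ℕ) :
    mat (g ^ k) *ᵥ v = v := by
  induction k with
  | zero => rw [pow_zero, mat_one, Matrix.one_mulVec]
  | succ k ih => rw [pow_succ, mat_mul, ← Matrix.mulVec_mulVec, h, ih]

theorem mat_ne_zero (g : ↥Cfsg.Spor.J1) (v : Fin 7 → ZMod 11) (hv : v ≠ 0) : mat g *ᵥ v ≠ 0 := by
  intro h
  apply hv
  have h1 : mat g⁻¹ *ᵥ (mat g *ᵥ v) = v := by
    rw [Matrix.mulVec_mulVec, ← mat_mul, inv_mul_cancel, mat_one, Matrix.one_mulVec]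
  rw [← h1, h, Matrix.mulVec_zero]

theorem semiconj_pow (u w : ↥Cfsg.Spor.J1) (a : ℕ) (hw : w * u = u ^ a * w) (k : ℕ) :
    w ^ k * u = u ^ (a ^ k) * w ^ k := by
  have h0 : SemiconjBy w u (u ^ a) := hw
  have hk : ∀ k, SemiconjBy (w ^ k) u (u ^ (a ^ k)) := by
    intro k
    induction k with
    | zero => rw [pow_zero, pow_zero, pow_one]; exact SemiconjBy.one_left u
    | succ k ih =>
      have h1 : SemiconjBy w (u ^ (a ^ k)) (u ^ (a ^ (k + 1))) := by
        have := h0.pow_right (a ^ k)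
        rwa [← pow_mul, ← pow_succ'] at this
      rw [pow_succ']
      exact h1.mul_left ih
  exact hk k

theorem line_of_semiconj (p : ℕ) [hp : Fact p.Prime] (u : ↥Cfsg.Spor.J1) (hu : orderOf u = p)
    (f : Fin 7 → ZMod 11) (hf : f ≠ 0) (huf : mat u *ᵥ f = f)
    (hfix : ∀ v : Fin 7 → ZMod 11, mat u *ᵥ v = v → ∃ c : ZMod 11, v = c • f)
    (h : ↥Cfsg.Spor.J1) (e : ℕ) (he : Nat.Coprime e p) (hh : h * u = u ^ e * h) :
    ∃ c : ZMod 11, c ≠ 0 ∧ mat h *ᵥ f = c • f := by
  have h1 : mat (u ^ e) *ᵥ (mat h *ᵥ f) = mat h *ᵥ f := by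
    rw [Matrix.mulVec_mulVec, ← mat_mul, ← hh, mat_mul, ← Matrix.mulVec_mulVec, huf]
  obtain ⟨e', -, he'⟩ := Nat.exists_mul_mod_eq_one_of_coprime he hp.out.one_lt
  have h2 : (u ^ e) ^ e' = u := by
    rw [← pow_mul]
    conv_rhs => rw [← pow_one u]
    rw [pow_eq_pow_iff_modEq, hu]
    show e * e' % p = 1 % p
    rw [he', Nat.mod_eq_of_lt hp.out.one_lt]
  have h3 : mat u *ᵥ (mat h *ᵥ f) = mat h *ᵥ f := by
    have := mat_pow_fix (u ^ e) _ h1 e'
    rwa [h2] at this
  obtain ⟨c, hc⟩ := hfix _ h3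
  refine ⟨c, ?_, hc⟩
  intro h0
  apply mat_ne_zero h f hf
  rw [hc, h0, zero_smul]

theorem cent_card (p n m a : ℕ) [hp : Fact p.Prime] (u w : ↥Cfsg.Spor.J1) (hu : orderOf u = p)
    (f : Fin 7 → ZMod 11) (hf : f ≠ 0) (huf : mat u *ᵥ f = f)
    (hfix : ∀ v : Fin 7 → ZMod 11, mat u *ᵥ v = v → ∃ c : ZMod 11, v = c • f)
    (g : ℕ → ↥Cfsg.Spor.J1)
    (hind : ∀ i < n, ∀ j < n, ∀ c : ZMod 11, mat (g i) *ᵥ f = c • (mat (g j) *ᵥ f) → i = j)
    (hw : w * u = u ^ a * w) (hap : Nat.Coprime a p)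
    (ha : ∀ k, 0 < k → k < m → ¬ (a ^ k ≡ 1 [MOD p]))
    (hcount : 175560 < n * m * (p + 1)) :
    Nat.card (Subgroup.centralizer ({u} : Set ↥Cfsg.Spor.J1)) = p := by
  haveI : Fact (Nat.Prime 11) := ⟨by norm_num⟩
  set C := Subgroup.centralizer ({u} : Set ↥Cfsg.Spor.J1) with hC
  have hcomm : ∀ z ∈ C, z * u = u * z := fun z hz =>
    (Subgroup.mem_centralizer_iff.mp hz u rfl).symm
  -- elements of the form `w ^ k * z` preserve the line
  have hline : ∀ (k : ℕ) (z : ↥Cfsg.Spor.J1), z ∈ C →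
      ∃ c : ZMod 11, c ≠ 0 ∧ mat (w ^ k * z) *ᵥ f = c • f := by
    intro k z hz
    refine line_of_semiconj p u hu f hf huf hfix (w ^ k * z) (a ^ k) (Nat.Coprime.pow_left k hap) ?_
    rw [mul_assoc, hcomm z hz, ← mul_assoc, semiconj_pow u w a hw k, mul_assoc]
  -- the powers of `w` are independent modulo the centralizer
  have hpow : ∀ k l : ℕ, k ≤ l → l < m → ∀ z ∈ C, ∀ z' ∈ C, w ^ k * z = w ^ l * z' → k = l := by
    intro k l hkl hl z hz z' hz' h
    by_contra hne
    have hd : 0 < l - k := by omega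
    have h1 : w ^ (l - k) = z * z'⁻¹ := by
      have : w ^ l = w ^ k * w ^ (l - k) := by rw [← pow_add]; congr 1; omega
      rw [this, mul_assoc] at h
      have h2 := mul_left_cancel h
      rw [h2, mul_inv_cancel_right]
    have h3 : w ^ (l - k) ∈ C := by rw [h1]; exact C.mul_mem hz (C.inv_mem hz')
    have h4 := semiconj_pow u w a hw (l - k)
    rw [hcomm _ h3] at h4
    have h5 : u ^ (a ^ (l - k)) = u ^ 1 := by rw [pow_one]; exact (mul_right_cancel h4).symm
    rw [pow_eq_pow_iff_modEq, hu] at h5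
    exact ha (l - k) hd (by omega) h5
  have hinj : Function.Injective (fun x : Fin n × Fin m × C => g x.1 * (w ^ (x.2.1 : ℕ) * x.2.2.1)) := by
    rintro ⟨i, k, z⟩ ⟨j, l, z'⟩ h
    have h' : g i * (w ^ (k : ℕ) * z.1) = g j * (w ^ (l : ℕ) * z'.1) := h
    obtain ⟨c, hc0, hc⟩ := hline k z.1 z.2
    obtain ⟨c', hc0', hc'⟩ := hline l z'.1 z'.2
    have e1 : c • (mat (g i) *ᵥ f) = c' • (mat (g j) *ᵥ f) := by
      rw [← Matrix.mulVec_smul, ← Matrix.mulVec_smul, ← hc, ← hc', Matrix.mulVec_mulVec,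
        Matrix.mulVec_mulVec, ← mat_mul, ← mat_mul, h']
    have e2 : mat (g i) *ᵥ f = (c⁻¹ * c') • (mat (g j) *ᵥ f) := by
      rw [← smul_smul, ← e1, smul_smul, inv_mul_cancel₀ hc0, one_smul]
    have hij : (i : ℕ) = j := hind i i.2 j j.2 _ e2
    have hij' : i = j := Fin.ext hij
    subst hij'
    have h2 : w ^ (k : ℕ) * z.1 = w ^ (l : ℕ) * z'.1 := mul_left_cancel h'
    have hkl : (k : ℕ) = l := by
      rcases le_total (k : ℕ) l with hle | hle
      · exact hpow k l hle l.2 z.1 z.2 z'.1 z'.2 h2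
      · exact (hpow l k hle k.2 z'.1 z'.2 z.1 z.2 h2.symm).symm
    have hkl' : k = l := Fin.ext hkl
    subst hkl'
    have h3 : z.1 = z'.1 := mul_left_cancel h2
    have h4 : z = z' := Subtype.ext h3
    rw [h4]
  have hle := Nat.card_le_card_of_injective _ hinj
  rw [Nat.card_prod, Nat.card_prod, Nat.card_fin, Nat.card_fin, card_J1] at hle
  have hdvd : p ∣ Nat.card C := by
    have h1 : orderOf (⟨u, Subgroup.mem_centralizer_iff.mpr (fun y hy => by rw [Set.mem_singleton_iff.mp hy])⟩ : C) = p := by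
      rw [Subgroup.orderOf_mk]; exact hu
    rw [← h1]; exact orderOf_dvd_natCard _
  have hpos : 0 < Nat.card C := Nat.card_pos
  have hge : p ≤ Nat.card C := Nat.le_of_dvd hpos hdvd
  by_contra hne
  have hgt : p + 1 ≤ Nat.card C := by omega
  have : n * m * (p + 1) ≤ n * (m * Nat.card C) := by
    rw [mul_assoc]
    exact Nat.mul_le_mul_left _ (Nat.mul_le_mul_left _ hgt)
  omega


/-! ### Certificate checks -/

theorem chk_dat7 : allB2 (pkChk dat7 f7c 4180) 66 = true := by decide +kernel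

theorem chk_dat11 : allB2 (pkChk dat11 f11c 1596) 25 = true := by decide +kernel

theorem chk_dat19 : allB2 (pkChk dat19 f19c 1540) 25 = true := by decide +kernel

theorem chk_fix7 : ∀ i j : Fin 7, decM (L7c.mul (wordM u7w)) i j +
    decV f7c i * (if j = j7 then 1 else 0) = decM L7c i j + (if i = j then 1 else 0) := by
  decide +kernel

theorem chk_fix11 : ∀ i j : Fin 7, decM (L11c.mul (wordM u11w)) i j +
    decV f11c i * (if j = j11 then 1 else 0) = decM L11c i j + (if i = j then 1 else 0) := by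
  decide +kernel

theorem chk_fix19 : ∀ i j : Fin 7, decM (L19c.mul (wordM u19w)) i j +
    decV f19c i * (if j = j19 then 1 else 0) = decM L19c i j + (if i = j then 1 else 0) := by
  decide +kernel

theorem chk_uf7 : (wordM u7w).app f7c = f7c := by decide +kernel

theorem chk_uf11 : (wordM u11w).app f11c = f11c := by decide +kernel

theorem chk_uf19 : (wordM u19w).app f19c = f19c := by decide +kernel

theorem chk_w7 : wordM (w7w ++ u7w) = wordM ((List.replicate 5 u7w).flatten ++ w7w) := by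
  decide +kernel

theorem chk_w11 : wordM (w11w ++ u11w) = wordM ((List.replicate 8 u11w).flatten ++ w11w) := by
  decide +kernel

theorem chk_w19 : wordM (cword ++ u19w) = wordM ((List.replicate 8 u19w).flatten ++ cword) := by
  decide +kernel

theorem chk_fne : decV f7c j7 = 1 ∧ decV f11c j11 = 1 ∧ decV f19c j19 = 1 := by decide +kernel

/-! ### The centralizers of elements of order 7, 11, 19 -/

theorem mat_wJ (l : List Bool) : mat (wJ l) = decM (wordM l) := rep_wordG l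

theorem cent_of_data (p n B m a : ℕ) [hp : Fact p.Prime] (uw ww : List Bool)
    (hu : orderOf (wJ uw) = p) (D : ℕ) (fc : V7) (Lc : M7) (j0 : Fin 7) (hB : n ≤ 64 * B)
    (hchk : allB2 (pkChk D fc n) B = true)
    (hfix : ∀ i j : Fin 7, decM (Lc.mul (wordM uw)) i j +
      decV fc i * (if j = j0 then 1 else 0) = decM Lc i j + (if i = j then 1 else 0))
    (huf : (wordM uw).app fc = fc) (hne : decV fc j0 = 1)
    (hw : wordM (ww ++ uw) = wordM ((List.replicate a uw).flatten ++ ww))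
    (hap : Nat.Coprime a p) (ha : ∀ k, 0 < k → k < m → ¬ (a ^ k ≡ 1 [MOD p]))
    (hcount : 175560 < n * m * (p + 1)) :
    Nat.card (Subgroup.centralizer ({wJ uw} : Set ↥Cfsg.Spor.J1)) = p := by
  haveI : Fact (Nat.Prime 11) := ⟨by norm_num⟩
  choose! g hg c hc using pk_orbit D fc n B hB hchk
  have hind := pk_lines D fc n B hB hchk g c hc
  refine cent_card p n m a (wJ uw) (wJ ww) hu (decV fc) ?_ ?_ ?_
    (fun i => if hi : i < n then ⟨g i, hg i hi⟩ else 1) ?_ ?_ hap ha hcount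
  · intro h
    rw [h] at hne
    exact zero_ne_one hne
  · rw [mat_wJ, ← decV_app, huf]
  · intro v hv
    rw [mat_wJ] at hv
    exact ⟨v j0, fix_line Lc (wordM uw) fc j0 hfix v hv⟩
  · intro i hi j hj μ h
    simp only [dif_pos hi, dif_pos hj] at h
    exact hind i hi j hj μ h
  · rw [wJ_pow, wJ_mul, wJ_mul]
    exact wJ_eq hw

theorem cent7 : Nat.card (Subgroup.centralizer ({wJ u7w} : Set ↥Cfsg.Spor.J1)) = 7 := by
  haveI : Fact (Nat.Prime 7) := ⟨by norm_num⟩
  refine cent_of_data 7 4180 66 6 5 u7w w7w ord_x dat7 f7c L7c j7 (by norm_num) chk_dat7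
    chk_fix7 chk_uf7 chk_fne.1 chk_w7 (by decide) ?_ (by norm_num)
  intro k hk1 hk2
  interval_cases k <;> decide

theorem cent11 : Nat.card (Subgroup.centralizer ({wJ u11w} : Set ↥Cfsg.Spor.J1)) = 11 := by
  haveI : Fact (Nat.Prime 11) := ⟨by norm_num⟩
  refine cent_of_data 11 1596 25 10 8 u11w w11w ord_g11 dat11 f11c L11c j11 (by norm_num)
    chk_dat11 chk_fix11 chk_uf11 chk_fne.2.1 chk_w11 (by decide) ?_ (by norm_num)
  intro k hk1 hk2
  interval_cases k <;> decide

theorem cent19 : Nat.card (Subgroup.centralizer ({wJ u19w} : Set ↥Cfsg.Spor.J1)) = 19 := by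
  haveI : Fact (Nat.Prime 19) := ⟨by norm_num⟩
  refine cent_of_data 19 1540 25 6 8 u19w cword ord_g19 dat19 f19c L19c j19 (by norm_num)
    chk_dat19 chk_fix19 chk_uf19 chk_fne.2.2 chk_w19 (by decide) ?_ (by norm_num)
  intro k hk1 hk2
  interval_cases k <;> decide


/-! ### Element orders -/

open scoped Pointwise in
/-- If the centralizer of an element `u` of prime order `p` has order `p` and `⟨u⟩` is a Sylow
subgroup, then every element of order divisible by `p` has order `p`. -/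
theorem order_eq_of_cent {G : Type*} [Group G] [Finite G] (p : ℕ) [hp : Fact p.Prime] (u : G)
    (hu : orderOf u = p) (hidx : ¬ p ∣ (Subgroup.zpowers u).index)
    (hC : Nat.card (Subgroup.centralizer ({u} : Set G)) = p) (g : G) (hg : p ∣ orderOf g) :
    orderOf g = p := by
  have hn0 : orderOf g ≠ 0 := (orderOf_pos g).ne'
  set v := g ^ (orderOf g / p) with hv
  have hov : orderOf v = p := orderOf_pow_orderOf_div hn0 hg
  have hP : IsPGroup p (Subgroup.zpowers u) :=
    IsPGroup.of_card (n := 1) (by rw [Nat.card_zpowers, hu, pow_one])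
  have hQ : IsPGroup p (Subgroup.zpowers v) :=
    IsPGroup.of_card (n := 1) (by rw [Nat.card_zpowers, hov, pow_one])
  obtain ⟨S, hS⟩ := hQ.exists_le_sylow
  obtain ⟨k, hk⟩ := MulAction.exists_smul_eq G S (hP.toSylow hidx)
  have h1 : k * v * k⁻¹ ∈ Subgroup.zpowers u := by
    have h1 : v ∈ (S : Subgroup G) := hS (Subgroup.mem_zpowers _)
    have h2 : MulAut.conj k • v ∈ MulAut.conj k • (S : Subgroup G) :=
      Subgroup.smul_mem_pointwise_smul _ _ _ h1
    rw [← Sylow.coe_subgroup_smul, hk] at h2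
    exact h2
  have hne : k * v * k⁻¹ ≠ 1 := by
    intro h
    rw [mul_inv_eq_one] at h
    have h2 : v = 1 := mul_left_cancel (h.trans (mul_one k).symm)
    rw [h2, orderOf_one] at hov
    exact hp.out.one_lt.ne hov
  have hcard : Nat.card (Subgroup.zpowers u) = p := by rw [Nat.card_zpowers, hu]
  have hm := mem_zpowers_of_prime_card hcard (g := (⟨k * v * k⁻¹, h1⟩ : Subgroup.zpowers u))
    (g' := ⟨u, Subgroup.mem_zpowers u⟩) (fun h => hne (congrArg Subtype.val h))
  obtain ⟨z, hz⟩ := hm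
  have hz' : (k * v * k⁻¹) ^ z = u := by simpa using congrArg Subtype.val hz
  -- the conjugate of `g` centralizes `u`
  have hcomm : Commute (k * g * k⁻¹) (k * v * k⁻¹) := by
    have h0 : Commute g v := (Commute.refl g).pow_right _
    show k * g * k⁻¹ * (k * v * k⁻¹) = k * v * k⁻¹ * (k * g * k⁻¹)
    have e1 : k * g * k⁻¹ * (k * v * k⁻¹) = k * (g * v) * k⁻¹ := by group
    have e2 : k * v * k⁻¹ * (k * g * k⁻¹) = k * (v * g) * k⁻¹ := by group
    rw [e1, e2, h0.eq]
  have hcomm' : Commute (k * g * k⁻¹) u := by rw [← hz']; exact hcomm.zpow_right z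
  have hmem : k * g * k⁻¹ ∈ Subgroup.centralizer ({u} : Set G) := by
    rw [Subgroup.mem_centralizer_iff]
    intro y hy
    rw [Set.mem_singleton_iff.mp hy]
    exact hcomm'.eq.symm
  have ho : orderOf (k * g * k⁻¹) = orderOf g := by
    rw [← MulAut.conj_apply]; exact MulEquiv.orderOf_eq _ _
  have hdvd : orderOf g ∣ p := by
    rw [← ho, ← hC, ← Subgroup.orderOf_mk _ hmem]
    exact orderOf_dvd_natCard _
  exact Nat.dvd_antisymm hdvd hg

theorem index_zpowers (g : ↥Cfsg.Spor.J1) (p : ℕ) (ho : orderOf g = p) (hp2 : ¬ p * p ∣ 175560) :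
    ¬ p ∣ (Subgroup.zpowers g).index := by
  rintro ⟨k, hk⟩
  have h := Subgroup.card_mul_index (Subgroup.zpowers g)
  rw [Nat.card_zpowers, ho, card_J1, hk] at h
  exact hp2 ⟨k, by rw [← h, mul_assoc]⟩

theorem order7 (g : ↥Cfsg.Spor.J1) (hg : 7 ∣ orderOf g) : orderOf g = 7 := by
  haveI : Fact (Nat.Prime 7) := ⟨by norm_num⟩
  exact order_eq_of_cent 7 (wJ u7w) ord_x (index_zpowers _ 7 ord_x (by norm_num)) cent7 g hg

theorem order11 (g : ↥Cfsg.Spor.J1) (hg : 11 ∣ orderOf g) : orderOf g = 11 := by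
  haveI : Fact (Nat.Prime 11) := ⟨by norm_num⟩
  exact order_eq_of_cent 11 (wJ u11w) ord_g11 (index_zpowers _ 11 ord_g11 (by norm_num)) cent11 g hg

theorem order19 (g : ↥Cfsg.Spor.J1) (hg : 19 ∣ orderOf g) : orderOf g = 19 := by
  haveI : Fact (Nat.Prime 19) := ⟨by norm_num⟩
  exact order_eq_of_cent 19 (wJ u19w) ord_g19 (index_zpowers _ 19 ord_g19 (by norm_num)) cent19 g hg

open scoped Pointwise in
/-- Every involution is conjugate to the involution `wJ e1w`. -/
theorem invol_conj_e1 (s : ↥Cfsg.Spor.J1) (hs : orderOf s = 2) :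
    ∃ h : ↥Cfsg.Spor.J1, h * s * h⁻¹ = wJ e1w := by
  haveI : Fact (Nat.Prime 2) := ⟨Nat.prime_two⟩
  have hQ : IsPGroup 2 (Subgroup.zpowers s) :=
    IsPGroup.of_card (n := 1) (by rw [Nat.card_zpowers, hs, pow_one])
  obtain ⟨S, hS⟩ := hQ.exists_le_sylow
  obtain ⟨k, hk⟩ := MulAction.exists_smul_eq ↥Cfsg.Spor.J1 S
    (E2_pgroup.toSylow (by rw [E2_index]; norm_num))
  have h1 : k * s * k⁻¹ ∈ E2 := by
    have h1 : s ∈ (S : Subgroup ↥Cfsg.Spor.J1) := hS (Subgroup.mem_zpowers _)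
    have h2 : MulAut.conj k • s ∈ MulAut.conj k • (S : Subgroup ↥Cfsg.Spor.J1) :=
      Subgroup.smul_mem_pointwise_smul _ _ _ h1
    rw [← Sylow.coe_subgroup_smul, hk] at h2
    exact h2
  rcases h1 with h1 | ⟨i, hi, h1⟩
  · exfalso
    rw [mul_inv_eq_one] at h1
    have h2 : s = 1 := mul_left_cancel (h1.trans (mul_one k).symm)
    rw [h2, orderOf_one] at hs
    norm_num at hs
  · have hinv : wJ (xpw i) = (wJ (xpw (7 - i)))⁻¹ :=
      eq_inv_of_mul_eq_one_right (by rw [wJ_mul, ← wJ_nil]; exact wJ_eq (chkE1 i hi).1)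
    refine ⟨wJ (xpw (7 - i)) * k, ?_⟩
    have e1 : wJ (xpw (7 - i)) * k * s * (wJ (xpw (7 - i)) * k)⁻¹ =
        wJ (xpw (7 - i)) * (k * s * k⁻¹) * (wJ (xpw (7 - i)))⁻¹ := by group
    rw [e1, h1, ← hinv, wJ_mul, wJ_mul]
    exact (wJ_eq (chkE1 i hi).2).symm

theorem chkA5 : ∀ a : Multiplicative (ZMod 2) × ↥(alternatingGroup (Fin 5)),
    a ^ 6 = 1 ∨ a ^ 10 = 1 := by decide +kernel

theorem even_cases : ∀ n ≤ 10, 2 ∣ n → (n ∣ 6 ∨ n ∣ 10) → n = 2 ∨ n = 6 ∨ n = 10 := by decide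

theorem odd_cases : ∀ n ≤ 15, n ∣ 15 → n ∈ ({1, 2, 3, 5, 6, 7, 10, 11, 15, 19} : Finset ℕ) := by
  decide

theorem order_even (g : ↥Cfsg.Spor.J1) (h2 : 2 ∣ orderOf g) :
    orderOf g = 2 ∨ orderOf g = 6 ∨ orderOf g = 10 := by
  have hn0 : orderOf g ≠ 0 := (orderOf_pos g).ne'
  set s := g ^ (orderOf g / 2) with hs
  have hos : orderOf s = 2 := orderOf_pow_orderOf_div hn0 h2
  obtain ⟨h, hh⟩ := invol_conj_e1 s hos
  obtain ⟨h', hh'⟩ := invol_conj_e1 tJ ord_tJ
  -- conjugate `g` into the centralizer of `tJ`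
  set q := h'⁻¹ * h with hq
  have e1 : q * s * q⁻¹ = tJ := by
    have : q * s * q⁻¹ = h'⁻¹ * (h * s * h⁻¹) * h' := by rw [hq]; group
    rw [this, hh, ← hh']; group
  have hcomm : Commute (q * g * q⁻¹) tJ := by
    have h0 : Commute g s := (Commute.refl g).pow_right _
    rw [← e1]
    show q * g * q⁻¹ * (q * s * q⁻¹) = q * s * q⁻¹ * (q * g * q⁻¹)
    have e2 : q * g * q⁻¹ * (q * s * q⁻¹) = q * (g * s) * q⁻¹ := by group
    have e3 : q * s * q⁻¹ * (q * g * q⁻¹) = q * (s * g) * q⁻¹ := by group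
    rw [e2, e3, h0.eq]
  have hmem : q * g * q⁻¹ ∈ Subgroup.centralizer ({tJ} : Set ↥Cfsg.Spor.J1) := by
    rw [Subgroup.mem_centralizer_iff]
    intro y hy
    rw [Set.mem_singleton_iff.mp hy]
    exact hcomm.eq.symm
  obtain ⟨x, hx⟩ := psi_surj _ hmem
  have ho : orderOf (q * g * q⁻¹) = orderOf g := by
    rw [← MulAut.conj_apply]; exact MulEquiv.orderOf_eq _ _
  have ho' : orderOf x = orderOf g := by
    rw [← ho, ← hx]; exact (orderOf_injective psi psi_inj x).symm
  rw [← ho'] at h2 ⊢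
  have hd : orderOf x ∣ 6 ∨ orderOf x ∣ 10 := by
    rcases chkA5 x with h6 | h10
    · exact Or.inl (orderOf_dvd_of_pow_eq_one h6)
    · exact Or.inr (orderOf_dvd_of_pow_eq_one h10)
  have hle : orderOf x ≤ 10 := by
    rcases hd with hd | hd
    · exact le_trans (Nat.le_of_dvd (by norm_num) hd) (by norm_num)
    · exact Nat.le_of_dvd (by norm_num) hd
  exact even_cases _ hle h2 hd

/-- The orders of the elements of `J₁`. -/
theorem orderOf_J1_mem (g : ↥Cfsg.Spor.J1) :
    orderOf g ∈ ({1, 2, 3, 5, 6, 7, 10, 11, 15, 19} : Finset ℕ) := by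
  have hd : orderOf g ∣ 175560 := by rw [← card_J1]; exact orderOf_dvd_natCard g
  by_cases h2 : 2 ∣ orderOf g
  · rcases order_even g h2 with h | h | h <;> rw [h] <;> decide
  by_cases h7 : 7 ∣ orderOf g
  · rw [order7 g h7]; decide
  by_cases h11 : 11 ∣ orderOf g
  · rw [order11 g h11]; decide
  by_cases h19 : 19 ∣ orderOf g
  · rw [order19 g h19]; decide
  have c2 : Nat.Coprime (orderOf g) 2 :=
    ((Nat.Prime.coprime_iff_not_dvd Nat.prime_two).mpr h2).symm
  have c7 : Nat.Coprime (orderOf g) 7 :=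
    ((Nat.Prime.coprime_iff_not_dvd (by norm_num)).mpr h7).symm
  have c11 : Nat.Coprime (orderOf g) 11 :=
    ((Nat.Prime.coprime_iff_not_dvd (by norm_num)).mpr h11).symm
  have c19 : Nat.Coprime (orderOf g) 19 :=
    ((Nat.Prime.coprime_iff_not_dvd (by norm_num)).mpr h19).symm
  have c : Nat.Coprime (orderOf g) (2 ^ 3 * 7 * 11 * 19) :=
    (((c2.pow_right 3).mul_right c7).mul_right c11).mul_right c19
  have hd' : orderOf g ∣ 15 := by
    have e : 175560 = 2 ^ 3 * 7 * 11 * 19 * 15 := by norm_num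
    rw [e] at hd
    exact c.dvd_of_dvd_mul_left hd
  exact odd_cases _ (Nat.le_of_dvd (by norm_num) hd') hd'


/-! ### Elements of the ten orders -/

theorem wJ_pow_ne (l : List Bool) (k : ℕ) (h : wordM (List.replicate k l).flatten ≠ one7) :
    wJ l ^ k ≠ 1 := by
  rw [wJ_pow, ← wJ_nil]
  exact wJ_ne h

theorem orderOf_wJ_mul (l : List Bool) (p q : ℕ) (hp : p.Prime) (hq : q.Prime)
    (h1 : wordM (List.replicate (p * q) l).flatten = one7)
    (h2 : wordM (List.replicate p l).flatten ≠ one7)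
    (h3 : wordM (List.replicate q l).flatten ≠ one7) : orderOf (wJ l) = p * q := by
  refine orderOf_eq_of_pow_and_pow_div_prime (Nat.mul_pos hp.pos hq.pos) ?_ ?_
  · rw [wJ_pow, ← wJ_nil]; exact wJ_eq h1
  · intro r hr hd
    rcases (Nat.Prime.dvd_mul hr).mp hd with h | h
    · rw [(Nat.prime_dvd_prime_iff_eq hr hp).mp h, Nat.mul_div_cancel_left _ hp.pos]
      exact wJ_pow_ne l q h3
    · rw [(Nat.prime_dvd_prime_iff_eq hr hq).mp h, Nat.mul_div_cancel _ hq.pos]
      exact wJ_pow_ne l p h2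

theorem ord_w6 : orderOf (wJ w6w) = 6 :=
  orderOf_wJ_mul w6w 2 3 Nat.prime_two (by norm_num) (by decide +kernel) (by decide +kernel)
    (by decide +kernel)

theorem ord_w10 : orderOf (wJ w10w) = 10 :=
  orderOf_wJ_mul w10w 2 5 Nat.prime_two (by norm_num) (by decide +kernel) (by decide +kernel)
    (by decide +kernel)

theorem ord_w15 : orderOf (wJ w15w) = 15 :=
  orderOf_wJ_mul w15w 3 5 (by norm_num) (by norm_num) (by decide +kernel) (by decide +kernel)
    (by decide +kernel)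

/-- The set of element orders of the Janko group `J₁`. -/
theorem spec_J1 (k : ℕ) : (∃ g : ↥Cfsg.Spor.J1, orderOf g = k) ↔
    k ∈ ({1, 2, 3, 5, 6, 7, 10, 11, 15, 19} : Finset ℕ) := by
  constructor
  · rintro ⟨g, rfl⟩
    exact orderOf_J1_mem g
  · intro hk
    simp only [Finset.mem_insert, Finset.mem_singleton] at hk
    rcases hk with rfl | rfl | rfl | rfl | rfl | rfl | rfl | rfl | rfl | rfl
    · exact ⟨1, orderOf_one⟩
    · exact ⟨tJ, ord_tJ⟩
    · exact ⟨_, ord_g3⟩
    · exact ⟨_, ord_g5⟩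
    · exact ⟨_, ord_w6⟩
    · exact ⟨_, ord_x⟩
    · exact ⟨_, ord_w10⟩
    · exact ⟨_, ord_g11⟩
    · exact ⟨_, ord_w15⟩
    · exact ⟨_, ord_g19⟩

end Cfsg.Agent.Lib.helper27.J1B
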