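import Cfsg.Agent.Lib.helper28.GolayWeights

set_option autoImplicit false

namespace Cfsg.Agent.Lib.helper27

open Cfsg
open Cfsg.Agent.Lib.helper28

/-! Basic facts on the rank-24 lattice `leechLattice` built from the binary Golay code. -/

/-- The supports of the code words. -/
abbrev GC : Set (Finset GolayPt) := supports (golayCode : Set (GolayPt → ZMod 2))

/-- The positions whose coordinate is congruent to `k` modulo 4. -/
def resSet (x : GolayPt → ℤ) (k : ℤ) : Finset GolayPt :=
  Finset.univ.filter fun i => x i ≡ k [ZMOD 4]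

theorem mem_resSet (x : GolayPt → ℤ) (k : ℤ) (i : GolayPt) : i ∈ resSet x k ↔ x i % 4 = k % 4 := by
  unfold resSet
  rw [Finset.mem_filter]
  exact ⟨fun h => h.2, fun h => ⟨Finset.mem_univ _, h⟩⟩

theorem mem_leechSet_iff (x : GolayPt → ℤ) : x ∈ leechSet ↔
    ∃ m : ℤ, (∀ i, x i % 2 = m % 2) ∧ ((∑ i, x i) % 8 = (4 * m) % 8) ∧ ∀ k : ℤ, resSet x k ∈ GC :=
  Iff.rfl

theorem card_golayPt : Fintype.card GolayPt = 24 := by decide

theorem zero_mem_leechSet : (0 : GolayPt → ℤ) ∈ leechSet := by
  rw [mem_leechSet_iff]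
  refine ⟨0, fun i => rfl, by simp, fun k => ?_⟩
  by_cases hk : k % 4 = 0
  · have : resSet 0 k = Finset.univ := by
      ext i
      simp only [mem_resSet, Finset.mem_univ, iff_true, Pi.zero_apply]
      omega
    rw [this]; exact univ_mem_supports
  · have : resSet 0 k = ∅ := by
      ext i
      simp only [mem_resSet, Finset.notMem_empty, iff_false, Pi.zero_apply]
      omega
    rw [this]; exact empty_mem_supports

theorem neg_mem_leechSet {x : GolayPt → ℤ} (hx : x ∈ leechSet) : -x ∈ leechSet := by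
  rw [mem_leechSet_iff] at hx ⊢
  obtain ⟨m, h1, h2, h3⟩ := hx
  refine ⟨-m, fun i => ?_, ?_, fun k => ?_⟩
  · have := h1 i
    simp only [Pi.neg_apply]
    omega
  · simp only [Pi.neg_apply, Finset.sum_neg_distrib]
    omega
  · have : resSet (-x) k = resSet x (-k) := by
      ext i
      simp only [mem_resSet, Pi.neg_apply]
      omega
    rw [this]; exact h3 _

theorem add_mem_leechSet {x y : GolayPt → ℤ} (hx : x ∈ leechSet) (hy : y ∈ leechSet) :
    x + y ∈ leechSet := by
  rw [mem_leechSet_iff] at hx hy ⊢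
  obtain ⟨m, h1, h2, h3⟩ := hx
  obtain ⟨m', h1', h2', h3'⟩ := hy
  refine ⟨m + m', fun i => ?_, ?_, fun k => ?_⟩
  · have := h1 i
    have := h1' i
    simp only [Pi.add_apply]
    omega
  · simp only [Pi.add_apply, Finset.sum_add_distrib]
    omega
  · by_cases hk : (k - m' - m) % 2 = 0
    · have : resSet (x + y) k = symmDiff (resSet x (k - m')) (resSet y (m' + 2)) := by
        ext i
        have := h1 i
        have := h1' i
        simp only [mem_resSet, Pi.add_apply, Finset.mem_symmDiff]
        omega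
      rw [this]
      exact symmDiff_mem_supports (h3 _) (h3' _)
    · have : resSet (x + y) k = ∅ := by
        ext i
        have := h1 i
        have := h1' i
        simp only [mem_resSet, Pi.add_apply, Finset.notMem_empty, iff_false]
        omega
      rw [this]; exact empty_mem_supports

/-- `leechSet` as an additive subgroup. -/
def leechSub : AddSubgroup (GolayPt → ℤ) where
  carrier := leechSet
  add_mem' := add_mem_leechSet
  zero_mem' := zero_mem_leechSet
  neg_mem' := neg_mem_leechSet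

theorem leechLattice_eq : leechLattice = leechSub := by
  unfold leechLattice
  exact AddSubgroup.closure_eq leechSub

theorem mem_leechLattice_iff (x : GolayPt → ℤ) : x ∈ leechLattice ↔ x ∈ leechSet := by
  rw [leechLattice_eq]; rfl

/-! ### Congruences for sums -/

theorem modEq_sum {ι : Type*} (s : Finset ι) (f g : ι → ℤ) (n : ℤ)
    (h : ∀ i ∈ s, f i % n = g i % n) : (∑ i ∈ s, f i) % n = (∑ i ∈ s, g i) % n := by
  classical
  induction s using Finset.induction_on with
  | empty => simp
  | insert a s ha ih =>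
    rw [Finset.sum_insert ha, Finset.sum_insert ha, Int.add_emod, h a (Finset.mem_insert_self a s),
      ih (fun i hi => h i (Finset.mem_insert_of_mem hi)), ← Int.add_emod]

theorem sq_even (a : ℤ) (h : a % 2 = 0) :
    a ^ 2 % 16 = (4 * (if a % 4 = 2 then 1 else 0)) % 16 := by
  have h16 : a ^ 2 % 16 = (a % 16) * (a % 16) % 16 := by rw [pow_two, Int.mul_emod]
  rw [h16]
  have hr0 : 0 ≤ a % 16 := Int.emod_nonneg _ (by norm_num)
  have hr1 : a % 16 < 16 := Int.emod_lt_of_pos _ (by norm_num)
  have h4 : a % 4 = (a % 16) % 4 := by omega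
  have h2 : (a % 16) % 2 = 0 := by omega
  rw [h4]
  generalize a % 16 = r at *
  interval_cases r <;> first | (exfalso; omega) | decide

theorem sq_odd (a : ℤ) (h : a % 2 = 1) :
    a ^ 2 % 16 = (2 * a - 1 + 4 * (if a % 4 = 3 then 1 else 0)) % 16 := by
  have h16 : a ^ 2 % 16 = (a % 16) * (a % 16) % 16 := by rw [pow_two, Int.mul_emod]
  rw [h16]
  have hr0 : 0 ≤ a % 16 := Int.emod_nonneg _ (by norm_num)
  have hr1 : a % 16 < 16 := Int.emod_lt_of_pos _ (by norm_num)
  have h4 : a % 4 = (a % 16) % 4 := by omega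
  have h2 : (a % 16) % 2 = 1 := by omega
  have key : ∀ t : ℤ, (2 * a - 1 + 4 * t) % 16 = (2 * (a % 16) - 1 + 4 * t) % 16 :=
    fun t => by omega
  rw [key, h4]
  generalize a % 16 = r at *
  interval_cases r <;> first | (exfalso; omega) | decide

theorem sq_four (a : ℤ) (h : a % 4 = 0) : a ^ 2 % 32 = (4 * a) % 32 := by
  have h32 : a ^ 2 % 32 = (a % 32) * (a % 32) % 32 := by rw [pow_two, Int.mul_emod]
  rw [h32]
  have hr0 : 0 ≤ a % 32 := Int.emod_nonneg _ (by norm_num)
  have hr1 : a % 32 < 32 := Int.emod_lt_of_pos _ (by norm_num)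
  have h4 : (a % 32) % 4 = 0 := by omega
  have key : (4 * a) % 32 = (4 * (a % 32)) % 32 := by omega
  rw [key]
  generalize a % 32 = r at *
  interval_cases r <;> first | (exfalso; omega) | decide

theorem sq_two (a : ℤ) (h : a % 4 = 2) : a ^ 2 % 32 = 4 := by
  have h32 : a ^ 2 % 32 = (a % 32) * (a % 32) % 32 := by rw [pow_two, Int.mul_emod]
  rw [h32]
  have hr0 : 0 ≤ a % 32 := Int.emod_nonneg _ (by norm_num)
  have hr1 : a % 32 < 32 := Int.emod_lt_of_pos _ (by norm_num)
  have h4 : (a % 32) % 4 = 2 := by omega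
  generalize a % 32 = r at *
  interval_cases r <;> first | (exfalso; omega) | decide

theorem sum_ite_two (x : GolayPt → ℤ) :
    ∑ i, (if x i % 4 = 2 then (1 : ℤ) else 0) = ((resSet x 2).card : ℤ) := by
  rw [Finset.sum_boole]
  have he : Finset.univ.filter (fun i => x i % 4 = 2) = resSet x 2 := by
    ext i
    rw [mem_resSet, Finset.mem_filter]
    constructor
    · intro h; rw [h.2]; rfl
    · intro h; exact ⟨Finset.mem_univ _, by rw [h]; rfl⟩
  rw [he]

theorem sum_ite_three (x : GolayPt → ℤ) :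
    ∑ i, (if x i % 4 = 3 then (1 : ℤ) else 0) = ((resSet x 3).card : ℤ) := by
  rw [Finset.sum_boole]
  have he : Finset.univ.filter (fun i => x i % 4 = 3) = resSet x 3 := by
    ext i
    rw [mem_resSet, Finset.mem_filter]
    constructor
    · intro h; rw [h.2]; rfl
    · intro h; exact ⟨Finset.mem_univ _, by rw [h]; rfl⟩
  rw [he]

/-- the two shapes of lattice vectors: all coordinates even, or all odd -/
theorem leechSet_cases {x : GolayPt → ℤ} (hx : x ∈ leechSet) :
    ((∀ i, x i % 2 = 0) ∧ (∑ i, x i) % 8 = 0 ∧ resSet x 2 ∈ GC) ∨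
    ((∀ i, x i % 2 = 1) ∧ (∑ i, x i) % 8 = 4 ∧ resSet x 3 ∈ GC) := by
  rw [mem_leechSet_iff] at hx
  obtain ⟨m, h1, h2, h3⟩ := hx
  rcases Int.emod_two_eq_zero_or_one m with hm | hm
  · left; exact ⟨fun i => by rw [h1 i, hm], by omega, h3 2⟩
  · right; exact ⟨fun i => by rw [h1 i, hm], by omega, h3 3⟩

/-- Sum of squares of a lattice vector is divisible by 16. -/
theorem sixteen_dvd_sqNorm {x : GolayPt → ℤ} (hx : x ∈ leechSet) : (16 : ℤ) ∣ sqNorm x := by
  unfold sqNorm
  rcases leechSet_cases hx with ⟨h1, -, h3⟩ | ⟨h1, h2, h3⟩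
  · have hs := modEq_sum Finset.univ (fun i => x i ^ 2)
      (fun i => 4 * (if x i % 4 = 2 then 1 else 0)) 16 (fun i _ => sq_even (x i) (h1 i))
    rw [← Finset.mul_sum, sum_ite_two] at hs
    obtain ⟨c, hc⟩ := four_dvd_card_of_mem_supports h3
    rw [hc] at hs
    push_cast at hs
    omega
  · have hs := modEq_sum Finset.univ (fun i => x i ^ 2)
      (fun i => 2 * x i - 1 + 4 * (if x i % 4 = 3 then 1 else 0)) 16
      (fun i _ => sq_odd (x i) (h1 i))
    rw [Finset.sum_add_distrib, Finset.sum_sub_distrib, ← Finset.mul_sum, ← Finset.mul_sum,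
      sum_ite_three] at hs
    obtain ⟨c, hc⟩ := four_dvd_card_of_mem_supports h3
    rw [hc] at hs
    have h24 : ∑ _i : GolayPt, (1 : ℤ) = 24 := by
      rw [Finset.sum_const, Finset.card_univ, card_golayPt]; rfl
    rw [h24] at hs
    push_cast at hs
    omega

/-- Nonzero lattice vectors have sum of squares at least 32. -/
theorem le_sqNorm {x : GolayPt → ℤ} (hx : x ∈ leechSet) (h0 : x ≠ 0) : 32 ≤ sqNorm x := by
  have h16 := sixteen_dvd_sqNorm hx
  unfold sqNorm at h16 ⊢
  rcases leechSet_cases hx with ⟨h1, h2, h3⟩ | ⟨h1, h2, h3⟩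
  · by_cases hA : resSet x 2 = ∅
    · have h4 : ∀ i, x i % 4 = 0 := by
        intro i
        have hi : i ∉ resSet x 2 := by rw [hA]; exact Finset.notMem_empty i
        rw [mem_resSet] at hi
        have := h1 i
        omega
      have hs := modEq_sum Finset.univ (fun i => x i ^ 2) (fun i => 4 * x i) 32
        (fun i _ => sq_four (x i) (h4 i))
      rw [← Finset.mul_sum] at hs
      obtain ⟨j, hj⟩ : ∃ j, x j ≠ 0 := by
        by_contra hcon
        push Not at hcon
        exact h0 (funext hcon)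
      have hpos : 1 ≤ ∑ i, x i ^ 2 := by
        have h1j : 1 ≤ x j ^ 2 := by
          rcases lt_or_gt_of_ne hj with h | h <;> nlinarith
        exact h1j.trans (Finset.single_le_sum (f := fun i => x i ^ 2)
          (fun i _ => sq_nonneg (x i)) (Finset.mem_univ j))
      omega
    · have h8 := eight_le_card_of_mem_supports h3 hA
      have hle : ∑ i ∈ resSet x 2, x i ^ 2 ≤ ∑ i, x i ^ 2 :=
        Finset.sum_le_sum_of_subset_of_nonneg (Finset.subset_univ _)
          (fun i _ _ => sq_nonneg (x i))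
      have hge : (resSet x 2).card • (4 : ℤ) ≤ ∑ i ∈ resSet x 2, x i ^ 2 := by
        apply Finset.card_nsmul_le_sum
        intro i hi
        rw [mem_resSet] at hi
        have h2' : x i ≤ -2 ∨ 2 ≤ x i := by omega
        rcases h2' with h | h <;> nlinarith
      rw [nsmul_eq_mul] at hge
      have h8' : (8 : ℤ) ≤ ((resSet x 2).card : ℤ) := by exact_mod_cast h8
      linarith
  · have hge : (Finset.univ : Finset GolayPt).card • (1 : ℤ) ≤ ∑ i, x i ^ 2 := by
      apply Finset.card_nsmul_le_sum
      intro i _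
      have hi := h1 i
      have h2' : x i ≤ -1 ∨ 1 ≤ x i := by omega
      rcases h2' with h | h <;> nlinarith
    rw [Finset.card_univ, card_golayPt, nsmul_eq_mul] at hge
    have h24 : ((24 : ℕ) : ℤ) * 1 = 24 := by norm_num
    rw [h24] at hge
    omega

theorem leechLattice_sixteen_dvd {x : GolayPt → ℤ} (hx : x ∈ leechLattice) :
    (16 : ℤ) ∣ sqNorm x :=
  sixteen_dvd_sqNorm ((mem_leechLattice_iff x).mp hx)

theorem leechLattice_le_sqNorm {x : GolayPt → ℤ} (hx : x ∈ leechLattice) (h0 : x ≠ 0) :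
    32 ≤ sqNorm x :=
  le_sqNorm ((mem_leechLattice_iff x).mp hx) h0

end Cfsg.Agent.Lib.helper27
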