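import Cfsg.Agent.Lib.helper27.OutSyl11
import Cfsg.Prelude.Def_Spor_Mathieu

set_option autoImplicit false

namespace Cfsg.Agent.Lib.helper27

open Cfsg Cfsg.Agent.Lib.helper28
open scoped Pointwise

/-! The outer automorphism group of the two-point stabilizer (the Mathieu group of degree 22). -/

/-- An element of order 4 conjugating the cube twist to its square. -/
def G22 : List ℕ := [0, 1, 18, 15, 6, 13, 2, 8, 10, 7, 9, 14, 21, 20, 17, 3, 5, 19, 4, 11, 16, 12, 22, 23]

theorem G22_in : tabIn [2 ^ 0, 2 ^ 23] G22 = true := by decide +kernel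

/-- The permutation with table `G22`. -/
def pG22 : Equiv.Perm GolayPt := tp [2 ^ 0, 2 ^ 23] G22 G22_in

theorem isTable_pG22 : IsTable pG22 G22 := isTable_tp _ _ _

theorem pG22_mem : pG22 ∈ stabM [2 ^ 0, 2 ^ 23] := tp_mem _ _ _

def m22Prog : List (ℕ × ℕ) :=
  [(0, 0), (0, 3), (0, 4), (0, 5), (0, 6), (0, 7), (0, 8), (0, 9), (0, 10), (1, 1), (1, 12), (1, 13), (2, 2), (2, 15), (0, 11), (1, 0), (11, 14), (0, 1), (14, 11), (0, 18), (19, 11), (0, 20), (21, 11), (1, 20), (21, 14), (2, 20), (21, 16), (2, 4), (9, 16), (2, 22), (23, 16), (2, 24), (25, 16), (2, 26), (27, 16), (0, 28), (29, 11), (2, 5), (8, 16), (0, 32), (33, 11), (0, 36), (37, 11), (0, 38), (39, 11), (1, 42), (43, 14), (1, 24), (25, 14), (25, 50), (51, 24), (1, 44), (45, 14), (39, 54), (55, 38), (52, 52), (53, 53), (56, 52), (53, 57), (52, 56), (57, 53), (56, 56), (57, 57), (56, 60), (61, 57), (52, 62), (63, 53), (56, 62), (63, 57), (52, 64), (65, 53), (56, 59), (58, 57), (52, 66), (67, 53), (56,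 68), (69, 57), (56, 70), (71, 57), (52, 72), (73, 53), (56, 53), (52, 57), (56, 74), (75, 57), (56, 76), (77, 57), (77, 88), (89, 76), (56, 66), (67, 57), (52, 92), (93, 53), (56, 80), (81, 57), (69, 96), (97, 68), (94, 90), (91, 95), (94, 94), (98, 94), (95, 99), (94, 98), (99, 95), (90, 100), (101, 91), (98, 100), (90, 102), (102, 91), (98, 102), (102, 99), (94, 105), (106, 95), (98, 105), (106, 99), (94, 107), (98, 107), (108, 99), (94, 110), (111, 95), (98, 110), (111, 99), (94, 112), (113, 95), (90, 98), (99, 91), (104, 127), (128, 103), (98, 98), (99, 99), (91, 131), (90, 116), (117, 91), (101, 134), (135, 100), (133, 129), (130, 133), (136, 129), (129, 133), (133, 130), (133, 136), (137, 133), (136, 130), (129, 137), (129, 138), (139, 130), (136, 140), (140, 137), (136, 142), (141, 137), (133, 145), (146, 133), (140, 139), (138, 140)]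

def m22Idx : List (ℕ × ℕ × List ℕ) :=
  [(1, 8388606, [17, 0, 1, 3, 18, 20, 4, 22, 24, 26, 28, 5, 30, 32, 34, 36, 38, 40, 42, 44, 46, 48]),
   (2, 8388604, [17, 52, 56, 58, 60, 62, 64, 59, 66, 68, 70, 72, 65, 53, 74, 76, 78, 80, 82, 84, 86]),
   (3, 8388600, [17, 90, 94, 98, 100, 102, 103, 105, 107, 109, 110, 112, 114, 116, 118, 119, 104, 121, 123, 125]),
   (4, 8241104, [17, 129, 133, 136, 130, 138, 140, 141, 143, 142, 145, 147, 149, 148, 151, 153]),
   (5, 147488, [17, 155, 156])]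

theorem m22Chain_ok :
    chainGen [2 ^ 0, 2 ^ 23] (slpChain (slpTabs m22Prog [mt 2, tabD, G22]) m22Idx) = true := by
  decide +kernel

theorem m22Chain_prod :
    chainProd (slpChain (slpTabs m22Prog [mt 2, tabD, G22]) m22Idx) = 443520 := by
  decide +kernel

theorem card_stabM_22 : Nat.card (stabM [2 ^ 0, 2 ^ 23]) = 443520 := by
  rw [← card_stabilizer_pair (pt 23) (pt 0) (by decide)]
  symm
  apply card_sub_eq _ _ (stabM_le_M24 _)
  intro g
  rw [Subgroup.mem_inf, MulAction.mem_stabilizer_iff, MulAction.mem_stabilizer_iff,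
    mem_stabM_cons_pt (by norm_num), mem_stabM_cons_pt (by norm_num), stabM_nil]
  constructor
  · rintro ⟨h1, h2⟩
    exact ⟨⟨g.2, h1⟩, h2⟩
  · rintro ⟨⟨_, h1⟩, h2⟩
    exact ⟨h1, h2⟩

theorem m22_gen : stabM [2 ^ 0, 2 ^ 23] ≤
    Subgroup.closure ({pY, cubeTwist, pG22} : Set (Equiv.Perm GolayPt)) := by
  apply stabM_le_of_slp _ [mt 2, tabD, G22] _ m22Prog m22Idx [2 ^ 0, 2 ^ 23] m22Chain_ok
  · rw [card_stabM_22, m22Chain_prod]
  · intro l hl
    simp only [List.mem_cons, List.not_mem_nil, or_false] at hl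
    rcases hl with rfl | rfl | rfl
    · exact ⟨_, Subgroup.subset_closure (by simp), isTable_pY⟩
    · exact ⟨_, Subgroup.subset_closure (by simp), isTable_D⟩
    · exact ⟨_, Subgroup.subset_closure (by simp), isTable_pG22⟩

theorem mem_stabM_22 (g : Equiv.Perm GolayPt) :
    g ∈ stabM [2 ^ 0, 2 ^ 23] ↔ g ∈ M24 ∧ g (pt 23) = pt 23 ∧ g (pt 0) = pt 0 := by
  rw [mem_stabM_cons_pt (by norm_num), mem_stabM_cons_pt (by norm_num), stabM_nil, and_assoc]

theorem M22_eq_stabM : Cfsg.Spor.M22 = stabM [2 ^ 0, 2 ^ 23] := by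
  have hpt : pt 23 = (none : GolayPt) := by decide
  have hpt0 : pt 0 = (some 0 : GolayPt) := by decide
  ext g
  rw [mem_stabM_22, hpt, hpt0]
  unfold Cfsg.Spor.M22 Cfsg.Spor.M23
  rw [Subgroup.mem_inf, Subgroup.mem_inf, and_assoc]
  exact Iff.rfl

theorem tab_gd22 : mulTab G22 tabD = mulTab (powTab tabD 2) G22 := by decide +kernel

theorem tab_gy22 : powTab (mulTab G22 (powTab (mt 2) 1)) 11 = idTab := by decide +kernel

theorem relChk22 : relChk G22 [(1, 11)] [mt 2] = true := by decide +kernel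

theorem R22L_chk : R22L.all (fun l => (List.range 5).any (fun i => l == powTab tabD i)) = true := by
  decide +kernel

theorem R22L_mem {l : List ℕ} (hl : l ∈ R22L) : ∃ i < 5, l = powTab tabD i := by
  have h := List.all_eq_true.mp R22L_chk l hl
  rw [List.any_eq_true] at h
  obtain ⟨i, hi, hli⟩ := h
  exact ⟨i, List.mem_range.mp hi, beq_iff_eq.mp hli⟩

/-- The centralizer of the cube twist in the two-point stabilizer. -/
theorem cent22 {c : Equiv.Perm GolayPt} (hc : c ∈ stabM [2 ^ 0, 2 ^ 23])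
    (hcd : c * cubeTwist = cubeTwist * c) : ∃ i < 5, c = cubeTwist ^ i := by
  rw [mem_stabM_22] at hc
  obtain ⟨hcM, h23, h0⟩ := hc
  obtain ⟨l, hl, hcl⟩ := centD_gen 8388608 1 16777215 R22L chkCentD_22 hcM hcd
    (by rw [h23, idx_pt (by norm_num)]; decide) (by rw [h0, idx_pt (by norm_num)]; decide)
    (by
      have := idx_lt (c (pt 3))
      generalize idx (c (pt 3)) = i at this
      interval_cases i <;> decide)
  obtain ⟨i, hi, rfl⟩ := R22L_mem hl
  exact ⟨i, hi, eq_of_isTable hcl (isTable_powTab isTable_D i)⟩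

/-- The outer automorphism group of the Mathieu group of degree 22 has order 2. -/
theorem card_out_M22 : Nat.card (Cfsg.Out ↥Cfsg.Spor.M22) = 2 := by
  have hK : Cfsg.Spor.M22 ≤ M24 := by rw [M22_eq_stabM]; exact stabM_le_M24 _
  have hmem : ∀ g : Equiv.Perm GolayPt, g ∈ M24 → g (pt 23) = pt 23 → g (pt 0) = pt 0 →
      g ∈ Cfsg.Spor.M22 := by
    intro g h1 h2 h3
    rw [M22_eq_stabM, mem_stabM_22]
    exact ⟨h1, h2, h3⟩
  have hY : pY ∈ Cfsg.Spor.M22 := hmem _ pY_mem
    (by rw [apply_tab isTable_pY (by norm_num)]; rfl)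
    (by rw [apply_tab isTable_pY (by norm_num)]; rfl)
  have hD : cubeTwist ∈ Cfsg.Spor.M22 := hmem _ cubeTwist_mem_M24
    (by rw [apply_tab isTable_D (by norm_num)]; rfl)
    (by rw [apply_tab isTable_D (by norm_num)]; rfl)
  have hG : pG22 ∈ Cfsg.Spor.M22 := by rw [M22_eq_stabM]; exact pG22_mem
  have hp : ¬ 11 ^ 2 ∣ Nat.card ↥Cfsg.Spor.M22 := by
    rw [M22_eq_stabM, card_stabM_22]; norm_num
  apply card_out_two Cfsg.Spor.M22 hK hp ⟨pY, hY⟩ ⟨cubeTwist, hD⟩ rfl rfl
  · -- the inversion normalizes the subgroup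
    intro x hx
    rw [M22_eq_stabM, mem_stabM_22] at hx
    obtain ⟨hxM, h23, h0⟩ := hx
    have hs23 : projInv (pt 23) = pt 0 := by rw [apply_tab isTable_S (by norm_num)]; rfl
    have hs0 : projInv (pt 0) = pt 23 := by rw [apply_tab isTable_S (by norm_num)]; rfl
    have hi23 : projInv⁻¹ (pt 23) = pt 0 := by rw [Equiv.Perm.inv_eq_iff_eq, hs0]
    have hi0 : projInv⁻¹ (pt 0) = pt 23 := by rw [Equiv.Perm.inv_eq_iff_eq, hs23]
    apply hmem
    · exact M24.mul_mem (M24.mul_mem projInv_mem_M24 hxM) (M24.inv_mem projInv_mem_M24)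
    · show projInv (x (projInv⁻¹ (pt 23))) = pt 23
      rw [hi23, h0, hs0]
    · show projInv (x (projInv⁻¹ (pt 0))) = pt 0
      rw [hi0, h23, hs23]
  · -- the inversion is not in the subgroup
    intro hs
    rw [M22_eq_stabM, mem_stabM_22] at hs
    have hs23 : projInv (pt 23) = pt 0 := by rw [apply_tab isTable_S (by norm_num)]; rfl
    rw [hs23] at hs
    exact absurd hs.2.1 (by decide)
  · intro ψ hψy hψd
    apply fin_of_g Cfsg.Spor.M22 ⟨pY, hY⟩ ⟨cubeTwist, hD⟩ ⟨pG22, hG⟩ rfl rfl G22 isTable_pG22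
      (Subtype.ext (eq_of_isTable (isTable_mulTab isTable_pG22 isTable_D)
        (by rw [tab_gd22]; exact isTable_mulTab (isTable_powTab isTable_D 2) isTable_pG22)))
      (fun c hcd => cent22 (by rw [← M22_eq_stabM]; exact c.2) hcd)
      ((le_of_eq M22_eq_stabM).trans m22_gen)
      [(1, 11)]
      (by
        intro r hr
        simp only [List.mem_cons, List.not_mem_nil, or_false] at hr
        subst hr
        exact Subtype.ext (pow_eq_one_of_powTab
          (isTable_mulTab isTable_pG22 (isTable_powTab isTable_pY 1)) 11 tab_gy22))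
      [mt 2] relChk22 ψ ⟨mt 2, by simp, by rw [hψy]; exact isTable_pY⟩ hψd

end Cfsg.Agent.Lib.helper27
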