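import Cfsg.Agent.Lib.helper27.BlkGrp
import Cfsg.Agent.Lib.helper27.M22BlkData
import Cfsg.Agent.Lib.helper27.OutM22
import Cfsg.Agent.Lib.helper27.Ord7

set_option autoImplicit false

/-! The two-point stabilizer in the group of the code has a single 2-block. -/

namespace Cfsg.Agent.Lib.helper27.B22

open Cfsg Cfsg.Agent.Lib.helper28 Cfsg.Agent.Lib.helper27 Cfsg.Agent.Lib.helper27.OF
open Cfsg.Agent.Lib.helper27.TB
open Cfsg.Agent.Lib.helper24 Cfsg.Agent.Lib.helper5 Cfsg.Agent.Lib.helper23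
open scoped Pointwise

/-! ### Function tables -/

/-- A permutation is described by a function on indices. -/
def Tbl (g : Equiv.Perm GolayPt) (f : ℕ → ℕ) : Prop := ∀ q < 24, idx (g (pt q)) = f q

theorem Tbl_of_isTable {g : Equiv.Perm GolayPt} {l : List ℕ} (h : IsTable g l) :
    Tbl g (fun q => l.getD q 0) := by
  intro q hq
  have := h (pt q)
  rw [idx_pt hq] at this
  exact this.symm

theorem Tbl_mul {g h : Equiv.Perm GolayPt} {f f' : ℕ → ℕ} (hg : Tbl g f) (hh : Tbl h f') :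
    Tbl (g * h) (fun q => f (f' q)) := by
  intro q hq
  rw [Equiv.Perm.mul_apply]
  have h1 := hh q hq
  have h2 := hg (idx (h (pt q))) (idx_lt _)
  rw [pt_idx] at h2
  rw [h2, h1]

theorem Tbl_one : Tbl 1 (fun q => q) := by
  intro q hq
  rw [Equiv.Perm.one_apply, idx_pt hq]

theorem Tbl_congr {g : Equiv.Perm GolayPt} {f f' : ℕ → ℕ} (hg : Tbl g f)
    (he : ∀ q < 24, f q = f' q) : Tbl g f' := fun q hq => (hg q hq).trans (he q hq)

theorem Tbl_pow {g : Equiv.Perm GolayPt} {f : ℕ → ℕ} (hg : Tbl g f) :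
    ∀ k, Tbl (g ^ k) (itr f k)
  | 0 => by rw [pow_zero]; exact Tbl_one
  | k + 1 => by rw [pow_succ]; exact Tbl_congr (Tbl_mul (Tbl_pow hg k) hg) (fun q _ => rfl)

theorem Tbl_ext {g h : Equiv.Perm GolayPt} {f f' : ℕ → ℕ} (hg : Tbl g f) (hh : Tbl h f')
    (he : ∀ q < 24, f q = f' q) : g = h := by
  apply Equiv.ext
  intro p
  have := (hg (idx p) (idx_lt p)).trans ((he _ (idx_lt p)).trans (hh (idx p) (idx_lt p)).symm)
  rw [pt_idx] at this
  exact idx_injective this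

theorem lk_packT : ∀ (l : List ℕ) (i : ℕ), (∀ v ∈ l, v < 32) → lk (packT l) i = l.getD i 0
  | [], i, _ => by
    show Nat.land (Nat.shiftRight 0 (Nat.mul 5 i)) 31 = 0
    have : Nat.shiftRight 0 (Nat.mul 5 i) = 0 := Nat.zero_shiftRight _
    rw [this]; rfl
  | a :: l, 0, h => by
    have ha := h a List.mem_cons_self
    show (a + 32 * packT l) &&& 31 = a
    have : (31 : ℕ) = 2 ^ 5 - 1 := by norm_num
    rw [this, Nat.and_two_pow_sub_one_eq_mod]
    omega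
  | a :: l, i + 1, h => by
    have ha := h a List.mem_cons_self
    have ih := lk_packT l i (fun v hv => h v (List.mem_cons_of_mem _ hv))
    show ((a + 32 * packT l) >>> (5 * (i + 1))) &&& 31 = l.getD i 0
    have e : (a + 32 * packT l) >>> (5 * (i + 1)) = packT l >>> (5 * i) := by
      rw [show 5 * (i + 1) = 5 + 5 * i by ring, Nat.shiftRight_add]
      congr 1
      rw [Nat.shiftRight_eq_div_pow]
      omega
    rw [e]
    exact ih

theorem Tbl_pack (c : Equiv.Perm GolayPt) : Tbl c (lk (packT (tblOf c))) := by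
  apply Tbl_congr (Tbl_of_isTable (isTable_tblOf c))
  intro q _
  exact (lk_packT _ q (tblOf_lt c)).symm

/-! ### The generators and words -/

/-- The generators and their inverses. -/
noncomputable def genPerm : ℕ → Equiv.Perm GolayPt
  | 0 => pY
  | 1 => cubeTwist
  | 2 => pG22
  | 3 => pY ^ 10
  | 4 => cubeTwist ^ 4
  | _ => pG22 ^ 3

theorem genT_eq : genT 0 = mt 2 ∧ genT 1 = tabD ∧ genT 2 = G22 ∧ genT 3 = powTab (mt 2) 10 ∧
    genT 4 = powTab tabD 4 ∧ genT 5 = powTab G22 3 := by decide +kernel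

theorem gen_cases (g : ℕ) : g = 0 ∨ g = 1 ∨ g = 2 ∨ g = 3 ∨ g = 4 ∨
    (genPerm g = genPerm 5 ∧ genP g = genP 5) := by
  match g with
  | 0 => exact Or.inl rfl
  | 1 => exact Or.inr (Or.inl rfl)
  | 2 => exact Or.inr (Or.inr (Or.inl rfl))
  | 3 => exact Or.inr (Or.inr (Or.inr (Or.inl rfl)))
  | 4 => exact Or.inr (Or.inr (Or.inr (Or.inr (Or.inl rfl))))
  | n + 5 => exact Or.inr (Or.inr (Or.inr (Or.inr (Or.inr ⟨rfl, rfl⟩))))

theorem isTable_gen5 : IsTable (genPerm 0) (genT 0) ∧ IsTable (genPerm 1) (genT 1) ∧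
    IsTable (genPerm 2) (genT 2) ∧ IsTable (genPerm 3) (genT 3) ∧
    IsTable (genPerm 4) (genT 4) ∧ IsTable (genPerm 5) (genT 5) := by
  obtain ⟨h0, h1, h2, h3, h4, h5⟩ := genT_eq
  rw [h0, h1, h2, h3, h4, h5]
  exact ⟨isTable_pY, isTable_D, isTable_pG22, isTable_powTab isTable_pY 10,
    isTable_powTab isTable_D 4, isTable_powTab isTable_pG22 3⟩

theorem Tbl_gen (g : ℕ) : Tbl (genPerm g) (lk (genP g)) := by
  obtain ⟨h0, h1, h2, h3, h4, h5⟩ := isTable_gen5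
  have key : ∀ i < 6, IsTable (genPerm i) (genT i) → Tbl (genPerm i) (lk (genP i)) := by
    intro i hi ht
    apply Tbl_congr (Tbl_of_isTable ht)
    intro q hq
    have := allLt_spec (allLt_spec genP_ok i hi) q hq
    exact (Nat.eq_of_beq_eq_true this).symm
  rcases gen_cases g with rfl | rfl | rfl | rfl | rfl | ⟨e1, e2⟩
  · exact key 0 (by norm_num) h0
  · exact key 1 (by norm_num) h1
  · exact key 2 (by norm_num) h2
  · exact key 3 (by norm_num) h3
  · exact key 4 (by norm_num) h4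
  · rw [e1, e2]; exact key 5 (by norm_num) h5

theorem pY_mem22 : pY ∈ stabM [2 ^ 0, 2 ^ 23] := by
  rw [mem_stabM_22]
  exact ⟨pY_mem, by rw [apply_tab isTable_pY (by norm_num)]; rfl,
    by rw [apply_tab isTable_pY (by norm_num)]; rfl⟩

theorem D_mem22 : cubeTwist ∈ stabM [2 ^ 0, 2 ^ 23] := by
  rw [mem_stabM_22]
  exact ⟨cubeTwist_mem_M24, by rw [apply_tab isTable_D (by norm_num)]; rfl,
    by rw [apply_tab isTable_D (by norm_num)]; rfl⟩

theorem gen_mem (g : ℕ) : genPerm g ∈ stabM [2 ^ 0, 2 ^ 23] := by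
  rcases gen_cases g with rfl | rfl | rfl | rfl | rfl | ⟨e1, -⟩
  · exact pY_mem22
  · exact D_mem22
  · exact pG22_mem
  · exact Subgroup.pow_mem _ pY_mem22 _
  · exact Subgroup.pow_mem _ D_mem22 _
  · rw [e1]; exact Subgroup.pow_mem _ pG22_mem _

/-- The permutation of a word. -/
noncomputable def wordPerm (w : List ℕ) : Equiv.Perm GolayPt := (w.map genPerm).prod

theorem Tbl_word : ∀ w : List ℕ, Tbl (wordPerm w) (appW w)
  | [] => by
    show Tbl 1 _
    exact Tbl_one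
  | g :: w => by
    have : wordPerm (g :: w) = genPerm g * wordPerm w := by
      unfold wordPerm; rw [List.map_cons, List.prod_cons]
    rw [this]
    exact Tbl_congr (Tbl_mul (Tbl_gen g) (Tbl_word w)) (fun q _ => rfl)

theorem word_mem (w : List ℕ) : wordPerm w ∈ stabM [2 ^ 0, 2 ^ 23] := by
  apply Subgroup.list_prod_mem
  intro x hx
  rw [List.mem_map] at hx
  obtain ⟨g, -, rfl⟩ := hx
  exact gen_mem g

/-! ### The involutions -/

theorem E0nz_move : E0nz.all (fun e => !(e.getD 5 0 == 5)) = true := by decide +kernel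

theorem mem22_eq (g : Equiv.Perm GolayPt) : g ∈ Cfsg.Spor.M22 ↔ g ∈ stabM [2 ^ 0, 2 ^ 23] := by
  rw [M22_eq_stabM]

theorem octA_spec (z : ℕ × List ℕ × List ℕ) (hz : z ∈ octA) :
    ∃ a b : Equiv.Perm GolayPt, a ∈ M24 ∧ IsTable a z.2.1 ∧ IsTable b z.2.2 ∧ b = a⁻¹ ∧
      a • setOf o0 = setOf z.1 ∧ pt 0 ∈ setOf z.1 ∧ pt 23 ∈ setOf z.1 := by
  have h := List.all_eq_true.mp octA_ok z hz
  simp only [Bool.and_eq_true, beq_iff_eq] at h
  obtain ⟨⟨⟨⟨⟨hA, hB⟩, hAB⟩, hm⟩, h0⟩, h23⟩ := h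
  obtain ⟨a, ha, hat⟩ := tabIn_spec hA
  rw [stabM_nil] at ha
  have hbt := isTable_tabPerm z.2.2 hB
  have hab : a * tabPerm z.2.2 hB = 1 := by
    apply eq_of_isTable (isTable_mulTab hat hbt)
    rw [hAB]; exact isTable_one
  have hb : tabPerm z.2.2 hB = a⁻¹ := (inv_eq_of_mul_eq_one_right hab).symm
  refine ⟨a, tabPerm z.2.2 hB, ha, hat, hbt, hb, ?_, ?_, ?_⟩
  · have := inv_smul_setOf hbt o0
    rw [hb, inv_inv, hm] at this
    exact this
  · rw [mem_setOf, idx_pt (by norm_num)]; exact h0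
  · rw [mem_setOf, idx_pt (by norm_num)]; exact h23

theorem length_mulTab (l1 l2 : List ℕ) : (mulTab l1 l2).length = 24 := by simp [mulTab]

theorem invT_length (l : List ℕ) (hl : l ∈ invT) : l.length = 24 := by
  unfold invT at hl
  rw [List.mem_flatMap] at hl
  obtain ⟨z, -, hl⟩ := hl
  rw [List.mem_map] at hl
  obtain ⟨e, -, rfl⟩ := hl
  exact length_mulTab _ _

/-- Every table of the list is the table of an involution of the subgroup. -/
theorem exists_invT (l : List ℕ) (hl : l ∈ invT) :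
    ∃ g : Equiv.Perm GolayPt, g ∈ stabM [2 ^ 0, 2 ^ 23] ∧ IsTable g l ∧ g * g = 1 ∧ g ≠ 1 := by
  unfold invT at hl
  rw [List.mem_flatMap] at hl
  obtain ⟨z, hz, hl⟩ := hl
  rw [List.mem_map] at hl
  obtain ⟨e, he, rfl⟩ := hl
  obtain ⟨a, b, ha, hat, hbt, hb, hsm, h0, h23⟩ := octA_spec z hz
  have he1 := List.all_eq_true.mp E0nz_ok e he
  have he2 := List.all_eq_true.mp E0nz_move e he
  rw [Bool.and_eq_true] at he1
  obtain ⟨e₀, he₀, he₀t⟩ := tabIn_spec he1.1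
  rw [← fixer_o0_eq] at he₀
  have hg : IsTable (a * e₀ * b) (mulTab (mulTab z.2.1 e) z.2.2) :=
    isTable_mulTab (isTable_mulTab hat he₀t) hbt
  have hfix : a * e₀ * b ∈ fixer (a • setOf o0) := by
    rw [mem_fixer_smul_iff ha, hb]
    have : a⁻¹ * (a * e₀ * a⁻¹) * a = e₀ := by group
    rw [this]; exact he₀
  rw [hsm, mem_fixer] at hfix
  refine ⟨a * e₀ * b, ?_, hg, ?_, ?_⟩
  · rw [mem_stabM_22]
    exact ⟨hfix.1, hfix.2 _ h23, hfix.2 _ h0⟩
  · have h1 := sq_eq_one_of_mem_fixer_o0 he₀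
    rw [hb]
    calc a * e₀ * a⁻¹ * (a * e₀ * a⁻¹) = a * (e₀ * e₀) * a⁻¹ := by group
      _ = 1 := by rw [h1]; group
  · intro h1
    have he₀1 : e₀ = 1 := by
      rw [hb] at h1
      have h2 := congrArg (fun x => a⁻¹ * x * a) h1
      simp only [mul_one, inv_mul_cancel] at h2
      rw [← h2]; group
    rw [he₀1] at he₀t
    have := he₀t (pt 5)
    rw [idx_pt (by norm_num), Equiv.Perm.one_apply, idx_pt (by norm_num)] at this
    rw [this] at he2
    exact absurd he2 (by decide)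

/-- The element of the subgroup with a given table. -/
noncomputable def elT (l : List ℕ) : ↥Cfsg.Spor.M22 :=
  @dite _ (∃ g : ↥Cfsg.Spor.M22, IsTable (g : Equiv.Perm GolayPt) l) (Classical.propDecidable _)
    (fun h => h.choose) (fun _ => 1)

theorem elT_spec (l : List ℕ) (hl : l ∈ invT) :
    IsTable (elT l : Equiv.Perm GolayPt) l ∧ elT l * elT l = 1 ∧ elT l ≠ 1 := by
  obtain ⟨g, hg, hgt, hsq, hne⟩ := exists_invT l hl
  have hex : ∃ g : ↥Cfsg.Spor.M22, IsTable (g : Equiv.Perm GolayPt) l :=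
    ⟨⟨g, (mem22_eq g).mpr hg⟩, hgt⟩
  have ht : IsTable (elT l : Equiv.Perm GolayPt) l := by
    unfold elT
    rw [dif_pos hex]
    exact hex.choose_spec
  have heq : (elT l : Equiv.Perm GolayPt) = g := eq_of_isTable ht hgt
  refine ⟨ht, ?_, ?_⟩
  · apply Subtype.ext
    rw [Subgroup.coe_mul, heq, hsq]; rfl
  · intro h1
    apply hne
    rw [← heq, h1]; rfl

theorem elT_eq {l : List ℕ} (hl : l ∈ invT) {t : ↥Cfsg.Spor.M22}
    (ht : IsTable (t : Equiv.Perm GolayPt) l) : elT l = t :=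
  Subtype.ext (eq_of_isTable (elT_spec l hl).1 ht)

/-- Every involution of the subgroup is in the list. -/
theorem inv_complete (t : ↥Cfsg.Spor.M22) (ht : orderOf t = 2) : ∃ l ∈ invT, elT l = t := by
  have htm := (mem22_eq _).mp t.2
  rw [mem_stabM_22] at htm
  obtain ⟨htM, h23, h0⟩ := htm
  have hord : orderOf (t : Equiv.Perm GolayPt) = 2 := by rw [Subgroup.orderOf_coe]; exact ht
  have hO := fix_octad htM hord (pt 0) h0
  obtain ⟨O, hOdef⟩ : ∃ O : Finset GolayPt,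
      O = Finset.univ.filter fun q => (t : Equiv.Perm GolayPt) q = q := ⟨_, rfl⟩
  rw [← hOdef] at hO
  have hp0 : pt 0 ∈ O := by rw [hOdef]; exact Finset.mem_filter.mpr ⟨Finset.mem_univ _, h0⟩
  have hp23 : pt 23 ∈ O := by rw [hOdef]; exact Finset.mem_filter.mpr ⟨Finset.mem_univ _, h23⟩
  obtain ⟨hcw, hpc⟩ := (mem_octads_iff O).mp hO
  obtain ⟨n, hn, hmn⟩ := (isCW_iff_exists (maskS_lt O)).mp hcw
  have hb0 : (maskS O).testBit 0 = true := by
    have := hp0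
    rw [← setOf_maskS O, mem_setOf, idx_pt (by norm_num)] at this
    exact this
  have hb23 : (maskS O).testBit 23 = true := by
    have := hp23
    rw [← setOf_maskS O, mem_setOf, idx_pt (by norm_num)] at this
    exact this
  have hc := allLt_spec oct_complete n hn
  rw [← hmn, hpc, hb0, hb23] at hc
  simp only [beq_self_eq_true, Bool.and_self, Bool.not_true, Bool.false_or] at hc
  rw [List.any_eq_true] at hc
  obtain ⟨z, hz, hzm⟩ := hc
  rw [beq_iff_eq] at hzm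
  obtain ⟨a, b, ha, hat, hbt, hb, hsm, -, -⟩ := octA_spec z hz
  rw [hzm, setOf_maskS] at hsm
  have hfix : (t : Equiv.Perm GolayPt) ∈ fixer (a • setOf o0) := by
    rw [hsm, hOdef]; exact mem_fixer_fix htM
  rw [mem_fixer_smul_iff ha] at hfix
  rcases fixer_o0_table hfix with h1 | ⟨e, he, het⟩
  · exfalso
    have : (t : Equiv.Perm GolayPt) = 1 := by
      have h2 := congrArg (fun x => a * x * a⁻¹) h1
      simp only [mul_one, mul_inv_cancel] at h2
      rw [← h2]; group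
    rw [this, orderOf_one] at hord
    exact absurd hord (by norm_num)
  · have hl : mulTab (mulTab z.2.1 e) z.2.2 ∈ invT := by
      unfold invT
      rw [List.mem_flatMap]
      exact ⟨z, hz, List.mem_map.mpr ⟨e, he, rfl⟩⟩
    refine ⟨_, hl, elT_eq hl ?_⟩
    have : (t : Equiv.Perm GolayPt) = a * (a⁻¹ * (t : Equiv.Perm GolayPt) * a) * b := by
      rw [hb]; group
    rw [this]
    exact isTable_mulTab (isTable_mulTab hat het) hbt

theorem memP_of_mem : ∀ (l : List ℕ) (x : ℕ), x ∈ l → memP l x = true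
  | [], _, h => by simp at h
  | a :: l, x, h => by
    unfold memP
    rw [Bool.or_eq_true]
    rcases List.mem_cons.mp h with h | h
    · left; rw [h]; exact Nat.beq_refl a
    · right; exact memP_of_mem l x h

theorem nodupB_spec : ∀ l : List ℕ, nodupB l = true → l.Nodup
  | [], _ => List.nodup_nil
  | a :: l, h => by
    unfold nodupB at h
    rw [Bool.and_eq_true] at h
    rw [List.nodup_cons]
    refine ⟨fun ha => ?_, nodupB_spec l h.2⟩
    rw [memP_of_mem l a ha] at h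
    exact absurd h.1 (by decide)

theorem invT_nodup : invT.Nodup := by
  have h := nodupB_spec pkL pkL_nodup
  rw [← pkL_eq] at h
  exact List.Nodup.of_map _ h

theorem elT_tbl (l : List ℕ) (hl : l ∈ invT) : l = tblOf (elT l : Equiv.Perm GolayPt) :=
  eq_tblOf (elT_spec l hl).1 (invT_length l hl)

theorem elT_nodup : (invT.map elT).Nodup := by
  apply List.Nodup.map_on _ invT_nodup
  intro l₁ h₁ l₂ h₂ h
  rw [elT_tbl l₁ h₁, elT_tbl l₂ h₂, h]

theorem elT_order (l : List ℕ) (hl : l ∈ invT) : orderOf (elT l) = 2 := by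
  obtain ⟨-, hsq, hne⟩ := elT_spec l hl
  exact orderOf_eq_prime (by rw [pow_two]; exact hsq) hne

theorem Tbl_elT (l : List ℕ) (hl : l ∈ invT) :
    Tbl (elT l : Equiv.Perm GolayPt) (lk (packT l)) := by
  have := Tbl_pack (elT l : Equiv.Perm GolayPt)
  rw [← elT_tbl l hl] at this
  exact this

/-! ### The class representatives and the local data -/

/-- The element conjugating the element of order 7 into the subgroup. -/
def a7T : List ℕ := [21, 22, 0, 1, 2, 3, 4, 5, 6, 7, 8, 9, 10, 11, 12, 13, 14, 15, 16, 17, 18, 19, 20, 23]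

/-- An element normalizing the subgroup of order 7. -/
def n7T : List ℕ := [0, 1, 4, 3, 22, 20, 10, 18, 6, 7, 8, 12, 17, 13, 19, 5, 16, 11, 9, 21, 15, 14, 2, 23]

/-- Generators of a Sylow 3-subgroup. -/
def a3T : List ℕ := [0, 17, 2, 3, 7, 1, 6, 22, 11, 13, 21, 19, 16, 18, 14, 10, 20, 5, 9, 8, 12, 15, 4, 23]

def b3T : List ℕ := [0, 1, 14, 2, 12, 5, 6, 16, 19, 4, 21, 8, 9, 7, 3, 10, 13, 17, 22, 11, 18, 15, 20, 23]

/-- Involutions commuting with the elements of the Sylow 3-subgroup. -/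
def S3T : ℕ → ℕ → List ℕ × ℕ
  | 0, 1 => ([0, 5, 22, 18, 7, 1, 17, 4, 8, 13, 10, 11, 16, 9, 20, 15, 12, 6, 3, 19, 14, 21, 2, 23], 1)
  | 0, 2 => ([0, 5, 22, 18, 7, 1, 17, 4, 8, 13, 10, 11, 16, 9, 20, 15, 12, 6, 3, 19, 14, 21, 2, 23], 1)
  | 1, 0 => ([0, 7, 6, 14, 5, 4, 2, 1, 8, 12, 10, 11, 9, 16, 3, 15, 13, 22, 20, 19, 18, 21, 17, 23], 1)
  | 1, 1 => ([0, 1, 2, 3, 10, 5, 11, 12, 19, 22, 4, 6, 7, 20, 14, 16, 15, 17, 21, 8, 13, 18, 9, 23], 4)
  | 1, 2 => ([0, 1, 2, 3, 18, 5, 15, 20, 22, 19, 21, 16, 13, 12, 14, 6, 11, 17, 4, 9, 7, 10, 8, 23], 4)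
  | 2, 0 => ([0, 7, 6, 14, 5, 4, 2, 1, 8, 12, 10, 11, 9, 16, 3, 15, 13, 22, 20, 19, 18, 21, 17, 23], 1)
  | 2, 1 => ([0, 1, 2, 3, 18, 5, 15, 20, 22, 19, 21, 16, 13, 12, 14, 6, 11, 17, 4, 9, 7, 10, 8, 23], 4)
  | 2, 2 => ([0, 1, 2, 3, 10, 5, 11, 12, 19, 22, 4, 6, 7, 20, 14, 16, 15, 17, 21, 8, 13, 18, 9, 23], 4)
  | _, _ => (idTab, 0)

theorem a7T_ok : tabIn [] a7T && (mulTab a7T tE7 == mulTab (repT 1) a7T) && (a7T.getD 2 0 == 0)
    && (a7T.getD 23 0 == 23) = true := by decide +kernel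

theorem T7_in : tabIn [2 ^ 0, 2 ^ 23] (repT 1) = true := by decide +kernel

theorem n7T_in : tabIn [2 ^ 0, 2 ^ 23] n7T = true := by decide +kernel

theorem n7T_rel : mulTab n7T (repT 1) = mulTab (powTab (repT 1) 2) n7T := by decide +kernel

theorem repT_eq : repT 0 = tabD ∧ repT 2 = powTab (repT 1) 6 ∧ repT 3 = mt 2 ∧
    repT 4 = powTab (mt 2) 10 := by decide +kernel

theorem c7RC_chk : c7RC.all (fun r => !(lk r 2 == 2 && lk r 23 == 23) ||
    (List.range 7).any (fun i => r == packT (powTab tE7 i))) = true := by decide +kernel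

theorem a3T_in : tabIn [2 ^ 0, 2 ^ 23] a3T = true := by decide +kernel

theorem b3T_in : tabIn [2 ^ 0, 2 ^ 23] b3T = true := by decide +kernel

theorem S3_rel : (mulTab a3T b3T == mulTab b3T a3T) && (powTab a3T 3 == idTab) &&
    (powTab b3T 3 == idTab) = true := by decide +kernel

theorem S3_inj : ∀ i j k l : Fin 3, mulTab (powTab a3T i) (powTab b3T j)
    = mulTab (powTab a3T k) (powTab b3T l) → i = k ∧ j = l := by decide +kernel

theorem S3T_ok : ∀ i j : Fin 3, (i = 0 ∧ j = 0) ∨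
    (tabIn [2 ^ 0, 2 ^ 23] (S3T i j).1 && sqOne (S3T i j).1 &&
      !((S3T i j).1.getD (S3T i j).2 0 == (S3T i j).2) && decide ((S3T i j).2 < 24) &&
      (mulTab (S3T i j).1 (mulTab (powTab a3T i) (powTab b3T j))
        == mulTab (mulTab (powTab a3T i) (powTab b3T j)) (S3T i j).1)) = true := by
  decide +kernel

/-! ### Elements of the subgroup -/

/-- An element of the subgroup from a permutation. -/
def mkG (g : Equiv.Perm GolayPt) (h : g ∈ stabM [2 ^ 0, 2 ^ 23]) : ↥Cfsg.Spor.M22 :=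
  ⟨g, (mem22_eq g).mpr h⟩

theorem card_G : Nat.card ↥Cfsg.Spor.M22 = 443520 := by
  rw [M22_eq_stabM]; exact card_stabM_22

/-- The element of order 7. -/
noncomputable def e7p : Equiv.Perm GolayPt := tp [2 ^ 0, 2 ^ 23] (repT 1) T7_in

theorem e7p_table : IsTable e7p (repT 1) := isTable_tp _ _ _

theorem e7p_mem : e7p ∈ stabM [2 ^ 0, 2 ^ 23] := tp_mem _ _ _

/-- The normalizing element of order 3. -/
noncomputable def n7p : Equiv.Perm GolayPt := tp [2 ^ 0, 2 ^ 23] n7T n7T_in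

/-- The class representatives. -/
noncomputable def rP : ℕ → Equiv.Perm GolayPt
  | 0 => cubeTwist
  | 1 => e7p
  | 2 => e7p ^ 6
  | 3 => pY
  | _ => pY ^ 10

theorem rP_table (k : ℕ) (hk : k < 5) : IsTable (rP k) (repT k) := by
  obtain ⟨h0, h2, h3, h4⟩ := repT_eq
  interval_cases k
  · rw [h0]; exact isTable_D
  · exact e7p_table
  · rw [h2]; exact isTable_powTab e7p_table 6
  · rw [h3]; exact isTable_pY
  · rw [h4]; exact isTable_powTab isTable_pY 10

theorem rP_mem (k : ℕ) : rP k ∈ stabM [2 ^ 0, 2 ^ 23] := by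
  match k with
  | 0 => exact D_mem22
  | 1 => exact e7p_mem
  | 2 => exact Subgroup.pow_mem _ e7p_mem _
  | 3 => exact pY_mem22
  | n + 4 => exact Subgroup.pow_mem _ pY_mem22 _

theorem Tbl_rP (k : ℕ) (hk : k < 5) : Tbl (rP k) (lk (repP k)) := by
  apply Tbl_congr (Tbl_of_isTable (rP_table k hk))
  intro q hq
  have := allLt_spec (allLt_spec repP_ok k hk) q hq
  exact (Nat.eq_of_beq_eq_true this).symm

/-- The class representatives as elements of the subgroup. -/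
noncomputable def xr (k : ℕ) : ↥Cfsg.Spor.M22 := mkG (rP k) (rP_mem k)

theorem coe_xr (k : ℕ) : ((xr k : ↥Cfsg.Spor.M22) : Equiv.Perm GolayPt) = rP k := rfl

theorem D_pow5 : cubeTwist ^ 5 = 1 := pow_eq_one_of_powTab isTable_D 5 (by decide +kernel)

theorem D_ne : cubeTwist ≠ 1 := ne_one_of_table isTable_D (i := 1) (by norm_num) (by decide)

theorem e7p_pow : e7p ^ 7 = 1 := pow_eq_one_of_powTab e7p_table 7 (by decide +kernel)

theorem e7p_ne : e7p ≠ 1 := ne_one_of_table e7p_table (i := 1) (by norm_num) (by decide)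

theorem order_xr0 : orderOf (xr 0) = 5 := by
  haveI : Fact (Nat.Prime 5) := ⟨by norm_num⟩
  apply orderOf_eq_prime
  · apply Subtype.ext
    rw [Subgroup.coe_pow, coe_xr]; exact D_pow5
  · intro h
    exact D_ne (congrArg Subtype.val h)

theorem order_xr1 : orderOf (xr 1) = 7 := by
  haveI : Fact (Nat.Prime 7) := ⟨by norm_num⟩
  apply orderOf_eq_prime
  · apply Subtype.ext
    rw [Subgroup.coe_pow, coe_xr]; exact e7p_pow
  · intro h
    exact e7p_ne (congrArg Subtype.val h)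

theorem order_xr3 : orderOf (xr 3) = 11 := by
  haveI : Fact (Nat.Prime 11) := ⟨by norm_num⟩
  apply orderOf_eq_prime
  · apply Subtype.ext
    rw [Subgroup.coe_pow, coe_xr]; exact pY_pow
  · intro h
    exact pY_ne_one (congrArg Subtype.val h)

theorem xr2_eq : xr 2 = (xr 1)⁻¹ := by
  apply eq_inv_of_mul_eq_one_left
  apply Subtype.ext
  rw [Subgroup.coe_mul, coe_xr, coe_xr]
  show e7p ^ 6 * e7p = 1
  rw [← pow_succ]; exact e7p_pow

theorem xr4_eq : xr 4 = (xr 3)⁻¹ := by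
  apply eq_inv_of_mul_eq_one_left
  apply Subtype.ext
  rw [Subgroup.coe_mul, coe_xr, coe_xr]
  show pY ^ 10 * pY = 1
  rw [← pow_succ]; exact pY_pow

/-- The normalizing elements. -/
noncomputable def gG : ↥Cfsg.Spor.M22 := mkG pG22 pG22_mem

noncomputable def nG : ↥Cfsg.Spor.M22 := mkG n7p (tp_mem _ _ _)

theorem rel5 : gG * xr 0 = xr 0 ^ 2 * gG := by
  apply Subtype.ext
  rw [Subgroup.coe_mul, Subgroup.coe_mul, Subgroup.coe_pow, coe_xr]
  show pG22 * cubeTwist = cubeTwist ^ 2 * pG22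
  apply eq_of_isTable (isTable_mulTab isTable_pG22 isTable_D)
  rw [tab_gd22]
  exact isTable_mulTab (isTable_powTab isTable_D 2) isTable_pG22

theorem rel7 : nG * xr 1 = xr 1 ^ 2 * nG := by
  apply Subtype.ext
  rw [Subgroup.coe_mul, Subgroup.coe_mul, Subgroup.coe_pow, coe_xr]
  show n7p * e7p = e7p ^ 2 * n7p
  apply eq_of_isTable (isTable_mulTab (isTable_tp _ _ _) e7p_table)
  rw [n7T_rel]
  exact isTable_mulTab (isTable_powTab e7p_table 2) (isTable_tp _ _ _)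

theorem rel11 : xr 0 * xr 3 = xr 3 ^ 3 * xr 0 := by
  apply Subtype.ext
  rw [Subgroup.coe_mul, Subgroup.coe_mul, Subgroup.coe_pow, coe_xr, coe_xr]
  exact rel_dy

theorem cent5 (c : ↥Cfsg.Spor.M22) (hc : c * xr 0 = xr 0 * c) : ∃ i : ℕ, c = xr 0 ^ i := by
  obtain ⟨i, -, hi⟩ := cent22 ((mem22_eq _).mp c.2) (congrArg Subtype.val hc)
  exact ⟨i, Subtype.ext (by rw [Subgroup.coe_pow, coe_xr]; exact hi)⟩

theorem cent11 (c : ↥Cfsg.Spor.M22) (hc : c * xr 3 = xr 3 * c) : ∃ i : ℕ, c = xr 3 ^ i := by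
  have hcM : (c : Equiv.Perm GolayPt) ∈ M24 := stabM_le_M24 _ ((mem22_eq _).mp c.2)
  obtain ⟨i, -, hi⟩ := centY hcM isTable_pY (congrArg Subtype.val hc)
  exact ⟨i, Subtype.ext (by rw [Subgroup.coe_pow, coe_xr]; exact hi)⟩

theorem length_powTab (l : List ℕ) : ∀ n, (powTab l n).length = 24
  | 0 => by simp [powTab, idTab]
  | n + 1 => length_mulTab _ _

theorem cent7 (c : ↥Cfsg.Spor.M22) (hc : c * xr 1 = xr 1 * c) : ∃ i : ℕ, c = xr 1 ^ i := by
  have hcm := (mem22_eq _).mp c.2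
  rw [mem_stabM_22] at hcm
  obtain ⟨hcM, h23, h0⟩ := hcm
  have hA := a7T_ok
  simp only [Bool.and_eq_true, beq_iff_eq, decide_eq_true_eq] at hA
  obtain ⟨⟨⟨hAin, hArel⟩, hA2⟩, hA23⟩ := hA
  obtain ⟨a, ha, hat⟩ := tabIn_spec hAin
  rw [stabM_nil] at ha
  have hrel : a * e7 = e7p * a := by
    apply eq_of_isTable (isTable_mulTab hat e7_table)
    rw [hArel]
    exact isTable_mulTab e7p_table hat
  have ha2 : a (pt 2) = pt 0 := by
    rw [apply_tab hat (by norm_num), hA2]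
  have ha23 : a (pt 23) = pt 23 := by
    rw [apply_tab hat (by norm_num), hA23]
  have hc' : (c : Equiv.Perm GolayPt) * e7p = e7p * (c : Equiv.Perm GolayPt) :=
    congrArg Subtype.val hc
  obtain ⟨c', hc'def⟩ : ∃ c' : Equiv.Perm GolayPt, c' = a⁻¹ * (c : Equiv.Perm GolayPt) * a :=
    ⟨_, rfl⟩
  have hc'M : c' ∈ M24 := by
    rw [hc'def]; exact M24.mul_mem (M24.mul_mem (M24.inv_mem ha) hcM) ha
  have hcomm : c' * e7 = e7 * c' := by
    have e1 : e7 = a⁻¹ * e7p * a := by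
      rw [mul_assoc]; exact eq_inv_mul_of_mul_eq hrel
    rw [hc'def]
    calc a⁻¹ * (c : Equiv.Perm GolayPt) * a * e7
        = a⁻¹ * ((c : Equiv.Perm GolayPt) * e7p) * a := by rw [mul_assoc, hrel]; group
      _ = a⁻¹ * (e7p * (c : Equiv.Perm GolayPt)) * a := by rw [hc']
      _ = e7 * (a⁻¹ * (c : Equiv.Perm GolayPt) * a) := by rw [e1]; group
  have hpk := c7_packC hc'M hcomm
  have hchk := List.all_eq_true.mp c7RC_chk _ hpk
  have hT := Tbl_pack c'
  have h2 : lk (packT (tblOf c')) 2 = 2 := by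
    rw [← hT 2 (by norm_num), hc'def]
    simp only [Equiv.Perm.mul_apply]
    rw [ha2, h0, ← ha2]
    have : a⁻¹ (a (pt 2)) = pt 2 := a.symm_apply_apply _
    rw [this, idx_pt (by norm_num)]
  have h23' : lk (packT (tblOf c')) 23 = 23 := by
    rw [← hT 23 (by norm_num), hc'def]
    simp only [Equiv.Perm.mul_apply]
    rw [ha23, h23]
    have : a⁻¹ (pt 23) = pt 23 := by
      conv_lhs => rw [← ha23]
      exact a.symm_apply_apply _
    rw [this, idx_pt (by norm_num)]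
  rw [h2, h23'] at hchk
  simp only [beq_self_eq_true, Bool.and_self, Bool.not_true, Bool.false_or] at hchk
  rw [List.any_eq_true] at hchk
  obtain ⟨i, -, hi⟩ := hchk
  rw [beq_iff_eq] at hi
  have hpow : powTab tE7 i = tblOf (e7 ^ i) :=
    eq_tblOf (isTable_powTab e7_table i) (length_powTab _ _)
  rw [hpow] at hi
  have hci : c' = e7 ^ i := packT_tblOf_inj hi
  refine ⟨i, Subtype.ext ?_⟩
  rw [Subgroup.coe_pow, coe_xr]
  show (c : Equiv.Perm GolayPt) = e7p ^ i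
  have e2 : e7p = a * e7 * a⁻¹ := by rw [hrel]; group
  have e3 : (c : Equiv.Perm GolayPt) = a * c' * a⁻¹ := by rw [hc'def]; group
  rw [e3, hci, e2, conj_pow]

/-! ### The Sylow 3-subgroup -/

noncomputable def a3p : Equiv.Perm GolayPt := tp [2 ^ 0, 2 ^ 23] a3T a3T_in

noncomputable def b3p : Equiv.Perm GolayPt := tp [2 ^ 0, 2 ^ 23] b3T b3T_in

noncomputable def aG : ↥Cfsg.Spor.M22 := mkG a3p (tp_mem _ _ _)

noncomputable def bG : ↥Cfsg.Spor.M22 := mkG b3p (tp_mem _ _ _)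

theorem a3p_table : IsTable a3p a3T := isTable_tp _ _ _

theorem b3p_table : IsTable b3p b3T := isTable_tp _ _ _

theorem S3_facts : a3p * b3p = b3p * a3p ∧ a3p ^ 3 = 1 ∧ b3p ^ 3 = 1 := by
  have h := S3_rel
  simp only [Bool.and_eq_true, beq_iff_eq, decide_eq_true_eq] at h
  obtain ⟨⟨h1, h2⟩, h3⟩ := h
  refine ⟨?_, pow_eq_one_of_powTab a3p_table 3 h2, pow_eq_one_of_powTab b3p_table 3 h3⟩
  apply eq_of_isTable (isTable_mulTab a3p_table b3p_table)
  rw [h1]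
  exact isTable_mulTab b3p_table a3p_table

theorem abG : aG * bG = bG * aG := Subtype.ext S3_facts.1

theorem aG3 : aG ^ 3 = 1 := Subtype.ext (by rw [Subgroup.coe_pow]; exact S3_facts.2.1)

theorem bG3 : bG ^ 3 = 1 := Subtype.ext (by rw [Subgroup.coe_pow]; exact S3_facts.2.2)

theorem ab_table (i j : ℕ) : IsTable ((aG ^ i * bG ^ j : ↥Cfsg.Spor.M22) : Equiv.Perm GolayPt)
    (mulTab (powTab a3T i) (powTab b3T j)) := by
  rw [Subgroup.coe_mul, Subgroup.coe_pow, Subgroup.coe_pow]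
  exact isTable_mulTab (isTable_powTab a3p_table i) (isTable_powTab b3p_table j)

/-- The Sylow 3-subgroup. -/
noncomputable def P3 : Subgroup ↥Cfsg.Spor.M22 where
  carrier := {g | ∃ i j : Fin 3, g = aG ^ (i : ℕ) * bG ^ (j : ℕ)}
  mul_mem' := by
    rintro x y ⟨i, j, rfl⟩ ⟨k, l, rfl⟩
    refine ⟨⟨((i : ℕ) + k) % 3, Nat.mod_lt _ (by norm_num)⟩,
      ⟨((j : ℕ) + l) % 3, Nat.mod_lt _ (by norm_num)⟩, ?_⟩
    show aG ^ (i : ℕ) * bG ^ (j : ℕ) * (aG ^ (k : ℕ) * bG ^ (l : ℕ))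
      = aG ^ (((i : ℕ) + k) % 3) * bG ^ (((j : ℕ) + l) % 3)
    rw [← pow_eq_pow_mod _ aG3, ← pow_eq_pow_mod _ bG3, pow_add, pow_add]
    have hc : Commute (bG ^ (j : ℕ)) (aG ^ (k : ℕ)) :=
      ((show Commute aG bG from abG).pow_pow _ _).symm
    calc aG ^ (i : ℕ) * bG ^ (j : ℕ) * (aG ^ (k : ℕ) * bG ^ (l : ℕ))
        = aG ^ (i : ℕ) * (bG ^ (j : ℕ) * aG ^ (k : ℕ)) * bG ^ (l : ℕ) := by group
      _ = aG ^ (i : ℕ) * (aG ^ (k : ℕ) * bG ^ (j : ℕ)) * bG ^ (l : ℕ) := by rw [hc.eq]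
      _ = aG ^ (i : ℕ) * aG ^ (k : ℕ) * (bG ^ (j : ℕ) * bG ^ (l : ℕ)) := by group
  one_mem' := ⟨0, 0, by simp⟩
  inv_mem' := by
    rintro x ⟨i, j, rfl⟩
    refine ⟨⟨(3 - (i : ℕ)) % 3, Nat.mod_lt _ (by norm_num)⟩,
      ⟨(3 - (j : ℕ)) % 3, Nat.mod_lt _ (by norm_num)⟩, ?_⟩
    show (aG ^ (i : ℕ) * bG ^ (j : ℕ))⁻¹ = aG ^ ((3 - (i : ℕ)) % 3) * bG ^ ((3 - (j : ℕ)) % 3)
    rw [← pow_eq_pow_mod _ aG3, ← pow_eq_pow_mod _ bG3]
    apply inv_eq_of_mul_eq_one_right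
    have hc : Commute (bG ^ (j : ℕ)) (aG ^ (3 - (i : ℕ))) :=
      ((show Commute aG bG from abG).pow_pow _ _).symm
    have hi : (i : ℕ) + (3 - (i : ℕ)) = 3 := by have := i.2; omega
    have hj : (j : ℕ) + (3 - (j : ℕ)) = 3 := by have := j.2; omega
    calc aG ^ (i : ℕ) * bG ^ (j : ℕ) * (aG ^ (3 - (i : ℕ)) * bG ^ (3 - (j : ℕ)))
        = aG ^ (i : ℕ) * (bG ^ (j : ℕ) * aG ^ (3 - (i : ℕ))) * bG ^ (3 - (j : ℕ)) := by group
      _ = aG ^ (i : ℕ) * (aG ^ (3 - (i : ℕ)) * bG ^ (j : ℕ)) * bG ^ (3 - (j : ℕ)) := by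
        rw [hc.eq]
      _ = aG ^ ((i : ℕ) + (3 - (i : ℕ))) * bG ^ ((j : ℕ) + (3 - (j : ℕ))) := by
        rw [pow_add, pow_add]; group
      _ = 1 := by rw [hi, hj, aG3, bG3, one_mul]

theorem mem_P3 (g : ↥Cfsg.Spor.M22) :
    g ∈ P3 ↔ ∃ i j : Fin 3, g = aG ^ (i : ℕ) * bG ^ (j : ℕ) := Iff.rfl

theorem P3_card : Nat.card ↥P3 = 9 := by
  have hbij : Function.Bijective (fun x : Fin 3 × Fin 3 =>
      (⟨aG ^ (x.1 : ℕ) * bG ^ (x.2 : ℕ), ⟨x.1, x.2, rfl⟩⟩ : ↥P3)) := by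
    constructor
    · rintro ⟨i, j⟩ ⟨k, l⟩ h
      have h1 : aG ^ (i : ℕ) * bG ^ (j : ℕ) = aG ^ (k : ℕ) * bG ^ (l : ℕ) :=
        congrArg Subtype.val h
      have e1 := eq_tblOf (ab_table i j) (length_mulTab _ _)
      have e2 := eq_tblOf (ab_table k l) (length_mulTab _ _)
      have h2 : mulTab (powTab a3T i) (powTab b3T j) = mulTab (powTab a3T k) (powTab b3T l) :=
        e1.trans ((congrArg (fun g : ↥Cfsg.Spor.M22 => tblOf (g : Equiv.Perm GolayPt)) h1).trans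
          e2.symm)
      obtain ⟨e3, e4⟩ := S3_inj i j k l h2
      exact Prod.ext e3 e4
    · rintro ⟨g, i, j, rfl⟩
      exact ⟨(i, j), rfl⟩
  rw [← Nat.card_congr (Equiv.ofBijective _ hbij), Nat.card_prod, Nat.card_fin]

/-- The Sylow 3-subgroup as a Sylow subgroup. -/
theorem exists_sylow3 : ∃ Q : Sylow 3 ↥Cfsg.Spor.M22, (Q : Subgroup ↥Cfsg.Spor.M22) = P3 := by
  haveI : Fact (Nat.Prime 3) := ⟨Nat.prime_three⟩
  have hP : IsPGroup 3 ↥P3 := IsPGroup.of_card (n := 2) P3_card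
  obtain ⟨Q, hQ⟩ := hP.exists_le_sylow
  refine ⟨Q, ?_⟩
  symm
  obtain ⟨n, hn⟩ := Q.isPGroup'.exists_card_eq
  have hdvd : 3 ^ n ∣ 443520 := by
    have h1 := Subgroup.card_subgroup_dvd_card (Q : Subgroup ↥Cfsg.Spor.M22)
    rw [card_G] at h1
    rw [← hn]; exact h1
  have hn2 : n ≤ 2 := by
    by_contra hcon
    have h3 : 3 ^ 3 ∣ 3 ^ n := pow_dvd_pow 3 (by omega)
    have h4 : 3 ^ 3 ∣ 443520 := dvd_trans h3 hdvd
    omega
  have hle : Nat.card ↥(Q : Subgroup ↥Cfsg.Spor.M22) ≤ Nat.card ↥P3 := by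
    rw [P3_card, hn]
    calc 3 ^ n ≤ 3 ^ 2 := Nat.pow_le_pow_right (by norm_num) hn2
      _ = 9 := by norm_num
  exact Subgroup.eq_of_le_of_card_ge hQ hle

theorem S3_invol (i j : Fin 3) (hij : ¬ (i = 0 ∧ j = 0)) :
    ∃ t : ↥Cfsg.Spor.M22, orderOf t = 2 ∧
      t * (aG ^ (i : ℕ) * bG ^ (j : ℕ)) = (aG ^ (i : ℕ) * bG ^ (j : ℕ)) * t := by
  rcases S3T_ok i j with h | h
  · exact absurd h hij
  simp only [Bool.and_eq_true, beq_iff_eq, decide_eq_true_eq, Bool.not_eq_true',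
    beq_eq_false_iff_ne] at h
  obtain ⟨⟨⟨⟨hin, hsq⟩, hmv⟩, hlt⟩, hcomm⟩ := h
  obtain ⟨t, ht, htt⟩ := tabIn_spec hin
  have h1 : t * t = 1 := sq_eq_one_of_table htt hsq
  have h2 : t ≠ 1 := ne_one_of_table htt hlt hmv
  refine ⟨mkG t ht, ?_, ?_⟩
  · haveI : Fact (Nat.Prime 2) := ⟨Nat.prime_two⟩
    apply orderOf_eq_prime
    · apply Subtype.ext
      rw [Subgroup.coe_pow, pow_two]; exact h1
    · intro h; exact h2 (congrArg Subtype.val h)
  · apply Subtype.ext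
    rw [Subgroup.coe_mul, Subgroup.coe_mul]
    show t * _ = _ * t
    apply eq_of_isTable (isTable_mulTab htt (ab_table i j))
    rw [hcomm]
    exact isTable_mulTab (ab_table i j) htt

/-- Nontrivial 3-elements have centralizers of even order. -/
theorem three_even (w : ↥Cfsg.Spor.M22) (hw1 : w ≠ 1) (hw : orderOf w ∣ 9) :
    2 ∣ Nat.card (Subgroup.centralizer ({w} : Set ↥Cfsg.Spor.M22)) := by
  haveI : Fact (Nat.Prime 3) := ⟨Nat.prime_three⟩
  obtain ⟨m, -, hm⟩ := (Nat.dvd_prime_pow Nat.prime_three).mp (show orderOf w ∣ 3 ^ 2 from hw)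
  have hP : IsPGroup 3 ↥(Subgroup.zpowers w) :=
    IsPGroup.of_card (n := m) (by rw [Nat.card_zpowers, hm])
  obtain ⟨Q, hQ⟩ := hP.exists_le_sylow
  obtain ⟨Q3, hQ3⟩ := exists_sylow3
  obtain ⟨g, hg⟩ := MulAction.exists_smul_eq ↥Cfsg.Spor.M22 Q Q3
  have hwQ : w ∈ (Q : Subgroup ↥Cfsg.Spor.M22) := hQ (Subgroup.mem_zpowers w)
  have hmem : g * w * g⁻¹ ∈ P3 := by
    rw [← hQ3, ← hg, Sylow.coe_subgroup_smul]
    have := Subgroup.smul_mem_pointwise_smul w (MulAut.conj g) (Q : Subgroup ↥Cfsg.Spor.M22) hwQ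
    rwa [MulAut.smul_def, MulAut.conj_apply] at this
  obtain ⟨i, j, hij⟩ := (mem_P3 _).mp hmem
  have hne : ¬ (i = 0 ∧ j = 0) := by
    rintro ⟨rfl, rfl⟩
    apply hw1
    simp only [Fin.val_zero, pow_zero, mul_one] at hij
    have h2 := congrArg (fun x => g⁻¹ * x * g) hij
    simp only [mul_one, inv_mul_cancel] at h2
    rw [← h2]; group
  obtain ⟨t, ht, htc⟩ := S3_invol i j hne
  rw [← hij] at htc
  have ht' : orderOf (g⁻¹ * t * g) = 2 := by
    have : g⁻¹ * t * g = MulAut.conj g⁻¹ t := by rw [MulAut.conj_apply, inv_inv]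
    rw [this, MulEquiv.orderOf_eq]; exact ht
  apply even_cent w (g⁻¹ * t * g) ht'
  calc g⁻¹ * t * g * w = g⁻¹ * (t * (g * w * g⁻¹)) * g := by group
    _ = g⁻¹ * ((g * w * g⁻¹) * t) * g := by rw [htc]
    _ = w * (g⁻¹ * t * g) := by group

end Cfsg.Agent.Lib.helper27.B22
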