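import Cfsg.Agent.Lib.helper27.M22BlkData
import Cfsg.Agent.Lib.helper27.Cent2B

set_option autoImplicit false
set_option maxRecDepth 1000000

namespace Cfsg.Agent.Lib.helper27.B24

open Cfsg Cfsg.Agent.Lib.helper28 Cfsg.Agent.Lib.helper27 Cfsg.Agent.Lib.helper27.OF

/-- The packed table of the tetrads of the points. -/
def TP : ℕ := 171552546096528978002450556640068608

/-- The packed table of the first points of the tetrads. -/
def RP : ℕ := 448009280

/-- Packed tables of generators of the normal subgroup. -/
def QGP : List ℕ := [479527606498497427357128025306435616, 479623986318016222713448381946146848, 479663310730678034207776437455390752, 720981692062171673584743151055243296, 944334554731352033220641466060509185, 721306210617011566989637924887597383]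

/-- The function fixes every tetrad. -/
def fixT (f : ℕ → ℕ) : Bool := allLt (fun i => Nat.beq (B22.lk TP (f i)) (B22.lk TP i)) 24

/-- The function permutes the tetrads. -/
def permT (f : ℕ → ℕ) : Bool :=
  allLt (fun i => Nat.beq (B22.lk TP (f i)) (B22.lk TP (f (B22.lk RP (B22.lk TP i))))) 24

/-- The function is an involution. -/
def sqF (f : ℕ → ℕ) : Bool := allLt (fun i => Nat.beq (f (f i)) i) 24

/-- The function does not commute with the packed table. -/
def ncomm (f : ℕ → ℕ) (a : ℕ) : Bool :=
  !(allLt (fun i => Nat.beq (f (B22.lk a i)) (B22.lk a (f i))) 24)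

/-- The check of an element of the centralizer. -/
def kOK (f : ℕ → ℕ) : Bool :=
  permT f && (if fixT f then sqF f else QGP.any (fun a => ncomm f a))

theorem QG_ok : QGP.all (fun a => cBchk a && fixT (B22.lk a)) = true := by decide +kernel

theorem K_chk0 : cBR.all (fun r => kOK (fun i => B22.lk (cBT.getD 0 0) (B22.lk r i))) = true := by
  decide +kernel

theorem K_chk1 : cBR.all (fun r => kOK (fun i => B22.lk (cBT.getD 1 0) (B22.lk r i))) = true := by
  decide +kernel

theorem K_chk2 : cBR.all (fun r => kOK (fun i => B22.lk (cBT.getD 2 0) (B22.lk r i))) = true := by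
  decide +kernel

theorem K_chk3 : cBR.all (fun r => kOK (fun i => B22.lk (cBT.getD 3 0) (B22.lk r i))) = true := by
  decide +kernel

theorem K_chk4 : cBR.all (fun r => kOK (fun i => B22.lk (cBT.getD 4 0) (B22.lk r i))) = true := by
  decide +kernel

theorem K_chk5 : cBR.all (fun r => kOK (fun i => B22.lk (cBT.getD 5 0) (B22.lk r i))) = true := by
  decide +kernel

theorem K_chk6 : cBR.all (fun r => kOK (fun i => B22.lk (cBT.getD 6 0) (B22.lk r i))) = true := by
  decide +kernel

theorem K_chk7 : cBR.all (fun r => kOK (fun i => B22.lk (cBT.getD 7 0) (B22.lk r i))) = true := by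
  decide +kernel

theorem K_chk8 : cBR.all (fun r => kOK (fun i => B22.lk (cBT.getD 8 0) (B22.lk r i))) = true := by
  decide +kernel

theorem K_chk9 : cBR.all (fun r => kOK (fun i => B22.lk (cBT.getD 9 0) (B22.lk r i))) = true := by
  decide +kernel

theorem K_chk10 : cBR.all (fun r => kOK (fun i => B22.lk (cBT.getD 10 0) (B22.lk r i))) = true := by
  decide +kernel

theorem K_chk11 : cBR.all (fun r => kOK (fun i => B22.lk (cBT.getD 11 0) (B22.lk r i))) = true := by
  decide +kernel

theorem K_chk12 : cBR.all (fun r => kOK (fun i => B22.lk (cBT.getD 12 0) (B22.lk r i))) = true := by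
  decide +kernel

theorem K_chk13 : cBR.all (fun r => kOK (fun i => B22.lk (cBT.getD 13 0) (B22.lk r i))) = true := by
  decide +kernel

theorem K_chk14 : cBR.all (fun r => kOK (fun i => B22.lk (cBT.getD 14 0) (B22.lk r i))) = true := by
  decide +kernel

theorem K_chk15 : cBR.all (fun r => kOK (fun i => B22.lk (cBT.getD 15 0) (B22.lk r i))) = true := by
  decide +kernel

theorem K_chk16 : cBR.all (fun r => kOK (fun i => B22.lk (cBT.getD 16 0) (B22.lk r i))) = true := by
  decide +kernel

theorem K_chk17 : cBR.all (fun r => kOK (fun i => B22.lk (cBT.getD 17 0) (B22.lk r i))) = true := by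
  decide +kernel

theorem K_chk18 : cBR.all (fun r => kOK (fun i => B22.lk (cBT.getD 18 0) (B22.lk r i))) = true := by
  decide +kernel

theorem K_chk19 : cBR.all (fun r => kOK (fun i => B22.lk (cBT.getD 19 0) (B22.lk r i))) = true := by
  decide +kernel

theorem K_chk20 : cBR.all (fun r => kOK (fun i => B22.lk (cBT.getD 20 0) (B22.lk r i))) = true := by
  decide +kernel

theorem K_chk21 : cBR.all (fun r => kOK (fun i => B22.lk (cBT.getD 21 0) (B22.lk r i))) = true := by
  decide +kernel

theorem K_chk22 : cBR.all (fun r => kOK (fun i => B22.lk (cBT.getD 22 0) (B22.lk r i))) = true := by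
  decide +kernel

theorem K_chk23 : cBR.all (fun r => kOK (fun i => B22.lk (cBT.getD 23 0) (B22.lk r i))) = true := by
  decide +kernel

theorem K_chk : ∀ q < 24, cBR.all (fun r => kOK (fun i => B22.lk (cBT.getD q 0) (B22.lk r i))) = true := by
  intro q hq
  interval_cases q
  · exact K_chk0
  · exact K_chk1
  · exact K_chk2
  · exact K_chk3
  · exact K_chk4
  · exact K_chk5
  · exact K_chk6
  · exact K_chk7
  · exact K_chk8
  · exact K_chk9
  · exact K_chk10
  · exact K_chk11
  · exact K_chk12
  · exact K_chk13
  · exact K_chk14
  · exact K_chk15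
  · exact K_chk16
  · exact K_chk17
  · exact K_chk18
  · exact K_chk19
  · exact K_chk20
  · exact K_chk21
  · exact K_chk22
  · exact K_chk23

end Cfsg.Agent.Lib.helper27.B24
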