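import Cfsg.Agent.Lib.helper27.M24BlkDefs

set_option autoImplicit false
set_option maxRecDepth 1000000

namespace Cfsg.Agent.Lib.helper27.B24

open Cfsg Cfsg.Agent.Lib.helper28 Cfsg.Agent.Lib.helper27 Cfsg.Agent.Lib.helper27.OF

def cert0_0 : List (ℕ × ℕ × List ℕ) :=
  [(9, 0, [8, 6, 4, 4, 8, 8, 0, 4]), (0, 1, []), (4, 0, [2, 8, 1, 5, 7, 6, 7, 7, 2]), (0, 1, []),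
   (3, 0, []), (3, 0, []), (0, 1, []), (0, 1, []),
   (3, 0, []), (5, 0, [2, 5, 7, 3, 3, 8, 5, 2]), (4, 0, [0, 0, 3, 8, 2, 1, 7, 7, 2, 0]), (0, 1, []),
   (9, 0, [0, 3, 1, 1, 1, 2, 5, 8, 8, 1]), (9, 0, [6, 6, 7, 7, 7, 0, 3, 3]), (0, 1, []), (0, 0, []),
   (0, 0, []), (0, 0, []), (7, 0, [2, 1, 5, 7, 0, 0, 3, 3, 2, 7]), (10, 0, [1, 5, 1, 7, 6, 7, 3, 0, 2]),
   (0, 0, []), (11, 0, [2, 8, 1, 7, 0, 0, 4, 5, 4, 0]), (0, 0, []), (6, 0, [0, 2, 4, 0, 0, 7, 2, 1, 7, 6, 1]),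
   (9, 0, [1, 1, 8, 2, 8, 5, 1, 7, 3, 1]), (0, 0, []), (9, 0, [0, 2, 7, 7, 4, 0, 2, 1, 3]), (0, 0, []),
   (0, 0, []), (3, 0, []), (0, 1, []), (2, 0, []),
   (4, 0, [1, 1, 7, 4, 6, 0, 2, 7, 4, 4, 0]), (0, 1, []), (0, 1, []), (0, 1, []),
   (3, 0, []), (0, 1, []), (5, 0, [7, 4, 8, 1, 8, 0, 7, 3, 0]), (0, 1, []),
   (11, 0, [2, 0, 3, 3, 6, 7, 7, 2, 1, 1]), (7, 0, [5, 7, 6, 3, 1, 8, 4, 2]), (0, 1, []), (5, 0, [1, 3, 1, 1, 2, 1, 1, 1, 3]),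
   (0, 1, []), (7, 0, [4, 6, 0, 3, 7, 0, 0, 4, 2]), (4, 0, [1, 4, 8, 8, 4, 8, 2, 6]), (0, 1, []),
   (7, 0, [7, 4, 8, 1, 7, 5, 8, 0, 2]), (4, 0, [0, 0, 4, 8, 5, 1, 4, 1, 2]), (0, 3, []), (4, 0, [4, 1, 2, 8, 5, 7, 4, 0, 3, 0]),
   (7, 0, [6, 3, 1, 1, 6, 3, 7, 7, 2]), (4, 0, [2, 1, 5, 7, 6, 0, 3, 7, 4, 2]), (11, 0, [2, 4, 5, 0, 0, 7, 6, 4, 0]), (2, 0, []),
   (0, 1, []), (4, 0, [8, 2, 4, 5, 0, 7, 7, 6, 0]), (11, 0, [4, 6, 8, 8, 5, 1, 7, 6, 2]), (11, 0, [4, 1, 3, 8, 5, 0, 7, 4, 2]),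
   (0, 0, []), (9, 0, [1, 7, 4, 0, 6, 7, 2, 7, 4, 8]), (6, 0, [1, 8, 5, 5, 8, 2, 8, 0, 6]), (0, 0, []),
   (6, 0, [0, 4, 1, 2, 5, 1, 1, 7, 0]), (4, 0, [4, 0, 4, 6, 1, 3, 8, 2, 0]), (11, 0, [2, 8, 1, 5, 8, 2, 5, 4, 0, 0, 0]), (0, 3, []),
   (10, 0, [1, 2, 3, 5, 4, 8, 4, 8, 5, 3]), (0, 1, []), (0, 0, []), (0, 0, []),
   (10, 0, [1, 7, 5, 4, 4, 0, 5, 3]), (11, 0, [2, 7, 2, 3, 1, 1, 7, 0, 4]), (9, 0, [1, 6, 1, 7, 7, 2, 4, 8, 1, 3]), (9, 0, [1, 2, 1, 4, 1, 8, 1, 2, 1, 7, 0]),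
   (0, 0, []), (5, 0, [1, 1, 6, 8, 2, 5, 0, 3, 1, 4]), (6, 0, [2, 1, 7, 3, 0, 7, 6, 4, 1]), (0, 0, []),
   (4, 0, [1, 7, 3, 0, 2, 4, 1, 1, 3, 1]), (11, 0, [2, 8, 8, 1, 2, 5, 7, 3, 8, 2]), (0, 0, []), (0, 0, []),
   (0, 0, []), (0, 0, []), (0, 0, []), (7, 0, [4, 1, 7, 6, 1, 2, 5, 1, 8, 0]),
   (0, 0, []), (10, 0, [1, 3, 8, 0, 6, 7, 3, 1]), (0, 0, []), (0, 0, []),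
   (0, 0, []), (0, 0, []), (0, 0, []), (5, 0, [7, 6, 0, 2, 3, 6, 8, 6, 0]),
   (6, 0, [1, 2, 4, 8, 0, 2, 5, 8, 2]), (0, 0, []), (6, 0, [2, 3, 7, 7, 7, 3, 6, 7, 0]), (5, 0, [1, 7, 3, 8, 4, 4, 1, 2, 1]),
   (6, 0, [1, 2, 5, 0, 7, 3, 1, 5, 8, 0]), (10, 0, [2, 3, 5, 3, 0, 7, 4, 6, 0]), (0, 3, []), (0, 0, []),
   (0, 0, []), (9, 0, [1, 2, 0, 3, 7, 3, 1, 5, 8, 0]), (0, 2, []), (3, 0, []),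
   (0, 1, []), (0, 1, []), (2, 0, []), (0, 1, []),
   (11, 0, [4, 4, 8, 2, 1, 1, 6, 8, 0]), (0, 1, []), (4, 0, [1, 7, 2, 0, 3, 1, 1, 8, 4]), (4, 0, [2, 1, 7, 6, 7, 6, 4, 1, 6, 2]),
   (7, 0, [7, 2, 8, 2, 1, 3, 8, 5, 5]), (4, 0, [2, 1, 4, 0, 7, 7, 0, 3, 5, 2]), (0, 1, []), (9, 0, [1, 8, 1, 7, 2, 0, 3, 0, 6, 2, 1]),
   (6, 0, [1, 3, 1, 7, 0, 5, 0, 2, 8, 2]), (11, 0, [4, 0, 3, 6, 7, 3, 7, 2, 1]), (11, 0, [2, 7, 0, 7, 7, 5, 3, 0, 3, 2, 1]), (0, 0, []),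
   (10, 0, [1, 2, 3, 8, 0, 4, 8, 5, 0, 2]), (6, 0, [1, 3, 7, 4, 6, 6, 1, 5, 2]), (4, 0, [1, 2, 7, 4, 0, 5, 3, 1, 6, 3]), (0, 0, []),
   (9, 0, [1, 3, 5, 1, 7, 3, 3, 7, 7, 2]), (9, 0, [1, 2, 0, 0, 2, 5, 7, 7, 7, 6, 0]), (10, 0, [1, 2, 7, 0, 6, 4, 8, 4, 8, 2]), (0, 0, []),
   (0, 0, []), (0, 0, []), (0, 0, []), (0, 1, []),
   (3, 0, []), (3, 0, []), (9, 0, [8, 6, 0, 5, 7, 2, 0, 3, 8]), (3, 0, []),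
   (0, 1, []), (4, 0, [1, 8, 1, 2, 1, 8, 5, 1, 7]), (0, 1, []), (5, 0, [2, 5, 7, 3, 3, 8, 2]),
   (0, 1, []), (4, 0, [1, 2, 1, 8, 0, 4, 6, 0, 3, 0]), (0, 1, []), (0, 1, []),
   (9, 0, [7, 0, 3, 0, 7, 4, 1, 4]), (9, 0, [7, 6, 6, 1, 7, 7, 6, 6]), (4, 0, [2, 7, 7, 2, 1, 8, 8, 8]), (4, 0, [2, 1, 3, 5, 8, 6, 0, 5, 5, 2]),
   (9, 0, [0, 3, 6, 1, 7, 6, 6, 2, 1]), (0, 1, []), (9, 0, [2, 7, 6, 6, 8, 4, 8, 5, 2]), (5, 0, [1, 2, 5, 3, 1, 2, 3, 8, 4, 8, 0]),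
   (0, 1, []), (9, 0, [8, 8, 6, 1, 2, 8, 8, 2, 1]), (0, 1, []), (9, 0, [5, 7, 2, 6, 3, 7, 6]),
   (0, 1, []), (9, 0, [2, 8, 0, 4, 0, 3, 1, 7, 2]), (4, 0, [7, 7, 7, 0, 2, 8, 8, 5, 2]), (0, 1, []),
   (4, 0, [2, 1, 5, 7, 4, 1, 5, 5, 0, 2]), (3, 0, []), (4, 0, [2, 1, 7, 3, 7, 3, 7, 3, 0, 2]), (0, 1, []),
   (4, 0, [0, 3, 8, 1, 8, 6, 8, 4, 1, 2]), (0, 2, []), (7, 0, [2, 8, 2, 1, 7, 4, 0, 6, 4, 1]), (11, 0, [2, 1, 8, 6, 0, 5, 4, 8, 1]),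
   (0, 1, []), (0, 1, []), (0, 1, []), (11, 0, [2, 0, 6, 4, 6, 1, 2, 4, 8, 1]),
   (4, 0, [1, 3, 7, 3, 7, 2, 1, 3, 7]), (0, 1, []), (3, 0, []), (7, 0, [3, 6, 6, 8, 6, 8, 8, 2]),
   (0, 0, []), (10, 0, [4, 1, 6, 7, 2, 5, 8, 1, 3]), (0, 0, []), (0, 0, []),
   (0, 1, []), (9, 0, [6, 7, 3, 1, 6, 7, 5, 2]), (0, 0, []), (5, 0, [1, 2, 8, 0, 6, 4, 0, 2, 7, 0, 5]),
   (4, 0, [2, 3, 1, 1, 2, 3, 8, 6, 0]), (0, 0, []), (0, 1, []), (0, 0, []),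
   (0, 0, []), (0, 0, []), (6, 0, [1, 7, 5, 0, 7, 2, 8, 0, 6, 0]), (9, 0, [7, 7, 4, 4, 6, 7, 4, 4]),
   (0, 1, []), (3, 0, []), (5, 0, [1, 8, 2, 0, 3, 3, 5, 8, 4]), (0, 1, []),
   (4, 0, [0, 0, 2, 4, 1, 8, 4, 0, 5, 2, 0]), (0, 1, []), (9, 0, [8, 5, 1, 1, 8, 1, 7, 4]), (0, 1, []),
   (3, 0, []), (9, 0, [1, 8, 5, 7, 4, 0, 2, 1, 6, 1]), (0, 2, []), (3, 0, []),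
   (4, 0, [8, 0, 6, 7, 2, 1, 5, 2, 7]), (0, 1, []), (4, 0, [0, 7, 4, 1, 7, 7, 5, 4, 2, 0]), (0, 0, []),
   (7, 0, [2, 3, 3, 8, 6, 0, 4, 1, 6, 3, 2]), (5, 0, [2, 8, 2, 7, 0, 2, 6, 7, 2]), (0, 0, []), (0, 0, []),
   (0, 0, []), (0, 0, []), (11, 0, [2, 6, 4, 0, 7, 7, 7, 5, 0]), (0, 0, []),
   (0, 0, []), (10, 0, [1, 8, 0, 5, 0, 7, 3, 5, 1]), (6, 0, [0, 0, 6, 7, 7, 6, 6, 1, 3, 2]), (0, 0, []),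
   (9, 0, [1, 6, 7, 4, 0, 4, 1, 5, 3, 2, 1]), (7, 0, [3, 8, 2, 0, 5, 3, 8, 2, 0]), (4, 0, [3, 1, 5, 7, 7, 3, 8, 2]), (4, 0, [8, 1, 8, 8, 1, 1, 2]),
   (3, 0, []), (0, 1, []), (4, 0, [0, 4, 6, 8, 4, 8, 2, 8, 5, 2]), (3, 0, []),
   (5, 0, [6, 3, 1, 2, 7, 0, 7, 7]), (0, 4, []), (9, 0, [0, 4, 1, 6, 7, 2, 7, 0, 3, 0]), (7, 0, [2, 6, 8, 8, 5, 8, 2, 1, 3, 1]),
   (9, 0, [2, 8, 0, 3, 1, 8, 1, 2]), (3, 0, []), (5, 0, [1, 7, 2, 3, 0, 2, 6, 3, 1]), (0, 4, []),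
   (0, 0, []), (10, 0, [1, 2, 7, 3, 5, 7, 4, 8, 8]), (0, 0, []), (0, 0, []),
   (0, 0, []), (0, 0, []), (6, 0, [0, 2, 6, 3, 1, 7, 5, 8, 4]), (7, 0, [2, 8, 0, 4, 8, 4, 0, 6, 4, 1]),
   (11, 0, [2, 7, 6, 4, 4, 0, 3, 7, 5, 4]), (5, 0, [8, 1, 8, 8, 5, 7, 2, 7, 0]), (5, 0, [1, 8, 0, 2, 5, 4, 0, 6]), (5, 0, [6, 1, 6, 7, 2, 4, 8, 6, 4]),
   (0, 0, []), (0, 0, []), (5, 0, [8, 1, 8, 1, 2, 7, 7, 3, 0]), (4, 0, [1, 2, 3, 0, 4, 8, 4, 4, 8, 5]),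
   (0, 0, []), (5, 0, [2, 1, 3, 8, 8, 5, 0, 2, 7]), (0, 0, []), (0, 0, []),
   (5, 0, [0, 4, 4, 0, 6, 0, 2, 3, 1, 3]), (0, 0, []), (0, 0, []), (9, 0, [0, 5, 7, 2, 3, 8, 6, 0, 5]),
   (0, 0, []), (0, 0, []), (0, 0, []), (0, 0, []),
   (9, 0, [1, 3, 0, 2, 6, 6, 7, 3, 3, 0]), (0, 0, []), (6, 0, [0, 3, 6, 7, 2, 3, 8, 5, 0]), (11, 0, [2, 5, 7, 5, 4, 4, 8, 8, 1, 1]),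
   (6, 0, [1, 8, 5, 5, 8, 2, 8, 0]), (0, 0, []), (10, 0, [1, 8, 1, 8, 2, 6, 7, 5, 3, 7, 0]), (0, 3, []),
   (0, 0, []), (0, 0, []), (4, 0, [0, 2, 1, 8, 4, 1, 6, 8, 2, 0, 0]), (0, 0, []),
   (0, 1, []), (9, 0, [1, 1, 3, 8, 2, 0, 7, 6, 0, 6]), (9, 0, [0, 4, 5, 0, 3, 8, 1, 2, 0, 4]), (10, 0, [5, 4, 0, 7, 6, 3, 8, 1]),
   (11, 0, [2, 8, 1, 5, 8, 2, 5, 4, 0, 5, 0]), (7, 0, [2, 3, 5, 8, 0, 0, 4, 6, 8, 0]), (4, 0, [2, 1, 7, 7, 4, 4, 1, 8, 5, 0, 2]), (0, 1, []),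
   (0, 2, []), (0, 1, []), (4, 0, [0, 3, 8, 6, 8, 1, 3, 3, 0, 2]), (11, 0, [4, 0, 4, 0, 3, 7, 4, 1, 2]),
   (3, 0, []), (0, 1, []), (11, 0, [4, 0, 4, 1, 5, 5, 8, 1, 2]), (0, 2, []),
   (3, 0, []), (4, 0, [3, 3, 8, 6, 1, 7, 0, 0, 2]), (0, 3, []), (7, 0, [6, 4, 1, 4, 0, 4, 5, 2]),
   (5, 0, [2, 1, 8, 0, 5, 5, 0, 2]), (9, 0, [1, 1, 2, 7, 3, 3, 1, 7, 7]), (4, 0, [1, 5, 7, 4, 8, 1, 7, 3, 0, 2, 0]), (0, 1, []),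
   (0, 1, []), (3, 0, []), (4, 0, [8, 0, 3, 6, 7, 2, 3]), (0, 1, []),
   (3, 0, []), (3, 0, []), (5, 0, [1, 8, 4, 8, 2, 0, 7, 2, 7, 0]), (9, 0, [2, 6, 8, 8, 1, 5, 8, 5, 2]),
   (7, 0, [2, 3, 6, 7, 0, 6, 0, 7, 7]), (7, 0, [7, 0, 6, 0, 3, 1, 8, 2]), (4, 0, [1, 2, 0, 0, 7, 7, 0, 5, 3]), (9, 0, [1, 8, 8, 2, 6, 4, 1, 8, 0, 3]),
   (0, 0, []), (0, 0, []), (9, 0, [1, 1, 7, 0, 4, 0, 2, 6, 0]), (0, 0, []),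
   (0, 0, []), (11, 0, [2, 7, 5, 5, 7, 3, 8, 4, 4, 0]), (0, 0, []), (0, 0, []),
   (7, 0, [2, 7, 7, 7, 3, 7, 7, 2, 1, 5]), (10, 0, [6, 0, 2, 6, 8, 8, 2, 8, 0]), (6, 0, [4, 0, 0, 2, 0, 3, 7, 7, 0, 0]), (3, 0, []),
   (0, 0, []), (0, 0, []), (4, 0, [1, 3, 6, 1, 5, 7, 4, 6, 1, 2, 0]), (0, 0, []),
   (11, 0, [2, 7, 2, 8, 1, 2, 7, 7, 3]), (0, 0, []), (4, 0, [0, 7, 2, 1, 8, 1, 3, 6, 7, 7]), (0, 0, []),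
   (0, 0, []), (0, 0, []), (7, 0, [3, 0, 2, 8, 6, 3, 3, 0, 3]), (4, 0, [0, 0, 2, 3, 3, 7, 7, 4, 0, 6, 0]),
   (7, 0, [2, 3, 7, 6, 1, 6, 7, 4, 1, 3]), (0, 0, []), (11, 0, [2, 4, 1, 5, 7, 4, 8, 4, 5, 0]), (0, 0, []),
   (0, 0, []), (7, 0, [4, 4, 8, 4, 6, 7, 3, 7, 0, 2]), (11, 0, [2, 7, 0, 7, 4, 6, 0, 7, 4, 1]), (0, 2, []),
   (4, 0, [4, 8, 0, 5, 8, 8, 8, 2]), (11, 0, [3, 0, 3, 7, 4, 1, 8, 0, 2]), (4, 0, [7, 7, 0, 7, 2, 8, 8, 2, 7]), (2, 0, []),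
   (4, 0, [0, 7, 0, 7, 2, 0, 0, 7, 2, 8]), (4, 0, [0, 3, 0, 6, 7, 3, 8, 6, 3, 2]), (11, 0, [4, 8, 6, 0, 7, 0, 3, 1, 1, 2]), (7, 0, [2, 3, 5, 8, 4, 0, 3, 3, 6]),
   (0, 2, []), (4, 0, [1, 4, 8, 8, 4, 8, 2]), (7, 0, [2, 0, 7, 3, 7, 0, 5, 7, 7, 0]), (0, 4, []),
   (0, 0, []), (0, 0, []), (6, 0, [1, 6, 7, 7, 2, 5, 3, 1, 1, 2]), (0, 0, []),
   (6, 0, [1, 7, 5, 3, 0, 7, 2, 7, 0, 0, 0]), (0, 0, []), (10, 0, [1, 4, 8, 6, 3, 8, 2, 8, 6, 0]), (10, 0, [0, 4, 1, 2, 3, 5, 4, 8, 0, 0]),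
   (0, 0, []), (0, 0, []), (0, 0, []), (11, 0, [2, 0, 3, 1, 7, 2, 3, 0, 7, 5]),
   (4, 0, [2, 1, 3, 6, 7, 7, 6, 4, 2, 0]), (7, 0, [2, 4, 0, 2, 6, 3, 7, 7, 6]), (0, 4, []), (3, 0, []),
   (4, 0, [1, 7, 0, 3, 3, 8, 2, 6]), (9, 0, [2, 6, 0, 4, 4, 1, 2, 8, 4, 0]), (0, 1, []), (7, 0, [4, 6, 4, 8, 1, 4, 8, 2]),
   (4, 0, [1, 8, 1, 7, 0, 7, 6, 7, 2]), (7, 0, [3, 8, 1, 7, 0, 6, 0, 2]), (9, 0, [1, 2, 8, 8, 2, 8, 2, 8, 2, 0]), (9, 0, [7, 2, 0, 4, 6, 1, 7, 7, 3]),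
   (3, 0, []), (5, 0, [6, 1, 3, 1, 2, 6, 1, 8, 0]), (0, 1, []), (0, 1, []),
   (0, 1, []), (0, 1, []), (0, 0, []), (0, 0, []),
   (6, 0, [1, 3, 7, 4, 5, 1, 5, 1, 2]), (0, 0, []), (0, 0, []), (4, 0, [1, 2, 4, 6, 7, 3, 1, 3, 8, 1]),
   (6, 0, [2, 0, 5, 8, 0, 7, 3, 8, 6]), (10, 0, [0, 2, 3, 5, 8, 4, 1, 5, 4, 4, 0]), (9, 0, [5, 4, 1, 7, 2, 1, 5, 8, 6]), (10, 0, [4, 5, 3, 7, 2, 7, 2, 7, 3, 0]),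
   (11, 0, [2, 7, 7, 2, 4, 4, 6, 7]), (9, 0, [2, 5, 4, 8, 8, 6, 1, 5, 2, 0]), (11, 0, [2, 1, 5, 1, 7, 0, 5, 0, 7, 2]), (0, 0, []),
   (0, 0, []), (0, 1, []), (0, 1, []), (5, 0, [1, 5, 1, 7, 7, 2, 5, 1, 4, 8]),
   (4, 0, [2, 4, 8, 1, 5, 7, 3, 2]), (5, 0, [1, 5, 8, 2, 7, 3, 8, 6, 3, 1]), (11, 0, [4, 8, 2, 6, 1, 2, 5, 3, 8, 1]), (7, 0, [4, 0, 4, 1, 4, 0, 3, 8, 2]),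
   (0, 3, []), (0, 3, []), (2, 0, []), (0, 3, []),
   (0, 3, []), (0, 1, []), (0, 1, []), (3, 0, []),
   (10, 0, [0, 3, 8, 1, 7, 2, 5, 0, 5, 0]), (5, 0, [0, 2, 4, 8, 6, 4, 1, 7, 3, 0]), (5, 0, [1, 2, 1, 1, 1, 7, 0, 2]), (0, 0, []),
   (0, 0, []), (0, 0, []), (5, 0, [0, 2, 8, 8, 2, 0, 0, 3, 0, 6]), (5, 0, [0, 4, 4, 1, 8, 2, 6, 3, 1, 7, 0]),
   (0, 0, []), (6, 0, [2, 8, 1, 5, 3, 1, 7, 4, 1]), (11, 0, [2, 7, 6, 4, 4, 0, 3, 7, 4]), (7, 0, [4, 1, 1, 1, 2, 8, 1, 8, 4, 0]),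
   (0, 0, []), (0, 0, []), (0, 0, []), (0, 0, []),
   (7, 0, [2, 8, 1, 7, 2, 3, 1, 7, 4, 4]), (0, 0, []), (0, 0, []), (11, 0, [2, 4, 1, 5, 3, 7, 2, 0, 3, 8]),
   (0, 0, []), (0, 0, []), (10, 0, [1, 2, 1, 7, 6, 6, 8, 1, 7, 5]), (0, 0, []),
   (0, 0, []), (0, 0, []), (6, 0, [6, 1, 2, 0, 3, 6, 1, 8]), (0, 1, []),
   (0, 0, []), (1, 0, []), (11, 0, [2, 4, 4, 5, 1, 3, 0, 4, 1, 1]), (3, 0, []),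
   (9, 0, [2, 8, 8, 1, 6, 1, 8, 0, 0, 2]), (3, 0, []), (5, 0, [0, 2, 8, 5, 8, 6, 8, 6, 0, 5]), (9, 0, [1, 1, 8, 2, 6, 0, 4, 1, 8]),
   (4, 0, [0, 7, 0, 6, 4, 1, 3, 3, 0, 2]), (0, 1, []), (11, 0, [6, 4, 8, 0, 7, 0, 5, 0, 2]), (0, 3, []),
   (4, 0, [0, 5, 7, 4, 8, 4, 6, 7, 0, 2]), (5, 0, [0, 4, 0, 0, 0, 4, 4, 1, 3]), (0, 3, []), (4, 0, [1, 4, 8, 1, 2, 3, 6, 8, 8, 6, 0]),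
   (3, 0, []), (0, 0, []), (6, 0, [0, 7, 2, 3, 8, 6, 4, 1, 3]), (0, 0, []),
   (0, 0, []), (0, 0, []), (0, 1, []), (4, 0, [0, 0, 2, 8, 0, 3, 6, 8, 2, 8, 0]),
   (0, 0, []), (10, 0, [2, 8, 8, 6, 6, 8, 1, 3]), (0, 0, []), (5, 0, [7, 0, 3, 7, 2, 8, 2, 8, 1, 2]),
   (0, 0, []), (0, 3, []), (0, 0, []), (9, 0, [6, 7, 3, 1, 7, 0, 6, 2]),
   (3, 0, []), (10, 0, [1, 5, 1, 2, 7, 3, 8, 0, 7]), (0, 0, []), (0, 0, []),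
   (0, 0, []), (5, 0, [5, 8, 8, 0, 2, 1, 7, 2, 7]), (6, 0, [0, 0, 3, 8, 8, 6, 6, 7, 2, 0]), (0, 0, []),
   (5, 0, [1, 5, 7, 2, 8, 2, 6, 4]), (0, 0, []), (0, 0, []), (0, 0, []),
   (0, 0, []), (0, 0, []), (0, 0, [])]

def cert0_1 : List (ℕ × ℕ × List ℕ) :=
  [(0, 2, []), (4, 0, [1, 7, 2, 5, 1, 7, 4, 8, 5, 1]), (9, 0, [0, 2, 8, 0, 0, 7, 6, 6, 7, 4, 0]), (9, 0, [5, 7, 2, 3, 7, 6, 1, 5, 5]),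
   (4, 0, [1, 7, 6, 1, 6, 7, 0, 5, 2, 0]), (9, 0, [1, 6, 8, 2, 0, 4, 5, 0, 3, 1]), (9, 0, [1, 1, 6, 3, 7, 2, 7, 5, 7, 0, 0]), (9, 0, [0, 3, 1, 3, 5, 8, 4, 8, 2, 1]),
   (5, 0, [1, 2, 4, 0, 4, 1, 3, 3, 1, 1]), (0, 1, []), (0, 1, []), (0, 1, []),
   (0, 1, []), (4, 0, [0, 2, 3, 7, 2, 0, 7, 7, 5, 2]), (4, 0, [2, 1, 5, 1, 7, 3, 8, 6, 0, 2]), (0, 0, []),
   (5, 0, [1, 3, 1, 1, 2, 3, 8, 4, 4, 0]), (0, 0, []), (0, 0, []), (0, 0, []),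
   (0, 0, []), (5, 0, [1, 6, 7, 2, 7, 2, 8, 8, 6, 7]), (0, 0, []), (0, 0, []),
   (0, 0, []), (0, 0, []), (9, 0, [1, 2, 7, 6, 6, 7, 7, 7, 3, 2]), (9, 0, [1, 4, 0, 7, 2, 1, 4, 0, 4]),
   (0, 0, []), (4, 0, [0, 2, 3, 0, 7, 2, 7, 0, 5, 3, 0]), (3, 0, []), (11, 0, [4, 5, 1, 3, 5, 7, 0, 3, 3, 2]),
   (0, 1, []), (5, 0, [0, 4, 4, 0, 3, 0, 2, 6, 8, 8]), (11, 0, [4, 6, 0, 4, 8, 4, 0, 0, 0, 2]), (0, 1, []),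
   (5, 0, [2, 1, 7, 3, 0, 3, 7, 7, 2]), (0, 1, []), (0, 1, []), (0, 1, []),
   (3, 0, []), (9, 0, [2, 6, 3, 7, 0, 2]), (4, 0, [1, 2, 0, 3, 8, 0, 2, 8, 1, 4]), (5, 0, [1, 4, 0, 2, 5, 8, 0, 2, 1]),
   (4, 0, [1, 7, 0, 7, 3, 6, 7, 7, 0, 2]), (0, 0, []), (5, 0, [1, 3, 7, 5, 0, 4, 8, 2, 1]), (0, 1, []),
   (0, 0, []), (11, 0, [4, 4, 6, 8, 5, 8, 2, 7, 4, 4]), (0, 0, []), (3, 0, []),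
   (0, 0, []), (7, 0, [7, 3, 7, 7, 2, 5, 1, 8, 0]), (0, 0, []), (0, 0, []),
   (5, 0, [7, 2, 8, 2, 8, 0, 0, 3, 2]), (10, 0, [0, 0, 3, 1, 2, 6, 8, 6, 0, 5]), (6, 0, [1, 6, 3, 1, 7, 6, 6, 0, 4]), (0, 0, []),
   (6, 0, [1, 3, 3, 8, 0, 7, 2, 1, 5, 5]), (0, 0, []), (10, 0, [2, 8, 0, 2, 4, 0, 6, 4, 0]), (0, 0, []),
   (9, 0, [1, 2, 6, 0, 6, 7, 6, 7, 0, 7, 3]), (0, 0, []), (9, 0, [0, 2, 6, 7, 6, 1, 2, 3, 7, 2]), (0, 0, []),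
   (0, 0, []), (10, 0, [0, 2, 6, 3, 0, 4, 6, 8, 4, 0]), (10, 0, [1, 2, 8, 0, 2, 1, 7, 4]), (0, 0, []),
   (0, 0, []), (0, 0, []), (0, 0, []), (3, 0, []),
   (0, 1, []), (4, 0, [0, 2, 3, 7, 2, 1, 3, 3, 0, 2]), (0, 1, []), (9, 0, [8, 0, 4, 1, 2, 8, 4, 0, 5, 0]),
   (9, 0, [7, 0, 3, 0, 7, 4, 6, 8]), (3, 0, []), (0, 1, []), (9, 0, [7, 7, 4, 0, 5, 0, 4, 4]),
   (5, 0, [2, 5, 7, 3, 7, 5, 8, 2]), (4, 0, [1, 4, 1, 5, 3, 1, 7, 0, 2, 0]), (0, 1, []), (0, 1, []),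
   (0, 1, []), (3, 0, []), (0, 0, []), (10, 0, [0, 4, 8, 2, 5, 8, 2, 5, 0]),
   (9, 0, [0, 3, 1, 2, 3, 8, 2, 4, 0, 4, 1]), (0, 0, []), (4, 0, [1, 5, 7, 7, 2, 7, 3, 8, 4, 1, 4]), (0, 0, []),
   (6, 0, [1, 2, 4, 1, 4, 0, 2, 8, 1]), (0, 0, []), (0, 0, []), (0, 0, []),
   (0, 0, []), (0, 0, []), (0, 0, []), (5, 0, [1, 8, 2, 7, 4, 0, 7, 7, 4, 0]),
   (0, 0, []), (4, 0, [8, 0, 3, 7, 0, 3, 5, 2]), (7, 0, [3, 7, 3, 7, 7, 3, 1, 2]), (0, 2, []),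
   (3, 0, []), (0, 2, []), (5, 0, [2, 1, 8, 5, 8, 6, 7, 0, 2]), (3, 0, []),
   (4, 0, [2, 0, 3, 6, 0, 3, 8, 8, 0, 2]), (4, 0, [1, 2, 6, 7, 2, 5, 5, 8, 1, 1]), (9, 0, [2, 1, 7, 4, 0, 4, 4, 1, 2]), (3, 0, []),
   (5, 0, [1, 8, 2, 8, 0, 3, 7, 4, 1, 5]), (7, 0, [2, 6, 4, 8, 2, 8, 0, 5, 8, 4]), (9, 0, [1, 3, 7, 2, 7, 4, 8, 4, 4, 2]), (0, 1, []),
   (2, 0, []), (11, 0, [7, 6, 8, 4, 8, 6, 8, 2]), (4, 0, [1, 7, 0, 0, 2, 1, 7, 0, 7, 4]), (3, 0, []),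
   (0, 1, []), (0, 1, []), (4, 0, [1, 8, 2, 0, 6, 7, 4, 1, 1]), (0, 2, []),
   (4, 0, [7, 3, 8, 8, 8, 6, 6, 3, 2]), (0, 1, []), (0, 1, []), (9, 0, [1, 4, 0, 0, 6, 3, 0, 2, 8]),
   (0, 1, []), (7, 0, [2, 8, 8, 5, 5, 1, 3, 0, 7]), (9, 0, [0, 4, 1, 8, 8, 6, 8, 1, 2, 0, 0]), (0, 0, []),
   (0, 0, []), (2, 0, []), (11, 0, [2, 3, 8, 8, 0, 5, 4, 5, 8, 6]), (0, 0, []),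
   (7, 0, [7, 2, 4, 6, 8, 8, 1, 8]), (10, 0, [1, 2, 0, 6, 0, 3, 6, 7, 7]), (0, 0, []), (0, 0, []),
   (0, 0, []), (0, 0, []), (6, 0, [1, 2, 7, 2, 8, 5, 1, 8, 1, 7, 0]), (0, 0, []),
   (0, 0, []), (0, 0, []), (9, 0, [0, 6, 3, 8, 2, 5, 0, 7, 7]), (0, 0, []),
   (0, 0, []), (7, 0, [2, 7, 2, 4, 0, 4, 4, 1, 3, 7]), (0, 0, []), (0, 0, []),
   (0, 0, []), (5, 0, [1, 8, 2, 0, 3, 0, 7, 4, 4, 8]), (10, 0, [0, 4, 0, 6, 3, 1, 7, 6, 1]), (0, 0, []),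
   (0, 0, []), (11, 0, [2, 3, 8, 1, 2, 0, 4, 0]), (4, 0, [1, 7, 3, 5, 3, 8, 0, 2, 7, 6, 3]), (6, 0, [0, 0, 7, 0, 3, 1, 5, 1, 3, 2]),
   (0, 0, []), (3, 0, []), (0, 0, []), (0, 0, []),
   (9, 0, [8, 2, 1, 8, 5, 8, 0, 4, 5]), (0, 0, []), (10, 0, [0, 0, 2, 3, 6, 0, 4, 8]), (6, 0, [1, 8, 2, 1, 7, 3, 7, 0, 7, 2]),
   (0, 0, []), (0, 0, []), (0, 0, []), (0, 0, []),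
   (9, 0, [1, 5, 7, 2, 8, 6, 4, 6]), (0, 0, []), (0, 0, []), (0, 0, []),
   (0, 1, []), (0, 1, []), (0, 3, []), (3, 0, []),
   (0, 1, []), (4, 0, [1, 1, 8, 0, 5, 7, 4, 4, 2]), (0, 1, []), (7, 0, [3, 5, 8, 8, 0, 7, 7, 2]),
   (11, 0, [2, 4, 4, 1, 3, 3, 1, 6, 7]), (4, 0, [2, 1, 4, 8, 4, 8, 4, 8, 0, 2]), (4, 0, [0, 4, 1, 5, 8, 0, 5, 8, 1, 2]), (0, 1, []),
   (7, 0, [6, 4, 1, 4, 0, 2, 4]), (11, 0, [4, 1, 7, 6, 8, 1, 5, 4, 0, 2]), (3, 0, []), (0, 0, []),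
   (0, 0, []), (6, 0, [6, 8, 2, 1, 4, 4, 1, 8, 0]), (9, 0, [1, 1, 3, 8, 2, 0, 3, 8, 6, 7, 0]), (10, 0, [1, 7, 0, 4, 8, 5, 8, 1]),
   (11, 0, [2, 7, 2, 3, 1, 1, 6, 7, 4]), (0, 0, []), (4, 0, [1, 7, 3, 6, 1, 5, 3, 7, 2, 7]), (0, 1, []),
   (0, 0, []), (11, 0, [4, 0, 2, 4, 1, 2, 7, 0, 5, 0]), (10, 0, [2, 6, 4, 1, 3, 3, 6, 8, 4, 1]), (9, 0, [1, 8, 2, 7, 3, 3, 1, 3, 7, 3]),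
   (6, 0, [1, 6, 3, 7, 3, 0, 7, 2, 7, 5]), (0, 1, []), (0, 1, []), (7, 0, [2, 4, 0, 7, 5, 7, 7, 6, 3, 0]),
   (0, 2, []), (0, 1, []), (5, 0, [1, 5, 8, 2, 7, 7, 5, 0, 0, 0]), (0, 1, []),
   (0, 2, []), (5, 0, [2, 5, 7, 6, 3, 1, 7, 0, 2]), (0, 1, []), (0, 2, []),
   (3, 0, []), (11, 0, [2, 4, 0, 0, 3, 0, 4, 1, 7, 0]), (4, 0, [1, 3, 7, 2, 4, 6, 7, 7, 0, 4, 2]), (2, 0, []),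
   (0, 2, []), (0, 0, []), (0, 3, []), (4, 0, [2, 1, 7, 6, 1, 2, 8, 6, 2, 0, 0]),
   (0, 0, []), (0, 0, []), (0, 0, []), (0, 0, []),
   (5, 0, [1, 8, 6, 1, 2, 3, 0, 2, 7, 7]), (0, 0, []), (9, 0, [1, 7, 2, 5, 0, 2, 7, 3, 7, 5]), (0, 0, []),
   (10, 0, [5, 0, 3, 7, 5, 7, 7, 2, 0]), (6, 0, [2, 0, 7, 6, 7, 2, 8, 5, 0]), (7, 0, [2, 8, 8, 8, 0, 2, 5, 1, 3, 0]), (11, 0, [2, 4, 6, 0, 6, 7, 2, 7, 3, 3, 0]),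
   (0, 0, []), (5, 0, [0, 2, 8, 8, 2, 0, 0, 3, 0, 5]), (0, 0, []), (6, 0, [0, 2, 6, 3, 1, 3, 8, 6, 4]),
   (0, 0, []), (5, 0, [1, 1, 8, 0, 5, 7, 3, 7, 0]), (10, 0, [1, 4, 8, 1, 2, 5, 7, 0, 0, 3]), (0, 0, []),
   (5, 0, [1, 3, 7, 4, 8, 2, 8, 8, 2, 7]), (5, 0, [1, 8, 6, 1, 3, 8, 2, 5, 1, 7]), (0, 0, []), (7, 0, [2, 5, 8, 2, 6, 4, 8, 4, 1, 7]),
   (0, 0, []), (11, 0, [4, 4, 5, 1, 7, 2, 3, 3, 8]), (0, 0, []), (0, 1, []),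
   (9, 0, [1, 7, 0, 4, 0, 3, 5, 5, 2, 1]), (5, 0, [1, 8, 0, 5, 3, 7, 2, 0, 4, 0, 2]), (0, 1, []), (0, 1, []),
   (7, 0, [2, 3, 6, 0, 7, 5, 3, 1, 2, 0]), (9, 0, [1, 2, 4, 6, 7, 7, 0, 3, 3, 0]), (7, 0, [4, 4, 1, 6, 6, 4, 8, 4, 2]), (4, 0, [0, 3, 7, 7, 5, 7, 4, 0, 2]),
   (3, 0, []), (4, 0, [8, 0, 3, 6, 7, 3, 5, 2]), (5, 0, [2, 1, 8, 0, 5, 5, 0, 5, 2]), (3, 0, []),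
   (3, 0, []), (4, 0, [2, 1, 3, 1, 7, 3, 8, 6, 1, 2]), (0, 0, []), (0, 0, []),
   (0, 0, []), (4, 0, [0, 7, 2, 6, 0, 3, 3, 8, 0, 2, 0]), (4, 0, [2, 1, 5, 7, 4, 5, 1, 2, 1, 7, 0]), (11, 0, [2, 8, 8, 2, 7, 6, 7, 2, 7]),
   (4, 0, [1, 3, 8, 8, 1, 2, 6, 1, 5, 4]), (0, 0, []), (7, 0, [2, 8, 2, 0, 7, 3, 8, 5, 4, 8]), (0, 0, []),
   (0, 0, []), (7, 0, [4, 8, 1, 5, 7, 7, 2, 4, 1]), (11, 0, [4, 8, 2, 8, 2, 8, 6, 3, 7, 3]), (0, 0, []),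
   (0, 0, []), (0, 1, []), (3, 0, []), (0, 1, []),
   (5, 0, [1, 1, 8, 8, 0, 4, 1, 2, 7]), (5, 0, [1, 4, 5, 4, 8, 6, 1, 2, 8]), (4, 0, [0, 0, 4, 1, 8, 2, 8, 6, 0, 2]), (5, 0, [0, 4, 0, 5, 7, 2, 7, 4, 6, 8, 0]),
   (0, 2, []), (5, 0, [0, 2, 8, 6, 1, 7, 2, 7, 4, 2, 0]), (7, 0, [2, 5, 4, 0, 5, 7, 7, 0, 6, 0]), (0, 1, []),
   (7, 0, [3, 6, 0, 3, 6, 7, 6, 2]), (0, 1, []), (0, 2, []), (0, 1, []),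
   (0, 0, []), (0, 0, []), (0, 0, []), (0, 0, []),
   (0, 0, []), (11, 0, [7, 2, 0, 7, 3, 1, 4, 2]), (11, 0, [2, 8, 8, 0, 4, 4, 5, 8, 4, 8]), (0, 0, []),
   (0, 0, []), (7, 0, [4, 0, 5, 8, 0, 2, 1, 8, 8]), (0, 0, []), (4, 0, [2, 1, 5, 3, 8, 2, 7, 4, 6, 0]),
   (0, 0, []), (7, 0, [7, 2, 0, 7, 3, 6, 8, 6]), (0, 0, []), (2, 0, []),
   (7, 0, [2, 0, 3, 7, 4, 8, 1, 3, 0]), (0, 1, []), (9, 0, [1, 2, 4, 6, 8, 1, 7, 2, 8, 2]), (4, 0, [1, 8, 2, 0, 7, 0, 4, 1, 5]),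
   (11, 0, [4, 4, 8, 1, 3, 6, 7, 7, 5, 2]), (0, 1, []), (3, 0, []), (0, 1, []),
   (4, 0, [7, 3, 8, 8, 5, 1, 2]), (0, 1, []), (0, 3, []), (9, 0, [1, 7, 2, 3, 8, 0, 0, 2, 0, 0]),
   (4, 0, [2, 1, 7, 6, 7, 4, 1, 1, 1, 2]), (0, 1, []), (4, 0, [0, 2, 1, 8, 4, 8, 4, 6, 3, 2, 0]), (10, 0, [1, 4, 6, 7, 0, 7, 6, 0, 3]),
   (0, 1, []), (0, 2, []), (0, 0, []), (0, 0, []),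
   (6, 0, [1, 8, 5, 5, 8, 2, 8, 0, 5]), (9, 0, [0, 2, 4, 1, 7, 2, 0, 3, 1, 8]), (11, 0, [2, 5, 7, 5, 4, 4, 8, 8, 5, 1]), (6, 0, [4, 1, 4, 1, 3, 8, 8, 2, 1]),
   (9, 0, [1, 1, 3, 8, 2, 0, 7, 6, 0]), (10, 0, [0, 2, 0, 3, 0, 7, 6, 1, 7, 4]), (0, 0, []), (0, 0, []),
   (11, 0, [2, 8, 2, 1, 3, 0, 5, 7, 7, 0]), (5, 0, [1, 2, 0, 4, 6, 7, 7, 2, 0, 6]), (0, 0, []), (4, 0, [1, 2, 0, 3, 0, 7, 2, 8, 8, 4]),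
   (10, 0, [1, 3, 1, 7, 0, 5, 0, 2, 8]), (0, 0, []), (0, 0, []), (0, 0, []),
   (10, 0, [1, 3, 7, 4, 6, 6, 1, 5]), (6, 0, [1, 2, 3, 8, 0, 4, 8, 5, 0]), (5, 0, [1, 3, 5, 1, 7, 3, 3, 7, 7]), (6, 0, [1, 2, 7, 0, 6, 4, 8, 4, 8]),
   (7, 0, [2, 8, 5, 1, 7, 7, 4, 8, 4, 1]), (0, 1, []), (0, 0, []), (7, 0, [6, 7, 7, 4, 5, 1, 5, 2, 0]),
   (2, 0, []), (0, 1, []), (4, 0, [7, 3, 8, 8, 8, 5, 3, 2]), (0, 1, []),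
   (11, 0, [4, 4, 8, 2, 1, 8, 0, 5, 0]), (7, 0, [4, 1, 5, 5, 7, 0, 7, 7, 4, 2]), (0, 2, []), (0, 1, []),
   (4, 0, [1, 8, 2, 0, 6, 7, 4, 1, 1, 6]), (4, 0, [0, 7, 3, 3, 1, 7, 7, 2, 8, 6, 1]), (3, 0, []), (9, 0, [1, 5, 8, 0, 7, 6, 8, 2, 8, 0]),
   (0, 1, []), (0, 1, []), (9, 0, [2, 7, 4, 0, 6, 0, 3, 3, 2]), (6, 0, [0, 2, 7, 5, 7, 7, 0, 3]),
   (0, 0, []), (4, 0, [1, 7, 6, 1, 2, 8, 1, 6, 6, 1, 2]), (7, 0, [2, 1, 3, 3, 1, 6, 1, 2, 8, 0]), (0, 0, []),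
   (0, 0, []), (0, 0, []), (9, 0, [0, 2, 3, 7, 4, 8, 1, 1, 2]), (11, 0, [2, 3, 1, 7, 6, 1, 4, 8, 5, 1]),
   (0, 0, []), (0, 0, []), (5, 0, [8, 1, 8, 2, 6, 0, 7, 6, 2]), (0, 0, []),
   (10, 0, [0, 2, 4, 0, 7, 4, 8, 2, 7, 5]), (0, 2, []), (0, 1, []), (0, 1, []),
   (0, 3, []), (7, 0, [4, 1, 3, 7, 4, 6, 8, 5, 0, 2]), (3, 0, []), (0, 1, []),
   (5, 0, [0, 2, 5, 0, 7, 7, 0, 6, 0, 3]), (11, 0, [2, 3, 1, 3, 0, 4, 4, 6, 8, 1]), (0, 3, []), (0, 1, []),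
   (2, 0, []), (0, 3, []), (4, 0, [2, 4, 8, 1, 5, 7, 3, 5, 2]), (5, 0, [1, 5, 8, 2, 7, 6, 7, 6, 1]),
   (0, 3, []), (0, 0, []), (10, 0, [1, 7, 6, 6, 7, 2, 8, 4, 4, 5]), (3, 0, []),
   (0, 0, []), (0, 0, []), (0, 0, []), (0, 0, []),
   (0, 0, []), (6, 0, [0, 0, 7, 5, 8, 5, 8, 2, 7]), (0, 0, []), (5, 0, [6, 1, 2, 0, 4, 4, 8, 8, 6, 0]),
   (0, 0, []), (0, 0, []), (0, 0, []), (5, 0, [1, 5, 7, 2, 8, 5, 4, 5, 2]),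
   (5, 0, [2, 1, 8, 8, 5, 3, 1, 2]), (0, 2, []), (3, 0, []), (3, 0, []),
   (7, 0, [4, 5, 0, 7, 2, 5, 4, 8, 4, 0]), (7, 0, [2, 3, 0, 3, 8, 1, 7, 3, 7, 0]), (0, 2, []), (3, 0, []),
   (4, 0, [8, 1, 8, 8, 1, 1, 6, 2]), (4, 0, [8, 0, 3, 7, 0, 5, 5, 3, 2]), (5, 0, [2, 7, 2, 3, 6, 8, 4, 2, 1]), (9, 0, [1, 3, 0, 2, 4, 1, 7, 4, 1, 3, 0]),
   (9, 0, [2, 8, 0, 6, 3, 8, 1, 1, 2]), (0, 1, []), (4, 0, [0, 4, 6, 8, 4, 8, 2, 8, 2]), (6, 0, [0, 2, 7, 5, 7, 7, 0, 3, 5]),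
   (0, 0, []), (5, 0, [5, 1, 2, 0, 6, 7, 7, 4, 2]), (7, 0, [2, 1, 8, 0, 4, 5, 8, 0, 5, 8, 0]), (0, 0, []),
   (0, 0, []), (0, 0, []), (10, 0, [1, 3, 0, 2, 3, 1, 3, 6, 7, 7, 0]), (9, 0, [0, 2, 3, 7, 4, 8, 1, 1, 6, 2]),
   (0, 0, []), (4, 0, [0, 7, 6, 7, 4, 0, 2, 6, 8, 0, 4]), (0, 0, []), (11, 0, [4, 4, 6, 0, 3, 7, 5, 4, 2, 0]),
   (0, 0, []), (0, 1, []), (0, 0, []), (10, 0, [1, 3, 5, 7, 5, 7, 6, 3, 3, 2]),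
   (9, 0, [0, 4, 8, 1, 6, 7, 0, 2, 8]), (6, 0, [1, 8, 2, 0, 4, 0, 4, 0, 4, 4, 0]), (9, 0, [0, 2, 7, 7, 4, 0, 2, 1, 6, 3]), (0, 0, []),
   (11, 0, [2, 5, 1, 4, 5, 8, 1, 3, 0]), (0, 0, []), (0, 0, []), (0, 0, []),
   (0, 0, []), (3, 0, []), (7, 0, [2, 6, 1, 4, 6, 1, 5, 4, 8, 0]), (0, 0, []),
   (0, 0, []), (0, 0, []), (5, 0, [1, 5, 3, 7, 2, 7, 6, 6, 4, 1]), (5, 0, [0, 2, 1, 4, 8, 5, 0, 5, 0, 3, 0]),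
   (5, 0, [1, 8, 0, 2, 5, 4, 0]), (0, 0, []), (5, 0, [0, 2, 8, 8, 2, 5, 0, 7, 6, 1]), (6, 0, [0, 2, 6, 3, 1, 3, 8, 4, 6]),
   (0, 0, []), (7, 0, [7, 3, 5, 7, 3, 7, 0, 2, 0]), (11, 0, [7, 2, 4, 1, 6, 3, 8, 4, 6]), (0, 0, []),
   (0, 0, []), (10, 0, [1, 2, 7, 3, 5, 7, 4, 8, 8, 5]), (0, 0, []), (0, 0, []),
   (0, 1, []), (0, 0, []), (9, 0, [1, 1, 3, 8, 2, 0, 5, 3, 1, 1]), (9, 0, [0, 4, 0, 2, 4, 5, 8, 4, 5, 0]),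
   (6, 0, [1, 5, 4, 0, 2, 5, 7, 2, 1]), (0, 0, []), (6, 0, [0, 2, 4, 0, 2, 1, 1, 1, 7]), (11, 0, [4, 8, 2, 7, 3, 3, 8, 4, 2, 0]),
   (11, 0, [2, 8, 1, 5, 8, 2, 4, 0, 6]), (0, 0, []), (0, 0, []), (10, 0, [1, 7, 5, 4, 4, 0, 3]),
   (0, 1, []), (4, 0, [1, 7, 2, 5, 8, 0, 2, 8, 2, 1]), (10, 0, [1, 2, 3, 5, 4, 8, 4, 1, 1])]

def cert0_2 : List (ℕ × ℕ × List ℕ) :=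
  [(0, 0, []), (0, 0, []), (7, 0, [3, 1, 2, 3, 6, 7, 0, 2, 7]), (0, 0, []),
   (5, 0, [8, 1, 8, 2, 6, 0, 7, 5, 2]), (0, 0, []), (0, 2, []), (9, 0, [0, 5, 4, 0, 3, 0, 7, 2, 0]),
   (10, 0, [0, 2, 4, 0, 7, 4, 8, 2, 7, 6]), (11, 0, [4, 0, 2, 3, 3, 1, 1, 2, 7, 3]), (4, 0, [2, 0, 3, 8, 2, 5, 5, 7, 4, 1]), (0, 0, []),
   (6, 0, [2, 4, 0, 3, 3, 8, 8, 4]), (0, 0, []), (0, 0, []), (0, 0, []),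
   (6, 0, [0, 2, 1, 3, 6, 7, 2, 8, 1, 8]), (0, 0, []), (0, 0, []), (0, 0, []),
   (0, 0, []), (0, 0, []), (10, 0, [0, 2, 3, 1, 3, 6, 7, 7, 3, 2]), (4, 0, [1, 3, 1, 3, 1, 5, 8, 2, 7, 7, 0]),
   (0, 0, []), (6, 0, [0, 2, 5, 8, 8, 0, 7, 3, 1]), (0, 0, []), (11, 0, [2, 4, 0, 2, 6, 3, 7, 7, 2]),
   (7, 0, [4, 0, 2, 5, 5, 4, 8, 8, 1, 8]), (10, 0, [1, 6, 8, 2, 8, 8, 6, 0, 7, 5]), (4, 0, [1, 2, 7, 0, 6, 0, 3, 8, 0, 7]), (0, 1, []),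
   (0, 2, []), (7, 0, [4, 8, 5, 4, 8, 8, 0, 6, 2]), (2, 0, []), (5, 0, [1, 8, 1, 8, 2, 0, 7, 0, 0, 0]),
   (11, 0, [2, 0, 4, 4, 5, 7, 2, 7, 3]), (0, 1, []), (4, 0, [0, 3, 6, 7, 7, 3, 1, 1, 2]), (0, 1, []),
   (0, 3, []), (5, 0, [2, 0, 4, 6, 1, 3, 5, 5, 2]), (4, 0, [3, 7, 3, 1, 1, 7, 6, 1, 2]), (3, 0, []),
   (0, 1, []), (6, 0, [2, 0, 3, 7, 6, 7, 7, 3, 8]), (0, 0, []), (0, 0, []),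
   (0, 0, []), (9, 0, [7, 2, 8, 2, 8, 0, 0, 6, 3]), (3, 0, []), (0, 0, []),
   (9, 0, [1, 2, 6, 0, 7, 0, 5, 0, 2, 1]), (0, 0, []), (0, 0, []), (11, 0, [4, 1, 2, 8, 5, 3, 0, 2, 7, 3]),
   (0, 0, []), (10, 0, [5, 8, 8, 4, 8, 1, 4, 1, 2]), (7, 0, [2, 7, 7, 7, 3, 7, 7, 2, 1, 6]), (0, 0, []),
   (4, 0, [1, 2, 6, 8, 4, 0, 6, 3, 1, 7, 0]), (5, 0, [1, 2, 7, 7, 2, 0, 0, 7, 3, 7]), (10, 0, [2, 3, 8, 1, 7, 0, 3, 5, 3]), (0, 0, []),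
   (9, 0, [1, 4, 6, 4, 1, 7, 2, 5, 8, 4]), (0, 0, []), (0, 1, []), (0, 0, []),
   (6, 0, [4, 0, 2, 7, 5, 5, 4, 0]), (0, 0, []), (0, 0, []), (0, 0, []),
   (0, 0, []), (0, 0, []), (0, 0, []), (0, 1, []),
   (0, 1, []), (0, 1, []), (0, 1, []), (0, 1, []),
   (0, 1, []), (7, 0, [4, 5, 5, 4, 0, 4, 5, 8, 2]), (5, 0, [1, 5, 8, 2, 7, 3, 5, 5, 0, 0]), (4, 0, [1, 5, 8, 2, 8, 5, 8, 0, 7, 4, 0]),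
   (5, 0, [1, 5, 8, 6, 0, 7, 2, 7, 0, 4, 1]), (2, 0, []), (11, 0, [4, 0, 4, 5, 0, 7, 4, 4, 0, 2]), (0, 1, []),
   (0, 1, []), (3, 0, []), (3, 0, []), (4, 0, [1, 2, 6, 7, 6, 0, 7, 4, 1, 1]),
   (0, 1, []), (5, 0, [2, 6, 3, 7, 3, 1, 1, 1, 2]), (0, 2, []), (0, 1, []),
   (2, 0, []), (5, 0, [1, 3, 8, 8, 5, 4, 5, 8, 8]), (0, 1, []), (0, 2, []),
   (0, 1, []), (0, 1, []), (11, 0, [2, 0, 3, 3, 6, 7, 7, 6, 2, 1]), (0, 3, []),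
   (7, 0, [2, 1, 7, 2, 0, 5, 0, 0, 7]), (4, 0, [3, 7, 4, 0, 0, 7, 7, 2]), (11, 0, [3, 0, 3, 7, 0, 6, 7, 4, 2]), (11, 0, [4, 1, 7, 2, 8, 6, 3, 8, 4, 1]),
   (0, 1, []), (7, 0, [3, 8, 1, 1, 1, 8, 8, 0, 2]), (3, 0, []), (0, 1, []),
   (4, 0, [8, 8, 4, 8, 2, 8, 5, 2, 0]), (7, 0, [5, 3, 7, 4, 0, 0, 2]), (3, 0, []), (0, 1, []),
   (0, 1, []), (0, 1, []), (0, 3, []), (4, 0, [8, 8, 1, 1, 3, 8, 4, 2]),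
   (5, 0, [0, 4, 8, 0, 0, 2, 4, 6, 7, 3]), (11, 0, [2, 6, 0, 4, 5, 8, 4, 1, 1, 1]), (0, 0, []), (0, 0, []),
   (0, 0, []), (0, 0, []), (0, 0, []), (10, 0, [1, 7, 5, 5, 7, 2, 4, 0, 4]),
   (0, 0, []), (7, 0, [5, 7, 0, 7, 4, 0, 6, 2, 1]), (9, 0, [1, 7, 4, 0, 3, 8, 0, 2, 7, 0, 0]), (4, 0, [7, 2, 0, 3, 1, 3, 6, 1, 8]),
   (0, 0, []), (0, 0, []), (6, 0, [1, 4, 8, 1, 2, 7, 4, 1, 8]), (0, 0, []),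
   (4, 0, [2, 1, 3, 6, 7, 2, 8, 1, 6, 8]), (7, 0, [2, 1, 7, 0, 3, 7, 5, 3, 0, 3]), (0, 0, []), (0, 0, []),
   (11, 0, [2, 5, 3, 7, 3, 1, 6, 3, 7]), (0, 0, []), (4, 0, [7, 2, 4, 5, 0, 4, 5, 8, 2]), (0, 0, []),
   (0, 0, []), (11, 0, [4, 8, 6, 0, 4, 0, 3, 1, 2, 0]), (7, 0, [7, 6, 4, 1, 2, 4, 1, 8, 6]), (4, 0, [0, 7, 7, 4, 0, 2, 8, 4, 6, 3]),
   (0, 0, []), (0, 0, []), (5, 0, [0, 2, 3, 7, 2, 5, 7, 4, 6, 2]), (0, 2, []),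
   (4, 0, [0, 5, 4, 0, 2, 1, 7, 5, 3, 0]), (11, 0, [4, 5, 0, 3, 3, 0, 5, 7, 2]), (3, 0, []), (4, 0, [1, 3, 8, 6, 8, 8, 4, 1, 2]),
   (9, 0, [2, 6, 0, 4, 0, 0, 0, 0, 2]), (0, 2, []), (11, 0, [2, 1, 1, 8, 8, 1, 7, 0, 4]), (3, 0, []),
   (9, 0, [2, 7, 0, 7, 5, 4, 1, 7, 2]), (0, 2, []), (3, 0, []), (4, 0, [4, 1, 8, 4, 1, 7, 6, 2]),
   (5, 0, [1, 5, 7, 3, 8, 2, 1, 8, 4]), (0, 0, []), (0, 0, []), (6, 0, [4, 1, 8, 5, 8, 8, 6, 4, 2, 1]),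
   (0, 0, []), (0, 0, []), (9, 0, [1, 2, 8, 6, 0, 7, 6, 6, 1, 5]), (4, 0, [0, 7, 3, 0, 4, 0, 2, 1, 8, 0, 0]),
   (5, 0, [1, 7, 6, 0, 7, 7, 2, 5, 8]), (10, 0, [1, 7, 2, 8, 1, 4, 6, 1, 5, 2]), (0, 0, []), (6, 0, [1, 7, 2, 8, 1, 4, 6, 1]),
   (5, 0, [1, 2, 1, 4, 6, 4, 1, 6, 7]), (10, 0, [1, 3, 1, 5, 8, 0, 2, 1, 8, 1]), (9, 0, [2, 1, 6, 6, 1, 7, 3, 2, 0]), (0, 0, []),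
   (11, 0, [7, 2, 4, 1, 6, 3, 8, 4]), (0, 0, []), (5, 0, [8, 1, 8, 2, 7, 4, 0, 6, 3, 0]), (6, 0, [0, 2, 6, 3, 1, 3, 8, 4]),
   (5, 0, [6, 1, 6, 7, 2, 4, 8, 4, 6]), (0, 0, []), (0, 0, []), (0, 0, []),
   (0, 0, []), (0, 0, []), (10, 0, [1, 7, 0, 5, 7, 2, 3, 8, 1, 3]), (7, 0, [4, 8, 2, 8, 2, 4, 8, 1, 3]),
   (5, 0, [0, 2, 3, 1, 8, 1, 8, 0, 6, 4, 1]), (0, 0, []), (5, 0, [1, 8, 0, 2, 5, 4, 0, 5]), (0, 1, []),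
   (0, 1, []), (0, 1, []), (5, 0, [1, 5, 8, 2, 7, 7, 6, 6, 0]), (0, 1, []),
   (2, 0, []), (0, 1, []), (5, 0, [0, 2, 6, 0, 7, 5, 0, 3, 7, 3]), (4, 0, [2, 1, 5, 5, 7, 3, 1, 7, 3, 2]),
   (0, 1, []), (0, 1, []), (0, 1, []), (11, 0, [6, 7, 3, 8, 5, 1, 8, 0, 2]),
   (3, 0, []), (7, 0, [2, 4, 8, 8, 0, 4, 8, 6, 1]), (0, 0, []), (10, 0, [2, 8, 5, 0, 7, 7, 0, 3, 2]),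
   (10, 0, [1, 8, 1, 8, 4, 0, 7, 3, 2, 8]), (6, 0, [1, 8, 6, 1, 2, 6, 3, 7, 3, 0]), (0, 0, []), (0, 0, []),
   (0, 0, []), (6, 0, [2, 8, 5, 0, 7, 7, 0, 3, 5]), (4, 0, [7, 7, 5, 4, 0, 6, 3, 8, 2, 0]), (0, 0, []),
   (0, 0, []), (0, 0, []), (0, 0, []), (0, 0, []),
   (0, 0, []), (0, 1, []), (0, 1, []), (11, 0, [6, 7, 3, 1, 8, 2, 4]),
   (2, 0, []), (7, 0, [2, 1, 1, 3, 0, 4, 0, 3, 8, 0]), (9, 0, [2, 6, 1, 5, 3, 1, 1, 2]), (9, 0, [2, 5, 0, 7, 5, 7, 6, 2]),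
   (4, 0, [8, 4, 0, 2, 6, 6, 1, 8, 1, 2]), (3, 0, []), (0, 1, []), (0, 1, []),
   (0, 2, []), (4, 0, [0, 3, 1, 8, 1, 2, 7, 0]), (4, 0, [7, 0, 4, 8, 1, 6, 6, 1, 2]), (0, 1, []),
   (0, 0, []), (0, 0, []), (0, 0, []), (4, 0, [1, 3, 8, 8, 8, 2, 6, 7, 4, 4]),
   (0, 0, []), (11, 0, [4, 5, 1, 7, 2, 1, 4, 8, 2, 1]), (4, 0, [2, 7, 2, 1, 3, 8, 8, 1, 2]), (0, 0, []),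
   (7, 0, [2, 7, 3, 6, 0, 4, 5, 0, 0, 2, 1]), (0, 0, []), (0, 0, []), (11, 0, [2, 5, 7, 4, 6, 6, 1, 5, 7, 0]),
   (7, 0, [2, 6, 6, 4, 0, 7, 4, 1, 4, 4]), (0, 0, []), (4, 0, [1, 2, 7, 3, 1, 8, 1, 7, 7, 2]), (11, 0, [4, 8, 5, 4, 8, 6, 8, 6, 1, 2]),
   (11, 0, [4, 8, 5, 1, 5, 8, 0, 0, 2]), (0, 1, []), (0, 1, []), (3, 0, []),
   (4, 0, [0, 4, 6, 8, 2, 5, 8, 8, 0]), (0, 1, []), (5, 0, [5, 0, 7, 0, 7, 3, 0, 2, 1]), (9, 0, [0, 7, 2, 3, 6, 3, 7, 7, 3]),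
   (3, 0, []), (5, 0, [1, 7, 3, 6, 7, 2, 7, 3, 2, 7]), (5, 0, [7, 4, 4, 8, 2, 0, 0, 3, 0]), (0, 1, []),
   (0, 1, []), (4, 0, [7, 0, 4, 0, 5, 8, 5, 0, 2]), (0, 0, []), (0, 0, []),
   (6, 0, [0, 2, 1, 7, 7, 0, 6, 4, 1, 5]), (0, 0, []), (0, 0, []), (0, 0, []),
   (0, 0, []), (0, 0, []), (5, 0, [5, 8, 5, 0, 7, 2, 1, 7, 7]), (0, 0, []),
   (10, 0, [1, 7, 3, 7, 0, 0, 2, 0, 7, 3]), (0, 0, []), (9, 0, [0, 2, 4, 5, 8, 8, 0, 4, 0, 4]), (0, 0, []),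
   (4, 0, [0, 4, 8, 8, 2, 7, 3, 7, 4, 1]), (0, 0, []), (0, 0, []), (2, 0, []),
   (7, 0, [2, 0, 5, 8, 2, 0, 4, 0, 5, 7]), (0, 0, []), (11, 0, [2, 3, 5, 8, 2, 4, 8, 1, 8, 1, 2]), (6, 0, [1, 3, 1, 3, 8, 8, 6, 0, 2, 1]),
   (0, 0, []), (0, 0, []), (0, 0, []), (0, 0, []),
   (10, 0, [0, 2, 7, 2, 6, 6, 1, 8, 6, 4, 0]), (0, 0, []), (0, 0, []), (0, 0, []),
   (0, 1, []), (9, 0, [2, 6, 1, 7, 6, 0, 5, 5, 2]), (0, 1, []), (2, 0, []),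
   (4, 0, [1, 7, 5, 7, 6, 0, 4, 8, 4, 2]), (4, 0, [2, 4, 1, 8, 8, 1, 3, 0, 2]), (9, 0, [1, 2, 4, 6, 4, 0, 7, 2, 7]), (11, 0, [6, 7, 6, 3, 8, 2, 4]),
   (0, 1, []), (0, 1, []), (7, 0, [3, 1, 7, 3, 3, 0, 2]), (3, 0, []),
   (0, 1, []), (0, 1, []), (4, 0, [0, 0, 2, 8, 8, 5, 4, 5, 8, 4]), (0, 0, []),
   (0, 0, []), (7, 0, [2, 3, 8, 4, 4, 0, 7, 3, 8, 1]), (11, 0, [2, 6, 6, 4, 8, 1, 4, 4, 2, 0]), (10, 0, [1, 7, 0, 4, 0, 3, 8, 4, 2, 1]),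
   (0, 0, []), (0, 0, []), (0, 0, []), (6, 0, [1, 2, 8, 1, 5, 4, 8, 2, 7, 0]),
   (0, 0, []), (6, 0, [3, 6, 3, 1, 6, 7, 2, 7, 3]), (4, 0, [3, 8, 8, 2, 4, 0, 7, 7, 5]), (0, 0, []),
   (10, 0, [0, 2, 8, 1, 4, 0, 6, 4, 0]), (0, 0, []), (0, 0, []), (7, 0, [2, 0, 4, 1, 5, 7, 0, 2, 0, 7]),
   (10, 0, [1, 5, 4, 0, 3, 6, 1, 6, 2, 0]), (0, 0, []), (4, 0, [0, 0, 6, 4, 8, 8, 2, 6, 8, 1, 2]), (10, 0, [1, 2, 1, 4, 6, 4, 8, 4, 0]),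
   (7, 0, [2, 1, 1, 7, 3, 1, 2, 7, 2, 0]), (0, 0, []), (6, 0, [3, 7, 4, 0, 2, 3, 0, 6, 3, 0]), (0, 0, []),
   (0, 0, []), (5, 0, [6, 6, 1, 4, 0, 2, 1, 6, 7]), (6, 0, [1, 7, 4, 6, 4, 0, 0, 3, 2]), (5, 0, [2, 8, 0, 2, 5, 4, 0, 7, 0]),
   (0, 0, []), (7, 0, [4, 4, 8, 1, 5, 7, 3, 8, 2]), (4, 0, [1, 1, 8, 8, 8, 4, 0, 4, 1, 2]), (11, 0, [4, 0, 3, 0, 2, 1, 8, 0, 0, 0]),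
   (0, 1, []), (4, 0, [0, 7, 4, 1, 2, 4, 1, 3, 7]), (4, 0, [1, 4, 8, 8, 4, 8, 2, 5]), (7, 0, [4, 1, 7, 3, 5, 1, 1, 7, 2]),
   (4, 0, [2, 7, 7, 3, 7, 7, 5, 3, 2]), (0, 1, []), (4, 0, [2, 3, 8, 4, 1, 5, 8, 6, 0, 2]), (7, 0, [2, 3, 5, 8, 4, 0, 3, 3]),
   (11, 0, [4, 5, 4, 8, 4, 0, 7, 7, 0, 2]), (11, 0, [2, 1, 3, 7, 2, 7, 3, 0, 3, 2]), (2, 0, []), (0, 2, []),
   (0, 2, []), (5, 0, [1, 2, 1, 4, 1, 3, 7, 6, 6]), (5, 0, [2, 5, 1, 3, 1, 3, 7, 5, 2]), (4, 0, [1, 4, 1, 8, 2, 4, 8, 4, 0, 0]),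
   (3, 0, []), (9, 0, [2, 6, 7, 4, 8, 0, 2]), (0, 1, []), (0, 1, []),
   (11, 0, [2, 5, 5, 4, 8, 2, 4, 1, 5]), (0, 3, []), (3, 0, []), (11, 0, [4, 6, 0, 4, 6, 8, 8, 0, 2]),
   (0, 1, []), (4, 0, [7, 4, 4, 1, 8, 0, 2]), (5, 0, [2, 7, 7, 7, 4, 1, 6, 3, 2]), (0, 0, []),
   (4, 0, [1, 1, 8, 0, 3, 8, 2, 0, 5, 4, 1]), (0, 0, []), (10, 0, [6, 6, 1, 3, 8, 8, 8, 6, 2, 0]), (0, 1, []),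
   (11, 0, [2, 1, 7, 3, 7, 2, 8, 6, 1, 3]), (9, 0, [0, 7, 7, 2, 8, 6, 8, 8, 0]), (0, 0, []), (5, 0, [7, 0, 0, 0, 2, 0, 4, 0, 7, 0]),
   (0, 0, []), (7, 0, [7, 2, 1, 6, 1, 7, 6, 0, 2]), (0, 0, []), (0, 0, []),
   (6, 0, [0, 2, 7, 5, 7, 6, 7, 3, 6]), (0, 0, []), (7, 0, [2, 0, 7, 7, 0, 2, 6, 1, 7, 2]), (9, 0, [1, 7, 2, 1, 3, 1, 6, 3, 2, 1]),
   (6, 0, [2, 8, 5, 1, 4, 1, 7, 3, 8]), (0, 0, []), (9, 0, [1, 6, 1, 8, 6, 0, 2, 7, 6]), (0, 0, []),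
   (0, 0, []), (10, 0, [1, 7, 5, 5, 0, 0, 7, 4, 2]), (3, 0, []), (11, 0, [3, 3, 8, 4, 8, 6, 7, 2, 0]),
   (0, 0, []), (0, 0, []), (0, 0, []), (0, 0, []),
   (0, 0, []), (7, 0, [5, 5, 7, 7, 2, 1, 4, 5, 1]), (0, 0, []), (6, 0, [1, 2, 6, 8, 0, 6, 0, 4, 5, 8]),
   (0, 0, []), (0, 0, []), (0, 0, []), (10, 0, [1, 3, 0, 3, 3, 8, 2, 0, 4, 6]),
   (11, 0, [2, 3, 8, 8, 0, 6, 6, 4, 1, 4]), (2, 0, []), (0, 0, []), (0, 0, []),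
   (0, 0, []), (0, 0, []), (0, 0, []), (0, 0, []),
   (0, 0, []), (6, 0, [0, 2, 7, 5, 7, 6, 7, 6, 3]), (7, 0, [4, 5, 1, 7, 2, 0, 4, 8, 1, 1]), (4, 0, [1, 4, 8, 6, 1, 3, 5, 8, 0, 2, 0]),
   (0, 0, []), (0, 0, []), (0, 0, []), (10, 0, [0, 2, 5, 8, 1, 3, 8, 8, 2, 8]),
   (11, 0, [2, 7, 7, 5, 8, 4, 1, 2, 0, 7]), (0, 0, []), (0, 0, []), (0, 1, []),
   (0, 0, []), (5, 0, [1, 7, 6, 0, 6, 3, 8, 2, 8, 6]), (9, 0, [1, 2, 1, 6, 7, 2, 1, 3, 7, 0]), (7, 0, [4, 4, 1, 5, 5, 4, 1, 4, 4, 2]),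
   (3, 0, []), (0, 1, []), (5, 0, [8, 2, 6, 0, 2, 8, 1, 2, 0, 0]), (4, 0, [4, 1, 5, 8, 8, 8, 1, 2]),
   (5, 0, [2, 1, 8, 0, 5, 0, 0, 2]), (4, 0, [0, 7, 2, 4, 6, 0, 4, 0, 4, 4, 0]), (3, 0, []), (4, 0, [8, 1, 8, 8, 8, 6, 3, 2]),
   (3, 0, []), (7, 0, [7, 0, 6, 0, 6, 3, 8, 2]), (9, 0, [1, 1, 2, 7, 3, 3, 1, 7, 7, 5]), (0, 1, []),
   (9, 0, [2, 6, 8, 8, 1, 5, 8, 2]), (0, 1, []), (0, 0, []), (11, 0, [2, 5, 7, 5, 3, 7, 2, 1, 8, 1]),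
   (4, 0, [1, 3, 0, 3, 8, 4, 0, 2, 1]), (0, 0, []), (0, 0, []), (4, 0, [0, 5, 7, 6, 7, 4, 0, 2, 8, 6, 0]),
   (0, 0, []), (0, 0, []), (7, 0, [4, 1, 2, 7, 2, 3, 5, 8, 5, 1]), (7, 0, [7, 6, 4, 1, 2, 4, 1, 8, 5]),
   (0, 0, []), (0, 0, []), (4, 0, [2, 1, 3, 6, 7, 2, 8, 8, 6]), (11, 0, [2, 5, 1, 1, 1, 7, 7, 3, 8, 6]),
   (0, 0, []), (7, 0, [6, 7, 5, 4, 8, 8, 0, 2]), (0, 2, []), (7, 0, [2, 1, 7, 2, 1, 7, 6, 1, 2, 0]),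
   (0, 1, []), (0, 2, []), (4, 0, [2, 3, 8, 0, 0, 7, 0, 3, 2]), (0, 2, []),
   (3, 0, []), (5, 0, [1, 1, 8, 6, 1, 4, 1, 2, 0, 4]), (5, 0, [1, 8, 8, 4, 5, 7, 2, 0, 5, 3, 0]), (5, 0, [2, 5, 1, 8, 0, 0, 7, 6, 2]),
   (0, 2, []), (0, 2, []), (5, 0, [1, 3, 8, 2, 0, 7, 3, 8, 1]), (0, 1, []),
   (5, 0, [1, 2, 7, 3, 5, 8, 6, 3, 7]), (5, 0, [1, 7, 2, 8, 4, 1, 3, 1, 8, 8, 0]), (0, 1, []), (7, 0, [4, 5, 3, 7, 3, 1, 1, 2]),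
   (0, 2, []), (5, 0, [2, 7, 2, 7, 5, 8, 4, 8, 0]), (4, 0, [7, 2, 4, 5, 8, 8, 1, 4, 5, 0]), (0, 1, []),
   (3, 0, []), (7, 0, [4, 0, 4, 0, 3, 3, 6, 1, 2]), (0, 1, []), (0, 1, []),
   (0, 1, []), (5, 0, [1, 4, 5, 7, 2, 3, 7, 7, 4, 0]), (0, 2, [])]

def cert0_3 : List (ℕ × ℕ × List ℕ) :=
  [(0, 1, []), (0, 1, []), (0, 1, []), (0, 1, []),
   (7, 0, [7, 2, 8, 2, 1, 7, 5, 8]), (0, 1, []), (0, 1, []), (11, 0, [3, 7, 7, 5, 0, 4, 8, 2]),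
   (4, 0, [7, 3, 8, 8, 8, 6, 3, 2]), (4, 0, [1, 2, 3, 1, 4, 0, 3, 0, 2, 8]), (4, 0, [2, 1, 4, 0, 7, 7, 0, 3, 2]), (2, 0, []),
   (3, 0, []), (9, 0, [2, 0, 4, 6, 1, 5, 8, 1, 2]), (9, 0, [1, 2, 8, 8, 5, 8, 8, 0, 4, 0, 0]), (4, 0, [1, 5, 7, 2, 4, 0, 0, 4, 2]),
   (0, 0, []), (0, 0, []), (6, 0, [0, 2, 8, 6, 1, 4, 1, 7]), (0, 0, []),
   (0, 0, []), (0, 0, []), (10, 0, [0, 2, 1, 5, 7, 4, 1, 3, 5, 7]), (0, 0, []),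
   (0, 0, []), (0, 0, []), (0, 0, []), (5, 0, [6, 7, 3, 1, 6, 7, 6]),
   (0, 0, []), (9, 0, [0, 7, 2, 4, 6, 0, 7, 6, 8]), (0, 0, []), (0, 0, []),
   (7, 0, [7, 6, 8, 1, 5, 8, 1, 2, 0]), (9, 0, [1, 2, 1, 1, 1, 7, 0]), (0, 0, []), (0, 0, []),
   (6, 0, [1, 4, 1, 7, 2, 5, 7, 0, 7, 3, 1]), (9, 0, [1, 2, 1, 7, 3, 8, 0, 7, 5, 0, 0]), (10, 0, [0, 2, 5, 8, 2, 6, 6, 8, 2, 0]), (0, 0, []),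
   (9, 0, [6, 1, 2, 5, 7, 2, 8, 6, 0]), (0, 0, []), (11, 0, [4, 5, 4, 4, 8, 2, 8, 4, 4, 6]), (9, 0, [1, 2, 4, 0, 6, 7, 5, 8, 2, 0]),
   (0, 0, []), (0, 1, []), (0, 1, []), (0, 1, []),
   (0, 1, []), (5, 0, [1, 3, 3, 1, 5, 4, 0, 3, 2, 1, 1]), (5, 0, [1, 3, 1, 3, 0, 2, 7, 4, 8, 4]), (5, 0, [1, 2, 7, 7, 6, 6, 1, 7, 0]),
   (3, 0, []), (7, 0, [7, 6, 8, 6, 8, 1, 4, 4, 2]), (4, 0, [2, 0, 7, 7, 0, 7, 7, 5, 7, 2]), (5, 0, [1, 2, 0, 7, 6, 4, 8, 1, 8, 0]),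
   (0, 1, []), (7, 0, [4, 5, 3, 7, 3, 8, 6, 3, 2]), (0, 1, []), (0, 1, []),
   (4, 0, [1, 8, 0, 3, 0, 2, 1, 7, 7, 3]), (4, 0, [2, 8, 8, 1, 4, 4, 5, 2]), (0, 1, []), (4, 0, [1, 4, 1, 6, 8, 8, 4, 0, 4, 2]),
   (0, 1, []), (0, 1, []), (0, 1, []), (9, 0, [2, 1, 7, 6, 7, 5, 8, 2]),
   (9, 0, [0, 2, 6, 7, 3, 5, 3, 8, 0, 3]), (0, 1, []), (0, 1, []), (2, 0, []),
   (7, 0, [2, 6, 3, 3, 7, 4, 1, 8]), (11, 0, [4, 1, 4, 8, 4, 1, 8, 4, 2]), (3, 0, []), (5, 0, [0, 4, 1, 7, 2, 8, 4, 8, 8, 0]),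
   (0, 0, []), (6, 0, [2, 8, 0, 3, 1, 3, 1, 5, 1]), (0, 0, []), (0, 0, []),
   (0, 0, []), (0, 0, []), (10, 0, [0, 0, 7, 7, 4, 0, 5, 7, 4, 2, 0]), (0, 2, []),
   (6, 0, [0, 2, 6, 3, 1, 8, 0, 5, 4, 4, 0]), (6, 0, [1, 2, 4, 8, 0, 2, 5, 8, 6, 2]), (0, 0, []), (5, 0, [1, 7, 3, 8, 2, 4, 4, 0, 6, 2]),
   (0, 0, []), (0, 0, []), (7, 0, [4, 0, 4, 8, 0, 2, 7, 0, 4, 4]), (4, 0, [1, 2, 0, 7, 7, 2, 4, 4, 1, 8]),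
   (6, 0, [0, 4, 1, 4, 4, 1, 8, 8, 6, 2, 0]), (0, 0, []), (10, 0, [1, 8, 2, 8, 2, 1, 7, 7, 4, 0]), (11, 0, [2, 5, 8, 4, 4, 1, 7, 7, 4, 2, 0]),
   (0, 0, []), (0, 0, []), (6, 0, [1, 2, 0, 6, 0, 6, 7, 2, 7, 2]), (0, 0, []),
   (0, 0, []), (10, 0, [1, 6, 7, 7, 2, 7, 6, 0]), (0, 0, []), (0, 0, []),
   (0, 0, []), (0, 0, []), (0, 0, []), (0, 0, []),
   (0, 0, []), (0, 0, []), (0, 0, []), (0, 0, []),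
   (7, 0, [4, 8, 6, 8, 5, 1, 7, 4, 2, 0]), (0, 0, []), (0, 0, []), (11, 0, [4, 1, 8, 0, 2, 5, 0, 0, 2, 1]),
   (11, 0, [2, 4, 8, 0, 2, 4, 5, 4, 8, 1]), (7, 0, [7, 2, 0, 7, 3, 6, 8]), (0, 0, []), (4, 0, [2, 1, 5, 3, 8, 2, 7, 4, 6, 0, 5]),
   (11, 0, [4, 1, 8, 1, 5, 1, 1, 2, 1]), (7, 0, [2, 0, 3, 0, 5, 8, 2, 1, 7, 0]), (0, 0, []), (7, 0, [7, 7, 2, 5, 5, 8, 6, 0]),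
   (0, 0, []), (0, 0, []), (11, 0, [2, 6, 1, 3, 8, 0, 3, 8, 4, 0]), (0, 0, []),
   (0, 0, []), (4, 0, [1, 7, 5, 7, 0, 2, 0, 4, 8, 8]), (0, 0, []), (0, 0, []),
   (0, 0, []), (0, 0, []), (0, 0, []), (0, 1, []),
   (4, 0, [7, 7, 7, 0, 2, 8, 8, 2]), (0, 1, []), (4, 0, [2, 1, 5, 7, 4, 0, 5, 0, 2]), (9, 0, [1, 2, 5, 7, 5, 7, 2, 4, 8]),
   (4, 0, [2, 1, 5, 7, 4, 8, 0, 6, 0, 2]), (0, 1, []), (9, 0, [2, 7, 6, 6, 8, 4, 8, 2]), (5, 0, [5, 4, 0, 2, 3, 8, 1, 7, 6, 0]),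
   (4, 0, [2, 1, 3, 5, 8, 6, 0, 5, 2]), (9, 0, [1, 8, 2, 6, 1, 3, 5, 5, 8, 1, 1]), (9, 0, [5, 7, 2, 6, 3, 7]), (0, 1, []),
   (0, 1, []), (9, 0, [0, 2, 0, 4, 1, 6, 6, 8, 0]), (0, 0, []), (0, 0, []),
   (0, 0, []), (10, 0, [5, 5, 0, 7, 2, 7, 5, 2, 1]), (0, 0, []), (0, 0, []),
   (0, 0, []), (10, 0, [1, 7, 0, 4, 8, 4, 8, 2, 0, 5]), (0, 0, []), (0, 0, []),
   (4, 0, [0, 4, 8, 2, 7, 7, 3, 7, 3, 5, 2]), (0, 0, []), (6, 0, [2, 5, 8, 0, 3, 1, 6, 6, 3, 1]), (0, 0, []),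
   (6, 0, [0, 4, 6, 1, 6, 3, 1, 5, 2, 1]), (0, 2, []), (0, 0, []), (0, 0, []),
   (5, 0, [1, 1, 8, 0, 4, 1, 8, 8, 6, 0]), (7, 0, [2, 7, 7, 2, 6, 4, 0, 5, 2]), (4, 0, [1, 2, 0, 3, 0, 7, 2, 8, 8, 4, 5]), (7, 0, [2, 7, 5, 4, 1, 2, 5, 3, 8, 0, 0]),
   (0, 0, []), (10, 0, [1, 3, 1, 7, 0, 5, 0, 2, 8, 5]), (0, 0, []), (10, 0, [1, 7, 7, 4, 8, 8, 4, 4]),
   (5, 0, [1, 2, 0, 4, 6, 7, 7, 2, 0]), (0, 0, []), (6, 0, [1, 2, 7, 0, 6, 4, 8, 4, 8, 5]), (6, 0, [0, 2, 4, 8, 8, 0, 5, 3, 1]),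
   (0, 1, []), (0, 1, []), (2, 0, []), (7, 0, [7, 2, 8, 2, 1, 3, 8, 6]),
   (3, 0, []), (4, 0, [2, 1, 4, 0, 7, 7, 0, 5, 3, 2]), (11, 0, [4, 4, 8, 1, 3, 6, 7, 7, 2]), (9, 0, [1, 7, 2, 3, 8, 0, 0, 6, 2, 0]),
   (4, 0, [7, 3, 8, 8, 1, 1, 2]), (0, 1, []), (0, 5, []), (4, 0, [4, 8, 8, 0, 2, 1, 4, 1, 7, 0]),
   (0, 1, []), (9, 0, [1, 8, 2, 5, 1, 8, 8, 0, 6, 0]), (0, 1, []), (10, 0, [4, 1, 8, 0, 0, 0, 0, 2, 1]),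
   (0, 0, []), (0, 0, []), (0, 1, []), (0, 0, []),
   (0, 0, []), (1, 0, []), (0, 0, []), (0, 0, []),
   (6, 0, [0, 4, 0, 7, 6, 3, 1, 2, 0]), (0, 0, []), (0, 0, []), (7, 0, [2, 1, 8, 1, 8, 4, 4, 8, 6, 2]),
   (11, 0, [2, 1, 8, 1, 8, 4, 4, 8, 6]), (0, 0, []), (5, 0, [1, 2, 7, 4, 1, 7, 0, 4, 2, 1]), (3, 0, []),
   (3, 0, []), (4, 0, [0, 4, 0, 5, 8, 2, 8, 4, 1, 7, 0]), (9, 0, [1, 4, 4, 1, 5, 4, 8, 1]), (9, 0, [8, 0, 4, 1, 2, 8, 6, 4, 0]),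
   (0, 1, []), (9, 0, [7, 6, 6, 1, 7, 7, 5, 5]), (0, 2, []), (0, 1, []),
   (3, 0, []), (0, 1, []), (0, 1, []), (0, 1, []),
   (4, 0, [2, 1, 4, 4, 0, 2, 8, 4, 2, 1]), (10, 0, [1, 2, 4, 8, 0, 2, 1, 1, 8, 6]), (0, 0, []), (10, 0, [1, 7, 0, 7, 2, 5, 8, 8, 8]),
   (0, 0, []), (9, 0, [1, 7, 0, 2, 8, 1, 7, 7, 5, 2, 0]), (10, 0, [2, 4, 4, 1, 1, 7, 7, 6, 1]), (0, 0, []),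
   (0, 0, []), (0, 0, []), (0, 0, []), (6, 0, [5, 7, 2, 8, 6, 1, 8, 1, 4]),
   (0, 0, []), (0, 0, []), (9, 0, [1, 5, 4, 5, 0, 7, 7, 2, 0, 4]), (0, 0, []),
   (0, 1, []), (4, 0, [0, 7, 2, 1, 5, 3, 5, 7, 2, 7, 0]), (0, 1, []), (3, 0, []),
   (9, 0, [6, 6, 7, 7, 6, 7, 3, 3]), (3, 0, []), (0, 1, []), (5, 0, [2, 5, 7, 3, 3, 8, 6, 2]),
   (4, 0, [1, 2, 8, 8, 0, 2, 7, 4, 5, 1]), (3, 0, []), (0, 1, []), (0, 1, []),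
   (0, 1, []), (9, 0, [6, 7, 7, 3, 1, 3, 7, 2, 0]), (9, 0, [7, 6, 6, 1, 7, 7, 6]), (11, 0, [2, 8, 4, 8, 5, 8, 2, 5, 1, 3]),
   (10, 0, [2, 8, 8, 1, 7, 0, 4, 0, 0]), (0, 0, []), (0, 1, []), (9, 0, [1, 3, 0, 3, 0, 2, 7, 3, 3, 6, 1]),
   (11, 0, [2, 1, 8, 6, 3, 7, 7, 5, 3, 0]), (9, 0, [1, 1, 3, 8, 2, 0, 7, 6, 0, 5]), (6, 0, [0, 2, 3, 1, 2, 3, 0, 3, 6, 0]), (0, 0, []),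
   (0, 0, []), (0, 0, []), (6, 0, [1, 5, 7, 7, 2, 6, 7, 3, 8, 1]), (10, 0, [1, 7, 4, 6, 4, 0, 0, 3]),
   (0, 2, []), (4, 0, [0, 7, 4, 0, 4, 8, 2, 7, 6, 1]), (0, 0, []), (5, 0, [8, 1, 2, 4, 6, 8, 0, 6, 7]),
   (0, 0, []), (4, 0, [2, 0, 4, 1, 2, 3, 5, 4, 0, 3, 1]), (9, 0, [7, 3, 1, 2, 6, 8, 1, 8, 0]), (0, 0, []),
   (6, 0, [1, 2, 1, 1, 3, 0, 5, 7, 4, 0]), (5, 0, [1, 2, 1, 4, 6, 4, 1, 7, 0]), (0, 0, []), (10, 0, [0, 4, 8, 6, 6, 1, 5, 4, 2, 0]),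
   (10, 0, [1, 3, 7, 0, 6, 0, 3, 8, 0, 2]), (9, 0, [6, 8, 1, 2, 7, 0, 4, 5, 2]), (6, 0, [0, 6, 4, 0, 0, 4, 4, 0]), (0, 0, []),
   (0, 0, []), (9, 0, [5, 4, 1, 7, 2, 1, 5, 5, 1, 4]), (0, 0, []), (4, 0, [1, 2, 7, 4, 0, 5, 3, 1, 5, 5, 3]),
   (6, 0, [0, 3, 5, 5, 8, 8, 2, 0, 4, 1]), (0, 0, []), (0, 0, []), (0, 0, []),
   (6, 0, [1, 3, 7, 4, 6, 6, 1, 2]), (10, 0, [3, 5, 1, 7, 2, 8, 6, 0]), (9, 0, [1, 7, 4, 1, 4, 4, 0, 3, 7, 2]), (10, 0, [1, 2, 8, 1, 7, 2, 8, 2, 7]),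
   (11, 0, [4, 6, 8, 8, 0, 2, 0, 6, 0, 3, 0]), (0, 0, []), (0, 0, []), (11, 0, [2, 7, 7, 2, 4, 0, 0, 0]),
   (6, 0, [4, 1, 4, 8, 1, 5, 1, 2, 7]), (0, 0, []), (10, 0, [1, 3, 3, 8, 0, 7, 0, 2, 0]), (0, 0, []),
   (0, 0, []), (0, 0, []), (0, 1, []), (0, 0, []),
   (0, 0, []), (0, 0, []), (6, 0, [2, 8, 0, 3, 1, 5, 5, 3, 1]), (6, 0, [2, 3, 8, 8, 8, 5, 1, 3, 0]),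
   (0, 0, []), (5, 0, [1, 2, 8, 4, 4, 8, 1, 8, 6, 4]), (5, 0, [1, 7, 2, 6, 6, 7, 3, 8, 1, 1]), (0, 0, []),
   (0, 0, []), (5, 0, [1, 4, 5, 4, 0, 4, 0, 2, 8, 1]), (10, 0, [0, 4, 0, 5, 7, 0, 6, 0, 7]), (11, 0, [2, 4, 8, 1, 7, 3, 3, 8, 1]),
   (0, 0, []), (9, 0, [1, 6, 8, 1, 7, 2, 4, 5, 8, 8]), (7, 0, [4, 1, 2, 8, 0, 3, 6, 1, 5, 2]), (0, 0, []),
   (6, 0, [0, 0, 2, 4, 5, 8, 0, 4, 2, 0]), (0, 0, []), (0, 0, []), (4, 0, [7, 2, 0, 3, 1, 6, 3, 1, 4]),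
   (0, 0, []), (0, 0, []), (0, 1, []), (11, 0, [4, 1, 5, 1, 1, 3, 7, 3, 2]),
   (7, 0, [4, 1, 1, 8, 4, 0, 5, 7, 2]), (4, 0, [8, 0, 5, 0, 3, 0, 4, 4, 2]), (3, 0, []), (0, 1, []),
   (11, 0, [7, 7, 7, 4, 0, 4, 0, 0, 2]), (0, 4, []), (0, 1, []), (3, 0, []),
   (4, 0, [4, 8, 6, 8, 2, 8, 4, 0]), (4, 0, [1, 2, 6, 7, 2, 7, 3, 7, 7]), (0, 1, []), (7, 0, [4, 1, 8, 5, 0, 0, 4, 5, 2]),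
   (0, 1, []), (6, 0, [1, 7, 6, 0, 2, 3, 8, 6, 0]), (0, 0, []), (0, 0, []),
   (0, 1, []), (4, 0, [0, 2, 8, 4, 0, 3, 3, 7, 4, 4]), (0, 0, []), (9, 0, [6, 7, 3, 1, 6, 7, 2]),
   (0, 0, []), (5, 0, [1, 7, 2, 4, 0, 5, 7, 6, 7, 7]), (0, 0, []), (0, 0, []),
   (10, 0, [0, 2, 8, 6, 1, 4, 1, 7, 5, 2]), (0, 0, []), (0, 1, []), (0, 0, []),
   (0, 1, []), (4, 0, [0, 0, 7, 7, 4, 5, 1, 4, 2]), (11, 0, [2, 5, 8, 1, 6, 3, 1, 3, 3]), (0, 1, []),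
   (5, 0, [0, 2, 0, 4, 8, 8, 1, 8, 1, 4]), (0, 1, []), (4, 0, [0, 3, 7, 3, 3, 8, 8, 6, 3, 2]), (0, 1, []),
   (4, 0, [1, 7, 6, 1, 7, 0, 6, 0, 4, 2]), (7, 0, [3, 8, 0, 0, 4, 8, 2]), (0, 2, []), (2, 0, []),
   (0, 1, []), (5, 0, [2, 0, 4, 6, 1, 2, 3]), (3, 0, []), (0, 0, []),
   (9, 0, [1, 2, 1, 3, 6, 3, 7, 3, 1]), (0, 0, []), (0, 0, []), (5, 0, [0, 4, 0, 3, 6, 7, 2, 3, 8, 0, 0]),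
   (0, 0, []), (6, 0, [1, 2, 4, 5, 7, 7, 2, 7, 6, 4, 0]), (0, 1, []), (4, 0, [0, 3, 8, 4, 8, 2, 7, 7, 3, 1, 6]),
   (10, 0, [2, 3, 1, 7, 6, 6, 4, 0, 0]), (0, 0, []), (0, 0, []), (0, 0, []),
   (0, 0, []), (0, 0, []), (4, 0, [2, 4, 8, 6, 0, 7, 3, 2]), (0, 1, []),
   (7, 0, [4, 1, 7, 4, 6, 4, 8, 0, 2]), (0, 1, []), (0, 2, []), (2, 0, []),
   (0, 2, []), (11, 0, [4, 1, 7, 4, 5, 7, 0, 7, 2]), (0, 1, []), (5, 0, [0, 4, 5, 5, 0, 7, 7, 2, 7]),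
   (3, 0, []), (0, 1, []), (0, 2, []), (0, 2, []),
   (5, 0, [8, 5, 8, 1, 4, 4, 8, 1]), (4, 0, [8, 8, 1, 2, 3, 7, 7, 4]), (10, 0, [0, 4, 1, 2, 4, 5, 8, 5, 8, 4]), (10, 0, [6, 1, 2, 7, 3, 1, 3, 7]),
   (0, 0, []), (0, 0, []), (0, 0, []), (0, 0, []),
   (11, 0, [3, 8, 2, 5, 8, 2, 5, 8, 1]), (7, 0, [2, 4, 0, 2, 6, 3, 7, 7]), (6, 0, [0, 2, 3, 1, 3, 6, 7, 7, 3]), (6, 0, [1, 4, 0, 0, 2, 8, 5, 0, 3, 3]),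
   (0, 0, []), (0, 2, []), (0, 0, []), (0, 0, []),
   (10, 0, [1, 2, 5, 5, 1, 2, 6, 7, 0]), (0, 0, []), (0, 0, []), (0, 0, []),
   (0, 0, []), (9, 0, [1, 5, 7, 2, 8, 5, 4]), (0, 0, []), (3, 0, []),
   (0, 0, []), (0, 0, []), (0, 0, []), (0, 0, []),
   (0, 0, []), (6, 0, [1, 5, 1, 2, 7, 3, 8, 0, 7, 2]), (9, 0, [8, 2, 1, 8, 5, 8, 0, 6, 4]), (0, 0, []),
   (9, 0, [5, 3, 0, 5, 7, 2, 8, 5, 4]), (0, 0, []), (0, 0, []), (0, 0, []),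
   (7, 0, [2, 6, 6, 8, 1, 4, 4, 8, 1, 1]), (3, 0, []), (0, 0, []), (0, 0, []),
   (11, 0, [4, 0, 0, 4, 0, 0, 2, 8, 1, 3]), (0, 0, []), (9, 0, [0, 4, 8, 1, 2, 7, 2, 1, 8, 2]), (6, 0, [0, 2, 4, 0, 0, 7, 2, 1, 6, 3, 0]),
   (10, 0, [1, 3, 5, 7, 5, 7, 5, 3, 3, 2]), (0, 0, []), (6, 0, [0, 3, 1, 8, 2, 6, 3, 7, 7, 6, 1]), (0, 0, []),
   (6, 0, [1, 2, 8, 0, 2, 1, 7, 4, 5, 2]), (0, 2, []), (5, 0, [0, 2, 6, 7, 6, 1, 2, 3, 7, 6]), (6, 0, [1, 8, 2, 7, 7, 2, 4, 8, 1, 3, 0]),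
   (0, 0, []), (0, 0, []), (0, 0, []), (0, 0, []),
   (10, 0, [2, 3, 1, 3, 1, 8, 5, 8, 2]), (0, 0, []), (0, 0, []), (5, 0, [1, 3, 1, 2, 8, 8, 1, 7, 7, 6, 0]),
   (0, 0, []), (4, 0, [7, 6, 3, 1, 7, 2, 5, 1, 3]), (0, 0, []), (0, 0, []),
   (0, 0, []), (0, 0, []), (4, 0, [2, 0, 7, 2, 1, 6, 8, 2, 8, 4]), (0, 0, []),
   (11, 0, [2, 4, 1, 5, 7, 4, 8, 4, 0, 0]), (11, 0, [4, 4, 1, 1, 2, 5, 7, 4, 1, 1]), (0, 0, []), (4, 0, [1, 8, 4, 0, 7, 6, 8, 8, 2, 0, 0]),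
   (0, 0, []), (7, 0, [2, 5, 7, 4, 6, 6, 1, 7, 6, 2]), (7, 0, [6, 3, 6, 7, 2, 1, 3, 3, 1]), (0, 0, []),
   (7, 0, [4, 0, 3, 8, 1, 3, 7, 7, 2]), (0, 1, []), (3, 0, []), (0, 1, []),
   (0, 1, []), (4, 0, [3, 3, 8, 6, 1, 7, 5, 0, 2]), (0, 2, []), (11, 0, [2, 1, 8, 8, 5, 1, 5, 8, 4, 0]),
   (7, 0, [5, 3, 7, 4, 0, 0, 6, 2]), (11, 0, [4, 1, 5, 8, 8, 1, 5, 8, 0, 2]), (4, 0, [1, 7, 3, 5, 3, 0, 3, 1, 1, 2]), (0, 1, []),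
   (4, 0, [1, 2, 1, 4, 0, 7, 6, 7, 5, 4, 1]), (0, 1, []), (3, 0, [])]

def cert0_4 : List (ℕ × ℕ × List ℕ) :=
  [(9, 0, [0, 2, 0, 3, 8, 0, 2, 0, 7, 3, 1]), (4, 0, [2, 0, 7, 2, 0, 0, 4, 4, 1, 8, 8]), (10, 0, [0, 0, 0, 0, 7, 0, 2, 7, 3, 5]), (10, 0, [1, 8, 0, 4, 1, 4, 4, 6, 0, 2]),
   (6, 0, [0, 4, 1, 5, 8, 5, 4, 0]), (0, 0, []), (0, 0, []), (0, 0, []),
   (0, 0, []), (5, 0, [6, 8, 1, 2, 7, 0, 5, 4]), (0, 0, []), (6, 0, [1, 4, 1, 3, 8, 4, 6, 8, 2, 0]),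
   (9, 0, [1, 2, 8, 6, 0, 7, 6, 6, 1]), (5, 0, [1, 6, 1, 5, 8, 1, 3, 8, 2, 1]), (0, 0, []), (7, 0, [2, 3, 6, 3, 8, 1, 6, 3, 1]),
   (0, 3, []), (4, 0, [2, 1, 8, 0, 4, 0, 4, 4, 5, 0, 2]), (0, 1, []), (3, 0, []),
   (11, 0, [7, 5, 0, 3, 1, 4, 6, 0, 2]), (0, 1, []), (0, 1, []), (0, 1, []),
   (0, 1, []), (4, 0, [1, 1, 1, 8, 0, 7, 7, 4, 1, 2]), (3, 0, []), (4, 0, [1, 1, 3, 1, 7, 4, 6, 1, 2]),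
   (7, 0, [5, 3, 7, 4, 5, 0, 2]), (11, 0, [7, 7, 3, 1, 7, 7, 4, 2]), (4, 0, [2, 0, 3, 7, 6, 3, 1, 7, 7, 2]), (0, 1, []),
   (5, 0, [2, 5, 7, 3, 3, 8, 5, 5, 2]), (3, 0, []), (9, 0, [7, 0, 6, 7, 3, 7, 6, 1]), (4, 0, [2, 8, 8, 5, 8, 6, 0, 7, 2]),
   (3, 0, []), (0, 1, []), (0, 1, []), (9, 0, [2, 5, 3, 8, 6, 6, 8, 0, 2]),
   (3, 0, []), (0, 1, []), (0, 1, []), (9, 0, [7, 3, 8, 0, 4, 0, 0, 4]),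
   (0, 1, []), (6, 0, [1, 7, 7, 4, 8, 8, 4, 4, 2]), (0, 0, []), (10, 0, [0, 3, 0, 2, 8, 6, 3, 1, 4, 4, 0]),
   (0, 0, []), (0, 0, []), (11, 0, [2, 7, 7, 2, 6, 4, 0, 5]), (9, 0, [1, 2, 0, 4, 6, 7, 3, 0, 2, 1]),
   (6, 0, [2, 0, 5, 8, 0, 7, 3, 8, 5]), (0, 0, []), (9, 0, [7, 3, 8, 6, 7, 2, 8, 5, 0]), (4, 0, [0, 2, 7, 2, 1, 7, 2, 5, 8, 0]),
   (0, 0, []), (11, 0, [2, 6, 4, 6, 0, 2, 4, 0, 7, 0]), (0, 0, []), (10, 0, [0, 2, 4, 8, 8, 0, 5, 3, 1, 2]),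
   (0, 1, []), (0, 1, []), (11, 0, [2, 5, 3, 1, 2, 7, 7, 6, 0]), (0, 1, []),
   (3, 0, []), (5, 0, [1, 7, 6, 6, 1, 8, 2, 0, 4]), (0, 1, []), (5, 0, [0, 2, 4, 8, 2, 8, 1, 1, 7]),
   (0, 1, []), (2, 0, []), (4, 0, [1, 7, 3, 8, 8, 1, 8, 1, 3, 2]), (4, 0, [1, 7, 6, 7, 5, 3, 1, 7, 3, 2]),
   (7, 0, [4, 8, 5, 4, 8, 8, 0, 2]), (4, 0, [0, 3, 6, 7, 7, 3, 5, 1, 2]), (0, 1, []), (10, 0, [1, 7, 0, 4, 8, 4, 8, 2, 0]),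
   (4, 0, [0, 7, 2, 4, 5, 0, 7, 5, 5, 8, 0]), (0, 0, []), (10, 0, [2, 8, 4, 0, 6, 0, 3, 1, 3]), (6, 0, [1, 5, 7, 5, 3, 1, 2, 0, 3, 0]),
   (0, 0, []), (0, 0, []), (0, 0, []), (0, 0, []),
   (6, 0, [0, 2, 1, 5, 8, 6, 1, 4, 5, 4]), (0, 0, []), (0, 0, []), (0, 0, []),
   (0, 0, []), (0, 0, []), (0, 0, []), (0, 0, []),
   (6, 0, [2, 5, 8, 1, 6, 6, 7, 4, 1]), (0, 0, []), (9, 0, [1, 7, 4, 0, 3, 8, 0, 2, 7, 5, 0]), (0, 0, []),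
   (0, 0, []), (10, 0, [1, 3, 8, 0, 4, 1, 7, 4, 4, 0]), (0, 0, []), (4, 0, [2, 0, 7, 2, 6, 6, 1, 4, 1, 5, 1]),
   (0, 0, []), (7, 0, [2, 3, 3, 8, 6, 0, 4, 1, 3, 2]), (11, 0, [2, 6, 0, 4, 5, 8, 4, 1, 5, 1]), (0, 0, []),
   (5, 0, [2, 8, 2, 7, 0, 2, 7, 0, 2]), (3, 0, []), (0, 1, []), (4, 0, [2, 8, 8, 6, 8, 2, 4]),
   (0, 1, []), (4, 0, [2, 0, 3, 5, 8, 5, 8, 0, 6, 2]), (0, 1, []), (4, 0, [7, 7, 6, 0, 7, 7, 4, 2]),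
   (0, 1, []), (2, 0, []), (9, 0, [0, 2, 1, 6, 3, 5, 8, 0, 3, 0]), (9, 0, [2, 1, 7, 3, 0, 5, 8, 2]),
   (0, 1, []), (0, 2, []), (7, 0, [2, 6, 3, 3, 7, 4, 1, 8, 6]), (11, 0, [2, 5, 8, 5, 4, 4, 8, 8]),
   (0, 0, []), (0, 0, []), (0, 0, []), (9, 0, [1, 8, 5, 8, 1, 7, 6, 3, 2, 8, 0]),
   (0, 0, []), (4, 0, [1, 5, 7, 2, 4, 0, 0, 4, 5, 2]), (0, 0, []), (0, 0, []),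
   (10, 0, [1, 6, 3, 3, 0, 2, 8, 8, 6, 0]), (0, 0, []), (0, 0, []), (0, 0, []),
   (0, 0, []), (6, 0, [0, 2, 8, 6, 1, 4, 1, 7, 6]), (5, 0, [1, 8, 4, 0, 7, 4, 0, 7]), (10, 0, [1, 2, 8, 0, 2, 1, 7, 4, 5]),
   (0, 0, []), (0, 0, []), (9, 0, [1, 3, 0, 3, 6, 6, 7, 2, 0, 7, 0]), (10, 0, [1, 2, 7, 4, 0, 7, 6, 0, 4, 4, 0]),
   (0, 0, []), (10, 0, [0, 0, 6, 7, 6, 7, 2, 7, 4, 4]), (0, 0, []), (0, 0, []),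
   (0, 0, []), (6, 0, [2, 3, 1, 3, 1, 8, 5, 8]), (0, 0, []), (9, 0, [1, 6, 7, 0, 4, 5, 1, 2, 8, 0]),
   (0, 0, []), (0, 0, []), (3, 0, []), (9, 0, [2, 8, 6, 3, 1, 2]),
   (5, 0, [1, 2, 4, 5, 0, 4, 0, 5, 3]), (4, 0, [1, 8, 0, 0, 4, 1, 3, 7, 2]), (4, 0, [0, 4, 0, 7, 4, 5, 7, 4, 2, 0]), (11, 0, [4, 6, 0, 4, 8, 4, 0, 5, 0, 2]),
   (0, 1, []), (0, 1, []), (11, 0, [4, 6, 8, 8, 1, 7, 7, 0, 2]), (3, 0, []),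
   (0, 1, []), (5, 0, [0, 2, 5, 3, 1, 7, 3, 0, 5]), (0, 1, []), (0, 1, []),
   (5, 0, [1, 5, 7, 2, 1, 1, 2, 7, 2, 1]), (0, 1, []), (0, 0, []), (6, 0, [1, 7, 5, 0, 7, 2, 8, 4, 6, 3, 0]),
   (0, 0, []), (0, 0, []), (5, 0, [0, 4, 8, 5, 0, 2, 7, 4, 1, 5]), (0, 0, []),
   (0, 0, []), (10, 0, [2, 8, 8, 6, 6, 8, 1, 3, 6]), (0, 0, []), (0, 0, []),
   (0, 0, []), (0, 3, []), (9, 0, [6, 7, 3, 1, 7, 0, 2]), (4, 0, [0, 3, 6, 1, 7, 3, 6, 6, 2, 0]),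
   (2, 0, []), (11, 0, [4, 8, 6, 4, 8, 1, 1, 3, 0, 2]), (0, 1, []), (3, 0, []),
   (0, 1, []), (0, 1, []), (4, 0, [1, 8, 2, 0, 7, 0, 4, 1]), (4, 0, [2, 1, 7, 6, 7, 4, 1, 5, 1, 2]),
   (9, 0, [0, 2, 6, 6, 1, 3, 0, 4, 2, 1]), (0, 1, []), (7, 0, [2, 8, 6, 0, 6, 3, 0, 3, 2, 1]), (4, 0, [7, 3, 8, 8, 5, 1, 5, 2]),
   (0, 1, []), (0, 1, []), (9, 0, [1, 4, 4, 1, 6, 3, 0, 4, 2, 0]), (9, 0, [1, 8, 2, 7, 6, 8, 1, 5, 3, 7, 2]),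
   (10, 0, [1, 7, 4, 4, 1, 8, 5, 7, 3]), (0, 1, []), (6, 0, [1, 6, 3, 7, 3, 0, 7, 2, 7]), (11, 0, [2, 8, 1, 5, 8, 2, 4, 0, 5]),
   (0, 0, []), (9, 0, [8, 1, 1, 7, 3, 7, 5, 2, 0]), (0, 0, []), (0, 0, []),
   (11, 0, [2, 3, 0, 7, 2, 1, 8, 1, 4, 2]), (0, 1, []), (10, 0, [1, 2, 3, 5, 4, 8, 4, 5, 1, 5]), (6, 0, [1, 3, 1, 2, 3, 7, 5, 8, 5, 2, 0]),
   (4, 0, [0, 3, 5, 1, 7, 6, 8, 1, 2, 8, 2]), (0, 0, []), (0, 0, []), (0, 0, []),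
   (0, 0, []), (10, 0, [2, 4, 4, 1, 1, 7, 6, 3, 0]), (0, 0, []), (9, 0, [0, 2, 0, 3, 6, 0, 3, 5, 2, 1]),
   (0, 0, []), (10, 0, [3, 7, 7, 6, 0, 6, 7, 2, 0]), (6, 0, [1, 3, 3, 8, 0, 7, 2, 1, 5]), (0, 0, []),
   (0, 0, []), (10, 0, [1, 2, 8, 0, 2, 1, 7, 4, 6]), (0, 0, []), (0, 0, []),
   (9, 0, [1, 4, 1, 7, 6, 4, 0, 2, 7, 0]), (9, 0, [2, 6, 1, 5, 3, 5, 1, 2]), (0, 2, []), (9, 0, [2, 5, 0, 7, 5, 7, 2]),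
   (4, 0, [7, 6, 4, 4, 8, 6, 6, 1, 2]), (11, 0, [6, 7, 3, 1, 8, 4, 5, 2]), (4, 0, [2, 3, 3, 0, 7, 7, 6, 6, 2]), (0, 1, []),
   (4, 0, [0, 3, 1, 8, 1, 2, 7, 0, 6]), (0, 1, []), (3, 0, []), (0, 1, []),
   (0, 1, []), (7, 0, [4, 4, 8, 8, 1, 1, 7, 4, 4, 2]), (0, 2, []), (2, 0, []),
   (0, 0, []), (0, 0, []), (0, 0, []), (10, 0, [0, 0, 4, 1, 8, 0, 5, 8, 4, 1]),
   (0, 0, []), (0, 0, []), (0, 0, []), (0, 0, []),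
   (6, 0, [1, 8, 0, 7, 2, 5, 5, 0, 3, 1]), (0, 0, []), (3, 0, []), (0, 0, []),
   (0, 0, []), (9, 0, [1, 4, 1, 7, 2, 7, 6, 1, 4, 2, 0]), (9, 0, [1, 5, 7, 2, 1, 6, 8, 4]), (0, 0, []),
   (0, 0, []), (4, 0, [1, 7, 2, 1, 6, 3, 1, 6, 3, 1]), (7, 0, [4, 1, 2, 7, 2, 3, 5, 8, 1, 1]), (0, 0, []),
   (4, 0, [0, 7, 7, 4, 0, 2, 1, 6, 8]), (0, 0, []), (4, 0, [0, 2, 8, 8, 5, 4, 8, 0, 7, 2]), (7, 0, [7, 6, 4, 1, 2, 4, 1, 8]),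
   (11, 0, [3, 1, 2, 3, 3, 1, 7, 3, 0]), (11, 0, [4, 1, 1, 3, 1, 2, 6, 8, 6, 0]), (0, 0, []), (0, 0, []),
   (0, 0, []), (0, 0, []), (4, 0, [1, 7, 2, 5, 0, 7, 3, 3, 2, 0]), (0, 3, []),
   (4, 0, [1, 2, 6, 1, 7, 4, 0, 4, 0, 7]), (4, 0, [7, 2, 5, 0, 4, 0, 7, 0, 3, 0]), (7, 0, [4, 4, 6, 8, 5, 4, 1, 1, 2]), (7, 0, [4, 6, 0, 3, 7, 5, 0, 4, 2]),
   (4, 0, [7, 3, 7, 7, 3, 0, 2]), (11, 0, [4, 1, 4, 4, 6, 1, 7, 3, 2]), (2, 0, []), (7, 0, [4, 8, 1, 3, 0, 3, 1, 1, 2]),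
   (0, 1, []), (4, 0, [0, 3, 0, 6, 7, 3, 1, 1, 2]), (11, 0, [2, 8, 8, 5, 8, 1, 3, 6, 2, 1]), (11, 0, [3, 7, 5, 8, 4, 8, 0, 2]),
   (0, 1, []), (0, 0, []), (0, 0, []), (5, 0, [1, 7, 6, 0, 7, 5, 8, 8]),
   (7, 0, [2, 7, 7, 2, 6, 4, 8, 6, 7, 2]), (4, 0, [1, 2, 1, 7, 2, 7, 5, 5, 1, 3, 1]), (5, 0, [0, 2, 8, 8, 5, 1, 7, 0, 4, 0]), (7, 0, [2, 4, 1, 1, 6, 3, 1, 4, 8, 6]),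
   (6, 0, [0, 4, 0, 7, 2, 1, 7, 3, 6, 3]), (0, 0, []), (0, 2, []), (6, 0, [0, 6, 6, 3, 8, 0, 5, 2, 0]),
   (10, 0, [1, 3, 7, 5, 4, 0, 5, 5, 0]), (0, 0, []), (10, 0, [1, 6, 6, 8, 0, 2, 7, 3, 1, 3]), (0, 0, []),
   (11, 0, [4, 0, 3, 7, 6, 4, 0, 5, 2]), (11, 0, [4, 0, 0, 2, 8, 4, 0, 3, 3]), (4, 0, [1, 4, 1, 3, 8, 6, 7, 2, 0, 3]), (7, 0, [4, 1, 7, 6, 7, 4, 6, 8, 2]),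
   (7, 0, [2, 3, 5, 8, 4, 0, 3, 6, 3]), (4, 0, [1, 5, 1, 3, 8, 4, 1, 3, 0, 2]), (4, 0, [1, 4, 1, 8, 1, 3, 1, 6, 2, 8]), (0, 2, []),
   (11, 0, [4, 6, 8, 8, 5, 1, 7, 5, 2]), (4, 0, [7, 0, 4, 0, 7, 4, 1, 4, 2]), (0, 1, []), (0, 1, []),
   (2, 0, []), (7, 0, [4, 1, 5, 1, 8, 0, 0, 3, 2]), (4, 0, [7, 3, 7, 7, 3, 0, 6, 2]), (0, 0, []),
   (0, 0, []), (0, 0, []), (0, 0, []), (1, 0, []),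
   (11, 0, [6, 7, 7, 0, 2, 8, 0, 2, 0]), (0, 0, []), (7, 0, [2, 1, 8, 1, 8, 4, 4, 8, 5, 2]), (0, 0, []),
   (0, 0, []), (0, 1, []), (10, 0, [0, 2, 8, 2, 0, 4, 5, 1, 3, 1]), (0, 0, []),
   (6, 0, [1, 2, 8, 4, 5, 8, 4, 5, 1, 1]), (0, 0, []), (4, 0, [1, 3, 6, 7, 7, 6, 4, 1, 2, 1]), (6, 0, [5, 0, 3, 7, 2, 0, 7, 2, 1]),
   (6, 0, [1, 2, 3, 3, 8, 8, 0, 5, 3, 0]), (0, 0, []), (0, 0, []), (0, 0, []),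
   (0, 0, []), (7, 0, [2, 4, 5, 7, 7, 2, 1, 4, 0, 0]), (11, 0, [4, 0, 5, 0, 2, 1, 3, 7, 7]), (10, 0, [1, 6, 7, 7, 2, 5, 3, 1, 1]),
   (10, 0, [1, 7, 3, 5, 3, 7, 2, 8, 6, 7]), (0, 0, []), (0, 0, []), (0, 0, []),
   (0, 0, []), (0, 1, []), (5, 0, [1, 7, 4, 8, 8, 5, 4, 1, 4, 1]), (4, 0, [1, 5, 1, 7, 3, 0, 7, 7, 2]),
   (9, 0, [1, 2, 6, 7, 7, 7, 2, 7, 2, 1, 1]), (3, 0, []), (3, 0, []), (11, 0, [6, 4, 8, 0, 7, 0, 0, 0, 2]),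
   (9, 0, [1, 1, 8, 2, 6, 0, 4, 1, 8, 5]), (0, 2, []), (3, 0, []), (0, 2, []),
   (11, 0, [4, 1, 8, 4, 5, 1, 3, 8, 2]), (4, 0, [0, 0, 7, 7, 0, 7, 4, 6, 3, 2]), (4, 0, [1, 2, 7, 2, 5, 3, 8, 6, 1, 7, 0]), (5, 0, [1, 5, 7, 7, 5, 8, 2, 1, 4, 4]),
   (7, 0, [2, 4, 1, 1, 6, 3, 1, 4, 8]), (0, 0, []), (0, 0, []), (0, 1, []),
   (0, 0, []), (5, 0, [1, 7, 0, 4, 1, 1, 3, 8, 1]), (4, 0, [0, 2, 7, 6, 3, 6, 8, 0, 7, 2]), (6, 0, [2, 3, 7, 5, 8, 8, 1, 4, 6]),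
   (0, 0, []), (0, 0, []), (10, 0, [1, 4, 5, 4, 8, 5, 0, 4, 0]), (10, 0, [1, 3, 8, 1, 2, 1, 8, 0, 7]),
   (5, 0, [1, 2, 7, 2, 6, 4, 1, 8, 4, 1, 1]), (6, 0, [5, 3, 3, 8, 2, 7, 7, 5, 0, 0]), (7, 0, [4, 8, 5, 5, 8, 2, 8, 1, 7, 0]), (0, 0, []),
   (0, 0, []), (5, 0, [0, 2, 3, 7, 4, 8, 1, 1]), (4, 0, [2, 1, 7, 6, 1, 2, 8, 1, 6, 6, 1]), (0, 0, []),
   (0, 0, []), (9, 0, [8, 1, 8, 2, 6, 0, 7, 6]), (6, 0, [2, 8, 1, 3, 5, 1, 8, 1, 1]), (0, 0, []),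
   (0, 0, []), (7, 0, [4, 1, 8, 2, 7, 5, 4, 0, 2, 8]), (0, 0, []), (11, 0, [7, 2, 1, 6, 1, 5, 3, 1, 1]),
   (0, 0, []), (10, 0, [0, 2, 7, 5, 7, 7, 0, 3, 2]), (0, 1, []), (0, 0, []),
   (0, 1, []), (9, 0, [1, 1, 3, 8, 2, 0, 5, 3, 5, 1]), (10, 0, [1, 7, 5, 4, 4, 0, 3, 5]), (11, 0, [3, 3, 0, 2, 8, 4, 0, 7]),
   (0, 0, []), (10, 0, [1, 2, 3, 5, 4, 8, 4, 5, 1]), (6, 0, [0, 4, 1, 2, 5, 5, 1, 5, 3, 0]), (0, 0, []),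
   (11, 0, [2, 8, 1, 5, 8, 2, 4, 0]), (4, 0, [1, 2, 0, 3, 0, 2, 7, 4, 2, 0, 3]), (9, 0, [1, 3, 0, 2, 7, 2, 3, 1, 6, 3, 0]), (6, 0, [1, 5, 4, 0, 2, 5, 7, 2, 1, 5]),
   (0, 0, []), (4, 0, [2, 3, 3, 0, 7, 7, 6, 2]), (0, 2, []), (11, 0, [7, 4, 8, 6, 8, 0, 4, 1, 2]),
   (0, 1, []), (0, 1, []), (7, 0, [4, 6, 0, 5, 7, 7, 4, 6, 4, 2]), (4, 0, [0, 3, 1, 8, 1, 2, 6, 7, 5, 5]),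
   (9, 0, [2, 8, 8, 5, 3, 7, 3, 2]), (0, 1, []), (3, 0, []), (2, 0, []),
   (0, 2, []), (9, 0, [2, 5, 0, 7, 5, 7, 5, 2]), (0, 3, []), (4, 0, [1, 2, 6, 0, 4, 4, 8, 6, 8]),
   (4, 0, [1, 2, 4, 0, 0, 0, 2, 1, 7, 2, 0]), (0, 0, []), (0, 0, []), (0, 0, []),
   (0, 0, []), (4, 0, [2, 1, 5, 1, 8, 8, 2, 1, 7, 0, 0]), (0, 0, []), (7, 0, [2, 5, 7, 4, 6, 6, 1, 7, 5, 2]),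
   (7, 0, [2, 6, 6, 8, 8, 2, 0, 3, 0]), (0, 0, []), (4, 0, [7, 2, 1, 3, 8, 8, 6, 8, 5, 3]), (0, 0, []),
   (11, 0, [2, 5, 7, 4, 6, 6, 1, 7]), (11, 0, [3, 0, 2, 3, 7, 2, 7, 7, 2, 0]), (0, 0, []), (0, 0, []),
   (0, 0, []), (9, 0, [5, 4, 1, 7, 2, 1, 5, 8]), (6, 0, [2, 0, 5, 8, 0, 7, 3, 8]), (9, 0, [7, 3, 8, 6, 7, 2, 8, 0, 0]),
   (6, 0, [1, 3, 7, 4, 5, 1, 1, 1, 2]), (10, 0, [1, 7, 7, 5, 7, 2, 6, 0, 4, 0]), (0, 0, []), (11, 0, [2, 7, 7, 2, 6, 4, 0]),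
   (4, 0, [8, 2, 8, 4, 8, 4, 6, 1, 8, 1]), (0, 0, []), (0, 0, []), (0, 0, []),
   (11, 0, [2, 7, 5, 4, 5, 0, 7, 3, 6, 0]), (10, 0, [0, 4, 0, 2, 7, 7, 5, 5, 2, 1]), (4, 0, [1, 8, 1, 7, 0, 7, 6, 7, 6, 2]), (4, 0, [1, 7, 0, 3, 3, 8, 2]),
   (9, 0, [0, 2, 8, 4, 6, 4, 8, 0, 4, 4, 0]), (0, 4, []), (0, 4, []), (0, 1, []),
   (7, 0, [2, 4, 8, 8, 0, 2, 6, 4, 0]), (3, 0, []), (3, 0, []), (5, 0, [2, 6, 7, 4, 0, 3, 3, 8, 2]),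
   (7, 0, [3, 5, 7, 6, 7, 4, 0, 2]), (9, 0, [2, 1, 4, 0, 7, 4, 0, 7, 2]), (0, 1, []), (9, 0, [1, 3, 8, 1, 6, 7, 2, 5, 7, 3, 1]),
   (0, 1, []), (4, 0, [8, 1, 8, 8, 5, 1, 2]), (3, 0, []), (4, 0, [8, 0, 3, 6, 7, 5, 3, 2]),
   (7, 0, [4, 4, 6, 8, 5, 1, 8, 4, 2]), (0, 1, []), (9, 0, [2, 8, 0, 3, 1, 8, 1, 5, 2]), (3, 0, []),
   (5, 0, [2, 1, 5, 1, 5, 4, 1, 2]), (4, 0, [1, 3, 3, 1, 3, 1, 5, 3, 2, 8, 1]), (3, 0, []), (5, 0, [1, 7, 2, 3, 0, 2, 6, 3, 1, 6]),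
   (0, 1, []), (0, 1, []), (7, 0, [4, 6, 0, 4, 0, 7, 7, 0, 2]), (9, 0, [1, 1, 8, 2, 0, 7, 3, 0, 3, 3]),
   (0, 0, []), (9, 0, [6, 7, 4, 0, 0, 2, 1, 4, 0]), (3, 0, []), (11, 0, [2, 0, 3, 6, 1, 7, 7, 3, 7, 0, 0]),
   (7, 0, [2, 7, 7, 7, 3, 7, 7, 2, 1]), (0, 0, []), (0, 0, []), (0, 0, []),
   (0, 0, []), (0, 0, []), (0, 0, []), (10, 0, [1, 3, 5, 7, 5, 7, 3, 3, 2]),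
   (9, 0, [0, 2, 8, 4, 0, 4, 5, 4, 8, 1]), (0, 0, []), (6, 0, [0, 5, 0, 2, 3, 7, 0, 5, 7])]

def cert0_5 : List (ℕ × ℕ × List ℕ) :=
  [(0, 0, []), (0, 0, []), (0, 2, []), (9, 0, [6, 7, 3, 1, 6, 7, 5, 5, 2]),
   (0, 0, []), (0, 0, []), (10, 0, [2, 8, 8, 6, 6, 8, 1, 3, 5]), (6, 0, [1, 3, 8, 0, 2, 4, 0, 0, 4, 1]),
   (0, 0, []), (0, 1, []), (0, 0, []), (4, 0, [2, 1, 5, 7, 2, 4, 0, 0, 6, 4]),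
   (0, 0, []), (5, 0, [1, 2, 8, 0, 6, 4, 0, 2, 7, 0]), (0, 0, []), (11, 0, [4, 0, 3, 7, 6, 4, 0, 2]),
   (11, 0, [4, 5, 1, 1, 7, 5, 7, 3, 2]), (4, 0, [7, 3, 6, 8, 1, 7, 2, 1, 7, 0]), (0, 1, []), (11, 0, [4, 6, 8, 8, 5, 1, 7, 2]),
   (7, 0, [4, 6, 6, 8, 6, 8, 1, 3, 2]), (7, 0, [4, 1, 5, 1, 8, 0, 0, 3, 6, 2]), (0, 1, []), (4, 0, [1, 5, 7, 3, 6, 1, 3, 7, 0, 2]),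
   (4, 0, [0, 4, 1, 7, 5, 0, 3, 7, 2]), (7, 0, [2, 7, 0, 3, 1, 5, 5, 8, 1]), (4, 0, [1, 4, 8, 8, 4, 8, 5, 5, 2]), (0, 3, []),
   (4, 0, [0, 2, 3, 8, 6, 3, 7, 4, 8, 1]), (2, 0, []), (0, 0, []), (0, 0, []),
   (0, 0, []), (0, 0, []), (0, 0, []), (6, 0, [4, 0, 2, 7, 6, 6, 4, 0, 0]),
   (9, 0, [1, 8, 2, 6, 7, 7, 5, 3, 7, 4]), (0, 0, []), (0, 1, []), (5, 0, [1, 8, 4, 0, 2, 7, 7, 6, 3, 6, 0]),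
   (4, 0, [0, 0, 7, 2, 3, 7, 2, 1, 7, 6, 1]), (0, 0, []), (0, 0, []), (10, 0, [1, 7, 6, 1, 7, 4, 8, 2, 0, 4]),
   (0, 0, []), (7, 0, [4, 1, 8, 1, 5, 1, 2, 0]), (11, 0, [2, 7, 2, 7, 0, 4, 8, 4, 2, 0, 0]), (0, 0, []),
   (0, 0, []), (0, 0, []), (0, 0, []), (0, 0, []),
   (7, 0, [2, 3, 0, 4, 0, 0, 7, 6, 0, 7]), (0, 0, []), (4, 0, [1, 2, 6, 1, 7, 2, 7, 7, 4, 1, 1]), (0, 0, []),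
   (0, 0, []), (0, 0, []), (11, 0, [4, 1, 8, 1, 5, 5, 1, 2, 1, 1]), (0, 0, []),
   (0, 1, []), (5, 0, [2, 0, 4, 6, 1, 3, 5, 2]), (3, 0, []), (4, 0, [0, 0, 7, 7, 4, 8, 4, 5, 3, 2]),
   (0, 2, []), (0, 1, []), (0, 1, []), (2, 0, []),
   (4, 0, [8, 6, 0, 4, 0, 3, 7, 4, 2]), (4, 0, [1, 1, 3, 0, 5, 3, 1, 4, 2]), (0, 1, []), (11, 0, [4, 4, 5, 0, 2, 4, 6, 8, 4, 0]),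
   (0, 4, []), (5, 0, [1, 8, 1, 8, 2, 0, 7, 0, 5, 0]), (7, 0, [3, 1, 7, 4, 5, 0, 3, 2]), (0, 0, []),
   (11, 0, [2, 1, 8, 1, 8, 4, 4, 8, 6, 6]), (0, 0, []), (0, 0, []), (7, 0, [2, 1, 8, 1, 8, 4, 4, 8, 2]),
   (0, 1, []), (10, 0, [4, 1, 8, 5, 0, 0, 2, 1, 1]), (0, 0, []), (0, 0, []),
   (6, 0, [1, 2, 8, 4, 1, 1, 8, 4, 1]), (0, 0, []), (1, 0, []), (0, 0, []),
   (0, 0, []), (0, 0, []), (0, 0, []), (0, 0, []),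
   (0, 0, []), (7, 0, [2, 6, 0, 5, 8, 0, 0, 2, 7]), (0, 0, []), (0, 0, []),
   (0, 0, []), (5, 0, [6, 1, 6, 6, 8, 8, 8]), (5, 0, [0, 2, 8, 0, 5, 8, 0, 3, 1, 5, 1]), (0, 0, []),
   (11, 0, [4, 5, 1, 1, 7, 2, 7, 5, 2, 1]), (5, 0, [1, 1, 8, 1, 6, 7, 7, 6, 2, 0]), (10, 0, [1, 2, 5, 3, 7, 3, 7, 4, 6, 1]), (5, 0, [8, 1, 8, 8, 5, 7, 5, 2, 7]),
   (6, 0, [1, 7, 7, 2, 5, 1, 2, 0, 3, 0]), (11, 0, [2, 7, 6, 4, 4, 0, 3, 7, 4, 5]), (5, 0, [0, 2, 0, 3, 7, 0, 6, 4, 0, 4]), (0, 0, []),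
   (6, 0, [1, 2, 1, 8, 2, 5, 7, 7, 2, 0]), (10, 0, [5, 8, 1, 1, 7, 0, 0, 4, 2, 0]), (5, 0, [0, 2, 8, 8, 2, 0, 0, 3, 0]), (7, 0, [2, 1, 6, 3, 5, 8, 8, 4, 8, 0]),
   (0, 0, []), (0, 0, []), (0, 0, []), (0, 0, []),
   (5, 0, [0, 2, 7, 7, 0, 4, 1, 7, 7, 7]), (0, 0, []), (0, 0, []), (5, 0, [1, 2, 1, 1, 1, 7, 0, 6, 2]),
   (0, 0, []), (0, 1, []), (0, 0, []), (7, 0, [3, 1, 2, 3, 5, 3, 0, 3, 2, 0]),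
   (6, 0, [0, 2, 7, 5, 7, 6, 7, 5, 3]), (0, 0, []), (0, 0, []), (5, 0, [8, 1, 8, 2, 6, 0, 7, 2]),
   (0, 0, []), (0, 0, []), (11, 0, [4, 8, 2, 7, 3, 7, 4, 4, 0]), (9, 0, [0, 2, 3, 7, 4, 8, 5, 1, 2]),
   (4, 0, [2, 0, 3, 8, 2, 5, 5, 7, 4, 1, 5]), (10, 0, [0, 2, 4, 0, 7, 4, 8, 2, 7]), (0, 0, []), (0, 0, []),
   (0, 0, []), (0, 0, []), (0, 0, []), (10, 0, [1, 6, 7, 7, 2, 5, 3, 5, 1]),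
   (10, 0, [0, 2, 8, 1, 4, 0, 6, 4, 0, 6]), (7, 0, [2, 4, 5, 7, 7, 2, 1, 4, 5, 0]), (0, 0, []), (11, 0, [4, 5, 4, 5, 8, 1, 3, 7, 2, 0]),
   (0, 0, []), (6, 0, [0, 3, 1, 3, 0, 3, 1, 5, 2, 1]), (0, 0, []), (6, 0, [0, 2, 8, 5, 8, 5, 4, 4, 0, 2]),
   (4, 0, [3, 8, 8, 2, 4, 0, 7, 7]), (0, 0, []), (0, 1, []), (11, 0, [4, 1, 1, 2, 1, 7, 5, 0, 2, 1]),
   (7, 0, [4, 0, 3, 7, 0, 0, 0, 7, 2]), (3, 0, []), (0, 2, []), (5, 0, [1, 4, 1, 4, 0, 2, 5, 4, 0]),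
   (0, 1, []), (0, 2, []), (0, 1, []), (5, 0, [0, 2, 3, 8, 1, 5, 8, 8, 5, 3, 0]),
   (0, 1, []), (0, 2, []), (0, 2, []), (2, 0, []),
   (4, 0, [2, 4, 8, 1, 5, 7, 3, 6, 2]), (0, 0, []), (10, 0, [0, 2, 7, 5, 7, 7, 0, 3, 5, 2]), (11, 0, [2, 3, 6, 0, 4, 0, 3, 6, 6, 2, 0]),
   (4, 0, [1, 8, 0, 5, 8, 8, 2, 6, 0, 7, 2]), (0, 0, []), (0, 0, []), (0, 0, []),
   (6, 0, [1, 3, 7, 7, 3, 5, 8, 0, 4, 2, 0]), (7, 0, [7, 2, 0, 5, 5, 0, 2, 7, 3]), (0, 0, []), (0, 0, []),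
   (0, 0, []), (0, 0, []), (9, 0, [5, 1, 2, 0, 6, 7, 7, 4]), (5, 0, [0, 2, 3, 7, 4, 8, 1, 1, 6]),
   (4, 0, [1, 2, 7, 0, 2, 6, 1, 8, 1]), (3, 0, []), (9, 0, [0, 4, 1, 4, 8, 8, 2, 4, 8, 4]), (3, 0, []),
   (7, 0, [2, 7, 2, 5, 3, 3, 8, 2, 1]), (4, 0, [8, 0, 3, 7, 0, 2, 3]), (9, 0, [0, 4, 1, 2, 4, 0, 0, 7, 5, 0, 0]), (7, 0, [2, 1, 8, 5, 8, 0, 2, 3, 0]),
   (0, 1, []), (0, 1, []), (0, 1, []), (5, 0, [2, 1, 5, 1, 5, 4, 1, 5, 2]),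
   (4, 0, [2, 7, 2, 7, 3, 7, 5, 3, 1]), (5, 0, [0, 2, 0, 3, 6, 6, 8, 2, 0, 3, 0]), (3, 0, []), (0, 1, []),
   (4, 0, [2, 3, 3, 0, 7, 7, 2]), (0, 1, []), (0, 1, []), (4, 0, [8, 4, 5, 7, 4, 8, 4, 6, 2]),
   (0, 1, []), (9, 0, [2, 5, 0, 7, 5, 7, 5, 5, 2]), (7, 0, [2, 4, 0, 4, 5, 1, 3, 6, 2, 1]), (11, 0, [3, 1, 7, 3, 8, 8, 1, 2]),
   (2, 0, []), (4, 0, [0, 3, 1, 8, 1, 2, 6, 7, 5]), (0, 1, []), (3, 0, []),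
   (0, 1, []), (9, 0, [2, 6, 1, 3, 8, 6, 7, 0, 2]), (9, 0, [1, 1, 7, 0, 2, 0, 4, 6, 1, 7, 0]), (0, 0, []),
   (0, 0, []), (0, 0, []), (5, 0, [7, 4, 4, 0, 7, 2, 8, 4, 6, 1]), (10, 0, [1, 8, 0, 2, 3, 3, 6, 8, 8, 2]),
   (0, 0, []), (6, 0, [4, 0, 2, 1, 1, 1, 2, 7, 0]), (4, 0, [4, 0, 7, 4, 8, 2, 7, 6, 7, 0, 0]), (0, 0, []),
   (0, 0, []), (0, 0, []), (0, 0, []), (0, 0, []),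
   (0, 0, []), (0, 0, []), (9, 0, [1, 3, 8, 4, 8, 0, 2, 1, 3, 1]), (0, 0, []),
   (0, 0, []), (0, 0, []), (0, 0, []), (9, 0, [0, 4, 5, 0, 2, 7, 3, 0, 7, 0]),
   (0, 0, []), (0, 0, []), (0, 0, []), (0, 0, []),
   (5, 0, [1, 2, 3, 8, 4, 1, 4, 0, 4, 1]), (5, 0, [1, 3, 0, 2, 4, 1, 7, 6, 8, 5]), (0, 0, []), (4, 0, [1, 5, 8, 0, 2, 4, 8, 4, 0, 7]),
   (0, 0, []), (11, 0, [2, 6, 6, 8, 8, 2, 0, 3, 0, 2]), (7, 0, [2, 5, 7, 4, 6, 6, 1, 7, 2]), (0, 0, []),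
   (0, 0, []), (0, 0, []), (7, 0, [3, 7, 2, 7, 5, 8, 8, 5, 1]), (0, 0, []),
   (4, 0, [1, 4, 1, 7, 2, 0, 3, 3, 6, 8, 1]), (4, 0, [1, 2, 6, 1, 3, 8, 5, 8, 5, 8]), (0, 0, []), (0, 0, []),
   (0, 0, []), (11, 0, [2, 5, 7, 4, 6, 6, 1, 7, 5]), (4, 0, [2, 8, 8, 0, 7, 0, 4, 8, 2, 0]), (10, 0, [1, 3, 7, 6, 4, 1, 1, 6]),
   (0, 0, []), (0, 1, []), (7, 0, [4, 8, 6, 0, 2, 7, 2, 8, 0, 0]), (5, 0, [1, 7, 5, 7, 4, 1, 3, 7]),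
   (5, 0, [0, 2, 8, 5, 1, 2, 7, 3, 8, 2]), (0, 0, []), (6, 0, [1, 2, 8, 0, 7, 2, 7, 0, 7, 0]), (7, 0, [2, 4, 1, 1, 6, 3, 1, 4, 8, 5]),
   (4, 0, [1, 3, 6, 7, 3, 6, 7, 6, 0, 2, 0]), (0, 0, []), (0, 0, []), (0, 0, []),
   (10, 0, [5, 7, 4, 4, 0, 4, 1, 2, 1]), (6, 0, [2, 3, 7, 5, 8, 8, 1, 4]), (11, 0, [2, 8, 8, 4, 8, 2, 4, 1, 8, 0]), (4, 0, [1, 2, 8, 2, 6, 4, 1, 1, 8, 2, 0]),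
   (0, 3, []), (9, 0, [2, 1, 4, 5, 7, 2, 6]), (4, 0, [1, 7, 7, 2, 5, 7, 5, 3, 1, 6]), (3, 0, []),
   (5, 0, [8, 8, 1, 7, 0, 4, 4, 2, 0]), (0, 1, []), (0, 1, []), (5, 0, [1, 2, 4, 5, 0, 4, 8, 6, 7, 3]),
   (5, 0, [1, 6, 3, 1, 2, 6, 1, 4, 1, 3]), (11, 0, [2, 3, 6, 0, 3, 0, 4, 5, 0, 0]), (0, 1, []), (3, 0, []),
   (0, 2, []), (0, 0, []), (0, 0, []), (0, 0, []),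
   (10, 0, [1, 8, 2, 1, 7, 3, 7, 0, 7]), (0, 0, []), (0, 0, []), (5, 0, [1, 5, 7, 2, 8, 6, 4, 6, 2]),
   (5, 0, [1, 4, 1, 3, 5, 7, 2, 3, 1, 6]), (3, 0, []), (0, 0, []), (0, 0, []),
   (0, 0, []), (0, 0, []), (6, 0, [0, 0, 2, 3, 6, 0, 4, 8, 2]), (0, 0, []),
   (0, 3, []), (5, 0, [1, 3, 8, 5, 8, 4, 4, 1, 2, 0]), (0, 1, []), (0, 3, []),
   (7, 0, [2, 1, 7, 2, 8, 5, 3, 1, 3, 0]), (0, 1, []), (11, 0, [7, 5, 0, 7, 0, 2, 8, 4, 0]), (0, 1, []),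
   (4, 0, [1, 2, 3, 8, 6, 3, 7, 0, 4, 1]), (5, 0, [1, 3, 8, 2, 6, 3, 1, 1, 6, 3]), (0, 3, []), (2, 0, []),
   (0, 1, []), (0, 3, []), (3, 0, []), (4, 0, [0, 4, 1, 8, 0, 2, 6, 0, 7, 0, 0]),
   (0, 0, []), (0, 0, []), (0, 0, []), (0, 0, []),
   (6, 0, [4, 1, 2, 0, 6, 0, 3, 3, 1]), (0, 0, []), (0, 0, []), (10, 0, [1, 3, 3, 0, 5, 8, 2, 4, 8, 0]),
   (0, 0, []), (0, 0, []), (9, 0, [6, 1, 2, 8, 5, 7, 7, 2, 7, 2]), (5, 0, [1, 1, 8, 6, 6, 1, 2, 7, 4, 6, 0]),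
   (0, 0, []), (0, 0, []), (0, 0, []), (0, 0, []),
   (0, 0, []), (0, 0, []), (0, 0, []), (9, 0, [2, 8, 2, 7, 0, 2, 7, 0, 5]),
   (5, 0, [8, 5, 8, 5, 3, 7, 7, 2, 8, 0]), (4, 0, [1, 2, 3, 6, 8, 8, 0, 3, 8, 1]), (6, 0, [1, 7, 5, 5, 7, 2, 4, 0, 4, 2]), (7, 0, [2, 0, 0, 4, 1, 5, 1, 7, 7, 0]),
   (10, 0, [0, 0, 6, 7, 3, 5, 5, 1, 3]), (11, 0, [2, 3, 3, 8, 6, 0, 4, 1, 3, 5]), (0, 0, []), (0, 0, []),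
   (0, 0, []), (0, 0, []), (5, 0, [1, 8, 0, 7, 7, 0, 2, 8, 1, 3]), (0, 0, []),
   (0, 0, []), (0, 0, []), (9, 0, [1, 6, 7, 2, 7, 2, 8, 0, 2]), (0, 0, []),
   (5, 0, [5, 8, 2, 8, 1, 3, 1, 7, 0]), (4, 0, [1, 8, 1, 3, 0, 2, 4, 8, 1, 4]), (0, 0, []), (0, 0, []),
   (0, 0, []), (0, 0, []), (0, 0, []), (9, 0, [1, 4, 0, 7, 2, 1, 4, 0, 4, 5]),
   (4, 0, [0, 2, 8, 0, 6, 3, 1, 5, 2, 0]), (11, 0, [4, 1, 7, 3, 8, 0, 6, 6, 7, 2]), (0, 1, []), (5, 0, [0, 2, 8, 5, 8, 1, 4, 0, 6, 0]),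
   (5, 0, [6, 4, 1, 3, 3, 7, 4, 4, 0]), (3, 0, []), (11, 0, [4, 4, 8, 8, 0, 6, 3, 0, 2]), (3, 0, []),
   (9, 0, [1, 8, 1, 5, 3, 3, 8, 2, 7, 7]), (4, 0, [7, 2, 3, 1, 2, 3, 0, 3, 0]), (9, 0, [2, 8, 5, 1, 7, 4, 4, 0, 2]), (3, 0, []),
   (0, 1, []), (0, 1, []), (4, 0, [3, 1, 8, 2, 0, 3, 3, 2, 7]), (0, 1, []),
   (0, 1, []), (0, 1, []), (0, 1, []), (3, 0, []),
   (2, 0, []), (11, 0, [7, 0, 3, 7, 3, 5, 3, 0, 2]), (0, 1, []), (4, 0, [0, 0, 3, 8, 1, 5, 8, 5, 2, 0]),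
   (0, 1, []), (0, 1, []), (0, 1, []), (5, 0, [1, 5, 8, 2, 7, 6, 6, 3, 0]),
   (5, 0, [2, 1, 5, 4, 5, 8, 8, 1, 2]), (7, 0, [6, 7, 6, 8, 4, 8, 1, 3, 2]), (5, 0, [1, 2, 1, 4, 1, 3, 7, 3, 5, 4]), (11, 0, [4, 6, 1, 7, 7, 3, 7, 7, 2]),
   (0, 1, []), (4, 0, [4, 1, 7, 2, 6, 0, 6, 3, 8]), (5, 0, [2, 1, 7, 6, 8, 1, 6, 7, 2]), (5, 0, [7, 7, 2, 6, 4, 0, 4, 0, 2, 1]),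
   (11, 0, [2, 3, 6, 0, 2, 4, 1, 5, 8]), (0, 3, []), (0, 1, []), (0, 1, []),
   (9, 0, [8, 1, 4, 0, 7, 2, 4, 0, 7]), (3, 0, []), (4, 0, [1, 2, 1, 1, 3, 8, 8, 6, 4, 0]), (0, 3, []),
   (3, 0, []), (10, 0, [3, 7, 3, 6, 1, 2, 5, 8]), (0, 0, []), (4, 0, [0, 3, 6, 1, 2, 7, 4, 1, 7, 0, 0]),
   (11, 0, [7, 2, 0, 4, 5, 7, 6, 3, 1]), (0, 0, []), (0, 0, []), (0, 0, []),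
   (5, 0, [0, 2, 3, 7, 4, 8, 5, 1]), (7, 0, [4, 8, 2, 7, 3, 7, 4, 4, 0, 2]), (0, 0, []), (0, 0, []),
   (9, 0, [8, 1, 8, 2, 6, 0, 7]), (0, 0, []), (6, 0, [1, 2, 3, 0, 2, 1, 1, 7, 7]), (0, 0, []),
   (0, 0, []), (6, 0, [1, 7, 7, 7, 0, 2, 0, 4, 1, 1]), (0, 0, []), (0, 0, []),
   (0, 1, []), (4, 0, [2, 1, 3, 0, 6, 7, 2, 6, 0, 7, 4]), (10, 0, [2, 3, 1, 7, 4, 1, 5, 1, 1]), (0, 0, []),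
   (0, 0, []), (0, 0, []), (0, 0, []), (5, 0, [1, 8, 8, 6, 7, 7, 2, 0, 5, 4, 0]),
   (9, 0, [0, 3, 6, 1, 6, 7, 2, 8, 6]), (0, 0, []), (0, 0, []), (6, 0, [0, 4, 5, 8, 2, 8, 1, 4, 6, 1]),
   (0, 0, []), (0, 0, []), (0, 0, []), (0, 0, []),
   (5, 0, [1, 2, 1, 1, 7, 0, 2, 8, 1]), (0, 0, []), (3, 0, []), (0, 0, []),
   (0, 0, []), (0, 0, []), (0, 0, []), (0, 0, []),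
   (10, 0, [1, 2, 3, 1, 3, 0, 4, 0, 7, 3]), (5, 0, [6, 3, 3, 0, 4, 0, 2, 1, 7, 0]), (4, 0, [1, 3, 6, 7, 2, 8, 8, 6, 2]), (0, 0, []),
   (7, 0, [2, 7, 0, 3, 0, 3, 8, 5, 1, 7]), (0, 0, []), (0, 0, []), (7, 0, [2, 1, 7, 0, 3, 7, 6, 6, 7, 3]),
   (0, 0, []), (4, 0, [1, 3, 8, 8, 1, 2, 6, 1, 4]), (11, 0, [2, 7, 5, 5, 8, 2, 0, 7, 0, 6]), (0, 0, []),
   (0, 0, []), (4, 0, [0, 7, 7, 5, 4, 0, 2, 7, 2, 1, 1]), (0, 0, []), (11, 0, [2, 1, 8, 4, 4, 0, 2, 8, 5, 0]),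
   (0, 0, []), (6, 0, [1, 7, 0, 6, 4, 8, 1, 2]), (0, 0, []), (0, 0, []),
   (7, 0, [2, 3, 0, 7, 2, 1, 8, 1, 5, 4]), (6, 0, [1, 8, 5, 1, 1, 8, 1, 4, 2, 0, 0]), (0, 0, []), (0, 0, []),
   (10, 0, [3, 8, 2, 5, 7, 6, 7, 3]), (4, 0, [1, 5, 7, 2, 8, 2, 1, 5, 4, 2, 0]), (0, 0, []), (0, 0, []),
   (5, 0, [5, 1, 2, 7, 3, 5, 3, 8, 0, 0]), (7, 0, [2, 8, 8, 1, 7, 4, 0, 4, 2, 0]), (10, 0, [0, 0, 2, 1, 3, 1, 1, 7, 2, 8, 1]), (5, 0, [1, 1, 3, 0, 5, 8, 8, 6, 0, 2, 1]),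
   (0, 0, []), (0, 0, []), (10, 0, [1, 2, 0, 6, 0, 3, 6, 7, 7, 5]), (0, 0, []),
   (2, 0, []), (7, 0, [4, 1, 2, 7, 7, 5, 4, 4, 8, 4]), (0, 0, []), (0, 0, []),
   (0, 0, []), (0, 0, []), (6, 0, [1, 3, 0, 3, 3, 8, 2, 0, 4, 2]), (11, 0, [2, 3, 8, 8, 0, 5, 4, 5, 8]),
   (0, 0, []), (0, 0, []), (0, 0, [])]

def cert0_6 : List (ℕ × ℕ × List ℕ) :=
  [(0, 1, []), (5, 0, [1, 1, 6, 7, 2, 4, 0, 4, 0]), (11, 0, [6, 3, 3, 8, 8, 1, 3, 2]), (0, 1, []),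
   (9, 0, [1, 8, 2, 8, 6, 8, 6, 8, 2, 7, 0]), (0, 1, []), (4, 0, [0, 7, 7, 5, 3, 1, 1, 3, 2]), (3, 0, []),
   (3, 0, []), (3, 0, []), (9, 0, [1, 3, 1, 3, 8, 2, 7, 4, 1, 6]), (5, 0, [5, 3, 1, 4, 8, 5, 1, 7]),
   (4, 0, [0, 0, 7, 7, 0, 7, 2, 6]), (11, 0, [3, 3, 6, 1, 4, 8, 4, 2]), (4, 0, [1, 4, 6, 8, 0, 2, 1, 3, 6, 1]), (0, 0, []),
   (0, 0, []), (0, 0, []), (6, 0, [1, 4, 4, 1, 8, 1, 7, 2, 0, 3, 0]), (0, 0, []),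
   (0, 0, []), (9, 0, [1, 5, 7, 2, 8, 6, 4]), (9, 0, [1, 2, 1, 7, 5, 0, 0, 3, 0, 3, 1]), (3, 0, []),
   (0, 0, []), (0, 0, []), (0, 0, []), (0, 0, []),
   (10, 0, [1, 7, 5, 7, 5, 5, 8, 8, 0]), (0, 0, []), (3, 0, []), (0, 0, []),
   (0, 1, []), (0, 0, []), (6, 0, [1, 3, 5, 7, 5, 7, 3, 5, 3]), (10, 0, [4, 1, 2, 6, 6, 8, 2, 1, 7]),
   (5, 0, [1, 8, 4, 4, 8, 2, 1, 7, 6, 0]), (0, 0, []), (0, 0, []), (0, 0, []),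
   (0, 0, []), (7, 0, [2, 5, 3, 8, 8, 2, 0, 5, 3, 1]), (5, 0, [8, 4, 8, 2, 7, 3, 5, 8, 8, 1]), (11, 0, [2, 3, 6, 1, 5, 3, 1, 6, 7, 4]),
   (0, 0, []), (9, 0, [6, 8, 2, 1, 3, 3, 1, 7, 6]), (9, 0, [1, 3, 1, 8, 5, 1, 2, 8, 8, 6, 1]), (7, 0, [2, 7, 4, 0, 2, 7, 5, 3]),
   (4, 0, [1, 7, 0, 3, 3, 8, 2, 5]), (9, 0, [5, 0, 2, 1, 5, 3, 7, 4, 6]), (0, 2, []), (0, 1, []),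
   (5, 0, [2, 5, 5, 8, 6, 0, 3, 5, 1, 2]), (0, 1, []), (7, 0, [2, 3, 1, 8, 0, 4, 6, 6, 0]), (3, 0, []),
   (4, 0, [0, 7, 0, 0, 3, 0, 3, 8, 4, 2]), (3, 0, []), (0, 2, []), (0, 1, []),
   (11, 0, [2, 3, 8, 1, 2, 0, 4, 0, 5]), (0, 0, []), (5, 0, [1, 5, 3, 8, 2, 8, 8, 4, 0, 2]), (0, 0, []),
   (0, 0, []), (7, 0, [2, 3, 1, 2, 3, 3, 6, 8, 0, 0]), (0, 0, []), (10, 0, [0, 0, 2, 8, 1, 3, 8, 1, 5, 1]),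
   (0, 0, []), (0, 0, []), (6, 0, [2, 4, 0, 7, 7, 7, 6, 1, 4, 0]), (0, 0, []),
   (0, 0, []), (4, 0, [2, 0, 5, 7, 0, 2, 5, 8, 1, 6]), (9, 0, [1, 2, 3, 7, 7, 3, 8, 0, 0, 2, 0]), (0, 0, []),
   (0, 0, []), (7, 0, [2, 5, 7, 4, 1, 3, 6, 1, 8, 2, 0]), (0, 0, []), (0, 0, []),
   (10, 0, [0, 2, 8, 5, 1, 1, 3, 6, 7, 0, 0]), (11, 0, [2, 3, 7, 0, 7, 7, 3, 6, 2, 1]), (0, 0, []), (6, 0, [0, 2, 7, 6, 3, 7, 7, 7, 0, 0]),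
   (0, 0, []), (0, 0, []), (4, 0, [0, 2, 0, 3, 5, 8, 8, 5, 4, 0]), (10, 0, [1, 4, 1, 2, 5, 0, 4, 6, 8, 0, 0]),
   (0, 2, []), (6, 0, [6, 0, 4, 0, 3, 7, 2, 0, 0]), (0, 0, []), (9, 0, [1, 2, 1, 4, 6, 4, 1, 6, 7, 2]),
   (0, 0, []), (10, 0, [1, 7, 2, 8, 1, 4, 6, 1, 2]), (0, 0, []), (0, 0, []),
   (0, 0, []), (0, 0, []), (5, 0, [1, 7, 6, 0, 7, 7, 2, 5, 8, 5]), (9, 0, [1, 2, 8, 6, 0, 3, 1, 1, 1, 1]),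
   (6, 0, [1, 7, 2, 8, 1, 4, 6, 1, 5]), (10, 0, [0, 2, 5, 7, 4, 8, 5, 8, 2, 8, 0]), (4, 0, [0, 7, 3, 0, 4, 0, 2, 1, 8, 5, 0]), (5, 0, [6, 8, 1, 2, 6, 7, 5, 5, 4]),
   (6, 0, [2, 3, 3, 8, 2, 7, 7, 6, 8, 0]), (0, 1, []), (3, 0, []), (7, 0, [3, 8, 1, 6, 6, 3, 1, 2]),
   (9, 0, [1, 7, 6, 8, 5, 0, 2, 3, 0, 5]), (0, 1, []), (4, 0, [0, 7, 6, 1, 7, 7, 7, 2]), (0, 1, []),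
   (9, 0, [1, 5, 7, 0, 2, 7, 3, 7, 3, 1]), (5, 0, [0, 2, 0, 3, 0, 3, 1, 3, 8, 4]), (7, 0, [3, 6, 6, 8, 0, 4, 6, 2]), (3, 0, []),
   (0, 1, []), (0, 1, []), (9, 0, [1, 2, 8, 4, 5, 4, 0, 3, 8, 6, 0]), (4, 0, [1, 8, 1, 7, 0, 7, 7, 0, 2]),
   (0, 0, []), (0, 0, []), (0, 0, []), (9, 0, [0, 2, 7, 5, 7, 2, 4, 8, 8, 0]),
   (0, 0, []), (0, 0, []), (10, 0, [1, 6, 7, 0, 2, 3, 8, 1, 7, 4, 0]), (0, 0, []),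
   (5, 0, [6, 7, 3, 1, 7, 0]), (0, 0, []), (4, 0, [1, 5, 7, 4, 6, 1, 2, 6, 8]), (0, 0, []),
   (6, 0, [0, 0, 3, 6, 0, 7, 2, 5, 7, 3]), (0, 0, []), (0, 0, []), (4, 0, [7, 3, 3, 7, 3, 1, 4, 2, 0]),
   (0, 0, []), (9, 0, [1, 8, 0, 5, 4, 8, 6, 6, 2, 1, 1]), (0, 0, []), (0, 0, []),
   (9, 0, [1, 4, 0, 2, 8, 1, 7, 7, 6, 0]), (0, 0, []), (0, 0, []), (5, 0, [0, 5, 7, 2, 3, 8, 6, 0, 2]),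
   (0, 0, []), (0, 0, []), (0, 0, []), (0, 0, []),
   (5, 0, [1, 3, 0, 2, 4, 1, 3, 0, 4, 6]), (0, 0, []), (10, 0, [2, 7, 5, 8, 4, 8, 0, 3, 7, 0]), (5, 0, [1, 5, 7, 2, 8, 8, 1, 1, 6, 3]),
   (0, 0, []), (7, 0, [2, 3, 6, 1, 7, 2, 1, 4, 0, 0, 0]), (11, 0, [2, 0, 7, 7, 0, 2, 6, 1, 7]), (0, 0, []),
   (0, 0, []), (6, 0, [1, 7, 5, 5, 0, 0, 7, 4]), (3, 0, []), (0, 0, []),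
   (0, 0, []), (0, 0, []), (5, 0, [1, 6, 1, 8, 6, 0, 2, 7, 6, 2]), (0, 1, []),
   (0, 0, []), (9, 0, [8, 2, 8, 0, 2, 3, 6, 8, 2, 1]), (0, 1, []), (0, 1, []),
   (9, 0, [5, 7, 2, 3, 5, 7, 6, 6, 0]), (9, 0, [2, 6, 4, 0, 7, 6, 8, 1, 2]), (9, 0, [0, 2, 3, 3, 0, 3, 1, 6, 3, 1]), (9, 0, [1, 1, 6, 3, 7, 2, 5, 7, 0, 7]),
   (0, 1, []), (4, 0, [7, 0, 2, 0, 0, 3, 0, 3, 7]), (0, 1, []), (4, 0, [0, 4, 0, 4, 0, 5, 4, 5, 2, 1]),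
   (0, 1, []), (4, 0, [2, 1, 3, 3, 7, 3, 5, 7, 7, 2]), (5, 0, [6, 7, 4, 8, 0, 2, 0, 7]), (4, 0, [0, 2, 3, 7, 2, 0, 7, 7, 2]),
   (0, 0, []), (0, 0, []), (6, 0, [0, 7, 0, 2, 0, 0, 4, 6, 2, 0]), (4, 0, [1, 7, 7, 5, 7, 7, 5, 8, 0, 2, 1]),
   (0, 0, []), (5, 0, [8, 2, 8, 1, 6, 6, 8, 4, 1]), (0, 0, []), (9, 0, [2, 7, 7, 7, 2, 0, 0, 0, 7, 0]),
   (0, 0, []), (0, 0, []), (0, 0, []), (0, 1, []),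
   (10, 0, [5, 8, 2, 1, 4, 4, 1]), (0, 0, []), (0, 0, []), (0, 0, []),
   (0, 0, []), (11, 0, [2, 6, 0, 4, 5, 8, 6, 4, 1]), (0, 0, []), (4, 0, [2, 0, 5, 7, 0, 2, 5, 8, 1]),
   (0, 0, []), (10, 0, [6, 3, 7, 6, 6, 7, 7, 3]), (0, 0, []), (6, 0, [2, 6, 7, 6, 6, 0, 7, 2, 0]),
   (0, 0, []), (9, 0, [1, 2, 8, 2, 4, 8, 4, 8, 1, 1]), (0, 0, []), (0, 0, []),
   (5, 0, [5, 0, 7, 2, 8, 1, 8, 2]), (7, 0, [2, 3, 1, 2, 3, 3, 6, 8, 5, 0]), (9, 0, [1, 7, 7, 5, 7, 2, 8, 0, 7, 0]), (0, 1, []),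
   (0, 1, []), (3, 0, []), (9, 0, [7, 6, 6, 1, 7, 7]), (0, 3, []),
   (0, 1, []), (0, 1, []), (5, 0, [2, 5, 7, 3, 3, 8, 6, 6, 2]), (4, 0, [2, 1, 5, 1, 7, 6, 4, 0, 4, 0, 2]),
   (9, 0, [1, 4, 0, 3, 1, 6, 8, 6, 0]), (0, 1, []), (4, 0, [0, 7, 6, 8, 2, 7, 0, 3, 3, 0]), (3, 0, []),
   (3, 0, []), (7, 0, [2, 7, 4, 0, 2, 7, 6, 3]), (0, 2, []), (4, 0, [4, 4, 0, 3, 1, 6, 7, 3, 2]),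
   (9, 0, [1, 7, 6, 8, 5, 0, 2, 3, 0, 6]), (3, 0, []), (9, 0, [0, 3, 6, 7, 2, 7, 2, 1, 8]), (7, 0, [3, 1, 7, 7, 7, 3, 6, 2]),
   (9, 0, [5, 8, 2, 8, 2, 0, 0, 7, 5]), (0, 1, []), (0, 2, []), (3, 0, []),
   (0, 1, []), (0, 1, []), (4, 0, [3, 0, 7, 4, 5, 5, 8, 2]), (5, 0, [8, 0, 2, 3, 7, 6, 1, 7]),
   (0, 0, []), (0, 0, []), (0, 0, []), (6, 0, [1, 4, 8, 2, 5, 8, 0, 7, 3, 0]),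
   (0, 0, []), (10, 0, [2, 4, 8, 0, 4, 6, 8, 5, 0]), (4, 0, [1, 1, 8, 2, 8, 0, 5, 4, 1]), (5, 0, [1, 5, 7, 3, 8, 6, 3, 7, 6]),
   (0, 0, []), (9, 0, [7, 2, 5, 0, 0, 2, 8, 8, 0, 0]), (0, 0, []), (0, 0, []),
   (0, 0, []), (0, 0, []), (0, 0, []), (4, 0, [0, 3, 1, 8, 1, 2, 7, 0, 5]),
   (11, 0, [6, 7, 3, 1, 8, 4, 6, 2]), (0, 1, []), (2, 0, []), (3, 0, []),
   (0, 1, []), (0, 1, []), (7, 0, [3, 1, 3, 6, 1, 8, 1, 2]), (4, 0, [2, 3, 7, 0, 7, 3, 7, 6, 1, 2]),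
   (9, 0, [2, 5, 0, 7, 5, 7, 6, 6, 2]), (4, 0, [1, 2, 6, 0, 4, 4, 8, 1, 4]), (0, 1, []), (9, 0, [0, 4, 8, 8, 6, 8, 5, 4, 2, 1]),
   (0, 1, []), (0, 1, []), (4, 0, [1, 3, 6, 7, 3, 6, 7, 2, 1, 1, 2]), (7, 0, [2, 1, 8, 1, 8, 0, 3, 0, 3, 6, 1]),
   (6, 0, [0, 2, 5, 8, 5, 1, 3, 3, 8, 1]), (5, 0, [0, 2, 8, 1, 8, 5, 3, 7, 2, 1, 1]), (6, 0, [0, 2, 7, 2, 1, 5, 3, 1, 7]), (10, 0, [2, 4, 0, 2, 3, 6, 8, 1, 3]),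
   (5, 0, [5, 1, 7, 7, 7, 0, 6, 0]), (0, 0, []), (0, 0, []), (0, 0, []),
   (10, 0, [1, 3, 7, 6, 4, 1, 1]), (0, 0, []), (0, 1, []), (7, 0, [2, 7, 7, 2, 4, 0, 5, 0, 2]),
   (0, 0, []), (0, 0, []), (0, 0, []), (10, 0, [1, 2, 4, 8, 0, 2, 1, 1, 8]),
   (10, 0, [1, 6, 1, 8, 8, 2, 0, 3, 6, 0]), (9, 0, [1, 5, 1, 2, 8, 8, 4, 0, 7]), (9, 0, [0, 3, 1, 4, 5, 0, 2, 7, 4, 0, 7]), (0, 0, []),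
   (0, 0, []), (10, 0, [1, 2, 8, 0, 2, 1, 7, 5, 4]), (0, 0, []), (0, 0, []),
   (0, 0, []), (6, 0, [2, 1, 8, 5, 4, 8, 8, 5, 5, 0]), (0, 0, []), (0, 0, []),
   (0, 1, []), (0, 1, []), (7, 0, [4, 5, 8, 0, 4, 5, 8, 6, 2]), (9, 0, [6, 8, 2, 1, 3, 3, 1, 7]),
   (9, 0, [5, 0, 2, 1, 5, 3, 7, 4]), (0, 1, []), (3, 0, []), (5, 0, [7, 2, 4, 1, 5, 8, 4, 8, 0, 0]),
   (0, 1, []), (4, 0, [8, 4, 8, 6, 8, 4, 0, 4, 2]), (9, 0, [1, 7, 3, 3, 1, 2, 6, 7, 7, 6, 0]), (3, 0, []),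
   (7, 0, [2, 4, 5, 0, 7, 2, 8, 2, 1]), (4, 0, [1, 7, 0, 3, 3, 8, 6, 6, 2]), (0, 1, []), (0, 0, []),
   (10, 0, [6, 1, 2, 0, 3, 6, 1, 8, 2]), (0, 0, []), (11, 0, [2, 0, 5, 3, 1, 1, 3, 0, 4, 0]), (0, 0, []),
   (0, 0, []), (0, 0, []), (0, 3, []), (0, 0, []),
   (7, 0, [2, 1, 3, 8, 0, 4, 0, 6, 2, 1]), (1, 0, []), (0, 0, []), (0, 0, []),
   (0, 0, []), (6, 0, [1, 2, 6, 6, 8, 2, 8, 0, 4, 8]), (11, 0, [3, 8, 6, 1, 4, 6, 1, 2]), (4, 0, [1, 3, 1, 6, 1, 5, 8, 1, 3, 2]),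
   (3, 0, []), (3, 0, []), (5, 0, [1, 3, 5, 8, 8, 2, 7, 5, 0, 2]), (5, 0, [2, 1, 4, 4, 8, 1, 8, 8, 2]),
   (11, 0, [4, 5, 1, 3, 7, 3, 6, 3, 2]), (4, 0, [1, 7, 7, 2, 5, 7, 5, 3, 1]), (9, 0, [2, 1, 4, 5, 7, 2]), (0, 3, []),
   (0, 1, []), (0, 1, []), (0, 3, []), (0, 1, []),
   (5, 0, [1, 2, 4, 5, 0, 4, 0, 6, 3]), (7, 0, [2, 7, 7, 0, 3, 8, 6, 4, 1, 7]), (0, 0, []), (0, 0, []),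
   (4, 0, [0, 2, 1, 3, 7, 4, 1, 4, 0]), (11, 0, [7, 0, 2, 8, 2, 5, 0, 7, 3]), (11, 0, [4, 1, 1, 7, 2, 5, 8, 5, 8, 0]), (4, 0, [4, 0, 0, 2, 8, 0, 4, 5, 8]),
   (7, 0, [7, 0, 6, 0, 2, 1, 7, 3, 8, 0]), (0, 0, []), (0, 0, []), (4, 0, [0, 7, 2, 0, 4, 1, 7, 6, 0, 3, 1]),
   (0, 0, []), (0, 0, []), (0, 0, []), (0, 0, []),
   (4, 0, [0, 3, 8, 2, 8, 2, 8, 5, 5, 1, 1]), (5, 0, [7, 2, 3, 8, 6, 6, 8, 6, 0]), (0, 1, []), (0, 1, []),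
   (0, 1, []), (11, 0, [2, 8, 6, 1, 8, 8, 4, 5, 1, 1]), (5, 0, [0, 4, 1, 8, 8, 6, 8, 2, 7, 4, 0]), (0, 1, []),
   (7, 0, [4, 4, 8, 6, 3, 8, 6, 1, 4, 2]), (0, 1, []), (0, 1, []), (0, 1, []),
   (3, 0, []), (2, 0, []), (0, 1, []), (0, 0, []),
   (0, 0, []), (0, 0, []), (4, 0, [0, 0, 2, 3, 1, 5, 4, 0, 3, 3, 0]), (10, 0, [2, 5, 5, 7, 3, 6, 0, 3, 7]),
   (0, 0, []), (0, 0, []), (5, 0, [7, 7, 4, 8, 0, 7, 5, 2, 1, 4]), (0, 0, []),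
   (0, 0, []), (0, 0, []), (0, 0, []), (0, 0, []),
   (6, 0, [0, 2, 1, 7, 6, 7, 6, 4, 1, 1]), (9, 0, [1, 3, 6, 1, 2, 4, 0, 3, 8, 1]), (11, 0, [3, 5, 7, 7, 5, 7, 2]), (7, 0, [3, 7, 6, 7, 5, 8, 8, 0, 2]),
   (7, 0, [6, 4, 1, 4, 0, 5, 5, 4, 2]), (3, 0, []), (0, 1, []), (4, 0, [1, 3, 1, 6, 3, 1, 2, 8, 1, 1, 2]),
   (0, 1, []), (3, 0, []), (4, 0, [0, 5, 3, 8, 0, 4, 5, 0, 2]), (0, 1, []),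
   (11, 0, [4, 1, 7, 5, 4, 0, 4, 1, 1, 2]), (0, 3, []), (4, 0, [7, 2, 5, 8, 1, 2, 7, 3, 1]), (0, 1, []),
   (0, 1, []), (0, 0, []), (0, 0, []), (10, 0, [5, 5, 0, 3, 0, 2, 3, 0, 3]),
   (0, 0, []), (0, 0, []), (5, 0, [1, 2, 8, 6, 0, 7, 6, 6, 1, 2]), (4, 0, [1, 3, 1, 1, 8, 0, 3, 1, 2, 8]),
   (9, 0, [1, 2, 8, 6, 0, 3, 5, 1, 1]), (6, 0, [1, 8, 0, 4, 1, 4, 4, 6, 0]), (0, 0, []), (10, 0, [0, 4, 1, 5, 8, 5, 4, 0, 2]),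
   (9, 0, [6, 8, 1, 2, 7, 0, 5, 4, 2]), (6, 0, [6, 8, 8, 5, 1, 2, 3, 1, 4]), (5, 0, [1, 5, 4, 4, 0, 7, 2, 5, 7, 0]), (0, 0, []),
   (0, 1, []), (4, 0, [1, 7, 2, 0, 3, 5, 8, 4]), (7, 0, [7, 2, 8, 2, 1, 3, 8]), (0, 1, []),
   (9, 0, [5, 8, 5, 8, 0, 7, 2, 7, 4]), (0, 1, []), (0, 3, []), (4, 0, [2, 1, 7, 6, 7, 6, 4, 1, 5, 2]),
   (3, 0, []), (4, 0, [1, 8, 2, 0, 6, 7, 4, 8, 5, 3]), (9, 0, [5, 8, 2, 1, 1, 7, 7, 3, 7]), (2, 0, []),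
   (0, 1, []), (0, 1, []), (11, 0, [4, 5, 0, 7, 5, 3, 7, 4, 2]), (10, 0, [2, 3, 3, 1, 8, 2, 6, 8, 5]),
   (10, 0, [0, 2, 0, 4, 5, 8, 0, 2, 7]), (6, 0, [1, 6, 7, 7, 2, 7, 6, 0, 5, 2]), (0, 0, []), (0, 0, []),
   (6, 0, [1, 7, 3, 3, 5, 7, 2, 8, 6, 3, 0]), (7, 0, [7, 6, 0, 2, 7, 2, 6, 7, 3]), (0, 0, []), (0, 0, []),
   (0, 0, []), (0, 0, []), (4, 0, [8, 8, 1, 2, 3, 7, 7, 5, 4]), (0, 1, []),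
   (0, 0, []), (11, 0, [4, 1, 2, 8, 1, 6, 6, 8, 0, 0]), (5, 0, [1, 5, 5, 7, 2, 4, 5, 7, 3, 2]), (0, 2, []),
   (2, 0, []), (5, 0, [0, 4, 8, 8, 1, 5, 5, 8, 0]), (0, 1, []), (0, 1, []),
   (4, 0, [2, 1, 8, 8, 4, 8, 4, 4, 5, 2]), (3, 0, []), (0, 1, []), (0, 1, []),
   (0, 2, []), (11, 0, [4, 5, 4, 8, 6, 3, 7, 4, 0, 2]), (7, 0, [5, 7, 6, 6, 3, 8, 4, 2]), (0, 2, []),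
   (0, 2, []), (0, 0, []), (5, 0, [1, 4, 1, 3, 8, 5, 5, 0, 7, 2]), (0, 0, []),
   (5, 0, [0, 2, 1, 4, 1, 6, 7, 7, 5, 2, 0]), (0, 0, []), (0, 0, []), (6, 0, [0, 2, 6, 3, 1, 3, 8, 4, 5]),
   (7, 0, [2, 4, 0, 7, 6, 0, 5, 5, 2, 0]), (0, 0, []), (10, 0, [1, 4, 8, 1, 2, 5, 7, 5, 0, 3]), (5, 0, [6, 1, 6, 7, 2, 4, 8, 4]),
   (5, 0, [1, 8, 0, 2, 5, 4, 0, 5, 5]), (0, 0, []), (11, 0, [2, 8, 2, 8, 0, 0, 6, 0, 4, 1]), (0, 0, []),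
   (0, 2, []), (0, 0, []), (7, 0, [2, 7, 3, 0, 4, 6, 0, 5, 7, 4]), (6, 0, [0, 2, 3, 8, 2, 7, 3, 3, 7]),
   (10, 0, [1, 2, 8, 4, 1, 1, 8, 4, 1, 2]), (0, 0, []), (0, 0, []), (0, 0, []),
   (0, 0, []), (0, 0, []), (0, 0, []), (11, 0, [2, 1, 8, 1, 8, 4, 4, 8]),
   (0, 0, []), (0, 0, []), (1, 0, [])]

def cert0_7 : List (ℕ × ℕ × List ℕ) :=
  [(11, 0, [2, 1, 1, 3, 6, 7, 6, 3, 1, 1]), (11, 0, [2, 5, 8, 4, 1, 4, 4, 0, 4]), (0, 2, []), (0, 2, []),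
   (5, 0, [5, 7, 2, 3, 0, 7, 7, 3, 0]), (5, 0, [1, 2, 1, 4, 1, 3, 5, 7, 0]), (9, 0, [1, 8, 1, 2, 3, 7, 3, 8, 5, 4]), (3, 0, []),
   (0, 2, []), (3, 0, []), (5, 0, [1, 2, 5, 5, 4, 1, 5, 7, 4, 4]), (4, 0, [4, 1, 7, 2, 6, 0, 3, 1, 8]),
   (0, 2, []), (4, 0, [0, 3, 1, 8, 1, 1, 3, 8, 0, 2]), (0, 2, []), (0, 0, []),
   (6, 0, [0, 2, 7, 5, 7, 6, 7, 3]), (7, 0, [2, 1, 8, 4, 1, 3, 5, 8, 5, 2, 0]), (9, 0, [7, 2, 8, 6, 8, 1, 4, 0, 2]), (0, 0, []),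
   (10, 0, [1, 2, 5, 0, 7, 5, 7, 3, 8, 4, 0]), (0, 0, []), (0, 0, []), (5, 0, [1, 8, 8, 5, 1, 7, 4, 8, 2, 0, 0]),
   (4, 0, [0, 5, 3, 3, 1, 7, 2, 7, 6, 3, 0]), (11, 0, [2, 1, 3, 3, 0, 2, 4, 0, 4, 2]), (0, 1, []), (0, 0, []),
   (0, 0, []), (0, 0, []), (0, 0, []), (0, 0, []),
   (5, 0, [8, 1, 2, 4, 6, 8, 0, 7, 0]), (0, 0, []), (0, 0, []), (6, 0, [1, 3, 7, 0, 6, 0, 3, 8, 0]),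
   (0, 0, []), (5, 0, [6, 8, 1, 2, 7, 0, 4, 5]), (6, 0, [1, 2, 5, 1, 3, 3, 8, 2, 1, 3, 0]), (4, 0, [0, 4, 1, 2, 3, 5, 4, 0, 3, 1, 2]),
   (9, 0, [1, 2, 8, 6, 0, 6, 7, 0, 0, 0]), (10, 0, [0, 2, 6, 1, 7, 5, 8, 2, 0, 0]), (10, 0, [1, 2, 4, 4, 1, 8, 5, 0, 3, 1]), (9, 0, [2, 7, 6, 7, 2, 0, 7, 3, 1]),
   (0, 0, []), (0, 0, []), (6, 0, [1, 2, 8, 0, 2, 1, 7, 6, 4, 2]), (5, 0, [2, 5, 7, 7, 7, 2, 7, 0, 0]),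
   (0, 0, []), (5, 0, [8, 1, 2, 8, 4, 8, 2, 8, 2]), (0, 0, []), (0, 0, []),
   (10, 0, [1, 3, 3, 8, 0, 7, 2, 1, 6, 2]), (0, 0, []), (0, 0, []), (0, 1, []),
   (0, 0, []), (6, 0, [0, 2, 1, 3, 3, 5, 8, 0, 7, 4]), (6, 0, [1, 5, 7, 7, 2, 5, 7, 3, 1, 6]), (0, 0, []),
   (0, 0, []), (0, 0, []), (0, 0, []), (7, 0, [7, 2, 1, 7, 6, 3, 7, 3]),
   (0, 0, []), (0, 0, []), (0, 0, []), (0, 0, []),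
   (11, 0, [2, 8, 8, 0, 2, 1, 6, 1, 8, 2]), (7, 0, [7, 2, 0, 7, 3, 1, 4, 5]), (11, 0, [7, 0, 2, 0, 3, 8, 5, 4, 1]), (0, 0, []),
   (4, 0, [1, 7, 6, 8, 5, 8, 4, 0, 2, 8, 0]), (0, 0, []), (0, 0, []), (0, 5, []),
   (4, 0, [0, 0, 7, 7, 4, 8, 2, 5]), (0, 1, []), (4, 0, [3, 8, 8, 1, 5, 8, 8, 5, 2]), (3, 0, []),
   (0, 1, []), (0, 1, []), (2, 0, []), (11, 0, [3, 1, 3, 6, 1, 3, 5, 1, 2]),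
   (7, 0, [4, 1, 3, 3, 6, 7, 4, 1, 2]), (4, 0, [1, 7, 0, 5, 3, 0, 3, 0, 5, 2]), (5, 0, [2, 0, 4, 6, 1, 6, 3, 2]), (0, 1, []),
   (0, 1, []), (5, 0, [1, 8, 1, 8, 2, 8, 6, 7, 3, 1]), (0, 0, []), (9, 0, [0, 4, 1, 4, 6, 1, 3, 6, 1, 3]),
   (0, 0, []), (9, 0, [0, 2, 8, 2, 0, 3, 3, 5, 8, 1]), (0, 0, []), (0, 0, []),
   (10, 0, [1, 4, 0, 7, 2, 1, 7, 7, 0]), (11, 0, [2, 8, 5, 1, 7, 6, 6, 7, 2, 1]), (0, 0, []), (6, 0, [3, 1, 2, 7, 6, 1, 3, 8, 8]),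
   (9, 0, [1, 2, 1, 7, 3, 8, 0, 6, 7, 0, 0]), (9, 0, [1, 2, 1, 1, 1, 6, 7, 6]), (0, 0, []), (7, 0, [7, 2, 4, 1, 6, 3, 8, 4, 2]),
   (0, 0, []), (0, 2, []), (0, 1, []), (3, 0, []),
   (0, 1, []), (0, 2, []), (5, 0, [2, 5, 1, 3, 1, 3, 7, 2]), (11, 0, [2, 6, 7, 3, 8, 2, 7, 5, 8, 1]),
   (4, 0, [1, 4, 1, 8, 2, 4, 8, 4, 5, 0]), (11, 0, [4, 8, 4, 8, 1, 3, 0, 2]), (4, 0, [8, 8, 8, 0, 5, 8, 1, 2]), (3, 0, []),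
   (5, 0, [2, 7, 7, 5, 8, 4, 0, 5, 2]), (0, 1, []), (9, 0, [2, 6, 7, 4, 8, 0, 6, 2]), (5, 0, [1, 2, 1, 4, 1, 3, 7, 6]),
   (0, 0, []), (0, 0, []), (6, 0, [6, 1, 3, 5, 8, 2, 6, 8, 0]), (0, 0, []),
   (0, 0, []), (3, 0, []), (0, 0, []), (0, 0, []),
   (5, 0, [1, 5, 7, 3, 0, 2, 3, 0, 5, 3, 0]), (0, 0, []), (5, 0, [1, 5, 7, 2, 5, 1, 4, 4, 2]), (0, 0, []),
   (10, 0, [0, 2, 1, 4, 1, 3, 1, 7, 0, 4]), (0, 0, []), (0, 0, []), (4, 0, [1, 7, 6, 3, 8, 6, 0, 3, 7, 3, 2]),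
   (7, 0, [7, 6, 8, 8, 0, 3, 7, 0, 2]), (0, 1, []), (0, 1, []), (0, 1, []),
   (0, 2, []), (11, 0, [2, 5, 5, 7, 3, 1, 8, 8, 8, 0]), (2, 0, []), (3, 0, []),
   (0, 2, []), (0, 2, []), (9, 0, [0, 2, 5, 7, 6, 4, 8, 1, 3, 5]), (9, 0, [0, 2, 1, 3, 8, 8, 5, 5, 7, 2, 0]),
   (4, 0, [2, 0, 3, 5, 8, 5, 8, 0, 5, 2]), (4, 0, [2, 8, 8, 1, 3, 3, 5, 3, 2]), (0, 0, []), (2, 0, []),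
   (0, 0, []), (0, 0, []), (10, 0, [1, 3, 0, 3, 3, 8, 2, 0, 4]), (7, 0, [2, 3, 8, 8, 0, 5, 4, 5, 8, 2]),
   (0, 0, []), (0, 0, []), (0, 0, []), (0, 0, []),
   (0, 0, []), (6, 0, [2, 7, 6, 8, 1, 5, 3, 7, 2, 0]), (0, 0, []), (0, 0, []),
   (11, 0, [3, 0, 2, 4, 5, 0, 2, 8, 0]), (0, 0, []), (0, 0, []), (10, 0, [6, 8, 8, 8, 2, 4, 4, 0, 3]),
   (0, 0, []), (0, 0, []), (9, 0, [8, 2, 7, 2, 5, 8, 4, 8, 0]), (0, 0, []),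
   (0, 0, []), (6, 0, [0, 2, 6, 6, 7, 7, 2, 7, 7]), (0, 0, []), (0, 0, []),
   (0, 0, []), (0, 0, []), (5, 0, [6, 7, 3, 1, 7, 0, 5]), (4, 0, [1, 5, 7, 4, 6, 1, 2, 6, 8, 5]),
   (0, 3, []), (0, 3, []), (4, 0, [2, 1, 3, 1, 4, 5, 8, 4, 0, 2]), (9, 0, [1, 8, 1, 2, 3, 7, 3, 8, 4]),
   (3, 0, []), (11, 0, [4, 8, 6, 4, 8, 8, 6, 1, 5, 2]), (5, 0, [1, 2, 0, 6, 0, 3, 1, 5, 2, 1]), (5, 0, [1, 2, 1, 4, 1, 3, 7, 5]),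
   (4, 0, [3, 0, 3, 6, 8, 6, 8, 2]), (0, 1, []), (5, 0, [2, 7, 3, 8, 6, 4, 0, 0, 2]), (3, 0, []),
   (11, 0, [2, 1, 1, 3, 7, 0, 7, 0, 6, 0]), (0, 1, []), (0, 1, []), (0, 0, []),
   (5, 0, [7, 3, 8, 1, 2, 3, 0, 5, 7]), (0, 0, []), (0, 0, []), (5, 0, [1, 4, 1, 2, 3, 0, 4, 6, 1]),
   (5, 0, [1, 8, 0, 2, 4, 8, 6, 3, 1]), (5, 0, [0, 2, 1, 5, 1, 8, 5, 8, 8, 0]), (7, 0, [2, 4, 0, 7, 2, 8, 2, 7, 6, 0]), (0, 0, []),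
   (11, 0, [7, 2, 4, 1, 3, 1, 8, 4]), (0, 0, []), (6, 0, [0, 2, 6, 3, 1, 3, 8, 5, 4]), (0, 0, []),
   (10, 0, [1, 8, 2, 0, 0, 6, 3, 1, 7]), (0, 0, []), (0, 0, []), (4, 0, [0, 5, 7, 3, 5, 3, 0, 2, 8, 2]),
   (6, 0, [1, 7, 3, 5, 7, 2, 8, 8, 1]), (5, 0, [6, 1, 2, 5, 3, 7, 7, 4, 1, 1]), (9, 0, [5, 1, 2, 7, 4, 6, 8, 2, 7]), (0, 0, []),
   (0, 0, []), (10, 0, [0, 4, 0, 6, 3, 1, 6, 3, 0]), (0, 0, []), (0, 0, []),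
   (7, 0, [4, 1, 2, 8, 0, 3, 6, 1, 2]), (0, 0, []), (11, 0, [2, 4, 8, 1, 7, 3, 3, 8, 1, 5]), (0, 0, []),
   (0, 0, []), (0, 0, []), (6, 0, [1, 4, 1, 3, 3, 1, 2, 8, 6, 0]), (0, 0, []),
   (0, 0, []), (10, 0, [1, 2, 5, 1, 1, 2, 3, 0]), (0, 0, []), (0, 0, []),
   (9, 0, [1, 5, 7, 2, 8, 4]), (0, 0, []), (0, 0, []), (3, 0, []),
   (9, 0, [1, 2, 6, 6, 8, 1, 6, 1, 3, 0]), (0, 0, []), (0, 0, []), (0, 0, []),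
   (6, 0, [1, 8, 1, 2, 1, 7, 2, 0, 7, 5, 0]), (9, 0, [7, 2, 8, 2, 8, 0, 0, 3]), (0, 0, []), (11, 0, [2, 6, 7, 3, 1, 2, 6, 1, 4, 0, 0]),
   (7, 0, [2, 7, 5, 7, 3, 6, 8, 5, 1, 1]), (0, 0, []), (0, 0, []), (10, 0, [0, 2, 8, 8, 8, 0, 3, 7, 2, 1]),
   (3, 0, []), (0, 0, []), (0, 0, []), (0, 0, []),
   (9, 0, [1, 6, 1, 8, 6, 0, 2, 7]), (0, 0, []), (0, 0, []), (7, 0, [7, 7, 3, 5, 8, 0, 0, 0, 2]),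
   (4, 0, [0, 3, 3, 1, 8, 1, 8, 4, 2]), (11, 0, [6, 7, 6, 3, 1, 4, 1, 2]), (7, 0, [4, 1, 8, 5, 0, 0, 2, 4]), (0, 1, []),
   (0, 1, []), (0, 1, []), (0, 2, []), (4, 0, [1, 2, 6, 7, 2, 7, 3, 7, 7, 5]),
   (0, 1, []), (4, 0, [0, 4, 1, 8, 5, 4, 8, 0, 2]), (3, 0, []), (3, 0, []),
   (11, 0, [7, 7, 6, 7, 7, 3, 7, 0, 2]), (0, 1, []), (0, 0, []), (0, 0, []),
   (0, 0, []), (11, 0, [5, 7, 0, 2, 1, 7, 4, 6, 7]), (10, 0, [2, 4, 0, 3, 3, 8, 8, 4, 2]), (0, 0, []),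
   (0, 0, []), (9, 0, [8, 1, 8, 2, 6, 0, 7, 5]), (0, 0, []), (0, 0, []),
   (7, 0, [2, 1, 3, 3, 0, 2, 4, 0, 6, 4]), (5, 0, [0, 2, 3, 7, 4, 8, 5, 1, 5]), (4, 0, [0, 3, 8, 2, 5, 5, 7, 4, 1, 2]), (6, 0, [1, 2, 4, 8, 8, 5, 7, 5, 4, 0]),
   (0, 0, []), (9, 0, [2, 6, 3, 3, 7, 2]), (5, 0, [1, 2, 4, 5, 0, 4, 0, 3, 6, 6]), (11, 0, [4, 1, 8, 8, 4, 8, 1, 4, 2]),
   (11, 0, [2, 1, 1, 6, 7, 3, 7, 7, 3, 0]), (3, 0, []), (0, 1, []), (3, 0, []),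
   (0, 1, []), (5, 0, [0, 2, 0, 3, 1, 4, 6, 0, 5, 7]), (5, 0, [7, 2, 8, 4, 4, 0, 4, 5, 5, 0]), (4, 0, [1, 2, 8, 4, 0, 4, 0, 0, 3, 7]),
   (4, 0, [1, 3, 3, 8, 8, 5, 4, 1, 1, 2]), (0, 1, []), (0, 1, []), (0, 1, []),
   (11, 0, [2, 8, 2, 4, 5, 1, 8, 8, 4, 4]), (0, 1, []), (0, 0, []), (0, 0, []),
   (0, 0, []), (0, 0, []), (9, 0, [1, 8, 1, 2, 7, 5, 5, 4, 2, 0]), (10, 0, [0, 0, 7, 7, 6, 0, 2, 1, 8, 2, 0]),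
   (4, 0, [0, 2, 1, 7, 0, 3, 3, 0, 7, 7, 2]), (0, 0, []), (0, 0, []), (5, 0, [1, 7, 6, 0, 6, 3, 8, 2, 8]),
   (6, 0, [2, 3, 8, 8, 4, 1, 4, 2, 1]), (7, 0, [7, 2, 5, 4, 4, 0, 3, 8, 0]), (0, 0, []), (0, 1, []),
   (5, 0, [7, 2, 3, 1, 4, 1, 5, 8, 0]), (0, 1, []), (0, 1, []), (0, 1, []),
   (0, 1, []), (0, 1, []), (2, 0, []), (3, 0, []),
   (7, 0, [2, 4, 0, 7, 5, 7, 7, 7, 6, 1]), (11, 0, [6, 6, 7, 3, 1, 3, 7, 2]), (5, 0, [1, 2, 3, 6, 6, 0, 7, 6, 0, 2, 0]), (0, 1, []),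
   (4, 0, [2, 7, 7, 3, 7, 7, 0, 4, 0, 2]), (0, 1, []), (0, 0, []), (6, 0, [3, 7, 0, 2, 3, 1, 3, 1, 1]),
   (0, 0, []), (0, 0, []), (0, 0, []), (5, 0, [6, 7, 3, 1, 6, 7, 5, 5]),
   (0, 0, []), (9, 0, [1, 2, 0, 4, 6, 6, 1, 4, 8, 0]), (4, 0, [1, 5, 7, 2, 4, 0, 0, 6, 4, 2]), (0, 0, []),
   (0, 0, []), (0, 0, []), (0, 0, []), (0, 0, []),
   (10, 0, [0, 3, 1, 3, 1, 4, 0, 2, 8, 0]), (0, 0, []), (10, 0, [2, 8, 2, 5, 4, 8, 6, 6, 0]), (0, 0, []),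
   (0, 0, []), (0, 0, []), (0, 0, []), (4, 0, [0, 5, 3, 8, 8, 0, 7, 7, 2, 7, 0]),
   (0, 0, []), (0, 0, []), (0, 0, []), (0, 0, []),
   (6, 0, [1, 7, 0, 4, 8, 4, 8, 1, 2, 1]), (0, 0, []), (10, 0, [0, 0, 7, 3, 6, 7, 2, 7, 2, 0]), (6, 0, [1, 2, 7, 2, 8, 2, 1, 4, 2, 0]),
   (3, 0, []), (0, 0, []), (0, 0, []), (5, 0, [1, 4, 1, 3, 5, 7, 2, 3, 1]),
   (0, 0, []), (6, 0, [1, 2, 5, 0, 3, 8, 0, 7, 5, 0]), (10, 0, [3, 6, 7, 4, 1, 2, 8, 1, 2]), (0, 0, []),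
   (0, 0, []), (0, 0, []), (0, 0, []), (5, 0, [1, 5, 7, 2, 8, 5, 5, 4, 2]),
   (0, 0, []), (0, 0, []), (0, 0, []), (9, 0, [1, 7, 3, 8, 2, 4, 5, 4, 8, 0]),
   (0, 1, []), (5, 0, [1, 2, 1, 4, 1, 3, 7, 4, 6, 3]), (3, 0, []), (0, 1, []),
   (3, 0, []), (5, 0, [0, 4, 6, 1, 7, 2, 8, 8, 5, 2]), (0, 1, []), (4, 0, [0, 4, 6, 8, 2, 5, 8, 8, 0, 5]),
   (0, 1, []), (11, 0, [2, 5, 5, 4, 8, 2, 4, 1, 6]), (5, 0, [0, 4, 6, 0, 5, 7, 2, 7, 2, 7, 0]), (11, 0, [4, 0, 2, 5, 1, 7, 4, 0, 2, 1]),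
   (4, 0, [7, 6, 4, 8, 4, 5, 7, 2]), (0, 1, []), (9, 0, [8, 1, 2, 8, 4, 8, 2, 8]), (0, 0, []),
   (9, 0, [1, 7, 3, 7, 2, 6, 4, 1, 1, 8, 0]), (0, 0, []), (10, 0, [0, 4, 5, 5, 8, 5, 1, 7, 2, 0]), (6, 0, [1, 3, 3, 8, 0, 7, 2, 1, 6]),
   (0, 0, []), (0, 0, []), (0, 0, []), (10, 0, [1, 2, 8, 0, 2, 1, 7, 6, 4]),
   (0, 0, []), (0, 0, []), (0, 0, []), (0, 0, []),
   (10, 0, [1, 4, 5, 4, 1, 5, 7, 2, 0, 3]), (0, 0, []), (10, 0, [1, 8, 1, 3, 5, 1, 2, 0, 4, 0]), (0, 0, []),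
   (6, 0, [1, 2, 3, 6, 7, 2, 8, 6, 1]), (0, 0, []), (7, 0, [2, 5, 4, 8, 1, 8, 2, 8, 1, 1]), (6, 0, [6, 0, 4, 0, 3, 7, 6, 2, 0]),
   (0, 1, []), (0, 0, []), (10, 0, [0, 2, 8, 5, 8, 4, 6, 4, 0, 0]), (11, 0, [2, 0, 3, 1, 7, 2, 3, 0, 7, 6]),
   (0, 0, []), (0, 0, []), (0, 0, []), (4, 0, [0, 3, 7, 3, 1, 7, 6, 3, 2, 1]),
   (5, 0, [7, 2, 7, 5, 5, 8, 4, 0, 2, 0]), (0, 0, []), (0, 0, []), (0, 0, []),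
   (6, 0, [1, 8, 1, 2, 4, 0, 7, 3, 1, 7]), (0, 0, []), (0, 0, []), (0, 0, []),
   (0, 0, []), (4, 0, [0, 2, 8, 0, 0, 2, 0, 7, 4, 5, 0]), (0, 0, []), (10, 0, [0, 2, 1, 7, 7, 0, 6, 4, 1, 2]),
   (0, 0, []), (9, 0, [1, 4, 6, 7, 0, 7, 2, 5, 0, 7]), (0, 0, []), (0, 1, []),
   (3, 0, []), (5, 0, [2, 8, 4, 4, 6, 1, 4, 0, 2]), (0, 1, []), (0, 1, []),
   (9, 0, [1, 4, 0, 3, 8, 0, 6, 0]), (0, 2, []), (0, 1, []), (9, 0, [6, 7, 7, 0, 0, 3, 7]),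
   (4, 0, [2, 3, 7, 6, 4, 0, 7, 4, 2]), (4, 0, [2, 3, 8, 1, 3, 5, 8, 4, 2]), (0, 2, []), (3, 0, []),
   (9, 0, [1, 6, 8, 8, 4, 1, 2, 6, 0, 5, 0]), (3, 0, []), (0, 0, []), (10, 0, [0, 4, 6, 1, 7, 6, 6, 8, 2, 7]),
   (10, 0, [1, 2, 3, 6, 7, 3, 5, 3, 7, 2, 0]), (0, 0, []), (0, 0, []), (0, 0, []),
   (6, 0, [2, 8, 5, 0, 7, 6, 7, 6, 3]), (0, 0, []), (0, 0, []), (0, 0, []),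
   (0, 0, []), (0, 0, []), (0, 0, []), (6, 0, [2, 1, 3, 0, 7, 2, 8, 4]),
   (4, 0, [2, 0, 4, 8, 2, 7, 7, 3, 7, 3]), (0, 0, []), (6, 0, [1, 6, 1, 2, 3, 1, 7, 3, 2, 0]), (0, 0, []),
   (0, 0, []), (9, 0, [1, 4, 1, 2, 3, 0, 4, 6, 1, 2]), (11, 0, [4, 1, 2, 3, 6, 7, 5, 4, 4, 0]), (9, 0, [0, 2, 8, 2, 1, 8, 4, 6, 7, 3]),
   (9, 0, [1, 2, 1, 5, 1, 7, 0, 0, 6, 0]), (0, 0, []), (0, 0, []), (7, 0, [2, 8, 6, 0, 3, 6, 8, 8, 1]),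
   (9, 0, [1, 7, 4, 8, 6, 6, 0, 3, 7, 5]), (0, 0, []), (0, 0, []), (10, 0, [3, 8, 0, 7, 2, 0, 7, 4, 0]),
   (5, 0, [1, 8, 4, 5, 0, 4, 1, 7, 6, 2, 0]), (4, 0, [7, 4, 1, 2, 5, 5, 0, 4, 4, 0]), (4, 0, [2, 1, 5, 7, 6, 4, 0, 5, 2]), (4, 0, [0, 0, 7, 7, 2, 5, 4, 0, 3, 2, 1]),
   (9, 0, [5, 5, 8, 6, 0, 2, 1, 8, 1, 1]), (0, 1, []), (0, 1, []), (0, 1, []),
   (9, 0, [7, 2, 7, 4, 6, 0, 5, 7, 4, 0]), (9, 0, [0, 2, 0, 4, 6, 1, 8, 0, 0, 0]), (0, 1, []), (0, 1, []),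
   (4, 0, [2, 8, 8, 1, 2, 8, 4, 2, 1]), (9, 0, [5, 7, 2, 3, 7, 6, 1, 6]), (9, 0, [1, 8, 6, 1, 2, 5, 5, 8, 4, 1])]

def cert0_8 : List (ℕ × ℕ × List ℕ) :=
  [(0, 0, []), (0, 0, []), (0, 0, []), (3, 0, []),
   (5, 0, [1, 2, 4, 4, 8, 5, 8, 4, 8, 0]), (0, 0, []), (6, 0, [1, 2, 5, 1, 1, 2, 3, 0, 5, 2]), (5, 0, [1, 5, 7, 2, 8, 2, 4, 6]),
   (0, 0, []), (0, 0, []), (0, 0, []), (0, 0, []),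
   (10, 0, [0, 0, 0, 0, 2, 1, 4, 8, 0, 0]), (0, 0, []), (0, 0, []), (5, 0, [0, 3, 1, 3, 8, 4, 1, 2, 1]),
   (3, 0, []), (3, 0, []), (4, 0, [1, 2, 0, 0, 7, 6, 7, 3]), (3, 0, []),
   (9, 0, [0, 7, 2, 7, 5, 7, 6, 7, 4, 1]), (4, 0, [2, 0, 7, 6, 4, 1, 3, 3, 0, 2]), (9, 0, [0, 4, 1, 2, 4, 5, 0, 5, 7]), (0, 1, []),
   (7, 0, [3, 7, 7, 3, 3, 6, 1, 3, 2]), (0, 1, []), (7, 0, [4, 4, 1, 6, 6, 4, 8, 6, 4, 2]), (5, 0, [2, 1, 8, 1, 5, 8, 0, 5, 2]),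
   (4, 0, [8, 0, 3, 7, 0, 5, 3, 2]), (0, 1, []), (0, 1, []), (0, 1, []),
   (7, 0, [5, 7, 5, 3, 1, 4, 4, 2]), (5, 0, [7, 3, 6, 1, 7, 0, 4, 8, 1]), (5, 0, [2, 6, 3, 7, 6, 3, 1, 1, 2]), (0, 1, []),
   (0, 1, []), (3, 0, []), (0, 1, []), (0, 1, []),
   (0, 2, []), (11, 0, [4, 6, 0, 7, 6, 7, 4, 4, 0, 2]), (0, 2, []), (2, 0, []),
   (4, 0, [2, 1, 8, 8, 4, 8, 4, 4, 6, 2]), (4, 0, [2, 1, 3, 6, 7, 2, 8, 8]), (0, 0, []), (11, 0, [3, 1, 7, 0, 7, 2, 8, 2, 1]),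
   (0, 0, []), (0, 0, []), (11, 0, [2, 5, 1, 1, 1, 7, 7, 3, 8]), (0, 0, []),
   (4, 0, [0, 7, 7, 4, 0, 2, 8, 6]), (7, 0, [7, 6, 4, 1, 2, 6, 4, 1, 4]), (0, 0, []), (0, 0, []),
   (4, 0, [3, 3, 1, 8, 2, 7, 7, 7, 4, 0]), (0, 0, []), (7, 0, [2, 5, 7, 4, 1, 1, 1, 7, 2, 1]), (0, 0, []),
   (7, 0, [2, 7, 3, 6, 3, 0, 5, 3, 1, 3]), (0, 0, []), (4, 0, [1, 3, 8, 8, 8, 2, 7, 0, 4, 4]), (0, 0, []),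
   (0, 0, []), (0, 0, []), (7, 0, [2, 7, 2, 0, 5, 7, 7, 5, 7, 4, 0]), (4, 0, [7, 2, 1, 3, 8, 8, 1, 6]),
   (11, 0, [4, 0, 4, 4, 5, 7, 2, 3, 7, 0]), (0, 0, []), (0, 0, []), (11, 0, [5, 7, 7, 4, 5, 1, 2, 8, 0]),
   (0, 0, []), (4, 0, [0, 2, 3, 0, 3, 1, 8, 1, 4, 4, 1]), (0, 0, []), (0, 0, []),
   (6, 0, [1, 7, 6, 0, 2, 3, 8, 6, 0, 5]), (0, 0, []), (0, 0, []), (0, 1, []),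
   (0, 0, []), (9, 0, [6, 7, 3, 1, 6, 7, 6, 2]), (5, 0, [0, 2, 7, 2, 5, 1, 1, 3, 5, 2, 0]), (0, 2, []),
   (0, 0, []), (10, 0, [0, 2, 8, 6, 1, 4, 1, 7, 2]), (0, 0, []), (0, 0, []),
   (0, 0, []), (4, 0, [2, 1, 5, 7, 2, 4, 0, 0, 4]), (5, 0, [2, 0, 4, 6, 1, 3, 6, 2]), (0, 1, []),
   (11, 0, [2, 8, 1, 7, 2, 7, 4, 1, 6]), (2, 0, []), (0, 2, []), (3, 0, []),
   (7, 0, [2, 1, 6, 1, 6, 3, 1, 7, 0]), (5, 0, [0, 2, 8, 6, 0, 7, 4, 8, 4, 4]), (4, 0, [0, 0, 7, 7, 4, 8, 5, 5, 2]), (0, 1, []),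
   (0, 2, []), (4, 0, [1, 1, 3, 0, 6, 3, 1, 8, 2]), (0, 1, []), (0, 2, []),
   (4, 0, [0, 4, 0, 0, 2, 4, 4, 5, 8, 4, 0]), (0, 0, []), (0, 0, []), (0, 0, []),
   (4, 0, [0, 3, 1, 3, 7, 2, 8, 0, 7, 4, 0]), (6, 0, [4, 0, 2, 1, 5, 1, 2, 7]), (0, 0, []), (0, 0, []),
   (9, 0, [0, 2, 3, 8, 1, 6, 7, 5, 8, 8]), (0, 0, []), (0, 0, []), (0, 0, []),
   (0, 0, []), (0, 0, []), (10, 0, [0, 0, 7, 7, 2, 8, 6, 6, 0, 7]), (5, 0, [6, 1, 2, 8, 5, 7, 7, 2, 7]),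
   (0, 0, []), (0, 0, []), (9, 0, [0, 3, 6, 1, 6, 7, 2, 8]), (0, 0, []),
   (4, 0, [0, 2, 4, 5, 1, 2, 7, 4, 4, 0]), (0, 0, []), (0, 0, []), (0, 1, []),
   (6, 0, [1, 7, 7, 7, 2, 1, 4, 6, 2, 1]), (0, 0, []), (5, 0, [1, 2, 8, 6, 1, 3, 0, 4, 5, 2, 0]), (0, 0, []),
   (10, 0, [2, 1, 3, 7, 2, 1, 7, 2, 0]), (0, 0, []), (0, 0, []), (0, 0, []),
   (10, 0, [6, 6, 4, 8, 2, 7, 4, 0, 0]), (7, 0, [4, 8, 2, 6, 0, 7, 4, 1, 8, 1]), (0, 0, []), (11, 0, [3, 1, 5, 4, 0, 2, 1, 6, 3]),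
   (9, 0, [6, 1, 3, 3, 8, 2, 4, 1]), (0, 0, []), (4, 0, [3, 0, 7, 2, 3, 7, 4, 1, 7, 4]), (0, 0, []),
   (0, 0, []), (0, 0, []), (6, 0, [1, 3, 5, 4, 8, 0, 2, 8, 0]), (5, 0, [0, 2, 3, 7, 4, 8, 8, 5, 3]),
   (0, 0, []), (0, 0, []), (3, 0, []), (0, 1, []),
   (3, 0, []), (0, 1, []), (7, 0, [2, 7, 4, 0, 2, 7, 3, 6]), (4, 0, [1, 7, 0, 3, 7, 5, 8, 5, 2]),
   (7, 0, [3, 1, 7, 7, 7, 6, 3, 2]), (0, 1, []), (9, 0, [1, 2, 7, 0, 6, 7, 2, 8, 0, 0]), (5, 0, [1, 1, 2, 8, 1, 2, 4, 0, 5, 7]),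
   (9, 0, [5, 8, 2, 8, 2, 5, 0, 7, 0]), (4, 0, [1, 8, 1, 7, 0, 7, 7, 0, 6, 2]), (0, 1, []), (0, 1, []),
   (9, 0, [2, 0, 7, 3, 3, 1, 1, 7, 2]), (0, 0, []), (0, 0, []), (9, 0, [1, 2, 8, 5, 0, 0, 7, 7, 3, 2]),
   (0, 0, []), (0, 0, []), (10, 0, [1, 3, 5, 8, 2, 6, 0, 4, 8]), (0, 0, []),
   (9, 0, [6, 8, 1, 2, 7, 0, 4, 2]), (10, 0, [0, 0, 0, 0, 7, 0, 2, 7, 6, 3]), (4, 0, [7, 2, 0, 4, 1, 7, 0, 0, 4, 0]), (5, 0, [1, 8, 4, 4, 6, 0, 2, 8, 1, 5, 1]),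
   (6, 0, [1, 4, 6, 1, 7, 4, 4, 1]), (6, 0, [6, 0, 2, 6, 1, 8, 0, 2, 7, 0]), (5, 0, [6, 8, 1, 2, 6, 7, 4, 6]), (0, 0, []),
   (7, 0, [2, 8, 1, 7, 0, 3, 0, 3, 2, 8]), (6, 0, [1, 6, 6, 3, 0, 7, 2, 7, 2, 8]), (0, 0, []), (0, 0, []),
   (5, 0, [1, 2, 8, 1, 6, 7, 3, 3, 7, 0, 0]), (7, 0, [4, 8, 2, 1, 3, 0, 5, 5, 7, 4]), (5, 0, [1, 1, 3, 8, 2, 0, 7, 6, 0, 2]), (10, 0, [1, 2, 7, 3, 7, 7, 7, 3, 3, 1]),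
   (0, 0, []), (0, 0, []), (0, 0, []), (10, 0, [1, 2, 1, 4, 6, 4, 8, 4, 0, 5]),
   (6, 0, [2, 7, 3, 7, 7, 2, 8, 4, 1]), (0, 0, []), (4, 0, [3, 7, 7, 2, 8, 1, 4, 1, 2, 0]), (9, 0, [5, 0, 7, 2, 8, 1, 8, 6, 6]),
   (7, 0, [2, 8, 8, 1, 2, 5, 7, 3, 8]), (0, 0, []), (0, 0, []), (0, 0, []),
   (0, 0, []), (0, 0, []), (6, 0, [1, 3, 8, 0, 6, 7, 3, 1, 2]), (0, 0, []),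
   (11, 0, [2, 6, 1, 8, 6, 8, 0, 6, 3, 1]), (5, 0, [1, 7, 0, 2, 0, 6, 3, 6, 8, 0]), (4, 0, [3, 0, 4, 5, 0, 4, 1, 2, 8]), (0, 0, []),
   (0, 0, []), (10, 0, [1, 8, 4, 6, 0, 7, 3, 0, 3]), (11, 0, [4, 1, 2, 8, 1, 7, 3, 6, 3, 1]), (0, 0, []),
   (0, 0, []), (0, 0, []), (0, 0, []), (9, 0, [1, 7, 6, 0, 7, 5, 8, 8, 2]),
   (4, 0, [1, 2, 7, 4, 0, 5, 3, 1, 3, 5]), (10, 0, [0, 2, 3, 3, 0, 3, 0, 7, 0, 7]), (0, 0, []), (0, 0, []),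
   (6, 0, [1, 2, 1, 4, 5, 1, 3, 1, 1, 1]), (6, 0, [1, 2, 4, 5, 1, 7, 4, 4, 5, 8, 0]), (9, 0, [1, 4, 1, 1, 3, 6, 7, 2, 7]), (10, 0, [0, 2, 3, 7, 5, 3, 0, 4, 8]),
   (11, 0, [2, 7, 7, 2, 6, 4, 8, 6, 7]), (10, 0, [1, 7, 3, 1, 2, 8, 5, 1, 3, 1]), (0, 0, []), (2, 0, []),
   (0, 0, []), (0, 0, []), (0, 0, []), (0, 0, []),
   (11, 0, [3, 8, 8, 0, 4, 1, 6, 2, 8]), (0, 0, []), (0, 0, []), (0, 0, []),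
   (7, 0, [4, 8, 2, 8, 0, 3, 1, 3, 5, 8, 0]), (0, 0, []), (0, 0, []), (6, 0, [4, 5, 1, 7, 7, 2, 1, 8, 0, 0]),
   (4, 0, [2, 3, 3, 0, 7, 5, 7, 0, 2]), (0, 1, []), (0, 1, []), (0, 2, []),
   (0, 1, []), (3, 0, []), (2, 0, []), (11, 0, [6, 7, 6, 3, 8, 4, 6, 2]),
   (9, 0, [2, 6, 1, 7, 6, 0, 5, 2]), (4, 0, [0, 4, 6, 0, 7, 5, 8, 2, 1, 3, 1]), (4, 0, [1, 4, 1, 4, 6, 1, 8, 0, 2]), (0, 1, []),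
   (7, 0, [3, 1, 7, 3, 3, 0, 6, 2]), (9, 0, [1, 2, 4, 6, 4, 0, 7, 2, 7, 5]), (0, 2, []), (0, 0, []),
   (0, 0, []), (0, 0, []), (10, 0, [2, 7, 6, 0, 6, 7, 2, 1, 1]), (0, 0, []),
   (10, 0, [1, 2, 4, 8, 0, 2, 5, 8, 6]), (0, 0, []), (0, 0, []), (9, 0, [1, 7, 3, 8, 2, 4, 4, 0, 6]),
   (9, 0, [7, 2, 3, 7, 0, 4, 4, 0, 4]), (0, 0, []), (0, 0, []), (6, 0, [1, 3, 7, 7, 2, 3, 1, 6, 6, 7]),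
   (10, 0, [2, 7, 4, 5, 4, 0, 3, 1]), (0, 0, []), (4, 0, [1, 2, 4, 1, 2, 0, 0, 3, 8]), (4, 0, [0, 7, 5, 7, 0, 3, 1, 3, 2]),
   (4, 0, [3, 1, 8, 2, 0, 4, 4, 6, 2, 0]), (9, 0, [8, 8, 4, 8, 2, 7, 3, 7]), (3, 0, []), (5, 0, [1, 7, 0, 5, 7, 7, 7, 3, 6, 1]),
   (3, 0, []), (0, 1, []), (3, 0, []), (11, 0, [6, 3, 3, 8, 8, 1, 5, 3, 2]),
   (11, 0, [4, 4, 8, 8, 8, 6, 7, 7, 2]), (5, 0, [1, 5, 7, 3, 8, 2, 1, 8, 6, 4]), (9, 0, [2, 6, 0, 4, 5, 5, 0, 5, 2]), (0, 1, []),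
   (0, 1, []), (0, 0, []), (10, 0, [0, 2, 7, 2, 1, 5, 3, 1, 7, 2]), (9, 0, [5, 1, 7, 7, 7, 0, 6, 0, 2]),
   (0, 0, []), (0, 0, []), (10, 0, [3, 5, 1, 7, 2, 8, 6, 0, 5]), (0, 0, []),
   (11, 0, [2, 7, 7, 2, 4, 0, 5, 0]), (6, 0, [1, 3, 7, 6, 4, 1, 1, 2]), (6, 0, [5, 7, 4, 4, 0, 2, 4, 0, 6]), (0, 0, []),
   (4, 0, [0, 7, 5, 5, 8, 2, 8, 1, 4, 2, 0]), (11, 0, [3, 7, 7, 3, 0, 2, 7, 3, 2, 1]), (9, 0, [0, 2, 8, 5, 1, 2, 7, 3, 8, 6]), (0, 0, []),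
   (0, 1, []), (11, 0, [2, 4, 5, 5, 1, 7, 3, 1, 4, 1]), (7, 0, [4, 1, 7, 3, 5, 1, 1, 7, 6, 2]), (4, 0, [0, 0, 3, 1, 7, 6, 3, 1, 4, 2]),
   (0, 1, []), (4, 0, [1, 2, 1, 7, 5, 8, 1, 4, 6, 8]), (11, 0, [4, 8, 0, 6, 7, 3, 8, 1, 2]), (7, 0, [2, 3, 5, 8, 4, 0, 3, 3, 5]),
   (7, 0, [2, 0, 5, 7, 2, 8, 8, 4]), (4, 0, [1, 7, 7, 2, 7, 3, 7, 2, 8, 1]), (4, 0, [1, 4, 8, 8, 4, 8, 6, 6, 2]), (2, 0, []),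
   (11, 0, [2, 8, 4, 1, 2, 0, 6, 7, 4, 1]), (0, 1, []), (4, 0, [0, 7, 5, 8, 1, 7, 6, 8, 2]), (0, 0, []),
   (0, 0, []), (9, 0, [1, 6, 7, 2, 7, 2, 8, 0, 6, 2]), (0, 0, []), (0, 0, []),
   (0, 0, []), (0, 0, []), (5, 0, [1, 8, 2, 4, 8, 8, 2, 6, 1, 3]), (0, 0, []),
   (0, 0, []), (5, 0, [1, 6, 7, 2, 7, 2, 8, 0, 6, 6]), (0, 0, []), (0, 0, []),
   (9, 0, [1, 7, 2, 8, 8, 8, 4, 4, 2, 0]), (4, 0, [0, 3, 3, 0, 2, 7, 2, 3, 1, 7, 2]), (6, 0, [0, 2, 6, 8, 5, 4, 0, 4, 1, 4]), (0, 0, []),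
   (6, 0, [2, 3, 0, 3, 5, 8, 6, 1, 3]), (0, 0, []), (0, 0, []), (0, 1, []),
   (9, 0, [0, 2, 7, 2, 4, 6, 6, 8, 8, 0]), (10, 0, [1, 6, 1, 3, 0, 2, 7, 7, 4, 0]), (11, 0, [4, 0, 2, 4, 1, 5, 3, 5, 2, 1]), (0, 1, []),
   (9, 0, [7, 2, 5, 8, 1, 3, 1, 4, 6]), (11, 0, [2, 5, 8, 0, 2, 3, 0, 7, 5, 3, 0]), (0, 0, []), (10, 0, [3, 5, 4, 1, 3, 6, 1, 3]),
   (4, 0, [1, 7, 2, 1, 8, 1, 8, 6, 8, 2, 0]), (0, 0, []), (6, 0, [1, 2, 7, 0, 2, 3, 7, 6, 0, 3, 0]), (0, 0, []),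
   (10, 0, [1, 7, 3, 5, 3, 7, 2, 0, 6]), (0, 0, []), (11, 0, [2, 5, 7, 6, 0, 7, 3, 0, 7, 7]), (10, 0, [1, 6, 7, 7, 2, 3, 8, 6, 7, 0]),
   (0, 0, []), (0, 0, []), (6, 0, [1, 2, 3, 3, 8, 8, 0, 6, 7, 0]), (7, 0, [2, 4, 8, 6, 1, 5, 4, 4, 2, 0]),
   (0, 0, []), (0, 0, []), (0, 0, []), (4, 0, [1, 2, 3, 5, 8, 8, 5, 4, 0, 2]),
   (7, 0, [3, 6, 0, 3, 7, 0, 5, 2]), (5, 0, [0, 2, 7, 5, 8, 2, 0, 3, 3, 8]), (5, 0, [1, 2, 7, 2, 7, 4, 0, 0, 6, 2, 0]), (0, 1, []),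
   (3, 0, []), (0, 1, []), (0, 1, []), (0, 1, []),
   (4, 0, [0, 7, 2, 4, 1, 8, 8, 4, 1, 2, 1]), (5, 0, [6, 1, 7, 2, 6, 3, 8, 1]), (0, 1, []), (0, 1, []),
   (0, 1, []), (7, 0, [4, 4, 8, 6, 1, 3, 7, 3, 8, 2]), (5, 0, [1, 8, 8, 8, 2, 1, 1, 3, 7, 2]), (0, 0, []),
   (5, 0, [1, 3, 7, 7, 6, 7, 2, 8, 1, 3, 0]), (10, 0, [1, 7, 7, 2, 6, 3, 1, 8, 0, 0]), (0, 0, []), (10, 0, [2, 4, 4, 0, 5, 7, 4, 4, 8]),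
   (4, 0, [0, 4, 0, 6, 6, 8, 2, 8, 0, 2, 0]), (7, 0, [2, 0, 4, 8, 8, 0, 7, 2, 1, 3]), (0, 0, []), (6, 0, [1, 6, 1, 8, 0, 2, 3, 0, 7, 3]),
   (0, 0, []), (0, 0, []), (0, 0, []), (6, 0, [1, 7, 0, 4, 8, 5, 8, 1, 2]),
   (7, 0, [2, 7, 2, 3, 1, 1, 6, 7, 4, 2]), (5, 0, [6, 6, 1, 4, 0, 2, 1, 7, 0]), (10, 0, [2, 3, 3, 1, 8, 2, 1, 4]), (4, 0, [0, 2, 7, 0, 2, 8, 1, 8, 8, 4]),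
   (0, 0, []), (6, 0, [0, 3, 6, 3, 0, 4, 0, 3, 2, 1]), (0, 0, []), (7, 0, [2, 1, 6, 7, 3, 7, 3, 5, 7]),
   (10, 0, [1, 6, 6, 8, 8, 2, 4, 8, 8, 4, 0]), (11, 0, [2, 3, 7, 4, 5, 5, 1, 2, 0]), (0, 3, []), (0, 0, []),
   (0, 0, []), (0, 0, []), (0, 0, []), (0, 0, []),
   (6, 0, [1, 6, 7, 7, 2, 7, 6, 0, 6, 2]), (4, 0, [0, 0, 7, 7, 4, 1, 6, 8, 2]), (0, 1, []), (3, 0, []),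
   (5, 0, [1, 8, 1, 7, 0, 2, 0, 5, 0, 3]), (0, 1, []), (4, 0, [0, 3, 7, 3, 3, 8, 5, 1, 2]), (5, 0, [2, 8, 5, 3, 7, 0, 3, 1, 2]),
   (2, 0, []), (7, 0, [3, 1, 7, 4, 5, 0, 5, 3, 2]), (0, 1, []), (0, 1, []),
   (4, 0, [7, 4, 0, 6, 3, 1, 7, 0, 2]), (11, 0, [4, 5, 0, 3, 3, 1, 2, 8, 4, 0]), (0, 2, []), (0, 1, []),
   (0, 0, []), (0, 0, []), (0, 0, []), (0, 0, []),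
   (6, 0, [1, 2, 3, 0, 2, 1, 8, 8, 8, 0]), (6, 0, [2, 1, 3, 0, 7, 2, 8, 6, 4]), (0, 0, []), (0, 0, []),
   (0, 0, []), (4, 0, [0, 4, 8, 2, 7, 7, 3, 7, 3, 2]), (0, 0, []), (10, 0, [2, 1, 3, 0, 7, 2, 8, 4, 2]),
   (0, 0, []), (0, 0, []), (10, 0, [1, 8, 1, 1, 7, 5, 0, 2, 1, 3, 1]), (0, 0, []),
   (4, 0, [1, 4, 0, 2, 1, 7, 4, 5, 8, 4, 0]), (10, 0, [1, 3, 7, 6, 8, 6, 8, 8, 0]), (9, 0, [0, 4, 8, 6, 1, 2, 8, 2, 7, 3]), (5, 0, [1, 7, 5, 8, 0, 2, 5, 1, 7, 4, 0]),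
   (0, 0, []), (0, 0, []), (6, 0, [0, 2, 5, 1, 2, 0, 3, 1, 4, 0]), (0, 0, []),
   (0, 0, []), (11, 0, [4, 1, 2, 8, 0, 3, 6, 1, 5]), (0, 0, []), (7, 0, [2, 4, 8, 1, 7, 3, 3, 8, 1, 2]),
   (0, 0, []), (0, 0, []), (4, 0, [0, 2, 6, 3, 6, 1, 3, 1, 3, 1]), (0, 2, []),
   (9, 0, [1, 4, 8, 2, 7, 4, 1, 3, 8, 0]), (0, 1, []), (5, 0, [8, 8, 1, 3, 1, 2, 3, 7, 0]), (0, 1, []),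
   (9, 0, [1, 2, 8, 8, 2, 6, 8, 1, 6, 8, 1]), (4, 0, [0, 3, 1, 2, 6, 7, 0, 4, 1, 1]), (4, 0, [1, 2, 6, 1, 8, 5, 0, 5, 8, 0]), (0, 1, []),
   (9, 0, [5, 7, 2, 6, 3, 7, 3, 6, 4]), (0, 1, []), (9, 0, [1, 4, 6, 8, 5, 1, 3, 1, 2, 0]), (9, 0, [0, 2, 1, 3, 7, 0, 6, 0, 7]),
   (4, 0, [2, 1, 3, 5, 8, 5, 5, 0, 5, 0, 2]), (0, 0, []), (0, 0, []), (0, 0, []),
   (0, 0, []), (9, 0, [1, 1, 2, 5, 1, 8, 0, 0, 3, 0]), (0, 0, []), (6, 0, [1, 3, 1, 4, 0, 0, 7, 2, 0, 6]),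
   (3, 0, []), (9, 0, [1, 5, 7, 2, 5, 1, 4, 4]), (0, 0, []), (0, 0, []),
   (0, 0, []), (0, 0, []), (10, 0, [0, 0, 3, 8, 2, 5, 8, 2, 7]), (0, 0, []),
   (9, 0, [5, 7, 2, 3, 6, 3, 0]), (4, 0, [0, 0, 7, 3, 8, 0, 2, 5, 8, 0]), (0, 1, []), (4, 0, [2, 1, 5, 7, 4, 0, 0, 0, 2]),
   (9, 0, [1, 2, 5, 7, 5, 7, 2, 4, 8, 5]), (0, 1, []), (5, 0, [2, 7, 2, 8, 4, 1, 4, 4, 0]), (0, 1, []),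
   (4, 0, [2, 1, 3, 5, 8, 6, 0, 2]), (0, 1, []), (0, 1, []), (9, 0, [2, 0, 6, 7, 7, 4, 4, 1, 2]),
   (9, 0, [2, 5, 1, 7, 7, 3, 8, 1, 2]), (4, 0, [2, 1, 5, 7, 4, 8, 0, 6, 0, 6, 2]), (9, 0, [2, 7, 6, 6, 8, 4, 8, 6, 2])]

def cert0_9 : List (ℕ × ℕ × List ℕ) :=
  [(4, 0, [8, 2, 1, 3, 8, 0, 0, 6, 3, 1]), (0, 0, []), (11, 0, [4, 1, 2, 8, 0, 3, 6, 1, 6]), (9, 0, [2, 8, 2, 7, 0, 2, 6, 7, 5]),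
   (0, 0, []), (0, 0, []), (0, 0, []), (0, 0, []),
   (7, 0, [2, 6, 4, 0, 7, 7, 7, 0, 0, 2]), (0, 0, []), (0, 0, []), (6, 0, [0, 2, 5, 7, 3, 5, 7, 5, 4, 0]),
   (10, 0, [0, 0, 6, 7, 3, 5, 1, 1, 3]), (0, 0, []), (5, 0, [1, 1, 7, 2, 6, 8, 1, 7, 7, 5, 0]), (9, 0, [1, 6, 1, 8, 6, 0, 2, 5, 7, 0]),
   (7, 0, [2, 6, 6, 8, 1, 4, 4, 8, 5, 1]), (0, 0, []), (0, 0, []), (0, 0, []),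
   (0, 0, []), (11, 0, [4, 1, 6, 1, 3, 7, 2, 6, 7, 3]), (0, 0, []), (0, 0, []),
   (0, 0, []), (6, 0, [2, 4, 4, 0, 2, 8, 1, 8, 1, 1]), (10, 0, [1, 3, 5, 7, 5, 7, 3, 5, 3, 2]), (3, 0, []),
   (0, 0, []), (9, 0, [7, 2, 8, 2, 8, 5, 0, 3]), (11, 0, [4, 1, 8, 1, 5, 1, 2, 0, 6, 2]), (7, 0, [2, 6, 8, 0, 6, 0, 3, 5, 2, 1]),
   (0, 0, []), (0, 0, []), (0, 0, []), (0, 0, []),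
   (0, 0, []), (11, 0, [2, 0, 0, 0, 0, 7, 3, 1, 8, 4]), (0, 0, []), (4, 0, [0, 7, 2, 3, 0, 2, 7, 3, 2, 7, 0]),
   (0, 0, []), (0, 0, []), (0, 0, []), (7, 0, [7, 2, 0, 7, 3, 1, 6, 6, 4]),
   (0, 0, []), (6, 0, [6, 6, 8, 1, 2, 0, 4, 2, 8]), (0, 0, []), (0, 0, []),
   (0, 0, []), (0, 0, []), (0, 0, []), (6, 0, [2, 8, 5, 0, 7, 6, 7, 3]),
   (0, 0, []), (4, 0, [1, 4, 4, 0, 7, 2, 0, 6, 3, 8]), (0, 0, []), (10, 0, [2, 8, 5, 0, 7, 6, 7, 3, 2]),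
   (0, 0, []), (0, 0, []), (10, 0, [2, 5, 8, 5, 8, 4, 5, 1, 7]), (0, 0, []),
   (3, 0, []), (11, 0, [4, 4, 8, 1, 7, 6, 4, 0, 2]), (11, 0, [7, 0, 0, 7, 7, 5, 3, 1, 2]), (5, 0, [1, 2, 4, 5, 0, 4, 0, 3]),
   (4, 0, [1, 8, 8, 1, 8, 0, 7, 0, 2]), (5, 0, [0, 4, 0, 0, 7, 3, 6, 7, 4, 2, 0]), (0, 1, []), (0, 1, []),
   (3, 0, []), (0, 1, []), (4, 0, [2, 1, 3, 7, 6, 3, 0, 4, 0, 2]), (5, 0, [0, 2, 5, 8, 1, 6, 7, 7, 3, 5, 1]),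
   (0, 1, []), (9, 0, [1, 8, 2, 6, 3, 1, 6, 1]), (0, 1, []), (5, 0, [1, 6, 3, 0, 4, 8, 6, 0, 3, 0]),
   (0, 1, []), (0, 1, []), (0, 1, []), (5, 0, [1, 2, 7, 0, 4, 5, 7, 2, 0, 3]),
   (0, 1, []), (0, 1, []), (0, 1, []), (3, 0, []),
   (0, 1, []), (0, 1, []), (7, 0, [7, 7, 2, 0, 7, 4, 6, 1]), (4, 0, [1, 4, 8, 0, 2, 3, 5, 8, 6, 1]),
   (11, 0, [4, 1, 7, 5, 0, 7, 0, 0, 2]), (2, 0, []), (7, 0, [2, 5, 7, 7, 2, 1, 7, 0, 0]), (5, 0, [0, 5, 0, 7, 4, 1, 8, 0, 2, 1]),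
   (10, 0, [5, 4, 1, 6, 8, 8, 2, 0, 3]), (0, 0, []), (0, 0, []), (6, 0, [1, 7, 0, 6, 4, 8, 1, 6, 2]),
   (10, 0, [2, 3, 8, 6, 4, 8, 8, 1, 1]), (4, 0, [0, 2, 7, 2, 4, 0, 0, 3, 0, 3]), (0, 0, []), (5, 0, [7, 2, 5, 8, 1, 3, 1, 4, 2]),
   (7, 0, [2, 3, 8, 6, 1, 8, 5, 8, 8, 0]), (0, 0, []), (0, 0, []), (6, 0, [1, 8, 5, 5, 8, 1, 8, 5, 2, 0]),
   (0, 0, []), (0, 1, []), (0, 1, []), (4, 0, [2, 3, 8, 0, 0, 6, 7, 3, 2]),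
   (7, 0, [2, 4, 5, 8, 5, 3, 7, 3, 7]), (0, 1, []), (5, 0, [1, 2, 3, 7, 3, 8, 1, 7, 7]), (0, 2, []),
   (5, 0, [1, 7, 3, 8, 2, 0, 4, 8, 6, 1]), (7, 0, [3, 6, 0, 3, 6, 7, 5, 2]), (0, 1, []), (0, 1, []),
   (5, 0, [1, 2, 7, 3, 1, 1, 1, 1, 3, 0]), (3, 0, []), (0, 1, []), (5, 0, [6, 0, 5, 3, 5, 7, 2, 7]),
   (6, 0, [4, 0, 2, 7, 4, 1, 5, 1, 1]), (0, 0, []), (9, 0, [1, 2, 1, 3, 6, 3, 7, 3, 1, 5]), (0, 0, []),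
   (0, 0, []), (0, 0, []), (10, 0, [2, 3, 1, 7, 5, 5, 4, 0]), (5, 0, [0, 3, 6, 1, 6, 7, 2, 8, 2]),
   (0, 0, []), (0, 0, []), (0, 0, []), (0, 0, []),
   (0, 0, []), (4, 0, [0, 3, 8, 4, 8, 2, 7, 7, 3, 1]), (0, 1, []), (7, 0, [2, 3, 8, 1, 2, 0, 4, 0, 2]),
   (0, 0, []), (9, 0, [6, 3, 1, 8, 2, 7, 7, 0, 0]), (0, 0, []), (0, 0, []),
   (11, 0, [4, 1, 2, 8, 0, 3, 8, 6, 3, 0]), (0, 0, []), (6, 0, [0, 4, 0, 6, 3, 1, 7, 6, 1, 2]), (0, 0, []),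
   (0, 0, []), (10, 0, [0, 0, 7, 0, 3, 1, 5, 1, 3]), (0, 0, []), (0, 0, []),
   (4, 0, [0, 4, 0, 0, 2, 3, 1, 4, 8, 0]), (5, 0, [0, 2, 0, 0, 3, 0, 7, 0, 2, 8, 1]), (11, 0, [2, 8, 4, 4, 8, 5, 8, 4, 0, 0]), (0, 0, []),
   (4, 0, [1, 3, 6, 7, 2, 8, 8, 6, 6, 2]), (0, 0, []), (0, 0, []), (11, 0, [2, 7, 5, 5, 8, 2, 0, 7, 0]),
   (0, 0, []), (0, 0, []), (0, 0, []), (4, 0, [0, 4, 5, 8, 5, 0, 2, 8, 0, 3]),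
   (0, 0, []), (0, 0, []), (4, 0, [0, 7, 7, 4, 0, 2, 8, 4, 5, 3]), (7, 0, [4, 8, 1, 7, 2, 4, 8, 0, 7, 0]),
   (7, 0, [2, 1, 5, 8, 2, 0, 0, 2, 7, 2, 0]), (6, 0, [1, 2, 8, 4, 0, 7, 7, 2, 7, 3]), (9, 0, [0, 4, 5, 0, 2, 4, 8, 8, 8, 1]), (9, 0, [1, 2, 1, 1, 1, 7, 0, 5]),
   (0, 0, []), (0, 0, []), (0, 0, []), (9, 0, [1, 7, 4, 8, 6, 6, 0, 3, 7, 6]),
   (9, 0, [1, 2, 1, 7, 3, 8, 0, 7, 5, 5, 0]), (0, 0, []), (10, 0, [1, 2, 7, 0, 3, 8, 1, 2, 7]), (7, 0, [2, 8, 4, 5, 8, 1, 4, 1, 2, 7]),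
   (11, 0, [4, 5, 4, 4, 8, 2, 8, 4, 4]), (0, 0, []), (0, 0, []), (0, 0, []),
   (9, 0, [2, 7, 6, 6, 0, 2]), (0, 1, []), (0, 1, []), (4, 0, [0, 7, 4, 4, 5, 0, 7, 2, 7, 6]),
   (5, 0, [1, 2, 4, 5, 0, 4, 0, 3, 5, 5]), (11, 0, [2, 7, 6, 0, 5, 7, 2, 3, 8, 0]), (5, 0, [0, 2, 5, 3, 1, 7, 3, 0, 6]), (3, 0, []),
   (0, 2, []), (11, 0, [4, 5, 1, 3, 7, 3, 3, 5, 2]), (0, 2, []), (5, 0, [0, 2, 0, 4, 4, 5, 4, 8, 4, 0]),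
   (3, 0, []), (0, 1, []), (4, 0, [0, 3, 1, 7, 6, 8, 0, 3, 1, 2]), (0, 1, []),
   (11, 0, [7, 6, 8, 4, 8, 1, 4, 2]), (0, 1, []), (9, 0, [1, 2, 7, 0, 2, 1, 5, 7, 2, 8]), (4, 0, [2, 1, 4, 0, 7, 6, 7, 5, 3, 2]),
   (7, 0, [7, 2, 8, 2, 1, 7, 5, 8, 5]), (4, 0, [0, 3, 6, 3, 1, 3, 8, 6, 4, 2]), (2, 0, []), (0, 1, []),
   (0, 1, []), (0, 1, []), (3, 0, []), (9, 0, [2, 0, 7, 6, 8, 8, 8, 1, 2]),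
   (4, 0, [1, 2, 1, 3, 1, 1, 7, 0, 2, 1]), (0, 1, []), (10, 0, [6, 0, 2, 6, 3, 1, 3, 2, 1]), (6, 0, [0, 2, 3, 5, 7, 4, 5, 1, 7, 0, 0]),
   (0, 0, []), (0, 0, []), (11, 0, [2, 3, 8, 8, 0, 6, 4, 1, 8]), (0, 0, []),
   (0, 0, []), (0, 0, []), (0, 0, []), (0, 0, []),
   (0, 0, []), (0, 0, []), (0, 0, []), (2, 0, []),
   (7, 0, [3, 7, 2, 6, 7, 2, 5, 8, 1]), (0, 0, []), (10, 0, [1, 7, 6, 0, 2, 3, 8, 6, 0, 2]), (0, 0, []),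
   (0, 0, []), (0, 0, []), (0, 0, []), (5, 0, [6, 7, 3, 1, 6, 7]),
   (9, 0, [1, 2, 1, 8, 1, 4, 1, 7, 6, 4, 1]), (0, 0, []), (0, 0, []), (6, 0, [0, 2, 8, 6, 1, 4, 1, 7, 5]),
   (0, 0, []), (0, 0, []), (0, 0, []), (4, 0, [1, 5, 7, 2, 4, 0, 0, 4, 6, 2]),
   (0, 0, []), (6, 0, [1, 8, 5, 1, 8, 2, 7, 0, 7, 0]), (0, 0, []), (7, 0, [2, 4, 0, 2, 6, 3, 7, 7, 5]),
   (0, 0, []), (0, 1, []), (0, 0, []), (10, 0, [2, 5, 3, 1, 1, 3, 1, 4, 4]),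
   (0, 0, []), (4, 0, [8, 8, 1, 2, 3, 7, 7, 4, 5]), (0, 0, []), (11, 0, [2, 6, 1, 3, 7, 7, 0, 0, 3, 1]),
   (10, 0, [1, 3, 8, 4, 8, 4, 8, 2, 1]), (6, 0, [3, 5, 5, 7, 2, 8, 0, 4, 4]), (0, 0, []), (0, 0, []),
   (0, 0, []), (0, 0, []), (0, 0, []), (4, 0, [7, 2, 7, 4, 5, 8, 2, 0, 3]),
   (5, 0, [5, 8, 2, 8, 1, 3, 1, 6, 7]), (0, 0, []), (0, 0, []), (0, 0, []),
   (0, 0, []), (9, 0, [0, 5, 7, 2, 3, 8, 6, 0, 6]), (0, 0, []), (5, 0, [1, 3, 0, 2, 4, 1, 3, 0, 4]),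
   (9, 0, [1, 8, 0, 5, 4, 1, 6, 8, 2, 1]), (0, 0, []), (5, 0, [1, 8, 6, 8, 0, 7, 0, 2, 8]), (3, 0, []),
   (7, 0, [4, 0, 0, 4, 6, 1, 5, 8, 0, 2]), (5, 0, [1, 7, 3, 7, 7, 2, 6, 8, 0, 4, 0]), (0, 1, []), (5, 0, [1, 2, 7, 7, 6, 6, 1, 7, 0, 5]),
   (4, 0, [2, 4, 1, 8, 1, 1, 7, 4, 2]), (0, 1, []), (0, 1, []), (0, 1, []),
   (5, 0, [6, 0, 5, 3, 5, 7, 6, 2, 7, 0]), (0, 1, []), (7, 0, [5, 7, 0, 0, 7, 6, 0, 2]), (0, 1, []),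
   (0, 2, []), (6, 0, [1, 2, 8, 0, 2, 1, 7, 4, 2]), (0, 0, []), (0, 1, []),
   (5, 0, [0, 2, 6, 7, 6, 1, 2, 3, 7]), (6, 0, [1, 5, 8, 4, 4, 8, 8, 2, 1, 1]), (0, 0, []), (6, 0, [2, 5, 3, 5, 1, 2, 7, 2, 1, 1]),
   (0, 0, []), (0, 0, []), (0, 0, []), (10, 0, [1, 5, 7, 3, 3, 8, 4, 0, 2, 8]),
   (0, 0, []), (5, 0, [6, 7, 7, 2, 5, 4, 5, 0, 3, 0]), (0, 0, []), (0, 0, []),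
   (0, 0, []), (10, 0, [0, 2, 4, 1, 3, 1, 3, 3, 1]), (0, 0, []), (0, 1, []),
   (0, 0, []), (6, 0, [1, 7, 5, 4, 8, 8, 2, 4, 8]), (4, 0, [0, 3, 6, 1, 7, 2, 7, 0, 0]), (9, 0, [1, 7, 0, 7, 2, 1, 5, 1, 7]),
   (0, 3, []), (0, 0, []), (0, 0, []), (0, 0, []),
   (0, 0, []), (0, 0, []), (5, 0, [1, 3, 7, 3, 6, 3, 1, 2, 0, 3]), (0, 0, []),
   (0, 0, []), (11, 0, [2, 1, 3, 0, 2, 3, 3, 1, 3, 0]), (1, 0, []), (0, 0, []),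
   (0, 0, []), (0, 0, []), (6, 0, [1, 2, 0, 3, 7, 3, 3, 8, 1, 7]), (0, 0, []),
   (0, 0, []), (7, 0, [7, 3, 6, 1, 2, 3, 8, 1, 6]), (0, 3, []), (0, 0, []),
   (10, 0, [1, 5, 5, 1, 7, 2, 5, 3, 7, 6, 0]), (0, 0, []), (3, 0, []), (6, 0, [1, 7, 6, 6, 7, 2, 8, 4, 4, 5, 2]),
   (0, 0, []), (0, 0, []), (0, 0, []), (9, 0, [6, 1, 2, 6, 8, 0, 4, 1, 6]),
   (10, 0, [3, 5, 1, 7, 7, 2, 4, 1]), (0, 0, []), (9, 0, [1, 5, 7, 2, 8, 5, 4, 5]), (0, 0, []),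
   (0, 0, []), (0, 0, []), (0, 0, []), (0, 0, []),
   (0, 0, []), (0, 0, []), (0, 0, []), (10, 0, [1, 5, 7, 7, 2, 0, 5, 8, 5, 2, 1]),
   (5, 0, [0, 2, 7, 2, 7, 2, 7, 7, 6, 6, 1]), (0, 0, []), (6, 0, [0, 4, 4, 5, 7, 6, 7, 5, 2, 0]), (0, 0, []),
   (0, 1, []), (5, 0, [0, 4, 0, 2, 5, 1, 8, 0, 5, 5, 0]), (6, 0, [1, 4, 5, 8, 2, 1, 7, 3, 1, 1]), (0, 0, []),
   (6, 0, [0, 0, 7, 0, 4, 8, 2, 6, 1, 4]), (0, 0, []), (0, 0, []), (0, 0, []),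
   (11, 0, [2, 0, 7, 7, 0, 2, 6, 1, 7, 5]), (5, 0, [1, 1, 7, 0, 4, 1, 2, 6, 1]), (10, 0, [0, 0, 2, 3, 0, 2, 4, 0, 6, 0]), (0, 2, []),
   (5, 0, [8, 1, 2, 6, 8, 1, 5, 7, 2, 0]), (0, 0, []), (0, 0, []), (6, 0, [1, 6, 3, 1, 6, 7, 6, 1, 4]),
   (3, 0, []), (7, 0, [2, 7, 2, 4, 4, 1, 6, 7, 7, 0]), (0, 0, []), (0, 0, []),
   (0, 0, []), (0, 0, []), (0, 0, []), (7, 0, [3, 1, 5, 5, 4, 1, 3, 2]),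
   (4, 0, [1, 8, 2, 8, 2, 5, 8, 4, 4]), (0, 1, []), (0, 1, []), (11, 0, [3, 0, 2, 3, 0, 3, 5, 8]),
   (0, 1, []), (4, 0, [2, 8, 8, 1, 2, 4, 4]), (2, 0, []), (9, 0, [2, 1, 7, 3, 1, 8, 5, 2]),
   (0, 1, []), (9, 0, [0, 2, 4, 1, 8, 2, 8, 8, 2, 8]), (0, 1, []), (3, 0, []),
   (4, 0, [2, 0, 3, 7, 3, 1, 7, 7, 3, 5, 2]), (0, 1, []), (0, 1, []), (0, 1, []),
   (4, 0, [0, 0, 2, 5, 7, 2, 8, 8, 4, 2]), (9, 0, [1, 3, 1, 3, 8, 2, 7, 4, 1]), (5, 0, [1, 3, 6, 1, 8, 2, 8, 5, 2, 0]), (0, 1, []),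
   (3, 0, []), (4, 0, [0, 7, 7, 7, 6, 0, 5, 5, 3, 2]), (3, 0, []), (11, 0, [2, 5, 8, 8, 5, 1, 5, 1, 8, 1]),
   (11, 0, [4, 8, 1, 2, 8, 5, 8, 8, 6]), (3, 0, []), (9, 0, [1, 3, 3, 5, 1, 2, 7, 5, 0, 3, 0]), (4, 0, [0, 0, 7, 7, 0, 7, 2]),
   (5, 0, [1, 1, 7, 6, 6, 4, 8, 8, 0]), (0, 0, []), (0, 0, []), (0, 0, []),
   (0, 0, []), (4, 0, [0, 0, 3, 8, 8, 2, 8, 0, 5, 2, 0]), (0, 0, []), (0, 0, []),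
   (0, 0, []), (7, 0, [7, 2, 0, 7, 3, 6, 8, 5]), (0, 0, []), (11, 0, [7, 2, 0, 7, 3, 6, 8, 5, 2]),
   (11, 0, [2, 7, 2, 3, 5, 7, 4, 8, 0]), (0, 0, []), (7, 0, [7, 2, 6, 6, 7, 7, 2, 8]), (0, 0, []),
   (5, 0, [1, 1, 2, 7, 7, 4, 1, 1, 3, 1]), (11, 0, [4, 1, 2, 0, 0, 2, 3, 0, 3, 0]), (0, 0, []), (0, 1, []),
   (0, 0, []), (0, 0, []), (7, 0, [4, 6, 1, 2, 8, 5, 8, 2, 1, 3]), (0, 0, []),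
   (0, 0, []), (0, 0, []), (10, 0, [1, 4, 4, 8, 0, 0, 2, 7, 4, 0]), (6, 0, [1, 3, 5, 7, 5, 7, 5, 3, 3]),
   (3, 0, []), (0, 0, []), (5, 0, [0, 4, 8, 1, 2, 7, 2, 1, 8]), (4, 0, [0, 0, 4, 8, 8, 5, 4, 1, 6, 2]),
   (0, 1, []), (0, 1, []), (4, 0, [2, 0, 5, 3, 8, 5, 0, 3, 0, 2]), (0, 1, []),
   (9, 0, [0, 2, 0, 3, 7, 3, 7, 4, 8, 6]), (4, 0, [2, 8, 8, 1, 3, 3, 6, 3, 2]), (9, 0, [6, 1, 6, 3, 8, 1, 5, 2, 1]), (0, 1, []),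
   (0, 2, []), (0, 2, []), (7, 0, [3, 1, 6, 6, 4, 1, 1, 3, 2]), (2, 0, []),
   (11, 0, [4, 1, 4, 8, 6, 4, 1, 4, 4, 2]), (3, 0, []), (0, 0, []), (9, 0, [0, 2, 5, 3, 1, 2, 8, 5, 8, 8]),
   (9, 0, [1, 2, 8, 1, 8, 1, 4, 8, 6, 1]), (9, 0, [1, 2, 1, 1, 1, 6, 7, 5]), (0, 0, []), (9, 0, [1, 4, 8, 0, 0, 4, 8, 8, 6, 0]),
   (10, 0, [1, 5, 1, 2, 3, 8, 2, 0, 7, 0]), (0, 0, []), (11, 0, [2, 4, 1, 1, 6, 8, 8, 2, 8, 1]), (7, 0, [2, 4, 0, 0, 3, 8, 5, 8, 8, 4]),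
   (0, 0, []), (0, 0, []), (6, 0, [0, 0, 0, 2, 0, 7, 7, 2, 7]), (0, 0, []),
   (0, 0, []), (10, 0, [1, 3, 7, 4, 5, 1, 1, 1]), (0, 0, []), (6, 0, [1, 6, 8, 1, 2, 8, 8, 8, 0]),
   (0, 0, []), (0, 1, []), (7, 0, [2, 7, 7, 2, 6, 4, 0, 2]), (5, 0, [5, 4, 1, 7, 2, 1, 5, 8, 2]),
   (10, 0, [2, 0, 5, 8, 0, 7, 3, 8, 2]), (0, 0, []), (5, 0, [5, 1, 7, 7, 6, 6, 3, 1]), (4, 0, [1, 3, 7, 4, 1, 4, 5, 5, 2, 8, 0]),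
   (0, 0, []), (7, 0, [2, 1, 5, 1, 7, 0, 5, 0, 7, 6]), (0, 0, []), (6, 0, [0, 2, 4, 8, 8, 0, 5, 3, 1, 5]),
   (10, 0, [1, 6, 7, 7, 2, 7, 6, 0, 5]), (6, 0, [0, 2, 0, 4, 5, 8, 0, 2, 7, 2]), (0, 0, []), (7, 0, [2, 1, 8, 2, 1, 3, 3, 8, 0, 0]),
   (11, 0, [7, 6, 0, 2, 7, 2, 6, 7, 3, 2]), (0, 0, []), (0, 0, []), (0, 0, []),
   (0, 0, []), (4, 0, [2, 1, 3, 7, 4, 8, 2, 1, 8, 1, 1]), (6, 0, [4, 6, 1, 8, 4, 1, 3, 2, 0]), (10, 0, [1, 7, 5, 7, 2, 4, 5, 1, 4, 0]),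
   (0, 0, []), (0, 0, []), (0, 0, [])]

def cert0_10 : List (ℕ × ℕ × List ℕ) :=
  [(5, 0, [2, 1, 8, 1, 6, 6, 0, 2]), (3, 0, []), (0, 1, []), (3, 0, []),
   (7, 0, [4, 8, 5, 0, 7, 2, 4, 8, 4, 0]), (4, 0, [8, 1, 8, 8, 8, 5, 3, 2]), (0, 3, []), (5, 0, [1, 8, 2, 8, 0, 3, 7, 4, 1]),
   (4, 0, [2, 1, 4, 4, 0, 3, 5, 8, 1, 2]), (9, 0, [6, 8, 2, 5, 7, 0, 7, 7, 0, 0]), (0, 3, []), (4, 0, [8, 0, 3, 6, 7, 6, 3, 2]),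
   (9, 0, [1, 6, 7, 4, 0, 0, 2, 7, 6, 0]), (3, 0, []), (7, 0, [2, 8, 2, 7, 4, 8, 1, 4, 8, 0]), (0, 0, []),
   (0, 0, []), (0, 0, []), (2, 0, []), (0, 0, []),
   (6, 0, [2, 5, 8, 6, 1, 7, 4, 0, 4, 0]), (0, 0, []), (11, 0, [2, 1, 8, 0, 2, 4, 1, 7, 6, 7]), (10, 0, [4, 4, 6, 8, 1, 5, 7, 2, 0]),
   (0, 0, []), (7, 0, [2, 3, 5, 8, 2, 4, 8, 1, 8, 1]), (0, 0, []), (0, 0, []),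
   (0, 0, []), (0, 0, []), (4, 0, [0, 5, 7, 2, 5, 4, 1, 7, 3, 0]), (5, 0, [2, 5, 7, 6, 3, 1, 6, 7, 2]),
   (11, 0, [6, 7, 3, 5, 8, 4, 8, 1, 2]), (0, 2, []), (0, 1, []), (0, 2, []),
   (0, 1, []), (2, 0, []), (0, 1, []), (0, 1, []),
   (3, 0, []), (0, 2, []), (7, 0, [2, 3, 7, 2, 3, 6, 6, 1, 3, 1]), (0, 1, []),
   (5, 0, [2, 5, 5, 7, 3, 0, 4, 5, 2]), (0, 0, []), (6, 0, [1, 3, 5, 7, 5, 7, 3, 6, 3]), (5, 0, [1, 5, 7, 2, 8, 8, 8, 5, 3, 3]),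
   (10, 0, [0, 0, 3, 1, 2, 6, 8, 6, 0]), (5, 0, [1, 2, 0, 4, 4, 0, 7, 7, 3, 1]), (0, 0, []), (7, 0, [2, 7, 4, 4, 1, 3, 8, 0, 3, 0]),
   (0, 1, []), (0, 0, []), (0, 0, []), (0, 0, []),
   (3, 0, []), (11, 0, [2, 7, 5, 7, 3, 1, 4, 6, 1, 2]), (0, 0, []), (0, 0, []),
   (9, 0, [2, 6, 0, 4, 0, 4, 6, 7, 2]), (11, 0, [4, 4, 8, 8, 0, 7, 6, 1, 2]), (11, 0, [3, 8, 1, 8, 5, 0, 3, 8, 2]), (0, 1, []),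
   (0, 1, []), (3, 0, []), (5, 0, [0, 2, 8, 5, 8, 6, 8, 6, 0]), (3, 0, []),
   (0, 1, []), (9, 0, [1, 6, 1, 8, 2, 7, 0, 7, 3, 3]), (3, 0, []), (4, 0, [0, 2, 6, 7, 3, 7, 7, 7, 0, 2, 0]),
   (5, 0, [6, 4, 8, 1, 7, 2, 1, 5, 1]), (4, 0, [7, 4, 8, 8, 6, 0, 4, 2]), (4, 0, [0, 0, 7, 7, 0, 7, 6, 6, 2]), (0, 0, []),
   (0, 0, []), (0, 0, []), (4, 0, [2, 1, 5, 3, 8, 2, 7, 4, 6, 0, 6]), (0, 0, []),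
   (7, 0, [4, 1, 1, 6, 8, 1, 2, 0, 6, 0]), (0, 0, []), (7, 0, [2, 8, 8, 0, 2, 1, 6, 1, 8]), (0, 0, []),
   (0, 0, []), (0, 0, []), (11, 0, [4, 0, 5, 8, 2, 1, 5, 1, 2, 0]), (0, 0, []),
   (11, 0, [2, 6, 8, 6, 8, 4, 8, 8, 6, 1]), (0, 0, []), (0, 1, []), (3, 0, []),
   (0, 1, []), (7, 0, [2, 1, 7, 0, 0, 2, 3, 7, 5, 7]), (0, 1, []), (0, 3, []),
   (2, 0, []), (0, 4, []), (0, 4, []), (4, 0, [0, 3, 8, 2, 8, 2, 5, 1, 4, 1]),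
   (5, 0, [0, 2, 5, 0, 7, 6, 6, 3, 1, 3]), (11, 0, [3, 6, 8, 8, 0, 3, 3, 2]), (0, 1, []), (0, 4, []),
   (5, 0, [2, 0, 3, 8, 5, 4, 8, 1, 2]), (4, 0, [1, 8, 4, 1, 2, 7, 7, 0, 7, 4]), (0, 1, []), (3, 0, []),
   (0, 1, []), (5, 0, [1, 3, 8, 2, 0, 7, 3, 8, 1, 6]), (0, 1, []), (0, 2, []),
   (5, 0, [7, 3, 3, 8, 2, 4, 0, 4, 2, 0]), (5, 0, [0, 2, 1, 7, 2, 0, 6, 7, 4, 2, 0]), (0, 1, []), (7, 0, [4, 5, 0, 7, 2, 1, 3, 7, 3]),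
   (7, 0, [7, 5, 3, 8, 0, 6, 4, 0, 2]), (0, 1, []), (0, 1, []), (5, 0, [2, 5, 1, 8, 0, 0, 7, 2]),
   (0, 0, []), (5, 0, [1, 7, 6, 0, 6, 3, 8, 2, 8, 5]), (0, 1, []), (0, 0, []),
   (6, 0, [0, 2, 7, 5, 7, 7, 0, 5, 3]), (0, 0, []), (0, 0, []), (7, 0, [2, 7, 2, 4, 6, 0, 2, 8, 6, 4, 0]),
   (9, 0, [6, 1, 2, 0, 7, 7, 6, 4, 1]), (11, 0, [2, 5, 4, 8, 8, 0, 3, 5, 8]), (0, 0, []), (0, 0, []),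
   (0, 0, []), (4, 0, [0, 4, 8, 0, 3, 6, 7, 2, 1, 4, 0]), (10, 0, [6, 6, 1, 3, 8, 8, 8, 2, 0, 0]), (0, 0, []),
   (0, 4, []), (6, 0, [0, 4, 5, 0, 0, 2, 7, 2, 7, 4]), (6, 0, [1, 6, 7, 3, 6, 3, 7, 4, 2, 1]), (5, 0, [1, 6, 1, 2, 5, 3, 8, 4, 5, 1]),
   (5, 0, [7, 2, 7, 2, 1, 8, 5, 1, 3, 0]), (0, 0, []), (0, 0, []), (6, 0, [2, 8, 6, 1, 8, 2, 8, 8, 0]),
   (0, 0, []), (0, 0, []), (0, 0, []), (10, 0, [2, 1, 8, 4, 0, 3, 3, 2, 7]),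
   (0, 0, []), (0, 0, []), (5, 0, [1, 2, 1, 6, 7, 3, 1, 8, 8, 2, 0]), (0, 0, []),
   (0, 0, []), (0, 0, []), (0, 0, []), (0, 0, []),
   (10, 0, [2, 1, 5, 3, 0, 3, 8, 0, 3, 0]), (0, 0, []), (9, 0, [1, 6, 8, 1, 4, 8, 1, 4, 2, 0]), (0, 0, []),
   (0, 0, []), (6, 0, [0, 2, 1, 7, 7, 0, 6, 4, 1]), (0, 0, []), (0, 0, []),
   (4, 0, [0, 4, 8, 8, 2, 7, 3, 7, 4, 1, 6]), (0, 0, []), (5, 0, [7, 2, 7, 6, 7, 2, 7, 3, 1]), (0, 0, []),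
   (0, 0, []), (9, 0, [1, 2, 1, 3, 6, 3, 7, 3, 1, 6]), (0, 0, []), (10, 0, [2, 3, 8, 1, 6, 7, 6, 3, 3]),
   (0, 0, []), (4, 0, [0, 7, 3, 1, 2, 0, 4, 5, 8, 4, 4]), (6, 0, [1, 6, 3, 7, 4, 8, 0, 4, 2, 1]), (0, 0, []),
   (0, 1, []), (0, 0, []), (0, 0, []), (0, 0, []),
   (3, 0, []), (0, 0, []), (0, 0, []), (0, 0, []),
   (10, 0, [1, 5, 1, 7, 6, 7, 3, 0, 5, 2]), (6, 0, [2, 4, 4, 0, 2, 8, 1, 8, 5, 1]), (9, 0, [1, 8, 8, 4, 0, 2, 6, 3, 8, 1]), (0, 0, []),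
   (0, 0, []), (0, 0, []), (0, 0, []), (11, 0, [2, 8, 1, 7, 0, 0, 6, 3, 3, 7]),
   (9, 0, [8, 2, 8, 2, 8, 1, 2, 8, 1]), (7, 0, [7, 7, 2, 7, 3, 0, 5, 2, 1]), (0, 0, []), (2, 0, []),
   (4, 0, [1, 2, 3, 5, 7, 3, 8, 8, 4]), (0, 1, []), (11, 0, [4, 4, 8, 2, 1, 8, 4, 6, 7]), (9, 0, [8, 1, 2, 8, 5, 8, 0, 2, 7]),
   (4, 0, [2, 1, 7, 6, 7, 6, 4, 1, 2]), (3, 0, []), (4, 0, [0, 4, 1, 1, 3, 7, 5, 7, 2]), (0, 1, []),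
   (0, 1, []), (0, 1, []), (0, 2, []), (7, 0, [7, 2, 8, 2, 1, 3, 8, 5]),
   (9, 0, [1, 8, 1, 7, 2, 0, 3, 0, 2, 1, 1]), (0, 1, []), (0, 0, []), (10, 0, [0, 2, 6, 3, 1, 8, 4, 8, 1, 3]),
   (0, 0, []), (6, 0, [3, 3, 6, 0, 2, 4, 0, 7, 0]), (4, 0, [1, 7, 6, 6, 8, 8, 6, 7, 2, 1, 7]), (7, 0, [2, 1, 6, 7, 4, 8, 8, 5, 1, 8]),
   (0, 0, []), (10, 0, [1, 6, 8, 2, 8, 8, 6, 0, 7]), (6, 0, [1, 3, 8, 4, 8, 4, 8, 0, 2, 0]), (0, 0, []),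
   (0, 0, []), (0, 0, []), (0, 0, []), (11, 0, [2, 4, 0, 2, 6, 3, 7, 7, 5, 2]),
   (0, 0, []), (0, 0, []), (5, 0, [1, 3, 0, 2, 4, 1, 3, 0, 4, 5]), (0, 0, []),
   (4, 0, [1, 2, 3, 0, 4, 8, 4, 4, 8]), (5, 0, [1, 2, 7, 6, 6, 7, 7, 7, 5, 3]), (9, 0, [1, 3, 0, 2, 5, 3, 0, 5, 3, 7]), (0, 0, []),
   (0, 0, []), (0, 0, []), (0, 0, []), (0, 0, []),
   (0, 0, []), (0, 0, []), (9, 0, [0, 5, 7, 2, 3, 8, 6, 0]), (0, 0, []),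
   (4, 0, [4, 1, 8, 4, 1, 7, 2]), (0, 1, []), (9, 0, [2, 0, 6, 6, 7, 3, 7, 0, 2]), (4, 0, [2, 0, 7, 3, 6, 0, 3, 7, 3, 2]),
   (0, 1, []), (3, 0, []), (9, 0, [2, 6, 0, 4, 5, 0, 0, 2]), (5, 0, [0, 2, 3, 7, 2, 5, 7, 4, 2]),
   (3, 0, []), (3, 0, []), (11, 0, [2, 7, 2, 7, 5, 4, 1, 7, 7]), (4, 0, [0, 3, 8, 6, 7, 7, 3, 7, 0, 2]),
   (11, 0, [4, 4, 6, 7, 0, 7, 4, 4, 2]), (0, 1, []), (5, 0, [0, 2, 8, 6, 4, 4, 1, 4, 1, 5]), (0, 0, []),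
   (4, 0, [1, 7, 2, 5, 1, 7, 4, 6, 2, 1]), (6, 0, [5, 5, 8, 0, 2, 8, 1, 6, 1]), (0, 0, []), (11, 0, [2, 1, 6, 7, 3, 7, 3, 5, 7, 2]),
   (0, 0, []), (10, 0, [1, 7, 3, 5, 3, 7, 2, 0, 5]), (0, 0, []), (0, 0, []),
   (0, 0, []), (7, 0, [2, 3, 7, 5, 4, 1, 2, 5, 1]), (0, 0, []), (10, 0, [1, 6, 7, 7, 2, 7, 6, 0, 6]),
   (6, 0, [3, 3, 6, 0, 2, 4, 0, 6, 7]), (0, 0, []), (5, 0, [1, 2, 6, 1, 5, 4, 1, 3, 8, 4]), (0, 1, []),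
   (5, 0, [1, 2, 4, 0, 5, 7, 5, 7, 5, 4, 1]), (0, 1, []), (5, 0, [0, 4, 1, 4, 1, 2, 7, 7, 2, 0]), (0, 1, []),
   (0, 1, []), (7, 0, [7, 6, 8, 1, 4, 1, 8, 4, 2]), (5, 0, [2, 1, 5, 7, 3, 8, 6, 1, 2]), (4, 0, [2, 1, 5, 7, 2, 7, 0, 3, 5, 1]),
   (0, 4, []), (3, 0, []), (0, 1, []), (7, 0, [4, 5, 3, 7, 3, 5, 1, 2]),
   (0, 4, []), (5, 0, [6, 8, 1, 2, 6, 7, 6, 4]), (4, 0, [1, 5, 1, 7, 2, 1, 1, 8, 8, 1, 4]), (6, 0, [0, 0, 0, 0, 7, 0, 2, 7, 3, 2]),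
   (6, 0, [1, 5, 8, 1, 6, 1, 8, 1, 1]), (10, 0, [1, 8, 2, 0, 5, 8, 1, 4, 8]), (0, 0, []), (0, 0, []),
   (0, 0, []), (0, 0, []), (9, 0, [1, 5, 4, 4, 0, 7, 2, 7, 2]), (0, 0, []),
   (10, 0, [0, 4, 1, 6, 8, 8, 4, 6, 2, 7]), (5, 0, [1, 2, 8, 5, 0, 0, 7, 7, 6, 3]), (9, 0, [1, 2, 8, 6, 0, 3, 5, 5, 1]), (0, 0, []),
   (0, 0, []), (5, 0, [1, 5, 7, 3, 8, 6, 3, 7]), (6, 0, [0, 2, 8, 6, 1, 4, 1, 7, 6, 6]), (0, 0, []),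
   (0, 0, []), (0, 0, []), (10, 0, [2, 6, 1, 4, 8, 1, 4, 6, 1]), (0, 0, []),
   (0, 0, []), (0, 0, []), (0, 0, []), (0, 0, []),
   (0, 0, []), (9, 0, [1, 2, 3, 0, 7, 6, 3, 7, 3, 1]), (4, 0, [1, 5, 7, 2, 4, 5, 0, 4, 6, 2]), (3, 0, []),
   (5, 0, [1, 7, 6, 6, 1, 8, 2, 0, 4, 6]), (2, 0, []), (4, 0, [0, 0, 7, 7, 4, 8, 4, 6, 3, 2]), (0, 1, []),
   (0, 1, []), (0, 1, []), (0, 1, []), (11, 0, [7, 4, 1, 8, 0, 7, 6, 0, 2]),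
   (7, 0, [4, 8, 5, 4, 8, 8, 0, 5, 2]), (0, 1, []), (4, 0, [0, 5, 5, 7, 3, 3, 5, 8, 2]), (0, 2, []),
   (5, 0, [2, 0, 4, 6, 1, 5, 3, 2]), (4, 0, [0, 3, 7, 3, 3, 8, 1, 1, 2]), (0, 0, []), (9, 0, [7, 7, 2, 5, 1, 2, 4, 8, 4, 0]),
   (0, 0, []), (0, 0, []), (0, 0, []), (5, 0, [1, 2, 7, 6, 6, 7, 7, 7, 3]),
   (0, 0, []), (9, 0, [8, 2, 8, 1, 2, 4, 0, 5, 7, 0]), (4, 0, [0, 0, 0, 2, 7, 2, 5, 7, 7, 0, 0]), (0, 0, []),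
   (0, 0, []), (0, 0, []), (0, 0, []), (0, 0, []),
   (5, 0, [1, 3, 0, 2, 4, 1, 7, 6, 8]), (0, 1, []), (5, 0, [0, 2, 5, 8, 1, 5, 3, 1, 3, 2, 0]), (3, 0, []),
   (0, 1, []), (5, 0, [1, 2, 4, 5, 0, 4, 0, 6, 6, 3]), (4, 0, [0, 7, 4, 4, 5, 0, 7, 2, 7]), (0, 1, []),
   (11, 0, [4, 0, 5, 5, 4, 8, 1, 5, 8, 2]), (11, 0, [4, 5, 1, 3, 7, 2, 3, 3]), (9, 0, [2, 6, 1, 6, 6, 1, 2]), (3, 0, []),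
   (4, 0, [1, 8, 0, 0, 4, 1, 3, 7, 5, 2]), (0, 1, []), (0, 1, []), (5, 0, [0, 2, 5, 3, 1, 7, 3, 0]),
   (10, 0, [1, 2, 5, 1, 1, 2, 3, 0, 5]), (0, 0, []), (0, 0, []), (0, 0, []),
   (0, 0, []), (6, 0, [5, 7, 2, 8, 5, 0, 5, 4, 0]), (0, 0, []), (3, 0, []),
   (0, 0, []), (9, 0, [1, 1, 2, 1, 8, 5, 4, 4, 8, 0, 0]), (9, 0, [1, 5, 7, 2, 8, 4, 5]), (0, 0, []),
   (0, 0, []), (0, 0, []), (0, 0, []), (0, 0, []),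
   (0, 0, []), (0, 0, []), (5, 0, [8, 1, 6, 3, 8, 4, 4, 2, 1]), (6, 0, [1, 7, 5, 4, 4, 0, 2, 3]),
   (7, 0, [4, 6, 0, 7, 3, 1, 7, 2, 1, 3]), (0, 0, []), (6, 0, [1, 2, 3, 5, 4, 8, 4, 1, 1, 2]), (10, 0, [0, 4, 1, 7, 2, 0, 5, 7, 4, 0]),
   (0, 0, []), (7, 0, [2, 6, 3, 8, 1, 8, 4, 1, 5]), (4, 0, [0, 2, 4, 4, 1, 7, 2, 7, 5, 3, 0]), (5, 0, [2, 8, 0, 2, 5, 4, 0, 6, 7]),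
   (10, 0, [1, 7, 3, 6, 8, 2, 5, 8, 1]), (0, 0, []), (7, 0, [2, 8, 0, 7, 3, 1, 8, 4, 2, 0]), (0, 0, []),
   (0, 0, []), (0, 0, []), (4, 0, [0, 2, 6, 7, 3, 3, 1, 3, 8, 1, 4]), (0, 0, []),
   (0, 0, []), (10, 0, [2, 3, 3, 1, 8, 2, 1, 4, 5]), (11, 0, [2, 3, 7, 2, 6, 4, 0, 0, 2, 0]), (0, 0, []),
   (6, 0, [1, 2, 5, 7, 0, 0, 2, 0, 0, 7]), (0, 3, []), (0, 0, []), (10, 0, [1, 6, 8, 1, 7, 2, 7, 6, 8, 0]),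
   (6, 0, [1, 7, 4, 6, 6, 4, 0, 2, 1]), (0, 2, []), (9, 0, [1, 7, 6, 8, 5, 0, 2, 3, 0]), (3, 0, []),
   (5, 0, [8, 0, 2, 3, 7, 6, 1, 7, 5]), (7, 0, [4, 1, 7, 7, 0, 0, 3, 7, 2]), (9, 0, [1, 2, 8, 8, 4, 6, 1, 3, 2, 7, 0]), (9, 0, [1, 7, 2, 4, 5, 8, 0, 3, 5, 3, 1]),
   (7, 0, [3, 6, 6, 8, 0, 2, 4]), (0, 1, []), (3, 0, []), (4, 0, [0, 7, 6, 1, 7, 7, 7, 5, 2]),
   (0, 1, []), (4, 0, [0, 0, 2, 4, 4, 8, 2, 5, 8]), (0, 2, []), (0, 1, []),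
   (0, 0, []), (0, 0, []), (0, 0, []), (0, 0, []),
   (0, 0, []), (10, 0, [1, 8, 2, 0, 0, 6, 3, 1, 7, 5]), (0, 0, []), (0, 0, []),
   (11, 0, [2, 7, 7, 4, 0, 4, 0, 7, 0]), (6, 0, [1, 5, 7, 2, 6, 7, 6, 6, 4, 1]), (5, 0, [1, 7, 4, 8, 6, 6, 0, 3, 7, 2]), (5, 0, [1, 1, 8, 1, 6, 7, 7, 2, 0, 0]),
   (5, 0, [6, 1, 6, 6, 8, 8, 8, 6]), (5, 0, [6, 1, 6, 7, 2, 4, 8, 5, 4]), (7, 0, [4, 8, 2, 8, 2, 4, 8, 1, 5, 3]), (6, 0, [1, 2, 8, 1, 5, 3, 1, 2, 0]),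
   (0, 0, []), (4, 0, [2, 0, 3, 1, 7, 2, 7, 5, 0, 4, 1]), (6, 0, [0, 4, 4, 8, 1, 4, 8, 2, 7]), (5, 0, [0, 2, 8, 8, 1, 1, 7, 4, 0, 0]),
   (5, 0, [1, 7, 7, 6, 6, 4, 1, 3, 0]), (7, 0, [2, 8, 0, 7, 3, 3, 1, 5, 2, 0]), (0, 0, []), (10, 0, [2, 6, 8, 0, 6, 7, 7, 2, 7]),
   (0, 0, []), (10, 0, [1, 3, 7, 6, 4, 8, 6, 3]), (7, 0, [2, 1, 7, 4, 0, 0, 7, 5, 0, 3]), (0, 0, []),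
   (0, 3, []), (0, 0, []), (4, 0, [1, 1, 3, 8, 1, 2, 1, 1, 7, 2, 1]), (9, 0, [1, 3, 6, 1, 7, 2, 8, 0, 0, 7, 0]),
   (6, 0, [1, 3, 1, 7, 4, 0, 7, 2, 1, 8]), (0, 0, []), (5, 0, [6, 8, 6, 1, 2, 0, 6, 3, 1]), (0, 0, []),
   (0, 0, []), (0, 0, []), (10, 0, [2, 3, 8, 1, 6, 7, 3, 3]), (0, 2, []),
   (0, 0, []), (0, 0, []), (0, 0, []), (0, 0, []),
   (0, 0, []), (9, 0, [1, 7, 0, 6, 0, 5, 4, 8, 2, 0]), (0, 1, []), (0, 2, []),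
   (3, 0, []), (11, 0, [4, 8, 6, 4, 8, 8, 6, 1, 2]), (0, 1, []), (0, 1, []),
   (4, 0, [2, 1, 3, 1, 4, 5, 8, 4, 0, 6, 2]), (5, 0, [1, 2, 0, 0, 2, 1, 7, 7, 2, 7, 0]), (5, 0, [2, 1, 7, 6, 8, 1, 6, 7, 5, 2]), (3, 0, []),
   (0, 5, []), (4, 0, [8, 8, 6, 8, 5, 4, 8, 0, 2]), (11, 0, [2, 6, 8, 5, 1, 4, 8, 4, 4, 0]), (5, 0, [1, 2, 1, 4, 1, 3, 7, 5, 5]),
   (0, 0, []), (0, 0, []), (9, 0, [2, 8, 2, 7, 0, 2, 7, 0]), (6, 0, [2, 1, 8, 6, 8, 5, 0, 3, 7]),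
   (7, 0, [2, 4, 0, 5, 0, 4, 0, 3, 0, 7]), (0, 0, []), (5, 0, [0, 4, 1, 8, 6, 6, 1, 2, 8, 0]), (11, 0, [2, 3, 3, 8, 6, 0, 4, 1, 3]),
   (0, 0, []), (10, 0, [6, 4, 8, 6, 6, 4, 8, 4, 0]), (0, 0, []), (0, 0, []),
   (4, 0, [1, 7, 7, 7, 2, 8, 1, 5, 8, 2, 0]), (0, 0, []), (0, 0, [])]

def cert0_11 : List (ℕ × ℕ × List ℕ) :=
  [(0, 0, []), (0, 0, []), (9, 0, [1, 5, 7, 2, 8, 5, 5, 4]), (0, 0, []),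
   (0, 0, []), (0, 0, []), (0, 0, []), (9, 0, [8, 2, 1, 8, 5, 8, 0, 4]),
   (10, 0, [5, 7, 5, 7, 3, 1, 3, 0]), (0, 0, []), (3, 0, []), (6, 0, [3, 6, 7, 4, 1, 2, 8, 1]),
   (0, 0, []), (0, 0, []), (0, 0, []), (0, 0, []),
   (9, 0, [1, 6, 1, 8, 6, 0, 2, 7, 5]), (0, 0, []), (0, 0, []), (3, 0, []),
   (0, 0, []), (0, 0, []), (6, 0, [0, 0, 3, 1, 2, 6, 8, 6, 0, 2]), (10, 0, [1, 2, 0, 7, 6, 8, 8, 5, 8]),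
   (0, 0, []), (0, 0, []), (9, 0, [1, 6, 3, 0, 2, 3, 1, 3, 2, 1]), (7, 0, [2, 7, 5, 7, 3, 1, 4, 6, 1]),
   (0, 0, []), (11, 0, [2, 5, 1, 4, 5, 8, 1, 3, 0, 6]), (4, 0, [0, 7, 2, 8, 1, 6, 1, 8, 4, 8]), (0, 1, []),
   (0, 1, []), (3, 0, []), (9, 0, [0, 2, 0, 0, 3, 1, 2, 0, 0, 7]), (4, 0, [0, 2, 3, 3, 8, 1, 4, 1, 3, 3, 0]),
   (7, 0, [4, 0, 3, 1, 8, 0, 7, 3, 1, 2]), (9, 0, [7, 7, 7, 2, 8, 0, 4, 6, 2, 0]), (0, 1, []), (0, 1, []),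
   (0, 1, []), (2, 0, []), (11, 0, [4, 4, 8, 2, 1, 8, 0, 0, 0]), (4, 0, [7, 6, 7, 2, 8, 0, 4, 8]),
   (0, 1, []), (5, 0, [2, 1, 8, 4, 8, 1, 8, 0, 2]), (0, 1, []), (4, 0, [1, 8, 8, 5, 4, 8, 1, 8, 0, 2]),
   (9, 0, [1, 2, 1, 8, 4, 6, 0, 3, 7, 4]), (9, 0, [1, 6, 8, 1, 5, 3, 8, 2, 1, 3, 0]), (4, 0, [1, 7, 0, 3, 3, 8, 5, 5, 2]), (7, 0, [2, 7, 4, 0, 2, 7, 3, 5]),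
   (0, 2, []), (3, 0, []), (0, 2, []), (7, 0, [4, 6, 4, 8, 1, 4, 8, 5, 2]),
   (0, 1, []), (9, 0, [1, 2, 7, 0, 6, 7, 2, 8, 5, 0, 5]), (0, 1, []), (3, 0, []),
   (0, 1, []), (6, 0, [0, 4, 0, 7, 2, 1, 7, 3, 3]), (5, 0, [1, 7, 4, 1, 4, 4, 0, 3, 7]), (0, 0, []),
   (0, 0, []), (6, 0, [1, 2, 3, 8, 0, 4, 8, 0, 0]), (0, 0, []), (7, 0, [2, 7, 7, 2, 4, 0, 0, 0, 2]),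
   (10, 0, [1, 3, 7, 4, 6, 6, 1]), (10, 0, [1, 3, 1, 7, 0, 5, 0, 2, 8, 6]), (0, 0, []), (4, 0, [1, 4, 6, 8, 2, 8, 0, 3, 3, 2, 1]),
   (7, 0, [2, 1, 1, 1, 3, 6, 1, 7, 6, 6, 0]), (5, 0, [0, 2, 8, 1, 5, 1, 7, 0, 0, 2, 1]), (0, 0, []), (0, 0, []),
   (0, 0, []), (0, 0, []), (0, 0, []), (0, 0, []),
   (6, 0, [0, 2, 3, 5, 7, 4, 8, 5, 3, 7]), (0, 0, []), (10, 0, [6, 6, 3, 1, 2, 7, 7, 5, 7]), (0, 0, []),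
   (0, 0, []), (2, 0, []), (7, 0, [2, 7, 0, 4, 8, 8, 0, 2, 8]), (0, 0, []),
   (11, 0, [2, 1, 8, 0, 2, 4, 1, 7, 7, 0]), (0, 0, []), (4, 0, [0, 3, 1, 8, 1, 2, 7, 0, 5, 5]), (11, 0, [6, 7, 3, 0, 5, 8, 4, 2]),
   (7, 0, [3, 1, 7, 3, 3, 0, 5, 2]), (0, 1, []), (4, 0, [1, 8, 0, 4, 5, 1, 3, 8, 2]), (9, 0, [2, 8, 5, 1, 7, 0, 0, 3, 2]),
   (0, 1, []), (0, 1, []), (0, 1, []), (9, 0, [1, 2, 4, 6, 4, 0, 7, 2, 7, 6]),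
   (0, 1, []), (4, 0, [2, 7, 6, 4, 6, 1, 7, 0, 2]), (2, 0, []), (3, 0, []),
   (0, 1, []), (0, 0, []), (10, 0, [2, 5, 1, 1, 2, 7, 7, 3, 1]), (0, 0, []),
   (10, 0, [1, 2, 0, 0, 4, 1, 8, 4, 0, 3]), (0, 0, []), (6, 0, [2, 8, 5, 0, 7, 7, 0, 3]), (0, 0, []),
   (0, 0, []), (0, 0, []), (0, 0, []), (0, 0, []),
   (0, 0, []), (6, 0, [5, 7, 7, 7, 2, 0, 6, 4, 0]), (4, 0, [0, 4, 8, 2, 7, 7, 3, 7, 3, 6, 2]), (0, 0, []),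
   (4, 0, [2, 1, 4, 1, 1, 7, 5, 3, 3, 0, 2]), (0, 1, []), (0, 1, []), (4, 0, [1, 7, 2, 7, 2, 3, 1, 4, 0]),
   (9, 0, [0, 2, 1, 3, 7, 0, 6, 0, 7, 5]), (4, 0, [1, 7, 6, 1, 2, 6, 3, 1, 5, 2, 0]), (4, 0, [2, 1, 4, 0, 3, 5, 7, 4, 8, 2]), (0, 2, []),
   (9, 0, [0, 2, 1, 6, 6, 7, 7, 3, 2, 1]), (9, 0, [5, 7, 2, 4, 1, 3, 1, 3, 1]), (5, 0, [1, 2, 1, 5, 8, 8, 2, 5, 1, 7]), (0, 1, []),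
   (9, 0, [0, 3, 6, 1, 7, 2, 5, 1, 1]), (9, 0, [5, 7, 2, 6, 3, 7, 6, 6]), (0, 1, []), (0, 0, []),
   (0, 0, []), (0, 0, []), (7, 0, [3, 8, 8, 2, 8, 1, 4, 0]), (10, 0, [1, 8, 5, 1, 7, 7, 4, 8, 0]),
   (0, 0, []), (5, 0, [5, 0, 7, 2, 8, 1, 8, 6, 2]), (0, 0, []), (4, 0, [2, 0, 5, 7, 0, 2, 5, 8, 1, 5]),
   (11, 0, [2, 6, 4, 0, 7, 5, 7, 0, 7, 0]), (9, 0, [1, 2, 8, 2, 4, 8, 4, 8, 5, 1]), (0, 0, []), (0, 0, []),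
   (6, 0, [1, 7, 3, 7, 6, 3, 7, 7, 2]), (0, 0, []), (11, 0, [2, 4, 6, 4, 6, 0, 7, 6, 4, 1]), (9, 0, [0, 4, 0, 2, 4, 5, 8, 4, 0, 0]),
   (6, 0, [2, 6, 8, 4, 1, 2, 5, 8, 0]), (0, 1, []), (0, 0, []), (10, 0, [1, 7, 0, 6, 4, 8, 1]),
   (6, 0, [0, 2, 4, 0, 2, 1, 1, 1, 7, 6]), (4, 0, [1, 7, 4, 1, 3, 0, 2, 8, 8, 1, 3]), (0, 0, []), (9, 0, [7, 2, 5, 8, 1, 3, 1, 4, 5]),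
   (11, 0, [2, 1, 8, 6, 3, 7, 7, 6, 7, 0]), (0, 0, []), (0, 1, []), (10, 0, [2, 6, 6, 7, 2, 3, 1, 4, 0]),
   (0, 0, []), (0, 0, []), (0, 0, []), (0, 0, []),
   (0, 0, []), (5, 0, [1, 4, 6, 0, 2, 3, 6, 6, 8, 1]), (11, 0, [2, 6, 4, 0, 7, 7, 7, 0, 0]), (10, 0, [1, 8, 0, 5, 0, 7, 3, 1, 1]),
   (0, 0, []), (0, 0, []), (0, 0, []), (4, 0, [0, 4, 5, 1, 1, 7, 4, 0, 2, 7]),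
   (6, 0, [0, 0, 6, 7, 3, 5, 1, 1, 3, 2]), (7, 0, [2, 8, 1, 8, 4, 0, 6, 0, 7, 0]), (9, 0, [1, 4, 0, 7, 2, 3, 0, 4, 2, 0]), (0, 0, []),
   (0, 1, []), (5, 0, [1, 1, 6, 8, 1, 7, 0, 2, 1]), (0, 2, []), (4, 0, [2, 1, 8, 0, 4, 1, 8, 8, 4, 2]),
   (4, 0, [0, 2, 4, 5, 0, 3, 0, 3, 8, 2, 0]), (0, 2, []), (3, 0, []), (0, 1, []),
   (9, 0, [7, 6, 6, 1, 7, 7, 5]), (0, 1, []), (9, 0, [7, 7, 0, 5, 3, 7, 4]), (3, 0, []),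
   (3, 0, []), (0, 1, []), (9, 0, [1, 7, 2, 8, 0, 2, 0, 5, 8, 1]), (0, 1, []),
   (4, 0, [0, 5, 3, 8, 0, 4, 0, 0, 2]), (7, 0, [7, 7, 3, 1, 1, 8, 0, 2]), (0, 1, []), (11, 0, [2, 3, 7, 6, 8, 1, 8, 4, 4]),
   (4, 0, [0, 3, 8, 8, 1, 7, 0, 0, 0, 2]), (0, 1, []), (4, 0, [2, 1, 7, 5, 5, 8, 0, 3, 7, 2]), (0, 1, []),
   (11, 0, [3, 5, 7, 7, 5, 7, 6, 2]), (0, 1, []), (3, 0, []), (3, 0, []),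
   (7, 0, [5, 3, 7, 4, 5, 0, 5, 2]), (0, 2, []), (0, 0, []), (0, 0, []),
   (10, 0, [2, 8, 2, 5, 4, 8, 5, 0, 0, 0]), (0, 0, []), (0, 0, []), (0, 0, []),
   (0, 0, []), (6, 0, [0, 2, 1, 1, 1, 8, 5, 8, 4]), (0, 0, []), (0, 0, []),
   (10, 0, [2, 0, 3, 1, 8, 4, 8, 0]), (0, 0, []), (0, 0, []), (6, 0, [1, 2, 7, 3, 5, 5, 7, 2, 7, 2, 0]),
   (4, 0, [1, 4, 4, 0, 7, 2, 0, 3, 1, 8]), (0, 1, []), (4, 0, [2, 3, 3, 0, 7, 7, 5, 2]), (0, 1, []),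
   (0, 1, []), (0, 1, []), (9, 0, [2, 6, 1, 5, 3, 8, 5, 3, 2]), (7, 0, [2, 4, 0, 4, 5, 1, 2, 3, 1, 1]),
   (4, 0, [0, 3, 1, 8, 1, 2, 6, 7]), (0, 1, []), (4, 0, [8, 4, 5, 7, 4, 8, 4, 2]), (9, 0, [1, 5, 7, 2, 0, 3, 1, 7, 3, 0]),
   (2, 0, []), (3, 0, []), (0, 1, []), (11, 0, [7, 3, 3, 5, 8, 2, 4]),
   (4, 0, [0, 7, 7, 4, 0, 2, 8, 5, 5]), (0, 0, []), (0, 0, []), (0, 0, []),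
   (0, 0, []), (0, 0, []), (11, 0, [2, 8, 0, 2, 5, 7, 7, 3, 0, 4]), (0, 0, []),
   (4, 0, [1, 3, 6, 7, 2, 8, 8, 2]), (7, 0, [3, 1, 7, 0, 7, 2, 8, 0, 2, 0]), (11, 0, [2, 1, 8, 4, 4, 0, 2, 8, 0, 0]), (0, 0, []),
   (7, 0, [2, 5, 1, 1, 1, 7, 7, 3, 8, 2]), (0, 0, []), (4, 0, [0, 3, 0, 2, 5, 7, 2, 1, 3, 7, 0]), (0, 0, []),
   (0, 0, []), (0, 0, []), (5, 0, [6, 7, 3, 1, 7, 0, 6]), (0, 0, []),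
   (0, 0, []), (6, 0, [0, 2, 8, 6, 1, 4, 1, 5, 7, 0]), (10, 0, [4, 1, 5, 4, 8, 4, 8, 2, 8]), (0, 0, []),
   (0, 0, []), (0, 0, []), (4, 0, [8, 1, 8, 2, 1, 4, 5, 0, 3]), (0, 0, []),
   (9, 0, [7, 0, 3, 7, 2, 8, 2, 8, 1]), (0, 0, []), (4, 0, [3, 0, 2, 6, 0, 7, 7, 4, 0]), (0, 0, []),
   (7, 0, [6, 4, 8, 0, 0, 4, 8, 2, 1]), (0, 0, []), (4, 0, [0, 7, 2, 1, 6, 8, 2, 8, 4, 2]), (0, 0, []),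
   (0, 0, []), (0, 0, []), (11, 0, [2, 5, 7, 4, 6, 6, 1, 7, 6]), (4, 0, [1, 5, 1, 3, 8, 8, 4, 4, 2, 1, 1]),
   (11, 0, [2, 7, 6, 0, 4, 1, 2, 0, 4, 0]), (0, 0, []), (7, 0, [3, 0, 2, 8, 5, 3, 7, 3]), (0, 0, []),
   (0, 0, []), (4, 0, [0, 7, 5, 4, 8, 8, 6, 1, 4, 2]), (5, 0, [2, 0, 4, 6, 1, 5, 5, 3, 2]), (4, 0, [0, 0, 7, 7, 4, 8, 2]),
   (2, 0, []), (4, 0, [1, 7, 4, 1, 1, 7, 3, 1, 2]), (0, 1, []), (0, 1, []),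
   (3, 0, []), (11, 0, [2, 8, 1, 7, 2, 7, 4, 1, 5]), (0, 3, []), (7, 0, [3, 1, 7, 4, 0, 0, 3, 2]),
   (0, 1, []), (0, 1, []), (0, 1, []), (5, 0, [0, 2, 8, 4, 1, 2, 0, 7, 7, 5]),
   (0, 0, []), (9, 0, [8, 1, 2, 4, 5, 1, 1, 3, 1]), (10, 0, [0, 4, 8, 6, 6, 1, 2, 4, 0, 0, 0]), (4, 0, [1, 3, 6, 0, 2, 7, 2, 4, 0, 7, 4]),
   (5, 0, [1, 2, 8, 5, 0, 0, 7, 7, 3]), (6, 0, [1, 4, 1, 4, 1, 3, 5, 1, 1]), (5, 0, [6, 8, 1, 2, 7, 0, 4]), (0, 0, []),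
   (6, 0, [2, 6, 1, 8, 5, 4, 4, 0, 7]), (9, 0, [6, 8, 1, 2, 6, 7, 4, 6, 2]), (0, 0, []), (0, 0, []),
   (0, 0, []), (10, 0, [1, 4, 6, 1, 7, 4, 4, 1, 2]), (0, 0, []), (5, 0, [1, 2, 4, 5, 0, 4, 0, 5, 5, 3]),
   (0, 1, []), (5, 0, [8, 5, 0, 5, 8, 1, 2, 8, 1]), (0, 2, []), (4, 0, [2, 1, 7, 3, 8, 5, 5, 4, 0, 2]),
   (9, 0, [2, 5, 4, 0, 2]), (0, 1, []), (11, 0, [4, 6, 8, 8, 1, 7, 6, 7, 2]), (0, 1, []),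
   (3, 0, []), (11, 0, [7, 6, 6, 3, 8, 4, 1, 2]), (3, 0, []), (4, 0, [1, 4, 1, 8, 8, 2, 8, 6, 6, 0]),
   (0, 2, []), (5, 0, [1, 3, 5, 8, 8, 2, 7, 0, 0, 2]), (0, 0, []), (0, 0, []),
   (10, 0, [0, 4, 0, 3, 0, 5, 8, 8, 1]), (0, 0, []), (0, 0, []), (3, 0, []),
   (0, 0, []), (0, 0, []), (9, 0, [1, 2, 1, 8, 5, 3, 8, 1, 7]), (0, 0, []),
   (9, 0, [1, 5, 7, 2, 8, 4, 6]), (0, 0, []), (6, 0, [1, 3, 1, 4, 0, 0, 7, 2, 0]), (0, 0, []),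
   (0, 0, []), (0, 0, []), (0, 0, []), (9, 0, [1, 2, 0, 4, 1, 2, 7, 3, 1, 8, 4]),
   (6, 0, [0, 2, 8, 6, 1, 4, 1, 7, 5, 5]), (0, 0, []), (5, 0, [6, 7, 3, 1, 6, 7, 5]), (0, 0, []),
   (0, 0, []), (4, 0, [3, 1, 1, 2, 3, 8, 6, 0, 2]), (0, 0, []), (0, 0, []),
   (0, 0, []), (0, 0, []), (0, 0, []), (10, 0, [1, 8, 4, 4, 1, 4, 0, 0, 2, 1]),
   (9, 0, [1, 3, 6, 0, 2, 3, 6, 7, 7, 3, 0]), (9, 0, [1, 1, 6, 7, 2, 3, 1, 5, 1, 3]), (0, 1, []), (9, 0, [0, 2, 8, 0, 4, 1, 3, 7, 3, 0]),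
   (4, 0, [2, 1, 3, 5, 8, 6, 0, 6, 2]), (4, 0, [0, 7, 0, 2, 8, 1, 1, 2, 7, 7]), (0, 1, []), (4, 0, [2, 1, 5, 7, 6, 4, 0, 5, 5, 2]),
   (0, 1, []), (9, 0, [1, 1, 3, 8, 1, 2, 5, 8, 1, 4]), (5, 0, [2, 8, 4, 1, 1, 6, 3, 1, 2]), (4, 0, [1, 7, 7, 3, 8, 2, 8, 5, 4, 2, 0]),
   (9, 0, [5, 7, 2, 3, 6, 3, 0, 5]), (0, 1, []), (0, 1, []), (11, 0, [2, 0, 3, 7, 7, 2, 7, 4, 6, 8]),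
   (0, 0, []), (4, 0, [1, 3, 3, 1, 7, 2, 0, 6, 4, 8]), (0, 0, []), (0, 0, []),
   (0, 0, []), (11, 0, [2, 1, 1, 8, 2, 8, 6, 6, 4, 1]), (4, 0, [1, 5, 7, 7, 7, 5, 0, 2, 7, 4]), (7, 0, [3, 0, 2, 5, 1, 7, 0, 0, 3]),
   (0, 0, []), (0, 0, []), (7, 0, [4, 1, 5, 7, 2, 4, 0, 4, 4, 0]), (0, 0, []),
   (4, 0, [0, 3, 1, 8, 2, 6, 7, 4, 2, 1]), (0, 0, []), (0, 0, []), (0, 0, []),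
   (11, 0, [2, 0, 7, 6, 8, 4, 0, 7, 6, 7]), (0, 0, []), (9, 0, [1, 5, 1, 5, 4, 8, 8, 2, 1, 1]), (0, 0, []),
   (0, 0, []), (5, 0, [0, 2, 3, 7, 4, 8, 8, 6, 6, 3]), (6, 0, [1, 3, 5, 4, 8, 0, 2, 8, 0, 6]), (7, 0, [2, 5, 4, 0, 4, 4, 8, 4, 1, 7]),
   (4, 0, [0, 7, 2, 8, 8, 6, 1, 3, 1, 3, 1]), (0, 0, []), (10, 0, [2, 8, 6, 7, 0, 2, 4, 8, 2, 0]), (0, 0, []),
   (0, 0, []), (0, 1, []), (0, 0, []), (10, 0, [1, 6, 8, 8, 4, 1, 8, 2, 7, 3]),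
   (6, 0, [0, 2, 3, 7, 5, 7, 2, 8, 6, 6, 0]), (0, 0, []), (0, 0, []), (0, 0, []),
   (6, 0, [2, 6, 7, 7, 2, 1, 7, 0, 2, 0]), (4, 0, [2, 8, 2, 8, 6, 1, 5, 7, 3, 1]), (0, 0, []), (0, 0, []),
   (10, 0, [2, 3, 3, 1, 8, 2, 6, 8]), (0, 0, []), (11, 0, [4, 8, 5, 7, 3, 6, 8, 2, 8]), (7, 0, [4, 6, 0, 2, 8, 0, 2, 3, 7, 0]),
   (4, 0, [1, 3, 1, 6, 3, 1, 2, 8, 5, 1, 2]), (0, 1, []), (11, 0, [2, 4, 4, 1, 3, 3, 1, 7, 0]), (4, 0, [8, 1, 2, 7, 7, 4, 8, 1, 1]),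
   (11, 0, [5, 7, 4, 1, 5, 4, 8, 2]), (7, 0, [4, 1, 8, 5, 0, 0, 4, 6, 2]), (7, 0, [2, 0, 7, 7, 5, 0, 4, 8, 4]), (0, 1, []),
   (0, 1, []), (3, 0, []), (4, 0, [2, 1, 3, 7, 2, 7, 5, 7, 3, 2]), (0, 1, []),
   (0, 2, []), (3, 0, []), (0, 1, []), (4, 0, [0, 0, 3, 6, 7, 7, 4, 4, 0, 2]),
   (0, 1, []), (9, 0, [5, 8, 2, 8, 2, 0, 0, 7]), (5, 0, [8, 0, 2, 3, 7, 6, 1, 7, 6]), (0, 1, []),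
   (3, 0, []), (7, 0, [3, 1, 7, 7, 7, 2, 3]), (7, 0, [2, 7, 4, 0, 2, 7, 6, 3, 6]), (3, 0, []),
   (0, 4, []), (0, 1, []), (9, 0, [7, 7, 2, 8, 0, 2, 8, 8, 0]), (9, 0, [8, 0, 3, 7, 6, 1, 2, 8, 0]),
   (0, 3, []), (4, 0, [1, 1, 7, 6, 1, 3, 1, 8, 2]), (0, 0, []), (9, 0, [0, 2, 8, 5, 1, 2, 7, 3, 8, 5]),
   (0, 0, []), (9, 0, [2, 5, 5, 7, 2, 8, 6, 4, 0]), (0, 0, []), (10, 0, [1, 3, 0, 2, 3, 1, 4, 5, 8, 1]),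
   (0, 0, []), (6, 0, [1, 8, 6, 0, 4, 1, 8, 4, 2, 0]), (11, 0, [2, 7, 7, 2, 4, 1, 5, 5, 0, 5]), (10, 0, [1, 2, 1, 3, 5, 8, 4, 0, 3, 0]),
   (11, 0, [2, 4, 1, 1, 6, 3, 1, 4, 8, 2]), (0, 0, []), (0, 0, []), (4, 0, [1, 2, 7, 4, 0, 5, 3, 1, 3]),
   (6, 0, [1, 2, 8, 5, 7, 6, 7, 4, 4, 0]), (9, 0, [1, 5, 1, 2, 8, 8, 4, 0, 7, 5]), (0, 0, []), (0, 0, []),
   (9, 0, [1, 3, 8, 6, 0, 2, 1, 8, 1, 8, 1]), (10, 0, [3, 7, 0, 2, 1, 1, 3, 1]), (0, 0, []), (0, 0, []),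
   (0, 0, []), (10, 0, [0, 2, 4, 1, 8, 8, 6, 1, 4, 4]), (0, 0, []), (0, 0, []),
   (10, 0, [0, 6, 6, 4, 0, 5, 3, 2, 1]), (0, 0, []), (0, 0, []), (6, 0, [2, 3, 1, 6, 7, 5, 8, 1, 4]),
   (6, 0, [0, 2, 1, 5, 8, 6, 1, 4, 4]), (4, 0, [0, 7, 2, 8, 0, 6, 4, 8, 5, 1, 3]), (0, 0, []), (6, 0, [4, 0, 4, 8, 5, 7, 2, 7, 0]),
   (10, 0, [4, 0, 3, 8, 1, 2, 7, 4, 5, 0]), (0, 0, []), (0, 0, []), (0, 0, []),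
   (0, 0, []), (10, 0, [0, 2, 1, 1, 1, 8, 5, 8, 4, 2]), (0, 0, []), (0, 0, []),
   (0, 0, []), (0, 0, []), (0, 0, [])]

def cert0_12 : List (ℕ × ℕ × List ℕ) :=
  [(0, 0, []), (0, 0, []), (0, 5, []), (0, 0, []),
   (10, 0, [2, 8, 8, 6, 6, 8, 1, 6, 3]), (0, 1, []), (0, 0, []), (9, 0, [1, 5, 7, 3, 8, 6, 3, 7, 6, 2]),
   (0, 0, []), (6, 0, [1, 7, 5, 4, 8, 8, 2, 4, 8, 6]), (5, 0, [0, 6, 3, 8, 2, 7, 0, 0, 7, 0]), (0, 0, []),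
   (0, 0, []), (4, 0, [2, 1, 5, 7, 2, 4, 5, 0, 4]), (0, 0, []), (6, 0, [0, 0, 6, 3, 0, 2, 6, 8, 1, 1]),
   (7, 0, [2, 4, 0, 2, 3, 6, 3, 0, 7, 0]), (0, 0, []), (0, 0, []), (0, 0, []),
   (10, 0, [0, 2, 6, 7, 7, 3, 6, 7, 0, 4]), (4, 0, [7, 7, 0, 0, 7, 2, 0, 7, 0]), (6, 0, [1, 3, 8, 2, 1, 8, 0, 4, 1]), (0, 1, []),
   (0, 0, []), (11, 0, [4, 1, 2, 8, 1, 6, 6, 8, 5, 0]), (0, 0, []), (10, 0, [1, 2, 0, 6, 0, 6, 7, 2, 7]),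
   (0, 0, []), (0, 0, []), (9, 0, [0, 2, 8, 5, 5, 8, 8, 5, 8, 0]), (0, 1, []),
   (0, 1, []), (4, 0, [0, 0, 4, 8, 8, 5, 4, 1, 2]), (11, 0, [7, 4, 8, 0, 3, 0, 3, 2]), (2, 0, []),
   (4, 0, [7, 2, 1, 4, 1, 3, 0, 4, 2, 0]), (0, 1, []), (4, 0, [2, 8, 8, 1, 4, 6, 4, 2]), (3, 0, []),
   (0, 1, []), (7, 0, [2, 7, 7, 0, 7, 7, 3, 8, 2, 1]), (0, 1, []), (9, 0, [2, 1, 7, 6, 3, 8, 6, 2]),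
   (0, 1, []), (0, 0, []), (0, 0, []), (7, 0, [2, 0, 6, 0, 7, 0, 3, 1, 3, 0]),
   (0, 0, []), (4, 0, [0, 5, 7, 0, 2, 5, 8, 1, 6, 2]), (0, 0, []), (6, 0, [0, 2, 1, 1, 7, 7, 5, 8, 1, 5]),
   (0, 0, []), (10, 0, [6, 3, 7, 3, 1, 3, 0, 7, 0]), (0, 0, []), (5, 0, [1, 2, 3, 7, 7, 3, 8, 0, 2, 1]),
   (0, 0, []), (0, 0, []), (9, 0, [1, 5, 3, 8, 2, 8, 8, 4, 0]), (11, 0, [4, 1, 2, 8, 0, 6, 7, 0, 6, 0]),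
   (0, 1, []), (0, 1, []), (5, 0, [1, 8, 5, 1, 8, 0, 0, 2, 1, 7, 0]), (11, 0, [4, 8, 0, 2, 7, 2, 0, 5, 8, 1]),
   (9, 0, [2, 1, 1, 1, 6, 1, 2]), (5, 0, [1, 2, 4, 5, 0, 4, 0, 3, 5]), (0, 1, []), (0, 3, []),
   (11, 0, [4, 1, 8, 8, 4, 8, 6, 8, 2]), (4, 0, [1, 7, 7, 2, 5, 7, 3, 0, 6, 6, 0]), (3, 0, []), (0, 2, []),
   (5, 0, [0, 2, 5, 3, 1, 7, 3, 0, 6, 6]), (3, 0, []), (4, 0, [1, 8, 8, 1, 8, 0, 7, 0, 6, 2]), (0, 0, []),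
   (0, 0, []), (0, 0, []), (0, 0, []), (0, 0, []),
   (0, 0, []), (0, 0, []), (11, 0, [7, 0, 7, 2, 8, 8, 4, 0]), (0, 0, []),
   (0, 0, []), (7, 0, [7, 2, 0, 7, 3, 1, 4]), (7, 0, [2, 8, 8, 0, 2, 4, 5, 7, 4, 5]), (11, 0, [7, 2, 0, 7, 3, 6, 8, 6, 2]),
   (0, 0, []), (4, 0, [1, 5, 3, 8, 2, 7, 4, 6, 0, 2]), (5, 0, [8, 1, 7, 5, 4, 8, 4, 1]), (0, 0, []),
   (6, 0, [0, 2, 6, 3, 1, 3, 1, 6, 8, 4]), (0, 0, []), (5, 0, [1, 7, 0, 4, 1, 8, 8, 2, 7, 3, 1]), (11, 0, [7, 2, 4, 1, 3, 1, 8, 4, 6]),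
   (7, 0, [2, 7, 0, 7, 3, 0, 3, 8, 6, 4, 0]), (10, 0, [0, 3, 8, 1, 7, 5, 5, 2, 0]), (5, 0, [1, 4, 1, 2, 7, 6, 8, 5, 1, 1]), (5, 0, [5, 0, 2, 6, 3, 8, 8, 2, 8, 0]),
   (0, 0, []), (0, 0, []), (0, 0, []), (0, 0, []),
   (0, 0, []), (0, 0, []), (5, 0, [1, 2, 7, 5, 0, 2, 8, 4]), (0, 0, []),
   (6, 0, [0, 4, 0, 3, 0, 5, 8, 8, 1, 2]), (0, 0, []), (3, 0, []), (0, 0, []),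
   (0, 0, []), (0, 0, []), (10, 0, [1, 3, 1, 4, 0, 0, 3, 0, 2, 1]), (0, 0, []),
   (0, 0, []), (0, 0, []), (0, 0, []), (5, 0, [1, 2, 1, 8, 5, 3, 8, 1, 7, 2]),
   (7, 0, [2, 1, 8, 2, 0, 3, 0, 7, 7, 0]), (0, 1, []), (5, 0, [2, 6, 3, 0, 5, 3, 1, 2]), (11, 0, [4, 1, 4, 5, 3, 7, 0, 7, 0, 2]),
   (0, 1, []), (3, 0, []), (0, 4, []), (4, 0, [2, 1, 8, 8, 4, 8, 4, 4, 2]),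
   (0, 1, []), (0, 2, []), (0, 1, []), (0, 1, []),
   (2, 0, []), (5, 0, [1, 7, 4, 8, 8, 0, 4, 1, 4, 1]), (0, 1, []), (10, 0, [0, 4, 1, 2, 5, 1, 1, 7, 0, 2]),
   (7, 0, [4, 8, 2, 6, 3, 1, 3, 1, 4, 0]), (10, 0, [1, 8, 5, 5, 8, 2, 8, 0, 6, 2]), (0, 0, []), (6, 0, [2, 6, 4, 8, 6, 0, 3, 1, 8]),
   (0, 0, []), (0, 0, []), (0, 0, []), (4, 0, [2, 8, 1, 7, 5, 4, 5, 8, 2, 1]),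
   (0, 0, []), (0, 0, []), (5, 0, [2, 1, 8, 8, 2, 7, 5, 8, 5, 0]), (5, 0, [1, 2, 8, 1, 6, 7, 6, 4, 4, 0]),
   (6, 0, [1, 7, 5, 4, 4, 0, 5, 3, 2]), (7, 0, [2, 5, 7, 7, 2, 1, 5, 7, 5, 0, 0]), (0, 0, []), (7, 0, [2, 7, 7, 7, 4, 0, 7, 2, 0]),
   (0, 0, []), (0, 0, []), (11, 0, [2, 1, 8, 1, 8, 4, 4, 8, 5]), (0, 0, []),
   (6, 0, [0, 2, 3, 8, 2, 7, 4, 4, 5, 0]), (0, 0, []), (0, 0, []), (10, 0, [3, 6, 1, 2, 7, 3, 7, 3, 0]),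
   (0, 0, []), (1, 0, []), (0, 0, []), (0, 1, []),
   (0, 0, []), (3, 0, []), (0, 2, []), (11, 0, [4, 6, 4, 8, 8, 4, 6, 0, 2]),
   (0, 2, []), (11, 0, [2, 8, 6, 8, 1, 8, 0, 2, 1, 7]), (0, 2, []), (5, 0, [1, 2, 4, 5, 0, 4, 0, 3, 6]),
   (5, 0, [0, 6, 4, 0, 2, 4, 8, 0, 5, 0]), (9, 0, [2, 6, 3, 3, 7, 2, 5]), (4, 0, [2, 1, 3, 1, 7, 3, 7, 3, 7, 2]), (5, 0, [0, 2, 8, 5, 8, 5, 1, 7, 4, 1]),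
   (0, 2, []), (4, 0, [1, 8, 8, 1, 8, 0, 7, 0, 5, 2]), (3, 0, []), (0, 2, []),
   (9, 0, [1, 1, 2, 8, 4, 1, 7, 0, 7, 0]), (4, 0, [2, 0, 5, 7, 3, 5, 3, 0, 2, 8]), (11, 0, [4, 1, 2, 8, 0, 3, 6, 1]), (0, 0, []),
   (0, 0, []), (7, 0, [2, 0, 7, 7, 2, 6, 3, 7, 3, 1]), (0, 0, []), (10, 0, [5, 0, 4, 8, 4, 0, 7, 3, 0]),
   (0, 0, []), (5, 0, [5, 7, 3, 7, 2, 4, 1, 4, 0]), (0, 0, []), (0, 0, []),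
   (0, 0, []), (6, 0, [4, 1, 7, 2, 8, 8, 0, 6, 0]), (0, 0, []), (0, 0, []),
   (11, 0, [7, 2, 0, 3, 0, 4, 5, 8, 1]), (0, 0, []), (0, 0, []), (7, 0, [7, 7, 2, 1, 1, 3, 0, 7, 3, 0]),
   (0, 0, []), (0, 0, []), (6, 0, [1, 2, 1, 7, 6, 6, 8, 1, 7, 2]), (0, 0, []),
   (0, 0, []), (0, 5, []), (10, 0, [6, 1, 2, 0, 6, 3, 6, 8, 2]), (0, 0, []),
   (0, 0, []), (1, 0, []), (0, 0, []), (0, 0, []),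
   (7, 0, [7, 3, 6, 1, 2, 3, 8, 1, 5]), (1, 0, []), (0, 0, []), (0, 1, []),
   (0, 0, []), (10, 0, [1, 2, 1, 7, 6, 6, 8, 1, 7]), (0, 0, []), (0, 0, []),
   (11, 0, [2, 8, 5, 7, 3, 6, 7, 7, 7, 0]), (0, 0, []), (0, 0, []), (6, 0, [6, 1, 2, 0, 6, 3, 6, 8]),
   (0, 0, []), (5, 0, [1, 1, 2, 3, 6, 8, 2, 1, 7, 3]), (0, 1, []), (0, 4, []),
   (0, 4, []), (0, 1, []), (0, 1, []), (4, 0, [0, 7, 0, 2, 4, 1, 8, 0, 7, 3]),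
   (0, 1, []), (7, 0, [3, 8, 8, 1, 5, 8, 6, 1, 2]), (5, 0, [2, 5, 1, 8, 5, 0, 7, 0, 2]), (7, 0, [3, 6, 0, 3, 6, 7, 2]),
   (5, 0, [6, 0, 5, 3, 5, 7, 2, 7, 5]), (5, 0, [1, 1, 8, 8, 0, 4, 1, 2, 7, 6]), (0, 1, []), (3, 0, []),
   (7, 0, [2, 1, 8, 4, 0, 0, 4, 1, 7, 6, 0]), (0, 0, []), (10, 0, [1, 3, 5, 4, 8, 0, 2, 8, 0, 2]), (11, 0, [2, 4, 8, 0, 3, 6, 3, 0, 7, 2, 0]),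
   (0, 0, []), (0, 0, []), (0, 0, []), (9, 0, [1, 7, 2, 5, 0, 2, 7, 3, 7]),
   (6, 0, [0, 2, 7, 5, 7, 7, 0, 6, 3]), (0, 0, []), (0, 0, []), (0, 0, []),
   (5, 0, [6, 1, 3, 3, 8, 4, 0, 2, 0]), (0, 1, []), (4, 0, [1, 3, 0, 3, 0, 5, 4, 0, 2, 7, 3]), (5, 0, [1, 8, 2, 7, 4, 0, 7, 7, 4, 0, 6]),
   (0, 0, []), (0, 0, []), (0, 0, []), (9, 0, [0, 2, 5, 7, 0, 0, 3, 8, 1, 3, 0]),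
   (6, 0, [0, 4, 8, 2, 5, 8, 6, 1, 2, 1]), (0, 0, []), (10, 0, [0, 4, 8, 2, 5, 8, 2, 0, 0]), (4, 0, [7, 6, 3, 8, 1, 7, 7, 2, 7, 3]),
   (0, 0, []), (0, 0, []), (0, 0, []), (0, 0, []),
   (0, 0, []), (0, 0, []), (6, 0, [0, 0, 7, 5, 8, 5, 8, 2, 7, 6]), (0, 0, []),
   (0, 0, []), (0, 0, []), (5, 0, [6, 1, 2, 6, 8, 0, 4, 1, 2]), (10, 0, [1, 7, 6, 6, 7, 2, 8, 4, 4]),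
   (0, 0, []), (5, 0, [1, 5, 7, 2, 8, 6, 6, 4, 2]), (0, 0, []), (0, 0, []),
   (0, 0, []), (0, 0, []), (0, 0, []), (0, 0, []),
   (3, 0, []), (3, 0, []), (0, 1, []), (0, 1, []),
   (11, 0, [7, 6, 3, 0, 2, 7, 6, 4, 1]), (5, 0, [2, 7, 7, 7, 4, 1, 3, 2]), (5, 0, [0, 4, 6, 1, 7, 2, 8, 5, 1, 4, 2]), (0, 1, []),
   (3, 0, []), (9, 0, [2, 5, 5, 8, 8, 1, 7, 4, 2]), (4, 0, [0, 4, 6, 8, 2, 5, 8, 8, 0, 6]), (0, 1, []),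
   (11, 0, [2, 8, 4, 6, 4, 0, 5, 3, 1]), (4, 0, [0, 7, 3, 7, 4, 8, 4, 4, 0, 2]), (5, 0, [1, 2, 1, 4, 1, 3, 5, 7, 0, 5]), (0, 1, []),
   (6, 0, [3, 5, 4, 1, 3, 6, 1, 3, 2]), (0, 0, []), (0, 0, []), (10, 0, [1, 5, 4, 0, 3, 6, 1, 2, 0, 0]),
   (5, 0, [5, 8, 5, 4, 4, 0, 2, 1, 3]), (0, 0, []), (7, 0, [2, 0, 3, 5, 7, 3, 8, 4, 8, 4, 1]), (6, 0, [1, 4, 0, 3, 6, 8, 0, 7, 7, 2, 0]),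
   (10, 0, [1, 7, 3, 7, 3, 1, 2, 7, 0, 0]), (5, 0, [0, 2, 0, 4, 1, 2, 8, 6, 8, 0, 0]), (0, 0, []), (0, 0, []),
   (0, 0, []), (4, 0, [0, 7, 2, 4, 1, 6, 7, 6, 8, 8]), (7, 0, [2, 5, 7, 7, 2, 1, 7, 5, 0]), (5, 0, [6, 8, 0, 7, 7, 4, 5, 1, 3]),
   (0, 1, []), (0, 1, []), (7, 0, [4, 5, 8, 8, 8, 1, 5, 3, 1, 2]), (11, 0, [3, 1, 2, 8, 6, 7, 0, 4, 0]),
   (0, 1, []), (3, 0, []), (2, 0, []), (0, 1, []),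
   (5, 0, [8, 0, 7, 0, 2, 5, 0, 4, 1]), (0, 1, []), (4, 0, [0, 3, 0, 2, 5, 7, 2, 7, 4, 1]), (0, 1, []),
   (0, 1, []), (0, 1, []), (9, 0, [2, 6, 7, 4, 8, 0, 5, 2]), (0, 1, []),
   (5, 0, [1, 5, 1, 2, 7, 4, 4, 0, 5, 7]), (3, 0, []), (0, 1, []), (11, 0, [2, 5, 5, 4, 8, 2, 4, 1]),
   (0, 1, []), (5, 0, [2, 7, 7, 6, 4, 0, 4, 0, 2]), (0, 1, []), (5, 0, [0, 4, 6, 1, 7, 2, 8, 8, 2]),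
   (4, 0, [7, 4, 4, 1, 8, 0, 5, 2]), (4, 0, [8, 2, 8, 1, 6, 3, 3, 8, 1]), (3, 0, []), (11, 0, [4, 5, 1, 7, 6, 0, 4, 0, 0, 2]),
   (0, 1, []), (0, 0, []), (0, 1, []), (11, 0, [2, 0, 3, 1, 7, 2, 3, 0, 7]),
   (7, 0, [2, 5, 8, 1, 7, 0, 4, 1, 3, 0]), (6, 0, [1, 4, 5, 8, 8, 4, 1, 3, 2, 0]), (0, 0, []), (0, 0, []),
   (0, 0, []), (10, 0, [0, 3, 1, 3, 0, 3, 0, 5, 2, 0]), (0, 0, []), (10, 0, [0, 2, 8, 5, 8, 5, 4, 4, 0]),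
   (4, 0, [2, 0, 4, 8, 6, 0, 5, 7, 2, 7]), (0, 0, []), (6, 0, [1, 2, 3, 6, 7, 2, 8, 6, 1, 5]), (0, 0, []),
   (0, 1, []), (0, 1, []), (5, 0, [6, 6, 8, 8, 0, 7, 5, 3, 0]), (0, 1, []),
   (0, 1, []), (7, 0, [5, 7, 6, 3, 1, 8, 4, 5, 2]), (0, 1, []), (0, 1, []),
   (5, 0, [1, 3, 5, 1, 2, 6, 6, 1, 3]), (4, 0, [2, 1, 8, 8, 4, 5, 1, 3, 3, 2]), (0, 1, []), (2, 0, []),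
   (0, 1, []), (11, 0, [5, 3, 8, 5, 0, 7, 6, 0, 2]), (3, 0, []), (5, 0, [0, 2, 5, 5, 8, 2, 6, 8, 2, 0]),
   (0, 0, []), (5, 0, [2, 5, 7, 7, 7, 2, 7, 5, 0]), (0, 0, []), (6, 0, [1, 5, 7, 7, 2, 5, 7, 3, 1]),
   (10, 0, [1, 7, 7, 2, 1, 7, 3, 8, 0]), (0, 3, []), (0, 0, []), (0, 0, []),
   (6, 0, [3, 7, 2, 5, 1, 4, 8, 2, 0]), (0, 0, []), (0, 0, []), (0, 0, []),
   (0, 0, []), (6, 0, [1, 3, 5, 8, 1, 2, 1, 3, 7, 0]), (10, 0, [1, 3, 3, 8, 0, 7, 2, 1, 5, 2]), (0, 0, []),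
   (6, 0, [1, 5, 3, 8, 4, 6, 8, 4, 2, 1]), (0, 0, []), (5, 0, [1, 1, 8, 2, 7, 5, 4, 8, 8, 6, 1]), (0, 0, []),
   (5, 0, [0, 2, 0, 3, 6, 0, 7, 5, 2, 0]), (0, 0, []), (0, 0, []), (6, 0, [2, 3, 7, 7, 7, 3, 6, 6, 7]),
   (6, 0, [2, 8, 0, 3, 1, 6, 3, 1, 1]), (0, 0, []), (0, 0, []), (0, 0, []),
   (0, 1, []), (0, 0, []), (10, 0, [1, 8, 2, 5, 5, 8, 0, 3, 8, 0]), (0, 0, []),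
   (0, 1, []), (0, 0, []), (0, 2, []), (5, 0, [0, 4, 8, 5, 0, 2, 7, 4, 1]),
   (6, 0, [1, 7, 5, 4, 8, 8, 2, 4, 8, 5]), (0, 0, []), (0, 0, []), (9, 0, [6, 7, 3, 1, 7, 0, 5, 2]),
   (0, 0, []), (0, 0, []), (0, 0, []), (4, 0, [0, 3, 6, 1, 7, 2, 7, 5, 0]),
   (0, 1, []), (0, 4, []), (9, 0, [2, 8, 0, 0, 6, 3, 1, 3, 2]), (4, 0, [2, 0, 3, 5, 8, 5, 8, 0, 2]),
   (0, 1, []), (4, 0, [7, 7, 6, 0, 7, 7, 4, 5, 2]), (7, 0, [4, 0, 6, 7, 2, 0, 7, 6, 6, 1]), (0, 1, []),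
   (11, 0, [3, 7, 5, 3, 0, 4, 1, 2]), (9, 0, [2, 1, 7, 3, 0, 5, 8, 5, 2]), (4, 0, [2, 8, 8, 1, 4, 5, 4, 2]), (2, 0, []),
   (0, 1, []), (3, 0, []), (0, 1, []), (7, 0, [2, 0, 3, 8, 8, 8, 2, 4, 0, 4]),
   (0, 0, []), (0, 0, []), (0, 0, []), (0, 0, []),
   (0, 0, []), (5, 0, [0, 2, 3, 7, 4, 8, 1, 1, 6, 6]), (6, 0, [0, 2, 4, 4, 5, 4, 1, 4, 4, 0]), (4, 0, [1, 7, 2, 6, 7, 2, 6, 4, 1, 7, 0]),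
   (0, 0, []), (0, 0, []), (9, 0, [0, 3, 8, 6, 1, 2, 0, 3, 0]), (10, 0, [3, 7, 2, 7, 2, 6, 1, 8]),
   (11, 0, [2, 3, 6, 0, 4, 0, 2, 7, 5, 0]), (0, 0, []), (0, 1, []), (3, 0, []),
   (0, 0, []), (0, 0, []), (0, 0, []), (0, 0, []),
   (7, 0, [2, 1, 5, 7, 7, 7, 0, 0, 7, 7]), (0, 0, []), (5, 0, [2, 8, 5, 8, 2, 7, 7, 6, 3, 1]), (10, 0, [6, 3, 7, 4, 8, 5, 8, 2, 0, 3]),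
   (0, 0, []), (11, 0, [7, 7, 2, 7, 7, 0, 5, 2, 0]), (6, 0, [1, 5, 1, 7, 6, 7, 3, 0, 5]), (5, 0, [1, 5, 7, 2, 8, 8, 1, 1, 3, 5]),
   (0, 0, []), (4, 0, [0, 3, 0, 6, 7, 3, 5, 1, 2]), (2, 0, []), (11, 0, [4, 8, 2, 5, 1, 1, 3, 8, 0]),
   (4, 0, [7, 3, 7, 7, 3, 0, 5, 2]), (0, 1, []), (4, 0, [2, 7, 7, 3, 7, 7, 3, 6, 2]), (4, 0, [2, 1, 7, 2, 8, 0, 3, 7, 4, 1, 1]),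
   (0, 1, []), (7, 0, [4, 6, 0, 5, 3, 7, 0, 4, 2]), (7, 0, [4, 4, 1, 4, 5, 5, 4, 1, 2]), (4, 0, [0, 7, 3, 8, 4, 5, 7, 4, 2, 1]),
   (0, 3, []), (11, 0, [2, 8, 8, 5, 8, 1, 2, 3, 1, 1]), (7, 0, [4, 8, 1, 3, 0, 3, 5, 1, 2]), (11, 0, [4, 4, 8, 5, 3, 7, 4, 1, 1, 2]),
   (0, 0, []), (0, 0, []), (0, 0, []), (0, 0, []),
   (5, 0, [1, 2, 7, 0, 7, 5, 0, 7, 7, 0]), (0, 0, []), (10, 0, [1, 6, 1, 7, 0, 2, 1, 8, 2, 0]), (3, 0, []),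
   (5, 0, [1, 5, 7, 2, 8, 2, 5, 4]), (0, 0, []), (0, 0, []), (0, 0, []),
   (0, 0, []), (6, 0, [1, 7, 5, 7, 5, 5, 8, 8, 0, 2]), (0, 0, [])]

def cert0_13 : List (ℕ × ℕ × List ℕ) :=
  [(10, 0, [0, 2, 1, 3, 3, 8, 6, 1, 7, 2]), (0, 0, []), (4, 0, [1, 2, 0, 7, 0, 4, 8, 6, 4, 1]), (10, 0, [2, 1, 4, 5, 4, 0, 7, 6, 0]),
   (9, 0, [1, 2, 4, 0, 7, 4, 6, 1, 4, 0]), (9, 0, [2, 5, 5, 7, 2, 8, 4, 0, 0, 0]), (11, 0, [6, 7, 6, 4, 0, 7, 2, 8, 2]), (0, 0, []),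
   (6, 0, [1, 5, 7, 7, 2, 4, 1, 8, 6, 0]), (0, 0, []), (6, 0, [1, 2, 1, 4, 1, 1, 6, 7, 6, 0]), (11, 0, [2, 7, 7, 2, 4, 4, 6, 7, 6]),
   (0, 0, []), (0, 0, []), (0, 0, []), (5, 0, [1, 2, 6, 0, 3, 3, 7, 6, 7, 3, 0]),
   (0, 1, []), (9, 0, [1, 2, 0, 3, 6, 7, 6, 0, 2, 8]), (9, 0, [5, 7, 2, 3, 7, 6, 1, 5]), (0, 1, []),
   (4, 0, [1, 7, 2, 5, 1, 7, 4, 8, 1, 1]), (9, 0, [1, 3, 5, 5, 7, 2, 0, 0, 7, 7]), (4, 0, [1, 3, 0, 2, 4, 8, 2, 8, 0]), (0, 2, []),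
   (0, 1, []), (4, 0, [2, 1, 5, 7, 4, 4, 6, 7, 2]), (0, 1, []), (9, 0, [1, 2, 8, 1, 2, 1, 8, 2, 8]),
   (4, 0, [0, 3, 7, 2, 7, 2, 3, 6, 7, 0]), (9, 0, [1, 6, 1, 2, 8, 6, 7, 7, 2, 8]), (4, 0, [2, 7, 2, 4, 5, 0, 4, 5, 8]), (11, 0, [2, 8, 4, 4, 8, 5, 8, 4, 5, 0]),
   (0, 0, []), (0, 0, []), (7, 0, [2, 5, 3, 7, 3, 1, 6, 3, 7, 2]), (4, 0, [0, 7, 2, 4, 1, 7, 0, 7, 3, 1]),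
   (0, 0, []), (0, 0, []), (0, 0, []), (0, 0, []),
   (11, 0, [2, 1, 1, 7, 4, 0, 6, 0, 7, 4]), (0, 0, []), (7, 0, [4, 4, 8, 4, 1, 7, 4, 4, 2, 1]), (0, 0, []),
   (4, 0, [0, 7, 7, 4, 0, 2, 8, 5, 4, 5, 3]), (0, 0, []), (0, 0, []), (6, 0, [1, 3, 6, 0, 7, 2, 8, 6, 6, 1]),
   (0, 0, []), (2, 0, []), (11, 0, [4, 5, 8, 2, 1, 7, 3, 3, 6, 0]), (0, 0, []),
   (0, 0, []), (0, 0, []), (0, 0, []), (10, 0, [6, 1, 8, 8, 2, 8, 2, 8, 0]),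
   (7, 0, [4, 1, 2, 6, 0, 2, 5, 7, 2, 7]), (0, 0, []), (0, 0, []), (0, 0, []),
   (0, 4, []), (5, 0, [1, 8, 2, 0, 3, 3, 5, 8, 4, 6]), (0, 1, []), (9, 0, [5, 1, 1, 3, 0, 7, 0]),
   (0, 1, []), (3, 0, []), (3, 0, []), (0, 1, []),
   (3, 0, []), (9, 0, [1, 4, 0, 3, 8, 6, 0, 5, 0]), (0, 1, []), (0, 1, []),
   (4, 0, [1, 3, 6, 8, 2, 1, 8, 4, 5, 2, 0]), (4, 0, [1, 4, 4, 1, 8, 2, 7, 5, 8, 1]), (9, 0, [0, 7, 2, 1, 7, 4, 8, 6, 4, 4]), (0, 0, []),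
   (0, 0, []), (0, 0, []), (7, 0, [2, 6, 7, 7, 3, 8, 1, 5, 4, 4, 0]), (9, 0, [1, 3, 0, 6, 7, 3, 1, 8, 4]),
   (0, 0, []), (10, 0, [1, 4, 1, 3, 7, 0, 6, 4, 4, 2, 0]), (11, 0, [4, 5, 4, 4, 8, 2, 8, 5, 4, 4]), (0, 0, []),
   (9, 0, [1, 2, 1, 1, 1, 7, 0, 6]), (0, 0, []), (6, 0, [2, 8, 6, 4, 8, 0, 5, 7, 6, 0]), (9, 0, [1, 2, 7, 0, 6, 4, 8, 0, 6, 3, 0]),
   (9, 0, [0, 2, 6, 0, 3, 0, 6, 7, 2, 8]), (0, 0, []), (9, 0, [1, 7, 6, 7, 6, 0, 2, 3, 7, 0]), (10, 0, [1, 8, 5, 7, 7, 2, 3, 3, 1, 3]),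
   (10, 0, [1, 2, 8, 0, 7, 5, 3, 3, 2, 1]), (0, 0, []), (0, 0, []), (0, 0, []),
   (0, 0, []), (0, 0, []), (6, 0, [1, 3, 3, 8, 0, 7, 2, 1]), (0, 0, []),
   (0, 0, []), (10, 0, [0, 4, 1, 1, 6, 1, 2, 7, 6, 0]), (0, 0, []), (9, 0, [0, 2, 4, 4, 8, 0, 4, 1, 7, 4, 1]),
   (0, 0, []), (0, 0, []), (9, 0, [1, 2, 8, 6, 0, 6, 7, 0, 5, 0]), (0, 0, []),
   (4, 0, [0, 3, 1, 2, 3, 1, 1, 2, 8, 2, 0]), (5, 0, [1, 2, 8, 6, 0, 3, 5, 5, 1, 2]), (0, 0, []), (10, 0, [0, 0, 0, 0, 7, 0, 2, 7, 3]),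
   (9, 0, [6, 8, 1, 2, 6, 7, 6, 4, 2]), (0, 0, []), (6, 0, [1, 2, 0, 7, 5, 5, 7, 3, 2, 0]), (6, 0, [0, 4, 1, 1, 1, 8, 4, 0, 0]),
   (5, 0, [1, 5, 4, 4, 0, 7, 2, 7]), (10, 0, [1, 2, 3, 6, 7, 4, 0, 4, 1]), (0, 0, []), (0, 0, []),
   (0, 0, []), (0, 0, []), (0, 0, []), (4, 0, [7, 3, 8, 4, 5, 4, 1, 2, 0, 4]),
   (0, 0, []), (11, 0, [2, 7, 0, 0, 7, 3, 7, 0, 4, 2, 0]), (0, 0, []), (11, 0, [2, 6, 8, 0, 6, 0, 7, 5, 2, 0]),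
   (0, 0, []), (0, 0, []), (0, 0, []), (7, 0, [4, 1, 8, 1, 5, 1, 2, 0, 6]),
   (0, 0, []), (7, 0, [4, 6, 1, 3, 6, 8, 2, 4, 8, 0]), (0, 0, []), (0, 1, []),
   (3, 0, []), (0, 3, []), (11, 0, [2, 1, 1, 8, 8, 6, 8, 0, 4]), (0, 1, []),
   (4, 0, [2, 8, 8, 6, 8, 5, 4, 2]), (4, 0, [0, 4, 1, 5, 8, 2, 7, 6, 7, 4, 1]), (0, 1, []), (0, 2, []),
   (9, 0, [0, 2, 5, 7, 6, 4, 8, 1, 3]), (0, 1, []), (9, 0, [7, 3, 8, 2, 4, 1, 1, 3, 2, 0]), (2, 0, []),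
   (7, 0, [4, 1, 3, 0, 4, 4, 0, 7, 2]), (4, 0, [1, 4, 6, 0, 2, 3, 7, 7, 7, 0]), (6, 0, [0, 2, 1, 5, 8, 6, 1, 5, 4, 4]), (10, 0, [1, 2, 1, 3, 8, 5, 1, 2, 0, 3]),
   (0, 0, []), (0, 0, []), (0, 0, []), (6, 0, [1, 7, 0, 2, 7, 7, 5, 3, 2, 1]),
   (0, 0, []), (0, 0, []), (0, 0, []), (0, 0, []),
   (4, 0, [0, 7, 3, 0, 2, 4, 4, 5, 0, 7]), (10, 0, [0, 4, 6, 1, 6, 3, 0, 5, 2, 0]), (0, 0, []), (0, 0, []),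
   (0, 0, []), (9, 0, [1, 2, 1, 1, 1, 6, 7, 6, 6]), (0, 0, []), (10, 0, [0, 2, 6, 3, 1, 3, 8, 4, 5, 2]),
   (0, 0, []), (9, 0, [1, 1, 7, 4, 5, 8, 1, 2, 7, 0, 0]), (7, 0, [3, 1, 4, 1, 3, 7, 2, 7, 3]), (11, 0, [2, 4, 0, 3, 6, 0, 5, 5, 2, 1]),
   (6, 0, [0, 0, 2, 7, 2, 8, 5, 0, 3, 8]), (9, 0, [1, 3, 5, 1, 5, 1, 7, 7, 2, 0]), (9, 0, [1, 4, 1, 3, 8, 5, 5, 0, 7]), (0, 0, []),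
   (0, 0, []), (0, 0, []), (0, 0, []), (0, 0, []),
   (0, 0, []), (0, 0, []), (0, 0, []), (11, 0, [5, 7, 2, 7, 6, 4, 4, 8, 4]),
   (0, 0, []), (0, 0, []), (0, 0, []), (9, 0, [1, 2, 1, 1, 1, 7, 0, 5, 5]),
   (9, 0, [1, 2, 7, 0, 6, 4, 8, 0, 7, 6, 1]), (0, 0, []), (7, 0, [2, 7, 7, 4, 0, 4, 0, 7, 0, 2]), (9, 0, [1, 2, 1, 8, 2, 6, 6, 8, 8, 0]),
   (6, 0, [0, 2, 4, 6, 6, 4, 1, 7, 4, 1]), (9, 0, [1, 7, 4, 8, 6, 6, 0, 3, 7]), (10, 0, [1, 4, 0, 7, 2, 1, 7, 6, 7]), (10, 0, [2, 4, 8, 0, 4, 6, 8, 0, 0]),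
   (0, 0, []), (0, 0, []), (0, 0, []), (0, 0, []),
   (0, 0, []), (0, 0, []), (5, 0, [6, 7, 3, 1, 7, 0, 5, 5]), (9, 0, [1, 2, 5, 0, 2, 6, 7, 7, 7, 4]),
   (6, 0, [0, 2, 4, 1, 3, 1, 3, 3, 1, 2]), (0, 0, []), (0, 0, []), (4, 0, [1, 5, 7, 2, 4, 5, 0, 4, 5, 2]),
   (0, 0, []), (0, 0, []), (0, 0, []), (0, 0, []),
   (0, 0, []), (0, 0, []), (0, 0, []), (9, 0, [1, 8, 6, 4, 1, 5, 7, 4, 2, 1]),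
   (10, 0, [1, 2, 4, 8, 0, 2, 5, 8, 5]), (0, 0, []), (10, 0, [1, 5, 7, 7, 2, 5, 7, 3, 1, 2]), (9, 0, [1, 7, 3, 8, 2, 4, 4, 0, 5]),
   (10, 0, [1, 2, 8, 0, 2, 1, 7, 6, 4, 6]), (6, 0, [1, 8, 1, 8, 8, 2, 5, 4, 8]), (0, 0, []), (0, 0, []),
   (0, 0, []), (5, 0, [1, 1, 7, 2, 6, 8, 1, 7, 7, 0, 0]), (0, 0, []), (0, 0, []),
   (11, 0, [2, 3, 3, 8, 6, 0, 4, 1, 6, 3]), (0, 0, []), (0, 0, []), (0, 0, []),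
   (9, 0, [2, 8, 2, 7, 0, 2, 6, 7]), (6, 0, [1, 6, 6, 1, 2, 4, 0, 4, 8, 0]), (0, 0, []), (0, 0, []),
   (7, 0, [2, 6, 4, 0, 7, 7, 7, 5, 0, 2]), (4, 0, [0, 7, 2, 5, 1, 8, 8, 6, 3, 0, 2]), (10, 0, [0, 0, 6, 7, 7, 6, 6, 1, 3]), (0, 0, []),
   (2, 0, []), (5, 0, [2, 0, 4, 6, 1, 6, 3, 6, 2]), (4, 0, [1, 7, 0, 5, 3, 0, 3, 0, 2]), (4, 0, [0, 0, 7, 7, 4, 8, 6, 6, 2]),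
   (0, 1, []), (5, 0, [2, 7, 3, 8, 5, 0, 3, 8, 2]), (3, 0, []), (7, 0, [7, 6, 4, 0, 7, 4, 4, 2]),
   (0, 1, []), (4, 0, [3, 8, 8, 1, 5, 8, 8, 2]), (0, 1, []), (0, 3, []),
   (0, 1, []), (0, 1, []), (11, 0, [5, 7, 7, 4, 8, 4, 5, 0, 2]), (0, 0, []),
   (0, 0, []), (9, 0, [1, 3, 0, 6, 7, 6, 3, 8, 4]), (0, 0, []), (9, 0, [0, 2, 8, 2, 1, 1, 6, 8, 0, 3]),
   (7, 0, [2, 5, 4, 4, 8, 0, 7, 6, 8, 0]), (9, 0, [1, 2, 1, 7, 3, 8, 0, 5, 5, 7]), (0, 0, []), (6, 0, [0, 0, 0, 2, 0, 7, 7, 2, 7, 6]),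
   (9, 0, [1, 2, 1, 1, 1, 6, 7]), (0, 0, []), (10, 0, [1, 2, 0, 6, 0, 3, 1, 1, 7]), (0, 0, []),
   (0, 0, []), (11, 0, [7, 3, 5, 7, 3, 7, 2, 1]), (11, 0, [6, 7, 3, 3, 0, 4, 0, 2]), (5, 0, [2, 7, 7, 5, 8, 4, 0, 2]),
   (11, 0, [4, 8, 4, 8, 1, 3, 0, 6, 2]), (4, 0, [1, 5, 7, 2, 6, 0, 4, 0, 4, 5, 1]), (0, 1, []), (3, 0, []),
   (4, 0, [3, 0, 3, 1, 4, 1, 8, 2]), (3, 0, []), (0, 1, []), (9, 0, [2, 6, 7, 4, 8, 0, 6, 6, 2]),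
   (0, 1, []), (0, 1, []), (0, 1, []), (5, 0, [1, 2, 1, 4, 1, 3, 7]),
   (5, 0, [6, 0, 7, 7, 6, 7, 2, 8, 1]), (9, 0, [1, 1, 2, 7, 5, 7, 5, 4, 2, 0, 0]), (0, 0, []), (0, 0, []),
   (0, 0, []), (0, 0, []), (0, 0, []), (6, 0, [0, 2, 1, 7, 7, 0, 4, 1, 1, 1]),
   (0, 0, []), (5, 0, [1, 3, 6, 1, 2, 4, 0, 3, 8, 1, 2]), (0, 0, []), (0, 0, []),
   (10, 0, [0, 6, 7, 4, 8, 2, 1, 3, 8, 0]), (0, 0, []), (0, 0, []), (4, 0, [8, 0, 2, 6, 0, 5, 5, 8, 8, 0]),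
   (0, 0, []), (0, 0, []), (5, 0, [1, 7, 2, 8, 8, 2, 1, 4, 1, 1]), (0, 0, []),
   (4, 0, [0, 0, 7, 2, 3, 7, 2, 1, 6, 3, 0]), (0, 0, []), (0, 0, []), (0, 0, []),
   (10, 0, [2, 3, 8, 1, 7, 0, 3, 3]), (0, 0, []), (9, 0, [5, 1, 8, 8, 2, 0, 0, 7, 2, 0]), (0, 0, []),
   (6, 0, [4, 0, 2, 7, 4, 1, 5, 5, 1]), (0, 2, []), (0, 0, []), (11, 0, [4, 1, 7, 3, 8, 0, 6, 7, 0, 2]),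
   (5, 0, [1, 8, 8, 4, 0, 3, 5, 8, 1]), (3, 0, []), (0, 1, []), (9, 0, [2, 0, 6, 6, 7, 3, 6, 7, 2]),
   (9, 0, [2, 6, 0, 4, 8, 5, 5, 7, 2]), (3, 0, []), (4, 0, [0, 5, 4, 0, 2, 1, 7, 6, 7, 0]), (4, 0, [0, 0, 7, 7, 0, 7, 2, 5]),
   (5, 0, [0, 2, 1, 6, 1, 7, 6, 7, 3, 0]), (3, 0, []), (0, 1, []), (11, 0, [4, 8, 1, 2, 8, 5, 8, 8]),
   (4, 0, [0, 7, 7, 7, 6, 0, 6, 3, 2]), (0, 1, []), (10, 0, [2, 3, 8, 1, 6, 7, 5, 3, 3]), (0, 0, []),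
   (5, 0, [1, 2, 1, 3, 6, 3, 7, 3, 1, 2]), (0, 0, []), (0, 0, []), (0, 0, []),
   (6, 0, [4, 0, 2, 7, 4, 6, 0, 6, 0]), (9, 0, [0, 3, 6, 1, 6, 7, 2, 8, 5]), (0, 0, []), (0, 2, []),
   (0, 0, []), (0, 0, []), (0, 0, []), (4, 0, [1, 7, 7, 0, 3, 1, 2, 8, 0, 7, 2]),
   (0, 0, []), (4, 0, [0, 3, 1, 8, 1, 2, 6, 7, 6]), (4, 0, [2, 3, 3, 0, 7, 7, 5, 5, 2]), (7, 0, [4, 6, 0, 5, 7, 7, 4, 4, 2]),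
   (0, 1, []), (2, 0, []), (9, 0, [2, 6, 1, 7, 6, 0, 6, 2]), (0, 1, []),
   (0, 1, []), (3, 0, []), (0, 1, []), (9, 0, [2, 5, 0, 7, 5, 5, 7, 0, 2]),
   (11, 0, [6, 7, 6, 3, 8, 6, 4, 2]), (4, 0, [1, 2, 4, 0, 4, 1, 2, 8, 8]), (0, 2, []), (0, 1, []),
   (4, 0, [1, 3, 6, 7, 2, 8, 8, 5, 2]), (0, 0, []), (0, 0, []), (11, 0, [2, 6, 0, 3, 8, 1, 5, 8, 0, 3]),
   (4, 0, [0, 7, 7, 4, 0, 2, 8, 5]), (4, 0, [1, 1, 8, 0, 2, 7, 6, 6, 3, 1, 2]), (0, 0, []), (0, 0, []),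
   (0, 0, []), (0, 0, []), (7, 0, [2, 8, 1, 4, 8, 5, 8, 5, 1, 7]), (7, 0, [2, 7, 5, 5, 8, 2, 0, 6, 7, 2]),
   (0, 0, []), (0, 0, []), (11, 0, [2, 6, 4, 4, 0, 7, 7, 7, 4]), (0, 0, []),
   (0, 0, []), (11, 0, [2, 5, 3, 0, 4, 1, 2, 4, 8, 0]), (0, 0, []), (0, 0, []),
   (6, 0, [0, 2, 0, 4, 8, 1, 6, 3, 8, 4, 0]), (7, 0, [2, 1, 4, 8, 1, 8, 6, 4, 1]), (0, 0, []), (10, 0, [1, 7, 3, 5, 3, 7, 2, 0]),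
   (0, 0, []), (0, 0, []), (4, 0, [1, 7, 2, 5, 1, 7, 2, 4, 1, 1]), (6, 0, [1, 8, 1, 2, 3, 0, 4, 0, 3, 7]),
   (0, 0, []), (10, 0, [1, 8, 1, 1, 1, 1, 2, 1, 7, 0]), (0, 1, []), (4, 0, [0, 0, 4, 8, 8, 5, 4, 1, 5, 2]),
   (9, 0, [7, 2, 7, 3, 5, 8, 4, 8]), (0, 1, []), (0, 1, []), (3, 0, []),
   (2, 0, []), (7, 0, [2, 6, 3, 3, 7, 4, 0, 5, 8]), (0, 1, []), (11, 0, [4, 4, 6, 8, 4, 0, 7, 7, 2]),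
   (4, 0, [2, 7, 7, 6, 6, 8, 1, 7, 2]), (0, 1, []), (0, 2, []), (4, 0, [2, 8, 8, 1, 5, 4, 4, 2]),
   (9, 0, [2, 1, 7, 6, 3, 8, 2]), (0, 0, []), (0, 0, []), (0, 0, []),
   (0, 0, []), (4, 0, [1, 2, 7, 0, 7, 4, 1, 8, 5, 8, 0]), (0, 0, []), (0, 0, []),
   (0, 0, []), (11, 0, [7, 2, 0, 7, 3, 6, 8, 2]), (0, 0, []), (7, 0, [7, 2, 0, 7, 3, 1, 4, 6]),
   (7, 0, [2, 8, 8, 0, 2, 4, 5, 7, 4]), (0, 0, []), (11, 0, [7, 7, 6, 1, 7, 0, 7, 2, 1]), (0, 0, []),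
   (0, 0, []), (0, 0, []), (0, 0, []), (11, 0, [4, 1, 2, 8, 0, 5, 7, 0, 5, 0]),
   (6, 0, [0, 2, 1, 1, 7, 7, 5, 8, 1]), (0, 0, []), (9, 0, [5, 0, 7, 2, 8, 1, 8]), (0, 0, []),
   (4, 0, [0, 5, 7, 0, 2, 5, 8, 1, 2]), (7, 0, [2, 6, 0, 4, 5, 8, 6, 4, 1, 2]), (5, 0, [0, 2, 8, 6, 0, 5, 7, 3, 7, 4]), (0, 0, []),
   (0, 0, []), (10, 0, [0, 4, 5, 7, 4, 1, 7, 7, 3]), (0, 0, []), (0, 0, []),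
   (0, 0, []), (10, 0, [1, 3, 7, 4, 4, 5, 7, 6, 0]), (0, 5, []), (0, 0, []),
   (4, 0, [1, 7, 4, 5, 8, 1, 2, 7, 4, 2, 0]), (10, 0, [0, 0, 3, 1, 2, 7, 3, 5, 5, 1]), (6, 0, [0, 4, 4, 8, 1, 4, 8, 2, 7, 6]), (5, 0, [1, 8, 1, 3, 3, 8, 6, 0, 4, 2, 1]),
   (6, 0, [0, 2, 1, 3, 3, 8, 6, 1, 7]), (7, 0, [2, 1, 8, 5, 1, 7, 2, 1, 7, 0]), (5, 0, [1, 8, 1, 4, 1, 1, 7, 6, 3, 0]), (7, 0, [6, 7, 6, 4, 0, 7, 2, 8]),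
   (0, 0, []), (0, 0, []), (10, 0, [1, 7, 0, 6, 4, 8, 1, 6]), (0, 0, []),
   (0, 1, []), (6, 0, [0, 2, 1, 8, 0, 5, 5, 7, 2, 7]), (9, 0, [7, 2, 8, 2, 1, 7, 6, 3, 8]), (0, 0, []),
   (11, 0, [2, 5, 1, 8, 0, 2, 8, 2, 1, 1]), (10, 0, [4, 0, 0, 7, 5, 8, 4, 2, 1]), (6, 0, [1, 7, 2, 7, 2, 7, 2, 3, 8, 0]), (9, 0, [7, 2, 5, 8, 1, 3, 1, 4]),
   (0, 0, []), (0, 0, []), (0, 1, []), (4, 0, [1, 3, 5, 7, 3, 1, 2, 5, 7, 3]),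
   (11, 0, [2, 3, 5, 3, 7, 2, 8, 8, 8, 0]), (0, 0, []), (0, 0, []), (5, 0, [1, 6, 7, 2, 7, 2, 8, 0]),
   (0, 0, []), (0, 0, []), (0, 0, []), (0, 0, []),
   (9, 0, [6, 6, 8, 1, 2, 5, 7, 6, 7, 0]), (0, 0, []), (0, 0, []), (9, 0, [1, 5, 1, 7, 7, 2, 1, 1, 1, 2, 0]),
   (0, 0, []), (0, 0, []), (5, 0, [1, 8, 2, 5, 1, 7, 6, 0, 7, 5]), (4, 0, [0, 7, 7, 2, 0, 0, 3, 8, 0, 7, 0]),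
   (4, 0, [3, 7, 3, 8, 6, 3, 7, 2]), (5, 0, [0, 2, 8, 4, 1, 2, 0, 7, 7]), (0, 1, []), (0, 1, []),
   (4, 0, [0, 3, 6, 7, 7, 3, 8, 6, 3, 2]), (7, 0, [2, 6, 4, 1, 3, 7, 2, 0, 0, 2]), (0, 1, []), (11, 0, [2, 8, 1, 7, 2, 7, 4, 1]),
   (0, 1, []), (2, 0, []), (3, 0, []), (0, 1, []),
   (0, 1, []), (4, 0, [0, 0, 7, 7, 4, 8, 2, 6]), (5, 0, [2, 0, 4, 6, 1, 3, 6, 6, 2])]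

def cert0_14 : List (ℕ × ℕ × List ℕ) :=
  [(7, 0, [4, 1, 1, 8, 5, 4, 4, 8, 1, 2]), (0, 1, []), (7, 0, [2, 3, 5, 8, 4, 0, 3, 5, 3]), (0, 1, []),
   (7, 0, [5, 4, 1, 7, 4, 6, 0, 2]), (0, 1, []), (4, 0, [7, 7, 7, 6, 1, 7, 3, 2]), (11, 0, [3, 5, 3, 8, 0, 7, 4, 1, 2]),
   (4, 0, [2, 7, 7, 3, 7, 7, 3, 2]), (4, 0, [2, 4, 8, 8, 4, 8, 8, 2]), (11, 0, [5, 7, 7, 5, 7, 0, 7, 2]), (11, 0, [2, 0, 0, 6, 7, 3, 1, 3, 1]),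
   (2, 0, []), (4, 0, [0, 3, 6, 6, 7, 4, 1, 3, 0, 2]), (4, 0, [0, 0, 3, 8, 1, 1, 7, 7, 4, 2]), (0, 0, []),
   (6, 0, [2, 6, 8, 1, 7, 5, 3, 3, 1]), (0, 0, []), (0, 0, []), (0, 0, []),
   (0, 0, []), (10, 0, [1, 5, 8, 2, 1, 4, 5, 5, 2, 1]), (11, 0, [4, 5, 4, 4, 8, 2, 8, 4, 6, 4]), (7, 0, [4, 4, 5, 1, 7, 2, 3, 3, 8, 2]),
   (9, 0, [1, 8, 0, 6, 4, 8, 4, 1, 7, 3]), (9, 0, [1, 2, 1, 1, 1, 6, 7, 5, 5]), (9, 0, [1, 1, 8, 2, 1, 1, 7, 3, 5, 2, 0]), (0, 0, []),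
   (0, 0, []), (9, 0, [0, 2, 7, 4, 1, 5, 8, 2, 1, 5, 1]), (0, 1, []), (4, 0, [0, 0, 3, 1, 8, 2, 6, 0, 4, 1]),
   (4, 0, [2, 1, 5, 7, 6, 4, 0, 2]), (0, 1, []), (4, 0, [1, 2, 1, 8, 8, 5, 8, 8, 6, 0]), (5, 0, [8, 8, 1, 3, 1, 3, 5, 2, 7]),
   (9, 0, [1, 8, 2, 8, 2, 8, 8, 5, 2, 1]), (0, 1, []), (9, 0, [0, 2, 0, 4, 6, 1, 8, 0, 5, 0]), (9, 0, [5, 7, 2, 3, 7, 6, 1]),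
   (9, 0, [8, 2, 0, 5, 8, 8, 6, 8, 1]), (9, 0, [2, 7, 4, 8, 4, 6, 1, 3, 2]), (0, 1, []), (0, 1, []),
   (4, 0, [0, 2, 4, 1, 2, 3, 5, 8, 8, 1, 1]), (9, 0, [0, 2, 8, 1, 4, 1, 3, 8, 8, 5, 1]), (0, 0, []), (10, 0, [1, 7, 3, 3, 1, 2, 5, 0, 4, 0]),
   (0, 0, []), (0, 0, []), (0, 0, []), (0, 0, []),
   (6, 0, [1, 3, 7, 7, 2, 3, 1, 5, 3, 0]), (0, 0, []), (10, 0, [2, 7, 6, 0, 6, 7, 6, 2, 1]), (10, 0, [1, 2, 4, 8, 0, 2, 5, 8]),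
   (0, 0, []), (9, 0, [1, 7, 3, 8, 2, 4, 4, 0]), (0, 0, []), (0, 0, []),
   (0, 0, []), (9, 0, [7, 3, 8, 1, 7, 0, 5, 3, 0]), (0, 0, []), (0, 0, []),
   (9, 0, [6, 1, 5, 3, 8, 0, 6, 3, 2, 0]), (9, 0, [8, 1, 7, 5, 4, 8, 4, 1, 2]), (9, 0, [2, 8, 4, 4, 1, 7, 2, 8, 0, 0]), (11, 0, [2, 5, 1, 8, 5, 8, 1, 5, 8, 1]),
   (0, 0, []), (7, 0, [2, 8, 6, 0, 3, 6, 8, 8, 1, 5]), (0, 0, []), (10, 0, [2, 4, 0, 3, 0, 3, 1, 3, 1]),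
   (0, 0, []), (6, 0, [0, 3, 8, 1, 7, 5, 5, 1, 2, 1]), (0, 0, []), (0, 1, []),
   (2, 0, []), (4, 0, [2, 1, 8, 8, 4, 8, 5, 4, 4, 2]), (11, 0, [4, 1, 3, 0, 3, 7, 3, 3, 2]), (0, 1, []),
   (0, 1, []), (0, 1, []), (0, 1, []), (0, 1, []),
   (0, 1, []), (5, 0, [1, 3, 7, 0, 7, 7, 5, 4, 0, 3]), (7, 0, [5, 7, 6, 6, 3, 8, 6, 4, 2]), (3, 0, []),
   (0, 1, []), (5, 0, [1, 3, 8, 2, 6, 3, 1, 1, 3]), (0, 0, []), (0, 0, []),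
   (6, 0, [0, 2, 7, 7, 3, 6, 8, 2, 0, 0]), (0, 0, []), (0, 2, []), (0, 0, []),
   (7, 0, [7, 3, 6, 1, 2, 3, 8, 1]), (1, 0, []), (10, 0, [1, 2, 1, 7, 6, 6, 8, 1, 7, 6]), (11, 0, [2, 3, 7, 6, 4, 8, 1, 3, 5, 1]),
   (0, 0, []), (0, 0, []), (0, 0, []), (0, 0, []),
   (0, 0, []), (10, 0, [1, 8, 1, 2, 5, 8, 8, 6, 4, 8]), (0, 0, []), (5, 0, [1, 6, 1, 2, 5, 3, 8, 4, 1, 1]),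
   (0, 0, []), (6, 0, [0, 2, 3, 0, 4, 1, 1, 2, 7]), (5, 0, [1, 1, 2, 7, 5, 0, 2, 4, 8, 0, 0]), (0, 0, []),
   (0, 1, []), (0, 0, []), (6, 0, [1, 2, 8, 0, 2, 1, 7, 5, 4, 2]), (0, 0, []),
   (0, 0, []), (0, 0, []), (0, 0, []), (6, 0, [0, 0, 0, 6, 0, 2, 3, 8, 0]),
   (4, 0, [8, 0, 3, 6, 7, 5, 5, 3, 2]), (3, 0, []), (5, 0, [2, 6, 1, 4, 1, 8, 0, 2]), (9, 0, [1, 1, 2, 0, 5, 3, 0, 3, 0, 2, 1]),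
   (0, 3, []), (0, 3, []), (3, 0, []), (7, 0, [2, 6, 3, 7, 2, 0, 4, 4, 1]),
   (3, 0, []), (5, 0, [2, 1, 8, 1, 5, 8, 0, 2]), (9, 0, [0, 4, 1, 2, 4, 5, 0, 5, 7, 5]), (7, 0, [4, 5, 4, 1, 3, 6, 1, 3, 0, 2]),
   (4, 0, [1, 2, 1, 4, 8, 0, 7, 3, 8, 6, 0]), (0, 1, []), (4, 0, [0, 0, 0, 4, 8, 1, 8, 8, 2]), (5, 0, [0, 2, 8, 6, 4, 4, 1, 4, 1]),
   (4, 0, [0, 2, 7, 0, 7, 0, 3, 3, 8, 4, 0]), (3, 0, []), (3, 0, []), (9, 0, [5, 1, 8, 4, 1, 2, 8, 1]),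
   (0, 1, []), (0, 1, []), (11, 0, [2, 6, 3, 1, 3, 7, 4, 8, 4, 0]), (11, 0, [4, 4, 1, 3, 8, 5, 4, 5, 0, 2]),
   (4, 0, [4, 1, 8, 4, 1, 7, 5, 2]), (0, 1, []), (9, 0, [2, 6, 0, 4, 5, 5, 0, 2]), (5, 0, [5, 1, 3, 8, 2, 0, 6, 3, 0]),
   (4, 0, [0, 0, 7, 7, 0, 5, 7, 0, 2]), (3, 0, []), (0, 0, []), (0, 0, []),
   (4, 0, [2, 1, 5, 7, 2, 4, 5, 0, 4, 6]), (0, 1, []), (0, 0, []), (0, 0, []),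
   (6, 0, [2, 6, 1, 4, 0, 2, 8, 1, 8]), (0, 0, []), (0, 0, []), (0, 0, []),
   (0, 0, []), (0, 3, []), (9, 0, [1, 5, 7, 3, 8, 6, 3, 7, 2]), (5, 0, [1, 8, 2, 7, 6, 7, 3, 1, 8, 2, 0]),
   (10, 0, [1, 2, 5, 5, 8, 0, 5, 0, 3, 7]), (0, 0, []), (3, 0, []), (5, 0, [1, 5, 7, 2, 8, 2, 4]),
   (0, 0, []), (0, 0, []), (0, 0, []), (6, 0, [1, 2, 5, 1, 1, 3, 1, 2, 1]),
   (0, 0, []), (10, 0, [0, 0, 0, 0, 2, 1, 4, 8, 5, 0]), (5, 0, [1, 5, 3, 7, 2, 5, 3, 1, 4, 2, 0]), (0, 0, []),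
   (0, 0, []), (0, 0, []), (0, 0, []), (0, 0, []),
   (0, 0, []), (6, 0, [1, 7, 6, 6, 7, 2, 8, 4, 4, 2]), (3, 0, []), (0, 0, []),
   (0, 0, []), (0, 0, []), (0, 0, []), (0, 0, []),
   (10, 0, [1, 5, 4, 8, 1, 3, 1, 3, 3, 1]), (0, 0, []), (9, 0, [6, 1, 2, 6, 8, 0, 4, 1]), (0, 0, []),
   (0, 0, []), (0, 0, []), (9, 0, [1, 5, 7, 2, 8, 6, 6, 4]), (0, 0, []),
   (0, 0, []), (0, 0, []), (9, 0, [1, 7, 5, 7, 4, 1, 3, 7, 2]), (6, 0, [1, 3, 7, 6, 4, 1, 1, 6, 2]),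
   (10, 0, [2, 3, 7, 5, 8, 8, 1, 4, 2]), (10, 0, [0, 2, 7, 3, 8, 4, 6, 0, 3, 7]), (0, 0, []), (11, 0, [4, 6, 1, 7, 6, 8, 2, 4, 8, 0]),
   (0, 0, []), (0, 0, []), (6, 0, [5, 7, 4, 4, 0, 2, 4, 0]), (11, 0, [2, 7, 7, 2, 4, 1, 5, 5, 0]),
   (4, 0, [1, 2, 7, 4, 0, 5, 3, 1, 3, 6]), (9, 0, [0, 2, 8, 5, 1, 2, 7, 3, 8]), (10, 0, [0, 3, 0, 2, 1, 8, 6, 1, 7, 4, 0]), (0, 0, []),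
   (0, 1, []), (0, 0, []), (5, 0, [1, 5, 7, 2, 8, 8, 1, 1, 3]), (3, 0, []),
   (0, 0, []), (5, 0, [0, 2, 7, 7, 4, 0, 2, 1, 3, 2]), (0, 0, []), (0, 0, []),
   (7, 0, [2, 4, 5, 1, 3, 1, 3, 5, 5, 8]), (0, 0, []), (6, 0, [1, 5, 1, 7, 6, 7, 3, 0]), (11, 0, [2, 3, 7, 0, 2, 6, 3, 3, 8, 5, 0]),
   (0, 0, []), (0, 0, []), (6, 0, [1, 8, 0, 2, 3, 3, 6, 8, 8]), (0, 0, []),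
   (10, 0, [0, 4, 8, 2, 5, 8, 2, 0, 0, 6]), (0, 0, []), (9, 0, [1, 7, 0, 7, 4, 0, 0, 2, 8, 0]), (4, 0, [1, 3, 3, 8, 2, 0, 6, 3, 2, 1]),
   (0, 0, []), (0, 0, []), (0, 0, []), (0, 0, []),
   (0, 0, []), (5, 0, [1, 8, 4, 6, 8, 2, 0, 7, 7, 7, 0]), (0, 0, []), (0, 0, []),
   (5, 0, [1, 8, 2, 5, 1, 7, 6, 0, 7]), (9, 0, [1, 2, 8, 0, 7, 2, 4, 1, 7, 0]), (0, 0, []), (9, 0, [1, 4, 0, 7, 2, 1, 4, 0, 5, 4]),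
   (4, 0, [8, 1, 3, 7, 2, 3, 1, 7, 6, 0]), (0, 0, []), (5, 0, [1, 6, 7, 2, 7, 2, 8, 0, 6]), (0, 0, []),
   (0, 0, []), (0, 0, []), (0, 0, []), (0, 0, []),
   (0, 0, []), (0, 0, []), (0, 0, []), (4, 0, [3, 3, 1, 3, 8, 8, 8, 2, 7, 0]),
   (0, 0, []), (4, 0, [2, 1, 3, 6, 7, 2, 8, 8, 5]), (0, 0, []), (0, 0, []),
   (0, 0, []), (4, 0, [0, 7, 7, 4, 0, 2, 8]), (0, 0, []), (0, 0, []),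
   (11, 0, [2, 5, 3, 7, 3, 1, 3, 7, 6, 1]), (11, 0, [2, 7, 5, 5, 8, 2, 0, 6, 7]), (0, 0, []), (0, 0, []),
   (7, 0, [2, 6, 4, 4, 0, 7, 7, 7, 4, 2]), (7, 0, [4, 8, 1, 7, 2, 4, 8, 0, 6, 7]), (4, 0, [2, 8, 8, 1, 4, 4, 6, 2]), (4, 0, [2, 0, 3, 7, 3, 1, 7, 7, 3, 2]),
   (2, 0, []), (3, 0, []), (4, 0, [7, 7, 6, 0, 7, 7, 6, 4, 2]), (0, 2, []),
   (0, 1, []), (9, 0, [2, 1, 7, 3, 1, 8, 2]), (7, 0, [2, 6, 3, 3, 7, 6, 4, 1, 4]), (0, 1, []),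
   (0, 1, []), (0, 1, []), (9, 0, [0, 2, 1, 6, 8, 0, 2, 0, 7, 2]), (11, 0, [4, 6, 4, 0, 4, 1, 7, 3, 2]),
   (0, 1, []), (0, 0, []), (5, 0, [1, 7, 3, 0, 2, 8, 4, 6, 0, 3]), (3, 0, []),
   (7, 0, [2, 0, 3, 8, 6, 6, 8, 2, 8, 0, 0]), (11, 0, [2, 8, 8, 1, 2, 1, 4, 1, 4, 1]), (0, 0, []), (0, 0, []),
   (0, 0, []), (0, 0, []), (0, 0, []), (0, 0, []),
   (6, 0, [5, 8, 8, 4, 8, 1, 4, 1]), (5, 0, [1, 2, 6, 0, 7, 0, 5, 0, 0, 2, 0]), (0, 2, []), (10, 0, [2, 7, 0, 3, 8, 4, 6, 0, 4]),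
   (7, 0, [2, 0, 5, 7, 2, 8, 8, 4, 5]), (4, 0, [1, 8, 4, 0, 5, 4, 8, 6, 0, 2]), (0, 4, []), (7, 0, [3, 7, 5, 3, 3, 1, 7, 2]),
   (4, 0, [1, 4, 8, 8, 4, 1, 6, 8, 2]), (2, 0, []), (11, 0, [2, 4, 5, 0, 0, 7, 4, 0, 5, 0]), (0, 1, []),
   (7, 0, [4, 8, 1, 3, 6, 1, 7, 6, 0, 2]), (4, 0, [0, 7, 2, 8, 4, 8, 2, 8, 8, 0]), (11, 0, [4, 1, 7, 5, 8, 8, 4, 1, 1, 2]), (4, 0, [2, 1, 8, 8, 1, 8, 1, 7, 0, 4, 2]),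
   (0, 1, []), (4, 0, [0, 3, 0, 7, 0, 3, 1, 6, 1, 2]), (11, 0, [4, 1, 6, 8, 8, 6, 0, 7, 0, 2]), (5, 0, [1, 7, 2, 3, 8, 6, 1, 8, 4, 0]),
   (0, 0, []), (0, 0, []), (6, 0, [4, 1, 6, 7, 2, 5, 0, 3, 1]), (0, 1, []),
   (0, 0, []), (0, 0, []), (9, 0, [1, 8, 4, 0, 7, 4, 0, 7, 2]), (0, 0, []),
   (0, 0, []), (10, 0, [0, 2, 8, 6, 1, 4, 1, 7, 6, 2]), (4, 0, [2, 1, 5, 7, 2, 4, 0, 0, 4, 5]), (0, 0, []),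
   (0, 0, []), (0, 1, []), (5, 0, [1, 2, 1, 6, 7, 6, 1, 3, 8, 1]), (0, 0, []),
   (0, 0, []), (5, 0, [1, 8, 0, 3, 3, 6, 8, 2, 7, 4]), (0, 0, []), (0, 0, []),
   (7, 0, [7, 2, 7, 2, 5, 1, 3, 2, 7]), (0, 0, []), (0, 0, []), (11, 0, [2, 7, 7, 7, 3, 7, 7, 0, 2, 0]),
   (6, 0, [1, 3, 5, 7, 5, 7, 3, 3]), (10, 0, [0, 0, 2, 3, 0, 2, 4, 6, 0, 5, 0]), (3, 0, []), (0, 0, []),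
   (0, 1, []), (0, 0, []), (4, 0, [1, 3, 0, 2, 8, 5, 4, 1, 7, 3, 1]), (0, 0, []),
   (6, 0, [2, 1, 7, 6, 4, 1, 8, 8, 6, 0]), (0, 0, []), (7, 0, [2, 5, 4, 8, 8, 0, 3, 5, 8, 2]), (5, 0, [0, 2, 3, 7, 4, 8, 8, 6, 3]),
   (0, 0, []), (9, 0, [5, 7, 2, 6, 7, 7, 6, 3, 1]), (0, 0, []), (11, 0, [5, 7, 0, 2, 1, 7, 0, 5, 0]),
   (0, 0, []), (0, 0, []), (10, 0, [1, 7, 5, 4, 0, 7, 2, 7, 6, 0]), (0, 0, []),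
   (11, 0, [7, 2, 1, 6, 1, 7, 6, 0, 6]), (0, 0, []), (6, 0, [1, 3, 5, 4, 8, 0, 2, 8, 0, 5]), (7, 0, [2, 1, 3, 3, 0, 2, 4, 0, 4]),
   (0, 0, []), (0, 0, []), (0, 0, []), (5, 0, [7, 2, 8, 6, 8, 1, 4, 0]),
   (10, 0, [0, 2, 7, 5, 7, 6, 7, 3, 2]), (0, 0, []), (0, 0, []), (0, 0, []),
   (9, 0, [8, 1, 8, 2, 6, 0, 5, 7, 0]), (0, 0, []), (4, 0, [2, 1, 7, 6, 1, 2, 5, 1, 4, 0, 0]), (0, 3, []),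
   (0, 0, []), (5, 0, [0, 2, 6, 6, 8, 8, 8, 5, 0, 7]), (10, 0, [0, 0, 3, 1, 2, 7, 3, 5, 1, 1]), (5, 0, [5, 5, 7, 4, 8, 6, 1, 3, 0]),
   (10, 0, [1, 3, 7, 4, 5, 1, 5, 1]), (6, 0, [5, 3, 3, 8, 2, 7, 5, 5, 7]), (0, 0, []), (7, 0, [2, 7, 7, 2, 4, 4, 6, 7, 2]),
   (4, 0, [1, 4, 4, 1, 3, 0, 2, 8, 5, 2, 0]), (0, 0, []), (0, 0, []), (0, 0, []),
   (7, 0, [2, 1, 5, 1, 7, 0, 5, 0, 7]), (6, 0, [0, 4, 0, 7, 2, 1, 7, 3, 5, 3]), (2, 0, []), (0, 2, []),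
   (4, 0, [7, 7, 7, 6, 1, 7, 3, 5, 2]), (4, 0, [2, 7, 7, 3, 7, 7, 3, 5, 2]), (4, 0, [1, 5, 3, 8, 1, 2, 3, 8, 4, 2, 1]), (7, 0, [4, 0, 7, 2, 3, 8, 2, 5, 8]),
   (11, 0, [4, 1, 6, 7, 0, 3, 1, 3, 2]), (0, 1, []), (11, 0, [3, 3, 1, 8, 1, 7, 7, 2]), (7, 0, [2, 1, 3, 8, 8, 1, 7, 5, 3, 1]),
   (7, 0, [3, 8, 4, 1, 6, 7, 7, 2]), (11, 0, [4, 5, 0, 5, 0, 7, 4, 4, 2]), (4, 0, [7, 3, 7, 7, 6, 6, 7, 0, 2]), (0, 1, []),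
   (4, 0, [2, 4, 8, 8, 4, 8, 8, 5, 2]), (11, 0, [2, 4, 4, 1, 7, 7, 2, 6, 0, 3, 0]), (0, 0, []), (0, 0, []),
   (4, 0, [7, 2, 1, 3, 8, 8, 1]), (7, 0, [2, 7, 6, 3, 7, 3, 1, 1, 1, 3]), (7, 0, [4, 4, 8, 1, 4, 0, 2, 8, 0, 0]), (4, 0, [0, 2, 0, 7, 3, 1, 8, 1, 7, 7]),
   (11, 0, [2, 1, 1, 8, 2, 8, 4, 8, 6, 7, 0]), (0, 0, []), (0, 0, []), (4, 0, [1, 8, 4, 0, 2, 8, 2, 5, 1, 4, 1]),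
   (0, 0, []), (0, 0, []), (0, 0, []), (0, 0, []),
   (5, 0, [1, 6, 3, 8, 1, 8, 2, 5, 8, 1]), (5, 0, [2, 5, 3, 0, 3, 8, 1, 7, 2]), (3, 0, []), (0, 1, []),
   (0, 1, []), (5, 0, [1, 7, 3, 6, 7, 6, 0, 2, 1, 3, 0]), (5, 0, [1, 7, 2, 8, 2, 5, 0, 5, 8, 1]), (7, 0, [4, 0, 4, 6, 1, 7, 6, 3, 1, 2]),
   (0, 1, []), (7, 0, [3, 6, 0, 3, 7, 0, 2]), (0, 1, []), (0, 1, []),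
   (0, 1, []), (4, 0, [2, 1, 5, 7, 2, 7, 0, 3, 1, 1]), (0, 1, []), (6, 0, [2, 3, 3, 1, 8, 2, 6, 8, 2]),
   (6, 0, [1, 2, 0, 7, 5, 0, 3, 8, 0, 4]), (10, 0, [0, 2, 7, 0, 0, 7, 2, 7, 6, 0]), (0, 0, []), (0, 0, []),
   (10, 0, [0, 2, 7, 2, 0, 3, 7, 4, 1, 1]), (11, 0, [2, 0, 3, 8, 1, 2, 4, 0, 7, 0]), (0, 0, []), (0, 0, []),
   (0, 0, []), (0, 0, []), (4, 0, [2, 1, 3, 7, 4, 8, 2, 1, 8, 5, 1]), (0, 0, []),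
   (0, 0, []), (7, 0, [2, 1, 8, 2, 1, 3, 3, 8, 5, 0]), (0, 0, []), (5, 0, [1, 7, 2, 0, 5, 7, 7, 6, 0, 3]),
   (0, 2, []), (0, 0, []), (0, 0, []), (11, 0, [4, 6, 1, 6, 7, 7, 2, 6, 0, 7]),
   (3, 0, []), (0, 0, []), (0, 0, []), (7, 0, [2, 3, 6, 1, 7, 2, 6, 8, 0]),
   (0, 0, []), (5, 0, [1, 5, 7, 2, 8, 8, 5, 1, 3]), (10, 0, [5, 8, 6, 0, 2, 8, 1, 3, 1]), (6, 0, [1, 3, 5, 7, 5, 7, 6, 3, 3]),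
   (0, 0, []), (0, 0, []), (10, 0, [1, 8, 5, 5, 8, 2, 8, 0, 2]), (6, 0, [2, 6, 4, 8, 6, 0, 6, 3, 8]),
   (4, 0, [1, 7, 2, 6, 6, 3, 0, 3, 8, 4, 0]), (0, 0, []), (5, 0, [1, 2, 1, 7, 4, 1, 5, 1, 1, 7]), (6, 0, [5, 4, 0, 7, 6, 3, 8, 1, 2]),
   (7, 0, [2, 3, 0, 5, 7, 0, 2, 8, 8]), (5, 0, [2, 1, 8, 8, 2, 7, 5, 8, 0, 0]), (10, 0, [0, 3, 6, 7, 2, 3, 8, 5, 0, 2]), (0, 0, []),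
   (0, 0, []), (0, 0, []), (0, 0, []), (7, 0, [2, 3, 3, 1, 5, 3, 7, 0, 4, 0]),
   (5, 0, [1, 8, 2, 7, 6, 8, 1, 6, 3, 3, 0]), (6, 0, [1, 7, 5, 4, 4, 0, 3, 5, 2]), (0, 0, []), (10, 0, [3, 8, 2, 5, 7, 7, 0, 5, 3]),
   (7, 0, [2, 6, 3, 8, 1, 8, 4, 1]), (0, 0, []), (5, 0, [1, 3, 0, 2, 6, 1, 7, 5, 8, 8]), (0, 0, []),
   (0, 0, []), (7, 0, [3, 3, 0, 2, 8, 4, 0, 7, 2]), (0, 0, []), (6, 0, [0, 4, 6, 4, 8, 2, 1, 7, 6, 0]),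
   (10, 0, [0, 5, 7, 4, 1, 2, 6, 8, 0]), (4, 0, [1, 1, 2, 8, 6, 8, 5, 1, 3, 1, 3]), (0, 0, [])]

def cert0_15 : List (ℕ × ℕ × List ℕ) :=
  [(3, 0, []), (0, 2, []), (9, 0, [1, 2, 7, 0, 6, 7, 2, 8, 5, 0]), (0, 2, []),
   (7, 0, [2, 7, 4, 0, 2, 7, 3]), (0, 4, []), (7, 0, [3, 6, 6, 8, 0, 6, 4, 2]), (4, 0, [3, 8, 2, 4, 1, 4, 1, 4, 1]),
   (3, 0, []), (5, 0, [0, 2, 6, 7, 4, 8, 8, 5, 1, 7, 0]), (0, 4, []), (0, 2, []),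
   (9, 0, [8, 2, 4, 0, 2, 1, 7, 4, 8, 1]), (4, 0, [1, 7, 0, 3, 7, 5, 8, 2]), (9, 0, [1, 7, 6, 8, 0, 0, 2, 7, 6, 1]), (0, 0, []),
   (5, 0, [1, 2, 8, 5, 0, 0, 7, 7, 3, 6]), (6, 0, [1, 8, 0, 0, 2, 0, 5, 7, 2, 1]), (4, 0, [1, 2, 7, 2, 0, 0, 2, 4, 0, 4, 1]), (9, 0, [0, 3, 5, 1, 2, 0, 7, 3, 0]),
   (10, 0, [1, 4, 4, 0, 7, 4, 8, 5, 0, 2]), (9, 0, [6, 8, 1, 2, 6, 7, 4, 2]), (0, 0, []), (10, 0, [1, 2, 4, 1, 3, 5, 7, 2, 0, 3]),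
   (5, 0, [6, 8, 1, 2, 6, 7, 4]), (0, 0, []), (0, 0, []), (0, 0, []),
   (6, 0, [1, 4, 4, 0, 7, 4, 8, 5, 0]), (0, 0, []), (0, 0, []), (9, 0, [1, 7, 6, 0, 6, 3, 8, 2, 8, 2]),
   (0, 0, []), (0, 0, []), (10, 0, [1, 2, 4, 1, 5, 7, 4, 1, 3, 3]), (0, 0, []),
   (0, 0, []), (11, 0, [3, 1, 5, 4, 0, 2, 1, 3]), (5, 0, [0, 2, 3, 7, 4, 8, 8, 5, 5, 3]), (7, 0, [4, 8, 5, 4, 0, 2, 8, 2, 0, 4]),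
   (0, 0, []), (0, 0, []), (0, 0, []), (4, 0, [1, 2, 3, 8, 0, 5, 7, 4, 4, 1, 4]),
   (6, 0, [0, 2, 4, 6, 4, 4, 8, 6, 4, 0, 0]), (0, 0, []), (11, 0, [4, 4, 1, 8, 2, 4, 8, 6, 1, 4]), (6, 0, [1, 3, 7, 6, 4, 8, 6, 3, 2]),
   (0, 0, []), (10, 0, [0, 4, 4, 8, 1, 4, 8, 2, 7, 2]), (9, 0, [1, 7, 7, 6, 6, 4, 1, 3, 0, 2]), (9, 0, [2, 8, 2, 1, 7, 0, 5, 7]),
   (0, 0, []), (0, 0, []), (4, 0, [1, 4, 8, 0, 2, 4, 0, 7, 0, 4, 0]), (0, 0, []),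
   (10, 0, [1, 2, 8, 1, 5, 3, 1, 1, 2, 1]), (0, 0, []), (11, 0, [2, 7, 3, 3, 0, 2, 4, 5, 7, 3]), (6, 0, [2, 8, 8, 8, 0, 6, 4, 2, 8, 0]),
   (0, 0, []), (0, 0, []), (0, 0, []), (4, 0, [7, 6, 3, 1, 2, 5, 3, 8, 2]),
   (0, 0, []), (7, 0, [4, 4, 8, 1, 4, 0, 2, 8, 5, 0]), (4, 0, [7, 2, 1, 3, 8, 8, 1, 5]), (0, 0, []),
   (11, 0, [2, 7, 3, 0, 2, 6, 1, 7, 7, 0]), (0, 0, []), (0, 0, []), (7, 0, [3, 0, 2, 8, 5, 3, 7, 3, 6]),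
   (11, 0, [4, 0, 5, 5, 8, 1, 1, 2, 7, 3]), (0, 0, []), (4, 0, [7, 6, 3, 1, 7, 2, 1, 1, 3]), (0, 0, []),
   (6, 0, [1, 4, 8, 6, 1, 7, 2, 7, 3, 1]), (0, 0, []), (0, 0, []), (0, 0, []),
   (0, 0, []), (10, 0, [1, 3, 1, 3, 8, 8, 0, 2, 0, 0]), (11, 0, [2, 4, 0, 0, 0, 3, 5, 8, 4, 0]), (0, 0, []),
   (2, 0, []), (7, 0, [3, 0, 2, 8, 5, 8, 8, 0, 3]), (0, 0, []), (0, 0, []),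
   (0, 0, []), (0, 0, []), (11, 0, [4, 0, 5, 7, 2, 6, 7, 6, 4, 1]), (0, 1, []),
   (0, 1, []), (4, 0, [2, 8, 8, 1, 3, 6, 3, 3, 2]), (3, 0, []), (4, 0, [1, 2, 7, 6, 8, 2, 5, 8, 2, 1]),
   (0, 2, []), (9, 0, [0, 2, 0, 3, 7, 3, 7, 4, 8]), (0, 1, []), (2, 0, []),
   (0, 1, []), (9, 0, [1, 4, 5, 8, 2, 5, 8, 6, 4, 1]), (4, 0, [0, 2, 1, 8, 0, 0, 4, 0, 2, 0]), (0, 4, []),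
   (7, 0, [2, 8, 0, 7, 2, 7, 2, 8, 0, 0]), (0, 1, []), (9, 0, [2, 6, 1, 7, 6, 0, 2]), (0, 1, []),
   (4, 0, [7, 4, 0, 7, 2, 5, 4, 8, 1]), (9, 0, [1, 2, 8, 5, 4, 0, 0, 7, 3, 0]), (0, 2, []), (7, 0, [7, 2, 3, 0, 3, 7, 4, 6, 0]),
   (3, 0, []), (0, 1, []), (11, 0, [6, 7, 6, 7, 5, 8, 4, 2]), (0, 3, []),
   (0, 1, []), (4, 0, [3, 0, 4, 6, 1, 4, 5, 0, 2]), (2, 0, []), (4, 0, [0, 3, 1, 8, 1, 2, 6, 7, 6, 6]),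
   (0, 0, []), (10, 0, [0, 2, 7, 5, 7, 6, 7, 3, 6, 2]), (11, 0, [7, 2, 1, 6, 1, 7, 6, 0]), (5, 0, [7, 2, 8, 6, 8, 1, 4, 0, 5]),
   (0, 0, []), (6, 0, [1, 7, 4, 0, 7, 2, 8, 1, 7, 0]), (0, 0, []), (0, 0, []),
   (9, 0, [1, 7, 0, 4, 8, 1, 8, 5, 2, 8]), (4, 0, [2, 1, 7, 6, 1, 2, 8, 4, 5, 3, 0]), (7, 0, [2, 1, 1, 2, 7, 2, 4, 5, 8, 1]), (0, 0, []),
   (0, 0, []), (0, 0, []), (0, 0, []), (0, 0, []),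
   (0, 0, []), (10, 0, [1, 5, 1, 5, 4, 0, 7, 2, 7, 0]), (5, 0, [8, 1, 1, 7, 3, 3, 5, 2, 1]), (6, 0, [0, 3, 3, 6, 7, 7, 3, 5, 2, 1]),
   (7, 0, [2, 3, 0, 7, 2, 1, 8, 1, 4]), (0, 0, []), (4, 0, [1, 2, 3, 8, 2, 0, 7, 6, 3, 8, 0]), (0, 0, []),
   (0, 0, []), (7, 0, [2, 6, 3, 8, 1, 8, 4, 1, 6]), (6, 0, [1, 2, 1, 6, 1, 3, 8, 4, 2, 0]), (5, 0, [1, 8, 2, 7, 6, 8, 1, 5, 3, 7]),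
   (10, 0, [1, 7, 7, 2, 6, 3, 1, 8, 5, 0]), (0, 0, []), (5, 0, [0, 4, 8, 2, 1, 3, 1, 3, 3, 8, 0]), (0, 0, []),
   (9, 0, [5, 0, 7, 2, 8, 1, 8, 6]), (10, 0, [1, 7, 3, 7, 6, 3, 7, 7]), (0, 0, []), (4, 0, [0, 5, 7, 0, 2, 5, 8, 1, 5, 2]),
   (7, 0, [2, 8, 8, 1, 2, 5, 7, 3, 8, 5]), (0, 0, []), (0, 0, []), (0, 0, []),
   (0, 0, []), (0, 0, []), (11, 0, [4, 1, 2, 8, 0, 7, 4, 5, 7]), (0, 0, []),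
   (6, 0, [1, 5, 3, 0, 2, 4, 1, 4, 0, 0]), (4, 0, [1, 7, 0, 7, 7, 0, 7, 0, 2]), (0, 1, []), (4, 0, [8, 1, 3, 8, 5, 1, 4, 8]),
   (0, 1, []), (3, 0, []), (4, 0, [0, 4, 6, 0, 3, 7, 6, 8, 4, 2]), (3, 0, []),
   (3, 0, []), (0, 1, []), (0, 1, []), (0, 1, []),
   (1, 0, []), (3, 0, []), (0, 1, []), (0, 1, []),
   (11, 0, [4, 1, 7, 3, 5, 1, 1, 7, 6]), (4, 0, [2, 0, 0, 3, 1, 7, 6, 3, 1, 4]), (7, 0, [4, 8, 0, 6, 7, 3, 8, 1]), (4, 0, [4, 8, 8, 4, 8, 5, 1, 4]),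
   (0, 0, []), (7, 0, [4, 1, 7, 5, 8, 8, 4, 5, 1]), (4, 0, [7, 0, 3, 7, 6, 7, 2, 7]), (2, 0, []),
   (11, 0, [4, 4, 1, 5, 4, 4, 1, 5, 1]), (11, 0, [7, 5, 4, 4, 8, 0, 0, 0]), (4, 0, [2, 1, 4, 8, 8, 4, 8, 6, 6]), (4, 0, [7, 7, 3, 7, 7, 6, 6, 3]),
   (7, 0, [5, 4, 8, 8, 6, 8, 8, 0]), (0, 1, []), (0, 0, []), (3, 0, []),
   (4, 0, [2, 1, 3, 0, 3, 0, 7, 6, 6]), (0, 1, []), (3, 0, []), (0, 1, []),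
   (2, 0, []), (2, 0, []), (3, 0, []), (3, 0, []),
   (4, 0, [0, 7, 6, 8, 0, 5, 8, 0]), (0, 1, []), (3, 0, []), (4, 0, [2, 1, 7, 4, 1, 8, 1, 1]),
   (3, 0, []), (0, 1, []), (0, 0, []), (7, 0, [7, 4, 8, 0, 3, 0, 3]),
   (5, 0, [2, 1, 7, 6, 3, 8, 6]), (11, 0, [4, 5, 5, 8, 4, 8, 8, 4, 0]), (4, 0, [8, 8, 1, 4, 6, 4]), (0, 0, []),
   (3, 0, []), (5, 0, [1, 6, 1, 6, 7, 2, 7, 3, 3, 8]), (4, 0, [3, 1, 3, 8, 1, 3, 3, 0]), (2, 0, []),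
   (4, 0, [2, 0, 0, 4, 8, 8, 5, 4, 1]), (0, 0, []), (0, 1, []), (0, 0, []),
   (0, 0, []), (0, 1, []), (4, 0, [3, 0, 5, 4, 1, 1, 7]), (0, 0, []),
   (0, 0, []), (0, 0, []), (5, 0, [2, 6, 1, 7, 6, 0, 6]), (11, 0, [4, 6, 0, 5, 7, 7, 4, 4]),
   (4, 0, [0, 7, 6, 8, 1, 7, 4, 1, 3, 0]), (0, 0, []), (4, 0, [2, 3, 0, 4, 6, 1, 4, 0, 0]), (5, 0, [2, 5, 0, 7, 5, 5, 7, 0]),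
   (2, 0, []), (3, 0, []), (0, 0, []), (7, 0, [6, 7, 6, 3, 8, 6, 4]),
   (3, 0, []), (0, 1, []), (3, 0, []), (3, 0, []),
   (3, 0, []), (4, 0, [2, 1, 7, 7, 6, 6, 4, 0, 7, 0]), (4, 0, [2, 0, 4, 0, 3, 7, 5, 4, 8, 8]), (4, 0, [1, 4, 0, 6, 4, 8, 1, 8, 4]),
   (0, 1, []), (3, 0, []), (0, 1, []), (3, 0, []),
   (3, 0, []), (3, 0, []), (0, 1, []), (0, 0, []),
   (9, 0, [2, 0, 4, 6, 1, 3, 5, 5]), (3, 0, []), (4, 0, [7, 3, 1, 7, 2, 8, 5, 8, 6]), (0, 0, []),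
   (0, 0, []), (0, 0, []), (2, 0, []), (4, 0, [2, 0, 3, 6, 7, 7, 3, 1, 1]),
   (4, 0, [2, 3, 7, 3, 1, 1, 7, 6, 1]), (0, 0, []), (7, 0, [3, 1, 3, 1, 7, 0, 3, 3]), (0, 1, []),
   (9, 0, [1, 5, 8, 8, 1, 2, 7, 4, 8, 0]), (11, 0, [4, 8, 5, 4, 8, 8, 0, 6]), (0, 1, []), (4, 0, [0, 5, 3, 1, 7, 6, 7, 7, 0]),
   (3, 0, []), (2, 0, []), (3, 0, []), (2, 0, []),
   (4, 0, [2, 1, 3, 3, 0, 5, 5, 4, 0]), (4, 0, [1, 4, 4, 1, 5, 7, 3, 8, 4, 2]), (2, 0, []), (3, 0, []),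
   (0, 1, []), (2, 0, []), (0, 1, []), (3, 0, []),
   (0, 1, []), (3, 0, []), (7, 0, [4, 6, 4, 8, 8, 4, 6, 0]), (7, 0, [3, 8, 6, 1, 4, 8, 6, 3, 0]),
   (9, 0, [1, 2, 4, 5, 0, 4, 0, 3, 6, 2]), (4, 0, [2, 4, 1, 1, 3, 7, 3, 3, 0, 3]), (9, 0, [2, 5, 8, 8, 4, 0, 0, 0, 4, 0]), (0, 1, []),
   (0, 1, []), (3, 0, []), (0, 0, []), (4, 0, [1, 3, 1, 7, 3, 7, 3, 7]),
   (9, 0, [6, 1, 3, 7, 2, 3, 8, 1, 1, 1]), (0, 0, []), (5, 0, [2, 6, 3, 3, 7, 6]), (0, 0, []),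
   (4, 0, [0, 7, 6, 7, 7, 6, 3, 7, 0, 2]), (3, 0, []), (3, 0, []), (0, 1, []),
   (2, 0, []), (3, 0, []), (0, 1, []), (0, 1, []),
   (2, 0, []), (3, 0, []), (2, 0, []), (2, 0, []),
   (4, 0, [2, 0, 3, 5, 3, 7, 4, 8, 6]), (0, 1, []), (4, 0, [0, 4, 1, 7, 7, 6, 4, 1, 1]), (0, 0, []),
   (2, 0, []), (4, 0, [1, 8, 8, 4, 8, 4, 4, 6]), (7, 0, [4, 6, 0, 7, 6, 7, 4, 4, 0]), (0, 0, []),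
   (0, 0, []), (0, 1, []), (0, 0, []), (0, 1, []),
   (0, 0, []), (9, 0, [1, 5, 5, 7, 2, 3, 8, 4, 0]), (11, 0, [5, 7, 5, 3, 1, 4, 4]), (3, 0, []),
   (0, 0, []), (9, 0, [2, 6, 3, 7, 6, 3, 1, 1]), (4, 0, [1, 3, 5, 8, 8, 5, 3, 5, 1]), (0, 0, []),
   (5, 0, [2, 1, 4, 0, 4, 0, 0, 7, 0]), (5, 0, [2, 7, 3, 3, 8, 1, 7, 6, 1]), (4, 0, [1, 5, 7, 4, 4, 6, 7, 6]), (5, 0, [2, 1, 8, 4, 8, 5, 5, 1, 7]),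
   (0, 0, []), (0, 0, []), (5, 0, [2, 1, 5, 8, 5, 1, 5, 4, 1]), (9, 0, [2, 8, 4, 5, 1, 7, 0, 6, 0]),
   (4, 0, [7, 3, 8, 6, 4, 1, 3, 0]), (5, 0, [2, 0, 3, 3, 8, 1, 1, 8, 5]), (4, 0, [1, 5, 1, 7, 3, 8, 6, 0]), (0, 0, []),
   (0, 0, []), (0, 0, []), (3, 0, []), (0, 1, []),
   (7, 0, [4, 8, 6, 8, 1, 8, 4, 4, 1]), (0, 0, []), (4, 0, [8, 8, 1, 4, 5, 5, 4]), (4, 0, [8, 8, 5, 3, 7, 7, 6, 0]),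
   (0, 0, []), (0, 0, []), (5, 0, [0, 2, 0, 3, 7, 3, 7, 4, 8, 2]), (0, 0, []),
   (5, 0, [2, 1, 7, 6, 3, 1, 6, 8]), (2, 0, []), (11, 0, [3, 1, 4, 0, 5, 5, 0, 3]), (4, 0, [1, 3, 7, 2, 8, 4, 1, 1, 8, 0]),
   (4, 0, [0, 3, 5, 8, 5, 8, 0, 6]), (4, 0, [8, 8, 6, 8, 4]), (0, 0, []), (4, 0, [2, 0, 4, 8, 0, 0, 3, 8, 0]),
   (0, 0, []), (0, 0, []), (0, 0, []), (5, 0, [2, 1, 7, 3, 0, 5, 8]),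
   (5, 0, [2, 8, 0, 0, 6, 3, 1, 3, 6]), (0, 0, []), (0, 1, []), (2, 0, []),
   (11, 0, [4, 4, 6, 0, 3, 1, 3, 7, 0]), (7, 0, [2, 5, 8, 5, 4, 4, 8, 8, 2]), (3, 0, []), (4, 0, [2, 1, 3, 3, 0, 4, 1, 1, 3, 8]),
   (0, 1, []), (3, 0, []), (2, 0, []), (3, 0, []),
   (3, 0, []), (3, 0, []), (0, 1, []), (2, 0, []),
   (0, 1, []), (4, 0, [1, 7, 6, 6, 8, 0, 4, 0, 0, 0]), (2, 0, []), (0, 1, []),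
   (2, 0, []), (4, 0, [1, 4, 5, 5, 8, 8, 0, 3, 2]), (7, 0, [4, 1, 4, 8, 6, 4, 1, 4, 4]), (0, 0, []),
   (0, 0, []), (4, 0, [8, 8, 1, 4, 6, 4, 6]), (3, 0, []), (4, 0, [2, 0, 0, 4, 8, 8, 5, 4, 1, 6]),
   (0, 0, []), (5, 0, [2, 1, 7, 3, 8, 6, 1, 8, 1]), (0, 1, []), (2, 0, []),
   (0, 0, []), (5, 0, [2, 1, 7, 6, 3, 8, 6, 6]), (4, 0, [0, 5, 3, 8, 5, 0, 3, 0]), (0, 0, []),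
   (11, 0, [3, 1, 6, 6, 4, 1, 1, 3]), (4, 0, [2, 0, 4, 1, 8, 5, 0, 4, 4]), (9, 0, [2, 5, 1, 3, 1, 3, 7, 6]), (0, 0, []),
   (4, 0, [0, 4, 5, 8, 1, 6, 3, 3, 1]), (7, 0, [6, 7, 3, 3, 0, 4, 0]), (0, 0, []), (0, 0, []),
   (0, 0, []), (0, 0, []), (9, 0, [2, 7, 7, 5, 8, 4, 0]), (3, 0, []),
   (3, 0, []), (9, 0, [1, 2, 1, 4, 1, 3, 7, 2]), (7, 0, [4, 8, 4, 8, 1, 3, 0, 6]), (5, 0, [2, 6, 7, 4, 8, 0, 6, 6]),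
   (9, 0, [2, 1, 5, 1, 5, 4, 1]), (3, 0, []), (5, 0, [6, 6, 1, 8, 8, 8, 2, 7, 0]), (0, 0, []),
   (4, 0, [2, 8, 0, 3, 6, 7, 5, 3]), (9, 0, [2, 1, 8, 1, 5, 8, 8, 6, 7]), (0, 0, []), (11, 0, [4, 6, 0, 4, 0, 7, 7, 0]),
   (0, 0, []), (4, 0, [1, 8, 8, 1, 4, 1, 7, 7, 0]), (5, 0, [2, 8, 0, 3, 1, 8, 1, 5]), (3, 0, []),
   (3, 0, []), (4, 0, [2, 8, 1, 8, 8, 5, 1]), (11, 0, [4, 4, 6, 8, 5, 1, 8, 4]), (3, 0, []),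
   (0, 1, []), (0, 4, []), (4, 0, [1, 7, 0, 7, 7, 4, 8, 6, 8, 0]), (0, 1, []),
   (4, 0, [0, 0, 7, 0, 3, 8, 0, 5, 2]), (4, 0, [0, 7, 6, 7, 0, 3, 1, 2]), (3, 0, []), (0, 1, []),
   (3, 0, []), (3, 0, []), (3, 0, []), (2, 0, []),
   (3, 0, []), (2, 0, []), (4, 0, [0, 4, 0, 3, 3, 8, 8, 6, 0]), (0, 1, []),
   (0, 1, []), (0, 1, []), (2, 0, []), (0, 1, []),
   (4, 0, [8, 6, 4, 8, 0, 5, 7, 0]), (0, 1, []), (2, 0, []), (0, 1, []),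
   (2, 0, []), (4, 0, [3, 7, 7, 6, 4, 0, 5, 3]), (0, 1, []), (2, 0, []),
   (0, 1, []), (0, 0, []), (0, 0, []), (0, 0, []),
   (0, 0, []), (11, 0, [4, 0, 4, 0, 5, 3, 7, 6, 0]), (9, 0, [2, 7, 6, 0, 7, 4, 8, 6, 1]), (3, 0, []),
   (9, 0, [5, 8, 2, 4, 6, 8, 2, 0, 5]), (0, 0, []), (0, 0, []), (11, 0, [7, 5, 3, 8, 0, 6, 4, 0]),
   (0, 0, []), (9, 0, [2, 5, 1, 8, 0, 0, 7]), (4, 0, [0, 4, 1, 8, 8, 6, 8, 6, 0]), (9, 0, [2, 8, 4, 8, 5, 8, 0, 3, 0]),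
   (0, 1, []), (3, 0, []), (3, 0, []), (0, 1, []),
   (0, 1, []), (4, 0, [0, 4, 1, 8, 5, 8, 1, 6, 2]), (3, 0, []), (3, 0, []),
   (3, 0, []), (0, 1, []), (4, 0, [2, 1, 1, 7, 4, 4, 8, 8, 8]), (2, 0, []),
   (3, 0, []), (2, 0, []), (4, 0, [1, 1, 8, 8, 4, 4, 0, 3, 3])]

def cert0_16 : List (ℕ × ℕ × List ℕ) :=
  [(3, 0, []), (0, 1, []), (0, 1, []), (3, 0, []),
   (0, 1, []), (0, 1, []), (1, 0, []), (4, 0, [8, 4, 1, 6, 3, 1, 4, 1, 2]),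
   (0, 1, []), (0, 1, []), (4, 0, [1, 8, 1, 8, 8, 1, 8, 0, 2]), (3, 0, []),
   (3, 0, []), (0, 1, []), (4, 0, [0, 7, 7, 3, 1, 3, 1, 8, 4]), (0, 2, []),
   (3, 0, []), (9, 0, [1, 8, 1, 1, 1, 7, 2, 0, 0]), (0, 0, []), (0, 0, []),
   (5, 0, [1, 4, 4, 1, 5, 4, 8, 1, 2]), (0, 0, []), (0, 0, []), (5, 0, [7, 6, 6, 1, 7, 7, 5, 5, 2]),
   (4, 0, [0, 4, 0, 7, 4, 1, 3, 5, 1]), (4, 0, [1, 2, 7, 0, 3, 8, 2, 7, 3]), (0, 0, []), (3, 0, []),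
   (5, 0, [2, 1, 4, 4, 6, 0, 3, 8]), (3, 0, []), (2, 0, []), (0, 1, []),
   (4, 0, [2, 1, 3, 6, 6, 1, 4, 4, 0]), (3, 0, []), (2, 0, []), (4, 0, [1, 8, 8, 5, 8, 0, 4, 6, 1]),
   (2, 0, []), (3, 0, []), (0, 1, []), (0, 1, []),
   (4, 0, [2, 7, 4, 1, 8, 1, 8, 6, 4, 0]), (2, 0, []), (3, 0, []), (0, 1, []),
   (3, 0, []), (5, 0, [2, 5, 5, 8, 8, 1, 7, 4, 5]), (9, 0, [1, 5, 3, 5, 8, 4, 5, 0, 2, 1]), (0, 0, []),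
   (3, 0, []), (0, 0, []), (7, 0, [4, 5, 1, 5, 3, 8, 0, 0, 0]), (0, 0, []),
   (4, 0, [2, 0, 3, 1, 8, 1, 1, 3, 8, 0]), (9, 0, [2, 7, 7, 7, 4, 1, 3, 5]), (0, 0, []), (9, 0, [2, 0, 3, 3, 7, 7, 6, 0]),
   (3, 0, []), (4, 0, [0, 4, 1, 6, 3, 8, 1, 8, 0]), (7, 0, [4, 8, 1, 4, 8, 8, 1, 8, 0]), (0, 0, []),
   (3, 0, []), (4, 0, [2, 1, 7, 0, 3, 3, 8, 5, 5]), (5, 0, [1, 3, 7, 2, 5, 7, 5, 7, 3, 3]), (0, 0, []),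
   (11, 0, [4, 6, 4, 8, 1, 4, 8, 5]), (4, 0, [2, 1, 8, 8, 5, 4, 8, 1, 8, 0]), (11, 0, [3, 8, 1, 7, 6, 0, 5, 0]), (5, 0, [8, 4, 0, 2, 5, 8, 5, 0, 7, 0]),
   (5, 0, [2, 8, 8, 6, 1, 4, 8, 8, 0]), (3, 0, []), (9, 0, [2, 1, 8, 4, 8, 1, 8, 0]), (0, 1, []),
   (0, 0, []), (0, 0, []), (0, 1, []), (0, 0, []),
   (7, 0, [4, 5, 4, 8, 4, 0, 7, 7, 0]), (11, 0, [4, 1, 7, 3, 5, 1, 1, 7]), (4, 0, [2, 0, 3, 0, 6, 7, 6, 7, 6, 0]), (0, 2, []),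
   (4, 0, [3, 8, 4, 1, 5, 8, 6, 0]), (7, 0, [3, 6, 7, 3, 6, 1, 8, 1]), (11, 0, [6, 6, 4, 0, 3, 1, 3]), (11, 0, [4, 4, 8, 1, 5, 7, 3, 8]),
   (4, 0, [7, 7, 3, 7, 7, 5, 3]), (4, 0, [2, 1, 4, 8, 8, 4, 8, 6]), (2, 0, []), (7, 0, [2, 1, 3, 7, 2, 7, 3, 0, 3]),
   (0, 0, []), (4, 0, [1, 5, 8, 8, 1, 5, 3, 3, 2, 0]), (9, 0, [1, 2, 4, 1, 5, 5, 8, 5, 2, 0]), (0, 0, []),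
   (4, 0, [2, 0, 0, 7, 7, 0, 7, 5]), (3, 0, []), (9, 0, [2, 7, 3, 7, 7, 6, 8, 1]), (4, 0, [1, 7, 7, 7, 0, 3, 7, 7, 4]),
   (7, 0, [6, 3, 3, 8, 8, 1, 3]), (7, 0, [3, 3, 6, 1, 4, 8, 4]), (3, 0, []), (5, 0, [2, 5, 0, 4, 6, 0, 4, 8, 1]),
   (0, 0, []), (3, 0, []), (4, 0, [2, 0, 7, 7, 5, 3, 1, 1, 3]), (5, 0, [2, 0, 7, 0, 4, 4, 8, 5, 0]),
   (0, 0, []), (3, 0, []), (3, 0, []), (3, 0, []),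
   (0, 2, []), (3, 0, []), (0, 2, []), (0, 2, []),
   (4, 0, [1, 7, 7, 3, 1, 5, 1, 1, 3, 0]), (3, 0, []), (4, 0, [2, 1, 8, 8, 4, 8, 5, 8, 6, 0]), (3, 0, []),
   (0, 1, []), (3, 0, []), (4, 0, [1, 7, 7, 7, 4, 6, 1, 8, 8, 2]), (3, 0, []),
   (4, 0, [1, 5, 7, 6, 4, 8, 6, 7]), (0, 0, []), (0, 0, []), (4, 0, [1, 5, 7, 6, 3, 8, 1, 4, 0]),
   (5, 0, [2, 0, 7, 3, 5, 8, 8, 4, 0]), (4, 0, [1, 3, 5, 8, 5, 5, 0, 5, 0]), (4, 0, [1, 4, 0, 3, 5, 7, 4, 8, 5]), (0, 0, []),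
   (5, 0, [2, 1, 5, 8, 8, 8, 5, 3, 1]), (5, 0, [2, 6, 1, 4, 4, 0, 6, 3, 8, 0]), (9, 0, [2, 8, 0, 7, 6, 8, 1, 4, 4]), (0, 0, []),
   (5, 0, [1, 3, 7, 2, 8, 8, 5, 1, 7, 4]), (5, 0, [2, 0, 6, 3, 0, 7, 7, 6, 0]), (0, 0, []), (2, 0, []),
   (0, 1, []), (4, 0, [8, 6, 4, 8, 0, 7]), (0, 1, []), (4, 0, [8, 8, 8, 6, 1, 4, 6, 0]),
   (2, 0, []), (2, 0, []), (2, 0, []), (0, 1, []),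
   (0, 1, []), (0, 1, []), (0, 1, []), (4, 0, [3, 7, 7, 6, 4, 0, 3]),
   (0, 1, []), (0, 1, []), (2, 0, []), (0, 0, []),
   (11, 0, [4, 8, 5, 0, 4, 6, 1, 7, 3]), (5, 0, [2, 5, 0, 7, 6, 7, 5, 5, 0]), (3, 0, []), (0, 0, []),
   (7, 0, [6, 7, 6, 7, 5, 8, 4]), (0, 0, []), (0, 0, []), (4, 0, [0, 7, 4, 4, 0, 3, 7, 0, 3]),
   (5, 0, [2, 6, 1, 7, 6, 0]), (4, 0, [2, 1, 4, 1, 5, 5, 4, 8, 0, 0]), (4, 0, [3, 7, 0, 7, 6, 3, 7]), (0, 0, []),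
   (0, 1, []), (4, 0, [2, 1, 8, 1, 7, 0, 7, 6, 7]), (4, 0, [2, 1, 7, 0, 3, 3, 8, 5]), (5, 0, [1, 1, 6, 1, 3, 8, 2, 8, 2, 0]),
   (0, 0, []), (0, 0, []), (0, 1, []), (11, 0, [4, 6, 4, 8, 1, 4, 8]),
   (3, 0, []), (3, 0, []), (9, 0, [8, 4, 0, 2, 5, 5, 0, 4, 4]), (11, 0, [3, 8, 1, 7, 0, 6, 0]),
   (5, 0, [2, 8, 5, 4, 4, 0, 3, 8, 1]), (0, 2, []), (5, 0, [1, 7, 2, 8, 4, 8, 6, 8, 8, 2, 0]), (0, 0, []),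
   (4, 0, [2, 0, 7, 7, 7, 6, 3, 6, 8]), (4, 0, [0, 4, 1, 8, 5, 8, 1, 2]), (3, 0, []), (3, 0, []),
   (4, 0, [8, 8, 8, 1, 3, 6, 3, 1]), (0, 1, []), (3, 0, []), (2, 0, []),
   (0, 1, []), (3, 0, []), (2, 0, []), (0, 1, []),
   (0, 1, []), (3, 0, []), (3, 0, []), (4, 0, [2, 4, 1, 8, 4, 1, 7, 5]),
   (0, 0, []), (5, 0, [5, 1, 8, 4, 1, 2, 8, 1, 2]), (4, 0, [0, 7, 3, 6, 0, 3, 7, 3, 5]), (0, 0, []),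
   (3, 0, []), (5, 0, [2, 6, 0, 4, 5, 5, 0]), (9, 0, [0, 2, 3, 7, 2, 5, 7, 4, 5]), (3, 0, []),
   (3, 0, []), (7, 0, [2, 5, 8, 8, 0, 2, 6, 7, 2, 0]), (4, 0, [2, 0, 0, 7, 7, 0, 5, 7, 0]), (7, 0, [4, 4, 1, 3, 8, 5, 4, 5, 0]),
   (0, 0, []), (9, 0, [0, 2, 8, 6, 4, 4, 1, 4, 1, 2]), (4, 0, [2, 1, 3, 0, 3, 0, 7, 6]), (0, 1, []),
   (3, 0, []), (0, 2, []), (3, 0, []), (4, 0, [2, 1, 7, 4, 1, 8, 5, 1]),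
   (3, 0, []), (4, 0, [0, 7, 6, 8, 0, 5, 8, 0, 5]), (0, 1, []), (2, 0, []),
   (3, 0, []), (0, 1, []), (3, 0, []), (3, 0, []),
   (2, 0, []), (3, 0, []), (0, 1, []), (2, 0, []),
   (4, 0, [2, 1, 3, 0, 3, 0, 7]), (2, 0, []), (3, 0, []), (4, 0, [8, 4, 6, 8, 0, 6, 3, 8, 0]),
   (3, 0, []), (0, 1, []), (3, 0, []), (0, 1, []),
   (3, 0, []), (3, 0, []), (4, 0, [2, 1, 7, 4, 1, 8, 5, 1, 5]), (0, 1, []),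
   (5, 0, [1, 2, 0, 5, 3, 5, 8, 4, 2, 0]), (0, 0, []), (0, 0, []), (4, 0, [2, 0, 0, 4, 8, 8, 5, 4, 1, 5]),
   (7, 0, [4, 4, 6, 8, 4, 0, 7, 7]), (2, 0, []), (4, 0, [7, 7, 6, 6, 8, 1, 7]), (0, 1, []),
   (4, 0, [8, 8, 1, 5, 4, 4]), (3, 0, []), (0, 0, []), (11, 0, [4, 4, 5, 0, 4, 0, 7, 0, 0]),
   (0, 0, []), (5, 0, [2, 1, 7, 6, 3, 8]), (0, 0, []), (3, 0, []),
   (0, 1, []), (3, 0, []), (0, 1, []), (3, 0, []),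
   (4, 0, [1, 3, 1, 8, 8, 8, 6, 8]), (4, 0, [2, 0, 5, 7, 7, 6, 7, 3, 7]), (4, 0, [2, 1, 7, 0, 7, 7, 0, 6, 7]), (1, 0, []),
   (0, 1, []), (0, 1, []), (0, 1, []), (3, 0, []),
   (0, 1, []), (0, 2, []), (0, 0, []), (9, 0, [1, 3, 8, 8, 5, 4, 5, 8, 8, 2]),
   (0, 0, []), (0, 0, []), (11, 0, [4, 0, 3, 1, 7, 5, 8, 0, 3]), (0, 1, []),
   (7, 0, [3, 5, 5, 8, 5, 8, 5, 0]), (0, 0, []), (4, 0, [4, 8, 6, 0, 7, 6, 3]), (9, 0, [2, 6, 3, 7, 3, 1, 1, 1]),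
   (0, 2, []), (2, 0, []), (0, 0, []), (0, 0, []),
   (3, 0, []), (9, 0, [2, 0, 4, 4, 1, 4, 0, 6, 3]), (4, 0, [1, 4, 4, 8, 1, 3, 8, 0, 4, 0]), (3, 0, []),
   (3, 0, []), (5, 0, [8, 8, 4, 8, 2, 7, 3, 7, 2]), (0, 0, []), (0, 0, []),
   (7, 0, [6, 3, 3, 8, 8, 1, 5, 3]), (7, 0, [4, 4, 8, 8, 8, 6, 7, 7]), (4, 0, [2, 0, 7, 5, 7, 0, 3, 1, 3]), (0, 0, []),
   (5, 0, [2, 6, 0, 4, 5, 5, 0, 5]), (9, 0, [2, 1, 1, 1, 7, 5, 8, 8, 1]), (4, 0, [2, 7, 7, 0, 7, 5, 5, 3, 1]), (3, 0, []),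
   (4, 0, [2, 0, 7, 0, 5, 4, 1, 3, 3, 1]), (0, 1, []), (4, 0, [2, 1, 3, 0, 3, 0, 7, 5]), (3, 0, []),
   (3, 0, []), (3, 0, []), (4, 0, [1, 1, 8, 8, 4, 4, 0, 5, 3, 3]), (3, 0, []),
   (0, 1, []), (2, 0, []), (0, 1, []), (3, 0, []),
   (3, 0, []), (2, 0, []), (0, 1, []), (4, 0, [2, 7, 7, 6, 0, 7, 7, 5, 4]),
   (11, 0, [4, 1, 3, 0, 4, 4, 0, 7]), (0, 0, []), (0, 0, []), (0, 0, []),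
   (0, 0, []), (7, 0, [3, 3, 0, 7, 4, 0, 0, 4]), (2, 0, []), (3, 0, []),
   (0, 1, []), (0, 0, []), (5, 0, [0, 2, 5, 7, 6, 4, 8, 1, 3, 2]), (5, 0, [7, 2, 5, 7, 2, 1, 4, 6, 1]),
   (4, 0, [0, 4, 8, 6, 6, 7, 3, 8, 1]), (4, 0, [8, 8, 6, 8, 5, 4]), (0, 1, []), (4, 0, [2, 0, 0, 7, 7, 4, 8, 4, 5, 3]),
   (0, 0, []), (7, 0, [4, 4, 5, 0, 3, 0, 7, 0, 4]), (2, 0, []), (3, 0, []),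
   (0, 0, []), (0, 0, []), (9, 0, [2, 0, 5, 0, 4, 1, 7, 0, 3]), (0, 0, []),
   (4, 0, [2, 8, 6, 0, 4, 0, 3, 7, 4]), (4, 0, [2, 1, 1, 3, 0, 5, 3, 1, 4]), (0, 0, []), (9, 0, [2, 0, 4, 6, 1, 3, 5]),
   (11, 0, [3, 1, 7, 4, 5, 0, 3]), (0, 0, []), (9, 0, [1, 7, 6, 6, 1, 8, 2, 0, 4, 2]), (4, 0, [7, 3, 1, 7, 2, 8, 5, 8]),
   (9, 0, [2, 0, 4, 6, 1, 6, 6, 3]), (0, 2, []), (4, 0, [2, 1, 7, 6, 7, 5, 3, 1, 7, 3]), (3, 0, []),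
   (0, 0, []), (0, 0, []), (7, 0, [4, 8, 5, 8, 6, 4, 0, 7]), (2, 0, []),
   (0, 0, []), (4, 0, [2, 0, 3, 6, 7, 7, 3, 5, 1]), (0, 0, []), (11, 0, [4, 8, 5, 4, 8, 8, 0]),
   (0, 1, []), (0, 2, []), (4, 0, [0, 4, 0, 6, 7, 7, 4, 5, 0]), (4, 0, [2, 1, 1, 7, 3, 3, 1, 7, 6, 3, 0]),
   (0, 1, []), (2, 0, []), (2, 0, []), (3, 0, []),
   (2, 0, []), (2, 0, []), (3, 0, []), (3, 0, []),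
   (3, 0, []), (4, 0, [1, 4, 1, 4, 1, 2, 8, 4, 0]), (0, 1, []), (0, 0, []),
   (3, 0, []), (11, 0, [3, 1, 7, 3, 6, 6, 7, 0]), (5, 0, [2, 6, 1, 5, 3, 1, 1]), (0, 0, []),
   (4, 0, [2, 7, 0, 4, 8, 1, 6, 6, 1]), (4, 0, [1, 5, 3, 1, 4, 8, 6, 1, 3]), (0, 1, []), (4, 0, [7, 4, 4, 1, 4, 8, 4, 8]),
   (5, 0, [2, 5, 0, 7, 5, 7, 6]), (0, 0, []), (0, 0, []), (7, 0, [6, 7, 3, 1, 8, 4]),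
   (2, 0, []), (0, 0, []), (7, 0, [6, 7, 3, 3, 0, 4, 0, 5]), (9, 0, [2, 7, 7, 5, 8, 4, 0, 5]),
   (7, 0, [4, 8, 4, 8, 1, 3, 0]), (4, 0, [4, 8, 0, 3, 3, 7, 4, 4]), (0, 0, []), (3, 0, []),
   (4, 0, [2, 8, 8, 8, 0, 5, 8, 1]), (3, 0, []), (0, 0, []), (5, 0, [2, 6, 7, 4, 8, 0, 6]),
   (0, 0, []), (0, 0, []), (0, 0, []), (9, 0, [1, 2, 1, 4, 1, 3, 7, 6, 2]),
   (9, 0, [2, 5, 1, 3, 1, 3, 7]), (0, 0, []), (2, 0, []), (11, 0, [4, 6, 6, 0, 7, 5, 3, 7, 3]),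
   (0, 0, []), (7, 0, [6, 7, 3, 5, 8, 4, 8, 1]), (3, 0, []), (0, 0, []),
   (0, 0, []), (0, 1, []), (0, 3, []), (9, 0, [2, 5, 5, 7, 3, 0, 4, 5]),
   (4, 0, [3, 3, 7, 3, 7, 7, 0]), (0, 0, []), (0, 0, []), (9, 0, [2, 5, 7, 6, 3, 1, 6, 7]),
   (0, 2, []), (9, 0, [2, 7, 7, 0, 4, 4, 1, 4, 1]), (3, 0, []), (0, 1, []),
   (9, 0, [2, 0, 7, 5, 7, 3, 0, 7, 0]), (4, 0, [1, 7, 3, 8, 4, 1, 5, 1, 1]), (0, 0, []), (7, 0, [4, 4, 8, 0, 7, 0, 4, 0, 4, 0]),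
   (7, 0, [4, 5, 1, 3, 7, 3, 3, 5]), (5, 0, [2, 7, 6, 6, 0]), (3, 0, []), (4, 0, [2, 0, 3, 1, 7, 6, 8, 0, 3, 1]),
   (0, 0, []), (0, 0, []), (9, 0, [0, 2, 5, 3, 1, 7, 3, 0, 6, 2]), (3, 0, []),
   (0, 0, []), (4, 0, [8, 8, 1, 4, 5, 4]), (0, 0, []), (4, 0, [0, 3, 5, 8, 5, 8, 0]),
   (0, 0, []), (4, 0, [2, 0, 4, 8, 0, 0, 3, 8, 0, 5]), (0, 0, []), (2, 0, []),
   (5, 0, [2, 8, 0, 0, 6, 3, 1, 3]), (5, 0, [2, 1, 7, 3, 0, 5, 8, 5]), (0, 3, []), (0, 0, []),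
   (11, 0, [3, 1, 4, 8, 5, 3, 1, 3]), (7, 0, [3, 7, 5, 3, 0, 4, 1]), (9, 0, [2, 5, 3, 8, 0, 7, 0, 3]), (0, 1, []),
   (0, 0, []), (0, 0, []), (9, 0, [2, 0, 6, 0, 7, 0, 6, 0]), (0, 0, []),
   (0, 0, []), (0, 0, []), (3, 0, []), (0, 1, []),
   (0, 0, []), (11, 0, [4, 1, 7, 4, 6, 4, 8, 0]), (4, 0, [4, 8, 6, 0, 7, 3]), (7, 0, [4, 1, 7, 4, 5, 7, 0, 7]),
   (2, 0, []), (4, 0, [0, 4, 1, 6, 7, 0, 0, 7, 4]), (3, 0, []), (3, 0, []),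
   (4, 0, [1, 7, 7, 6, 6, 4, 0, 7, 0, 2]), (3, 0, []), (3, 0, []), (3, 0, []),
   (0, 1, []), (3, 0, []), (3, 0, []), (0, 1, []),
   (0, 1, []), (0, 1, []), (3, 0, []), (4, 0, [0, 4, 0, 3, 7, 5, 4, 8, 8, 2]),
   (0, 0, []), (0, 0, []), (4, 0, [2, 7, 7, 6, 0, 7, 7, 6, 4]), (0, 0, []),
   (11, 0, [4, 4, 5, 0, 4, 0, 7, 5, 0]), (4, 0, [8, 8, 1, 4, 4, 6]), (0, 0, []), (0, 1, []),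
   (0, 0, []), (5, 0, [2, 1, 7, 3, 1, 8]), (2, 0, []), (5, 0, [0, 2, 1, 6, 8, 0, 2, 0, 7]),
   (7, 0, [4, 6, 4, 0, 4, 1, 7, 3]), (3, 0, []), (4, 0, [0, 3, 7, 3, 1, 7, 7, 3])]

def cert0_17 : List (ℕ × ℕ × List ℕ) :=
  [(0, 1, []), (3, 0, []), (11, 0, [4, 1, 7, 7, 0, 0, 3, 7]), (5, 0, [2, 7, 4, 8, 4, 0, 7, 3, 0]),
   (0, 0, []), (4, 0, [2, 0, 7, 6, 1, 7, 7, 7, 5]), (0, 1, []), (5, 0, [2, 7, 4, 0, 0, 0, 6, 7, 3]),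
   (9, 0, [2, 8, 5, 4, 0, 7, 5, 5, 4, 0]), (11, 0, [3, 6, 6, 8, 0, 4]), (3, 0, []), (0, 0, []),
   (0, 0, []), (5, 0, [0, 3, 6, 7, 6, 7, 0, 2, 8]), (4, 0, [2, 1, 8, 1, 7, 0, 7, 7, 0, 5]), (3, 0, []),
   (0, 1, []), (7, 0, [4, 1, 8, 8, 4, 8, 1, 4]), (0, 0, []), (7, 0, [4, 1, 1, 7, 0, 7, 3, 1, 1]),
   (0, 1, []), (9, 0, [2, 6, 0, 5, 5, 7, 3, 1, 8, 0]), (9, 0, [1, 3, 5, 8, 8, 2, 7, 0, 0, 6]), (5, 0, [2, 6, 3, 3, 7]),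
   (4, 0, [1, 7, 3, 8, 6, 6, 4, 0, 0]), (9, 0, [2, 0, 3, 7, 7, 4, 0, 3, 8]), (0, 0, []), (4, 0, [0, 3, 0, 3, 0, 2, 3, 7, 4]),
   (3, 0, []), (0, 0, []), (0, 1, []), (0, 1, []),
   (1, 0, []), (0, 1, []), (3, 0, []), (4, 0, [1, 7, 0, 7, 7, 0, 6, 7, 2]),
   (0, 1, []), (0, 1, []), (3, 0, []), (4, 0, [4, 0, 4, 0, 5, 4, 8, 0]),
   (0, 1, []), (4, 0, [0, 5, 7, 7, 6, 7, 3, 7, 2]), (3, 0, []), (0, 1, []),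
   (3, 0, []), (0, 0, []), (9, 0, [2, 5, 7, 3, 3, 8, 6, 6]), (0, 0, []),
   (4, 0, [0, 3, 1, 3, 6, 1, 7, 0, 0]), (4, 0, [1, 5, 1, 7, 6, 4, 0, 4, 0]), (0, 1, []), (3, 0, []),
   (0, 0, []), (5, 0, [7, 6, 6, 1, 7, 7, 2]), (0, 0, []), (5, 0, [1, 4, 0, 3, 1, 6, 8, 6, 0, 2]),
   (3, 0, []), (3, 0, []), (0, 0, []), (5, 0, [2, 5, 1, 8, 8, 8, 4, 1, 6]),
   (0, 3, []), (0, 1, []), (2, 0, []), (3, 0, []),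
   (3, 0, []), (0, 1, []), (2, 0, []), (4, 0, [7, 3, 8, 4, 6, 4, 1, 2]),
   (4, 0, [1, 5, 3, 7, 0, 3, 8, 4, 8, 1]), (2, 0, []), (4, 0, [3, 8, 8, 1, 6, 1, 5, 7, 2]), (0, 1, []),
   (3, 0, []), (3, 0, []), (2, 0, []), (0, 0, []),
   (5, 0, [7, 2, 3, 8, 2, 7, 2, 0, 3]), (0, 0, []), (4, 0, [1, 8, 4, 1, 7, 3, 1, 7, 3]), (0, 0, []),
   (9, 0, [2, 5, 3, 8, 6, 8, 4, 0, 5, 0]), (5, 0, [1, 6, 3, 8, 0, 2, 5, 7, 4]), (4, 0, [1, 5, 1, 7, 3, 8, 6, 0, 5]), (4, 0, [1, 5, 7, 4, 4, 6, 7]),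
   (0, 0, []), (5, 0, [2, 0, 3, 3, 8, 5, 8, 6]), (5, 0, [2, 6, 1, 7, 0, 7, 7, 0, 3]), (4, 0, [1, 3, 5, 8, 6, 8, 6, 7]),
   (5, 0, [2, 5, 5, 8, 0, 0, 7, 0, 4, 0]), (0, 0, []), (0, 1, []), (3, 0, []),
   (0, 1, []), (4, 0, [2, 0, 3, 1, 4, 8, 6, 8, 8, 0]), (3, 0, []), (3, 0, []),
   (0, 1, []), (0, 2, []), (4, 0, [0, 3, 5, 3, 7, 4, 8, 5, 2]), (4, 0, [0, 0, 6, 3, 1, 5, 7, 6, 3]),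
   (2, 0, []), (2, 0, []), (2, 0, []), (3, 0, []),
   (2, 0, []), (4, 0, [3, 8, 0, 0, 6, 7, 3]), (9, 0, [2, 7, 3, 7, 3, 6, 1, 8, 4]), (11, 0, [3, 6, 0, 3, 6, 7, 5]),
   (0, 0, []), (9, 0, [2, 6, 7, 3, 1, 7, 3, 5, 1]), (11, 0, [4, 0, 4, 0, 3, 3, 6, 1, 6]), (0, 0, []),
   (9, 0, [2, 8, 5, 0, 7, 5, 8, 8, 1]), (3, 0, []), (0, 0, []), (9, 0, [2, 8, 8, 8, 0, 3, 1, 3, 0]),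
   (0, 0, []), (0, 0, []), (0, 0, []), (0, 0, []),
   (4, 0, [0, 3, 3, 1, 4, 4, 1, 7, 0]), (3, 0, []), (0, 0, []), (9, 0, [2, 6, 8, 5, 0, 4, 8, 6, 1]),
   (0, 0, []), (3, 0, []), (0, 0, []), (7, 0, [4, 1, 7, 3, 8, 0, 6, 6, 7]),
   (5, 0, [2, 8, 5, 1, 7, 4, 4, 0]), (5, 0, [2, 6, 0, 4, 1, 8, 5, 3, 1]), (4, 0, [1, 5, 8, 8, 1, 2, 6, 6, 7, 3]), (9, 0, [0, 2, 3, 7, 2, 5, 7, 5, 4]),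
   (7, 0, [4, 4, 8, 8, 0, 6, 3, 0]), (3, 0, []), (4, 0, [0, 5, 7, 6, 4, 1, 7, 2, 1, 1]), (4, 0, [2, 7, 4, 4, 1, 8, 0, 5]),
   (0, 0, []), (3, 0, []), (7, 0, [2, 5, 5, 4, 8, 4, 0, 2, 0]), (0, 0, []),
   (3, 0, []), (0, 0, []), (9, 0, [2, 7, 3, 8, 4, 5, 0, 0, 0]), (7, 0, [4, 5, 1, 7, 6, 0, 4, 0, 0]),
   (9, 0, [2, 7, 7, 6, 4, 0, 4, 0]), (4, 0, [0, 0, 3, 7, 6, 6, 0, 7, 4]), (5, 0, [2, 6, 7, 4, 8, 0, 5]), (9, 0, [0, 4, 6, 1, 7, 2, 8, 8]),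
   (0, 0, []), (0, 0, []), (4, 0, [2, 7, 7, 7, 6, 1, 7, 3]), (2, 0, []),
   (7, 0, [5, 7, 7, 5, 7, 0, 7]), (4, 0, [2, 0, 3, 6, 6, 7, 4, 1, 3, 0]), (0, 0, []), (4, 0, [7, 7, 3, 7, 7, 3]),
   (4, 0, [2, 0, 0, 6, 7, 4, 8, 6, 0, 4]), (0, 1, []), (11, 0, [5, 4, 1, 7, 4, 6, 0]), (11, 0, [3, 3, 1, 8, 1, 6, 1, 3]),
   (4, 0, [4, 8, 8, 4, 8, 8]), (0, 0, []), (7, 0, [3, 5, 3, 8, 0, 7, 4, 1]), (11, 0, [4, 1, 1, 8, 5, 4, 4, 8, 1]),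
   (7, 0, [4, 6, 8, 8, 5, 1, 5, 7, 0]), (4, 0, [1, 5, 3, 0, 5, 7, 7, 7]), (0, 1, []), (4, 0, [7, 3, 1, 8, 5, 0, 0, 4, 0]),
   (2, 0, []), (0, 1, []), (2, 0, []), (0, 1, []),
   (0, 1, []), (2, 0, []), (0, 1, []), (0, 1, []),
   (0, 1, []), (0, 1, []), (2, 0, []), (4, 0, [8, 1, 7, 3, 5, 5, 7, 0]),
   (9, 0, [2, 1, 8, 0, 5, 5, 0, 5]), (5, 0, [2, 5, 0, 3, 7, 6, 3, 7]), (4, 0, [1, 3, 1, 7, 3, 8, 6, 1]), (0, 0, []),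
   (0, 0, []), (3, 0, []), (4, 0, [2, 8, 0, 3, 7, 0, 6, 3]), (0, 0, []),
   (3, 0, []), (3, 0, []), (9, 0, [1, 8, 0, 5, 3, 7, 2, 0, 4, 0]), (5, 0, [2, 6, 8, 8, 6, 0, 6, 0, 4]),
   (11, 0, [4, 4, 1, 6, 6, 4, 8, 4]), (11, 0, [4, 1, 3, 3, 7, 3, 1, 5, 1]), (4, 0, [2, 0, 3, 7, 7, 5, 7, 4, 0]), (0, 0, []),
   (0, 0, []), (0, 0, []), (0, 2, []), (11, 0, [2, 6, 7, 0, 3, 8, 5, 5, 2, 0]),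
   (0, 0, []), (0, 0, []), (7, 0, [3, 0, 3, 1, 4, 5, 0, 0]), (4, 0, [2, 7, 3, 8, 8, 8, 5, 5, 3]),
   (4, 0, [1, 7, 6, 7, 6, 4, 1, 6]), (4, 0, [1, 4, 0, 7, 7, 0, 3, 5]), (2, 0, []), (3, 0, []),
   (5, 0, [2, 7, 4, 0, 6, 0, 3, 5, 3]), (5, 0, [1, 6, 8, 0, 3, 7, 2, 8, 0, 7, 0]), (3, 0, []), (4, 0, [1, 3, 1, 7, 5, 4, 5, 0, 3]),
   (0, 1, []), (1, 0, []), (0, 1, []), (0, 1, []),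
   (0, 1, []), (4, 0, [1, 3, 0, 4, 4, 1, 4, 1, 8, 2]), (4, 0, [7, 6, 0, 3, 8, 8, 8, 2]), (3, 0, []),
   (0, 1, []), (0, 3, []), (3, 0, []), (3, 0, []),
   (0, 1, []), (4, 0, [2, 8, 1, 8, 8, 5, 1, 5]), (3, 0, []), (4, 0, [2, 8, 0, 3, 7, 0, 3]),
   (11, 0, [4, 1, 6, 3, 7, 3, 8, 8, 1]), (0, 0, []), (5, 0, [1, 8, 4, 1, 7, 7, 7, 4, 2, 0]), (3, 0, []),
   (9, 0, [2, 1, 5, 1, 5, 4, 1, 5]), (4, 0, [1, 5, 8, 6, 8, 0, 3, 8, 1]), (3, 0, []), (9, 0, [1, 1, 2, 1, 7, 4, 4, 8, 6, 2, 0]),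
   (0, 0, []), (0, 0, []), (11, 0, [4, 6, 0, 4, 0, 7, 7, 0, 5]), (5, 0, [2, 5, 7, 6, 4, 1, 8, 1, 3]),
   (4, 0, [2, 8, 4, 8, 6, 8, 4, 0, 4]), (0, 0, []), (5, 0, [1, 4, 6, 1, 3, 6, 8, 2, 8, 1]), (9, 0, [2, 5, 5, 8, 6, 0, 3, 1, 1]),
   (0, 0, []), (3, 0, []), (11, 0, [3, 1, 8, 8, 8, 5, 1]), (11, 0, [4, 5, 8, 0, 4, 5, 8, 6]),
   (3, 0, []), (0, 0, []), (0, 2, []), (5, 0, [5, 0, 2, 1, 5, 3, 7, 4, 2]),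
   (5, 0, [2, 6, 8, 4, 8, 5, 8, 5, 0]), (0, 1, []), (4, 0, [2, 1, 7, 0, 3, 3, 8, 6, 6]), (3, 0, []),
   (0, 1, []), (2, 0, []), (4, 0, [1, 3, 0, 3, 0, 7, 2, 5]), (2, 0, []),
   (3, 0, []), (4, 0, [1, 8, 0, 7, 4, 5, 8, 8]), (3, 0, []), (0, 1, []),
   (3, 0, []), (0, 1, []), (3, 0, []), (3, 0, []),
   (4, 0, [1, 7, 4, 1, 8, 5, 1, 2]), (0, 1, []), (3, 0, []), (0, 0, []),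
   (0, 0, []), (11, 0, [4, 5, 3, 7, 3, 8, 6, 3]), (0, 0, []), (4, 0, [0, 7, 7, 0, 7, 7, 5, 7]),
   (9, 0, [2, 5, 8, 8, 8, 6, 0, 4, 4]), (0, 0, []), (0, 0, []), (0, 0, []),
   (9, 0, [2, 8, 1, 1, 3, 7, 0, 0, 7, 0]), (9, 0, [1, 2, 7, 7, 6, 6, 1, 7, 0, 2]), (9, 0, [2, 8, 6, 8, 0, 0, 7, 3, 3]), (11, 0, [7, 6, 8, 6, 8, 1, 4, 4]),
   (0, 0, []), (0, 0, []), (0, 0, []), (7, 0, [7, 4, 1, 8, 0, 7, 6, 0]),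
   (0, 0, []), (3, 0, []), (9, 0, [1, 1, 8, 2, 5, 8, 1, 2, 7, 4, 0]), (0, 1, []),
   (9, 0, [2, 0, 4, 6, 1, 5, 3]), (0, 0, []), (2, 0, []), (4, 0, [2, 0, 0, 7, 7, 4, 8, 4, 6, 3]),
   (4, 0, [2, 0, 5, 5, 7, 3, 3, 5, 8]), (11, 0, [4, 8, 5, 4, 8, 8, 0, 5]), (4, 0, [2, 0, 3, 7, 3, 3, 8, 1, 1]), (0, 0, []),
   (4, 0, [1, 8, 8, 4, 8, 0, 5, 4, 8, 0]), (3, 0, []), (3, 0, []), (4, 0, [0, 0, 7, 0, 3, 8, 0, 2]),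
   (0, 2, []), (4, 0, [0, 7, 6, 7, 0, 3, 1, 6, 2]), (0, 1, []), (3, 0, []),
   (3, 0, []), (2, 0, []), (0, 1, []), (0, 1, []),
   (2, 0, []), (3, 0, []), (3, 0, []), (7, 0, [4, 8, 5, 4, 8, 0, 3, 3, 1]),
   (4, 0, [1, 3, 7, 2, 0, 7, 6, 6, 7, 3]), (3, 0, []), (3, 0, []), (9, 0, [1, 3, 5, 8, 1, 1, 6, 6, 2, 0]),
   (9, 0, [2, 6, 0, 4, 1, 8, 0, 7, 3]), (7, 0, [4, 5, 1, 3, 7, 3, 5, 5, 3]), (4, 0, [0, 7, 7, 4, 1, 5, 7, 0, 0]), (5, 0, [2, 1, 4, 5, 7, 5]),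
   (0, 2, []), (0, 0, []), (0, 1, []), (0, 0, []),
   (0, 0, []), (9, 0, [1, 1, 3, 7, 7, 7, 2, 4, 0, 0]), (0, 0, []), (0, 0, []),
   (11, 0, [4, 1, 5, 8, 5, 0, 3, 3, 0]), (9, 0, [1, 7, 4, 8, 5, 0, 2, 1, 1, 3]), (9, 0, [2, 6, 3, 0, 5, 3, 1]), (0, 0, []),
   (0, 0, []), (3, 0, []), (0, 0, []), (0, 0, []),
   (0, 1, []), (7, 0, [4, 1, 4, 5, 3, 7, 0, 7, 0]), (0, 1, []), (2, 0, []),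
   (4, 0, [1, 8, 8, 4, 8, 4, 4]), (3, 0, []), (4, 0, [1, 3, 7, 6, 4, 1, 6, 3, 1]), (0, 0, []),
   (9, 0, [2, 6, 3, 7, 3, 1, 5, 1]), (0, 0, []), (0, 0, []), (2, 0, []),
   (9, 0, [2, 5, 7, 4, 8, 4, 6, 1]), (0, 0, []), (0, 1, []), (0, 0, []),
   (0, 0, []), (7, 0, [5, 3, 7, 7, 0, 0, 4, 0]), (0, 1, []), (11, 0, [5, 7, 6, 3, 1, 8, 4]),
   (2, 0, []), (0, 1, []), (3, 0, []), (3, 0, []),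
   (0, 1, []), (0, 1, []), (2, 0, []), (4, 0, [0, 0, 6, 3, 1, 5, 7, 3]),
   (4, 0, [2, 0, 4, 1, 7, 6, 3, 1, 8, 0]), (3, 0, []), (2, 0, []), (2, 0, []),
   (3, 0, []), (0, 1, []), (4, 0, [2, 0, 3, 5, 3, 7, 4, 8]), (0, 1, []),
   (4, 0, [0, 0, 3, 8, 8, 4, 1, 1, 3]), (2, 0, []), (2, 0, []), (4, 0, [4, 1, 3, 5, 8, 8, 5, 4]),
   (0, 1, []), (0, 1, []), (2, 0, []), (4, 0, [8, 6, 4, 8, 0, 7, 6]),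
   (0, 1, []), (0, 1, []), (2, 0, []), (0, 1, []),
   (0, 1, []), (0, 1, []), (0, 0, []), (0, 1, []),
   (9, 0, [2, 0, 4, 6, 1, 3]), (11, 0, [3, 8, 0, 0, 4, 8]), (7, 0, [4, 4, 1, 1, 7, 5, 7, 6, 0]), (4, 0, [2, 0, 0, 7, 7, 4, 5, 1, 4]),
   (4, 0, [2, 0, 3, 7, 3, 3, 8, 8, 6, 3]), (3, 0, []), (0, 0, []), (0, 0, []),
   (0, 0, []), (9, 0, [8, 4, 4, 5, 8, 4, 1, 2, 8]), (2, 0, []), (0, 0, []),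
   (4, 0, [3, 0, 7, 3, 3, 1, 5, 2, 0]), (0, 1, []), (9, 0, [2, 8, 4, 4, 6, 1, 4, 0]), (0, 0, []),
   (5, 0, [6, 7, 7, 0, 0, 3, 7, 2]), (0, 0, []), (3, 0, []), (3, 0, []),
   (0, 0, []), (3, 0, []), (5, 0, [1, 4, 0, 3, 8, 0, 6, 0, 2]), (0, 0, []),
   (0, 0, []), (4, 0, [3, 8, 1, 3, 5, 8, 4]), (4, 0, [3, 7, 6, 4, 0, 7, 4]), (5, 0, [2, 1, 4, 4, 6, 0, 3, 8, 6]),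
   (0, 0, []), (0, 0, []), (9, 0, [2, 8, 5, 0, 4, 5, 8, 0, 7]), (0, 0, []),
   (7, 0, [4, 4, 6, 7, 0, 7, 4, 4]), (3, 0, []), (3, 0, []), (4, 0, [2, 0, 3, 8, 6, 7, 7, 3, 7, 0]),
   (5, 0, [2, 6, 0, 4, 5, 0, 0]), (7, 0, [4, 5, 0, 3, 3, 0, 5, 7, 5]), (9, 0, [0, 2, 3, 7, 2, 5, 7, 4]), (5, 0, [2, 0, 6, 6, 7, 3, 7, 0]),
   (3, 0, []), (4, 0, [2, 4, 1, 8, 4, 1, 7]), (4, 0, [0, 7, 3, 6, 0, 3, 7, 3]), (0, 1, []),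
   (0, 1, []), (0, 1, []), (0, 1, []), (3, 0, []),
   (3, 0, []), (0, 1, []), (0, 1, []), (4, 0, [1, 8, 4, 1, 5, 3, 0, 7, 0]),
   (4, 0, [0, 3, 0, 4, 5, 0, 3, 7, 2]), (1, 0, []), (3, 0, []), (4, 0, [1, 4, 4, 0, 3, 1, 8, 0, 2]),
   (0, 1, []), (3, 0, []), (2, 0, []), (4, 0, [2, 0, 5, 7, 6, 7, 6, 7, 7]),
   (3, 0, []), (3, 0, []), (3, 0, []), (4, 0, [1, 3, 7, 2, 0, 3, 0, 3, 0]),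
   (4, 0, [1, 7, 4, 6, 8, 8, 0, 5, 0]), (2, 0, []), (2, 0, []), (0, 1, []),
   (0, 1, []), (3, 0, []), (2, 0, []), (0, 3, []),
   (0, 1, []), (0, 0, []), (0, 0, []), (3, 0, []),
   (0, 0, []), (0, 0, []), (9, 0, [2, 5, 1, 3, 1, 3, 7, 5]), (7, 0, [4, 8, 6, 8, 0, 3, 0, 4, 8]),
   (4, 0, [1, 3, 6, 6, 7, 4, 8, 0]), (7, 0, [4, 6, 0, 4, 6, 8, 8, 0]), (4, 0, [2, 7, 4, 4, 1, 8, 0]), (3, 0, []),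
   (9, 0, [2, 7, 7, 7, 4, 1, 6, 3]), (0, 0, []), (5, 0, [2, 6, 7, 4, 8, 0]), (9, 0, [2, 7, 6, 6, 1, 7, 7, 7]),
   (0, 0, []), (0, 0, []), (0, 0, []), (4, 0, [1, 8, 0, 4, 1, 8, 8, 4]),
   (3, 0, []), (3, 0, []), (4, 0, [3, 7, 7, 0, 3, 1, 6, 7]), (0, 1, []),
   (3, 0, []), (9, 0, [1, 8, 1, 1, 1, 7, 2, 5, 0]), (5, 0, [7, 6, 6, 1, 7, 7, 5, 2]), (0, 0, []),
   (0, 0, []), (5, 0, [7, 7, 0, 5, 3, 7, 4, 2]), (5, 0, [2, 1, 4, 4, 6, 0, 3, 8, 5])]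

def cert0_18 : List (ℕ × ℕ × List ℕ) :=
  [(0, 1, []), (0, 0, []), (9, 0, [2, 5, 5, 8, 6, 1, 4, 6, 1]), (7, 0, [7, 0, 0, 7, 7, 5, 3, 1]),
   (5, 0, [2, 1, 1, 1, 6, 1, 5]), (9, 0, [1, 2, 4, 5, 0, 4, 0, 3, 2]), (0, 0, []), (0, 1, []),
   (7, 0, [4, 4, 8, 1, 7, 6, 4, 0]), (4, 0, [1, 3, 7, 6, 3, 0, 4, 0]), (3, 0, []), (0, 0, []),
   (9, 0, [1, 8, 4, 1, 8, 0, 2, 1, 6, 8, 0]), (3, 0, []), (4, 0, [2, 1, 8, 8, 1, 8, 0, 7, 0]), (0, 1, []),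
   (2, 0, []), (4, 0, [2, 1, 4, 8, 5, 1, 4, 0, 4]), (3, 0, []), (4, 0, [7, 7, 6, 3, 8, 1, 7, 0]),
   (2, 0, []), (0, 1, []), (3, 0, []), (0, 1, []),
   (3, 0, []), (3, 0, []), (0, 1, []), (3, 0, []),
   (3, 0, []), (4, 0, [2, 0, 4, 1, 7, 6, 3, 7, 0]), (0, 1, []), (0, 1, []),
   (4, 0, [0, 4, 0, 0, 0, 4, 8, 1, 8]), (4, 0, [3, 7, 4, 8, 4, 8, 1, 3, 2]), (0, 1, []), (2, 0, []),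
   (2, 0, []), (3, 0, []), (2, 0, []), (2, 0, []),
   (3, 0, []), (3, 0, []), (3, 0, []), (4, 0, [1, 4, 6, 8, 1, 8, 4, 0, 0, 2]),
   (0, 1, []), (4, 0, [4, 8, 8, 4, 8, 8, 6]), (7, 0, [4, 0, 3, 7, 4, 0, 0, 0]), (2, 0, []),
   (7, 0, [4, 4, 8, 5, 3, 7, 4, 1, 1]), (11, 0, [4, 8, 1, 3, 0, 3, 5, 1]), (4, 0, [7, 7, 3, 7, 7, 3, 6]), (0, 0, []),
   (7, 0, [4, 5, 0, 5, 0, 7, 5, 4, 4]), (4, 0, [2, 0, 0, 4, 8, 8, 1, 4, 6, 7, 0]), (11, 0, [4, 4, 1, 4, 5, 5, 4, 1]), (4, 0, [2, 0, 3, 0, 6, 7, 3, 5, 1]),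
   (0, 0, []), (4, 0, [2, 7, 3, 7, 7, 3, 0, 5]), (11, 0, [4, 6, 0, 5, 3, 7, 0, 4]), (0, 1, []),
   (0, 0, []), (9, 0, [2, 5, 1, 8, 0, 0, 7, 5]), (0, 0, []), (0, 0, []),
   (3, 0, []), (4, 0, [4, 1, 8, 1, 1, 7, 4]), (11, 0, [5, 7, 0, 0, 7, 6, 0]), (11, 0, [4, 0, 0, 4, 6, 1, 5, 8, 0]),
   (9, 0, [8, 6, 8, 8, 1, 2, 5, 8, 0]), (0, 0, []), (0, 0, []), (9, 0, [1, 3, 7, 2, 3, 0, 5, 8, 0, 4]),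
   (0, 0, []), (9, 0, [2, 7, 0, 6, 7, 7, 3, 7, 0, 0]), (0, 0, []), (0, 0, []),
   (9, 0, [2, 8, 1, 8, 8, 5, 1, 8, 0]), (7, 0, [4, 5, 0, 3, 3, 0, 5, 7]), (0, 0, []), (5, 0, [2, 6, 0, 4, 0, 0, 0, 0]),
   (0, 0, []), (4, 0, [2, 1, 5, 3, 1, 4, 1, 7, 0]), (3, 0, []), (3, 0, []),
   (3, 0, []), (5, 0, [2, 7, 0, 7, 5, 4, 1, 7]), (9, 0, [0, 2, 3, 7, 2, 5, 7, 4, 6]), (4, 0, [2, 1, 3, 8, 6, 8, 8, 4, 1]),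
   (7, 0, [5, 7, 7, 7, 5, 4, 0, 0]), (4, 0, [1, 1, 3, 6, 8, 8, 1, 8, 4]), (4, 0, [2, 3, 7, 3, 8, 6, 3, 7]), (9, 0, [2, 0, 4, 6, 1, 3, 6, 6]),
   (4, 0, [2, 0, 0, 7, 7, 4, 8, 5]), (2, 0, []), (4, 0, [2, 0, 3, 6, 7, 7, 3, 8, 6, 3]), (0, 0, []),
   (0, 1, []), (3, 0, []), (7, 0, [2, 8, 1, 7, 2, 7, 4, 1, 2]), (0, 0, []),
   (11, 0, [2, 6, 4, 1, 3, 7, 2, 0, 0]), (0, 0, []), (0, 0, []), (0, 0, []),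
   (9, 0, [0, 2, 8, 4, 1, 2, 0, 7, 7, 2]), (5, 0, [2, 1, 1, 1, 6, 1]), (0, 0, []), (0, 0, []),
   (4, 0, [1, 7, 3, 8, 4, 1, 5, 5, 1]), (9, 0, [1, 2, 4, 5, 0, 4, 0, 3, 5, 2]), (7, 0, [7, 4, 0, 7, 7, 6, 3, 7, 0]), (9, 0, [2, 6, 1, 7, 7, 5, 8, 0, 3]),
   (3, 0, []), (0, 1, []), (7, 0, [4, 1, 8, 8, 4, 8, 6, 8]), (0, 1, []),
   (9, 0, [7, 4, 0, 3, 6, 1, 2, 7, 3]), (3, 0, []), (0, 0, []), (4, 0, [1, 3, 7, 2, 0, 7, 6, 7, 0, 3]),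
   (4, 0, [2, 0, 7, 5, 3, 0, 3, 1, 1]), (3, 0, []), (3, 0, []), (0, 1, []),
   (0, 1, []), (0, 1, []), (2, 0, []), (3, 0, []),
   (4, 0, [2, 0, 0, 7, 0, 3, 8, 0]), (3, 0, []), (0, 1, []), (3, 0, []),
   (4, 0, [1, 7, 6, 1, 7, 5, 8, 1, 6]), (3, 0, []), (2, 0, []), (2, 0, []),
   (7, 0, [7, 6, 8, 4, 8, 6, 8]), (0, 0, []), (3, 0, []), (0, 0, []),
   (0, 0, []), (4, 0, [1, 4, 0, 7, 6, 7, 3, 5]), (4, 0, [1, 7, 6, 7, 4, 0, 5, 5, 1]), (5, 0, [2, 6, 8, 0, 7, 6, 8, 4, 0]),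
   (0, 1, []), (11, 0, [4, 6, 0, 7, 0, 5, 4, 1, 7]), (4, 0, [2, 7, 3, 8, 8, 8, 6, 6, 3]), (0, 0, []),
   (0, 0, []), (5, 0, [2, 7, 0, 7, 3, 5, 1, 8, 1, 1]), (2, 0, []), (11, 0, [4, 4, 0, 3, 6, 1, 8, 0, 0, 0]),
   (0, 1, []), (5, 0, [1, 2, 4, 6, 8, 1, 7, 2, 8, 5]), (4, 0, [1, 4, 0, 7, 6, 7, 3]), (7, 0, [4, 8, 6, 4, 8, 1, 1, 3, 0]),
   (0, 0, []), (3, 0, []), (0, 0, []), (4, 0, [2, 7, 3, 8, 8, 5, 1, 5]),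
   (0, 0, []), (0, 0, []), (5, 0, [2, 0, 3, 5, 3, 1, 3, 6, 0]), (4, 0, [1, 5, 8, 8, 4, 6, 7, 7]),
   (0, 0, []), (5, 0, [2, 8, 0, 4, 0, 3, 1, 7, 5]), (4, 0, [1, 1, 1, 7, 5, 8, 0, 6, 0]), (0, 0, []),
   (4, 0, [1, 4, 1, 1, 7, 5, 3, 3, 0]), (0, 0, []), (5, 0, [1, 4, 4, 1, 1, 7, 2, 8, 1, 4]), (0, 0, []),
   (0, 0, []), (9, 0, [2, 5, 3, 8, 6, 8, 6, 4, 0]), (5, 0, [2, 1, 6, 3, 3, 1, 8, 4, 1]), (0, 0, []),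
   (5, 0, [2, 7, 3, 3, 8, 1, 6, 3, 0]), (4, 0, [1, 3, 3, 8, 4, 5, 1, 3, 1]), (5, 0, [1, 1, 7, 5, 0, 2, 4, 1, 7, 0]), (4, 0, [1, 4, 0, 3, 5, 7, 4, 8]),
   (0, 0, []), (0, 0, []), (5, 0, [2, 8, 0, 0, 3, 1, 6, 1, 3]), (4, 0, [0, 3, 5, 8, 5, 8, 0, 5]),
   (0, 0, []), (4, 0, [0, 3, 5, 7, 3, 6, 7, 2, 7, 6, 3]), (11, 0, [7, 6, 8, 8, 0, 3, 7, 0]), (0, 2, []),
   (7, 0, [7, 4, 8, 0, 3, 0, 6, 3]), (5, 0, [2, 1, 7, 7, 6, 0, 6, 0, 4]), (4, 0, [8, 0, 0, 3, 6, 1, 4]), (2, 0, []),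
   (0, 0, []), (3, 0, []), (0, 0, []), (9, 0, [1, 8, 8, 8, 2, 8, 4, 4, 5, 0]),
   (11, 0, [6, 7, 5, 4, 8, 8, 0]), (9, 0, [2, 5, 1, 8, 0, 0, 7, 6]), (0, 0, []), (0, 0, []),
   (11, 0, [3, 6, 8, 1, 3, 1, 7, 6, 0]), (0, 0, []), (9, 0, [5, 8, 2, 4, 6, 8, 2, 0]), (9, 0, [2, 0, 5, 7, 0, 3, 7, 7, 3]),
   (0, 0, []), (4, 0, [3, 8, 0, 0, 7, 0, 3]), (0, 0, []), (3, 0, []),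
   (0, 0, []), (0, 0, []), (0, 1, []), (0, 1, []),
   (0, 1, []), (3, 0, []), (3, 0, []), (4, 0, [1, 1, 6, 7, 3, 3, 8, 8, 1]),
   (3, 0, []), (3, 0, []), (3, 0, []), (4, 0, [2, 1, 7, 7, 7, 4, 6, 1, 8, 8]),
   (0, 1, []), (4, 0, [1, 8, 8, 4, 8, 5, 8, 6, 0, 2]), (3, 0, []), (3, 0, []),
   (3, 0, []), (4, 0, [1, 5, 1, 7, 3, 8, 6, 0, 6]), (0, 0, []), (5, 0, [2, 6, 4, 0, 7, 6, 8, 1]),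
   (0, 0, []), (9, 0, [6, 7, 4, 8, 0, 2, 0, 7, 2]), (0, 0, []), (5, 0, [2, 6, 3, 0, 4, 4, 0, 5, 8]),
   (4, 0, [1, 7, 6, 0, 7, 0, 5, 0, 3]), (4, 0, [0, 3, 8, 1, 3, 6, 3, 8, 0]), (0, 0, []), (5, 0, [2, 0, 3, 3, 8, 1, 1, 8]),
   (0, 0, []), (5, 0, [1, 4, 8, 5, 4, 0, 3, 8, 2, 8]), (5, 0, [2, 1, 7, 4, 0, 0, 6, 7, 3]), (4, 0, [1, 3, 3, 7, 3, 5, 7, 7]),
   (4, 0, [1, 8, 8, 8, 5, 4, 1, 3, 7, 2]), (0, 1, []), (3, 0, []), (2, 0, []),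
   (3, 0, []), (3, 0, []), (3, 0, []), (0, 1, []),
   (2, 0, []), (0, 1, []), (4, 0, [1, 7, 6, 6, 8, 0, 6, 4, 0]), (2, 0, []),
   (0, 1, []), (2, 0, []), (4, 0, [2, 1, 4, 6, 8, 1, 8, 4, 0, 0]), (2, 0, []),
   (0, 1, []), (4, 0, [1, 1, 3, 5, 8, 6, 4, 0, 0, 2]), (3, 0, []), (2, 0, []),
   (4, 0, [0, 4, 6, 1, 3, 1, 8, 8]), (2, 0, []), (3, 0, []), (0, 3, []),
   (0, 1, []), (4, 0, [2, 1, 8, 0, 4, 0, 0, 4, 0, 0]), (2, 0, []), (3, 0, []),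
   (0, 1, []), (3, 0, []), (4, 0, [2, 1, 1, 3, 0, 6, 3, 1, 8]), (9, 0, [2, 0, 6, 0, 7, 5, 7, 7, 3]),
   (0, 0, []), (0, 0, []), (4, 0, [1, 8, 8, 8, 2, 4, 1, 5, 3, 0]), (11, 0, [3, 8, 0, 0, 4, 8, 6]),
   (0, 1, []), (7, 0, [3, 6, 1, 4, 8, 0, 3, 3]), (0, 0, []), (2, 0, []),
   (3, 0, []), (0, 0, []), (0, 0, []), (4, 0, [2, 0, 0, 7, 7, 4, 8, 5, 5]),
   (9, 0, [2, 0, 4, 6, 1, 3, 6]), (0, 0, []), (0, 0, []), (7, 0, [6, 7, 3, 1, 8, 4, 5]),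
   (2, 0, []), (11, 0, [4, 4, 8, 8, 1, 1, 7, 4, 4]), (5, 0, [2, 6, 1, 5, 3, 5, 1]), (5, 0, [2, 5, 0, 7, 5, 7]),
   (4, 0, [3, 3, 0, 7, 7, 6, 6]), (3, 0, []), (0, 1, []), (0, 0, []),
   (0, 0, []), (4, 0, [0, 7, 4, 4, 0, 3, 6, 7, 3]), (4, 0, [2, 7, 6, 4, 4, 8, 6, 6, 1]), (0, 0, []),
   (3, 0, []), (0, 1, []), (3, 0, []), (3, 0, []),
   (3, 0, []), (0, 1, []), (0, 1, []), (4, 0, [2, 0, 4, 0, 6, 3, 7, 7, 3, 3, 0]),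
   (0, 1, []), (3, 0, []), (4, 0, [1, 8, 8, 8, 6, 8, 5, 8, 8]), (3, 0, []),
   (3, 0, []), (3, 0, []), (4, 0, [0, 3, 8, 6, 6, 1, 5, 7, 3, 2]), (0, 0, []),
   (3, 0, []), (4, 0, [2, 1, 5, 1, 8, 1, 4, 4, 0, 4]), (0, 1, []), (11, 0, [4, 1, 8, 5, 0, 0, 4, 6]),
   (7, 0, [5, 7, 4, 1, 5, 4, 8]), (4, 0, [1, 3, 7, 2, 7, 5, 7, 3]), (3, 0, []), (0, 1, []),
   (4, 0, [8, 4, 4, 1, 3, 1, 6, 7]), (0, 0, []), (11, 0, [7, 0, 7, 3, 6, 1, 3, 8]), (0, 3, []),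
   (0, 0, []), (7, 0, [3, 5, 7, 7, 5, 7, 5]), (0, 1, []), (4, 0, [7, 0, 7, 6, 7, 3, 7, 7]),
   (2, 0, []), (2, 0, []), (4, 0, [3, 7, 7, 4, 0, 0, 0, 3]), (0, 1, []),
   (0, 1, []), (2, 0, []), (4, 0, [8, 1, 7, 3, 5, 7]), (0, 1, []),
   (0, 1, []), (2, 0, []), (0, 1, []), (0, 3, []),
   (0, 3, []), (0, 0, []), (5, 0, [2, 6, 1, 7, 6, 0, 5]), (0, 0, []),
   (4, 0, [3, 3, 0, 7, 5, 7, 0]), (5, 0, [2, 5, 0, 7, 3, 1, 1, 6, 1]), (0, 0, []), (11, 0, [3, 1, 7, 3, 3, 0, 6]),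
   (3, 0, []), (0, 0, []), (7, 0, [6, 7, 6, 3, 8, 4, 6]), (0, 1, []),
   (0, 0, []), (4, 0, [2, 1, 4, 1, 4, 6, 1, 8, 0]), (2, 0, []), (4, 0, [4, 1, 8, 8, 1, 3, 0, 6]),
   (0, 1, []), (0, 1, []), (0, 0, []), (3, 0, []),
   (0, 0, []), (4, 0, [2, 0, 3, 8, 6, 8, 1, 3, 3, 0]), (0, 0, []), (11, 0, [3, 5, 8, 8, 0, 7, 7, 5]),
   (7, 0, [4, 0, 4, 0, 3, 7, 4, 1]), (4, 0, [1, 7, 7, 4, 4, 1, 8, 5, 0]), (4, 0, [2, 3, 3, 8, 6, 1, 7, 0, 0]), (0, 1, []),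
   (11, 0, [6, 4, 1, 4, 0, 4, 5]), (7, 0, [4, 0, 4, 1, 5, 5, 8, 1]), (3, 0, []), (0, 1, []),
   (4, 0, [1, 3, 5, 3, 0, 7, 6, 8, 1]), (0, 0, []), (5, 0, [2, 8, 8, 5, 3, 7, 3]), (11, 0, [4, 6, 0, 5, 7, 7, 4, 6, 4]),
   (0, 0, []), (0, 0, []), (5, 0, [2, 5, 0, 7, 5, 7, 5]), (7, 0, [7, 4, 8, 6, 8, 0, 4, 1]),
   (3, 0, []), (4, 0, [1, 2, 8, 1, 6, 8, 1, 2, 8, 2, 0]), (4, 0, [3, 3, 0, 7, 7, 6]), (2, 0, []),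
   (0, 0, []), (0, 0, []), (4, 0, [7, 7, 3, 7, 7, 0, 4, 0]), (9, 0, [2, 8, 1, 6, 7, 6, 4, 8, 0]),
   (7, 0, [6, 6, 7, 3, 1, 3, 7]), (0, 0, []), (0, 0, []), (0, 1, []),
   (0, 0, []), (2, 0, []), (0, 0, []), (0, 0, []),
   (3, 0, []), (0, 3, []), (11, 0, [4, 0, 3, 7, 0, 5, 0, 7, 0]), (0, 0, []),
   (9, 0, [1, 3, 7, 2, 6, 1, 4, 4, 5, 0]), (2, 0, []), (0, 1, []), (0, 1, []),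
   (0, 1, []), (3, 0, []), (3, 0, []), (2, 0, []),
   (0, 1, []), (3, 0, []), (4, 0, [2, 0, 7, 6, 7, 0, 3, 1]), (3, 0, []),
   (4, 0, [1, 7, 6, 1, 7, 5, 8, 1]), (4, 0, [1, 7, 4, 1, 8, 8, 5, 3, 2]), (3, 0, []), (3, 0, []),
   (9, 0, [2, 0, 3, 3, 7, 7, 6, 0, 5]), (4, 0, [8, 4, 8, 4, 8, 0, 4, 0]), (0, 0, []), (3, 0, []),
   (0, 0, []), (0, 0, []), (4, 0, [0, 2, 1, 3, 8, 8, 6, 4, 0, 2]), (0, 0, []),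
   (7, 0, [4, 5, 1, 5, 3, 8, 0, 5, 0]), (3, 0, []), (0, 0, []), (9, 0, [2, 7, 7, 7, 4, 1, 3, 5, 5]),
   (7, 0, [4, 6, 1, 7, 7, 3, 7, 7]), (9, 0, [2, 1, 7, 6, 8, 1, 6, 7]), (5, 0, [2, 1, 7, 7, 3, 6, 8, 0, 0]), (11, 0, [4, 1, 7, 5, 3, 7, 7, 4, 1]),
   (4, 0, [2, 4, 8, 0, 5, 8, 8, 8]), (7, 0, [4, 1, 4, 4, 6, 1, 7, 6, 3]), (0, 0, []), (4, 0, [2, 0, 3, 0, 6, 7, 3, 8, 6, 3]),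
   (4, 0, [2, 1, 4, 8, 8, 4, 8]), (11, 0, [4, 4, 8, 4, 6, 7, 3, 7, 0]), (4, 0, [7, 7, 3, 7, 5, 7, 0, 3]), (0, 1, []),
   (4, 0, [0, 3, 5, 7, 5, 3, 0, 3, 0]), (11, 0, [4, 0, 4, 1, 3, 0, 3, 7, 0]), (7, 0, [3, 0, 3, 7, 4, 1, 8, 0]), (7, 0, [4, 8, 6, 0, 7, 0, 3, 1, 1]),
   (2, 0, []), (0, 0, []), (0, 0, []), (0, 3, []),
   (4, 0, [1, 4, 8, 6, 0, 7, 0, 3, 7]), (4, 0, [0, 7, 3, 8, 5, 5, 8, 6, 1]), (3, 0, []), (2, 0, []),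
   (11, 0, [4, 1, 5, 5, 7, 0, 7, 7, 4]), (4, 0, [2, 7, 3, 8, 8, 8, 5, 3]), (0, 0, []), (5, 0, [2, 7, 4, 0, 6, 0, 3, 3]),
   (7, 0, [3, 8, 5, 0, 7, 0, 0, 4]), (0, 0, []), (5, 0, [2, 1, 1, 8, 8, 0, 7, 3, 8, 0]), (0, 0, []),
   (0, 0, []), (0, 1, []), (9, 0, [8, 4, 0, 2, 5, 0, 0, 4, 4]), (0, 0, []),
   (0, 1, []), (3, 0, []), (5, 0, [2, 1, 1, 1, 1, 7, 0, 4, 8]), (0, 0, []),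
   (5, 0, [2, 1, 3, 7, 4, 5, 8, 8, 0]), (11, 0, [2, 7, 4, 0, 2, 7, 2, 3]), (5, 0, [2, 8, 1, 7, 6, 7, 3, 7, 0]), (3, 0, []),
   (11, 0, [3, 6, 6, 8, 0, 6, 4]), (4, 0, [1, 5, 5, 7, 2, 7, 6, 7, 5, 7]), (4, 0, [2, 1, 7, 0, 3, 7, 5, 8]), (0, 0, []),
   (4, 0, [2, 1, 3, 0, 3, 0, 5, 7, 0]), (3, 0, []), (3, 0, []), (0, 1, []),
   (0, 1, []), (0, 1, []), (2, 0, []), (3, 0, []),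
   (4, 0, [0, 0, 7, 0, 3, 8, 0, 6, 2]), (3, 0, []), (0, 1, []), (3, 0, []),
   (4, 0, [1, 8, 0, 7, 4, 8, 1, 8, 1]), (3, 0, []), (2, 0, [])]

def cert0_19 : List (ℕ × ℕ × List ℕ) :=
  [(5, 0, [2, 0, 7, 3, 3, 1, 1, 7]), (4, 0, [2, 1, 7, 0, 3, 7, 5, 8, 5]), (0, 0, []), (11, 0, [4, 0, 0, 0, 3, 7, 5, 8, 0]),
   (0, 1, []), (5, 0, [0, 3, 5, 8, 2, 8, 4, 1, 7]), (4, 0, [1, 5, 5, 7, 2, 7, 7, 0, 3, 0]), (3, 0, []),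
   (3, 0, []), (5, 0, [2, 1, 4, 0, 7, 4, 0, 5, 7, 0]), (0, 1, []), (11, 0, [3, 1, 7, 7, 7, 6, 3]),
   (0, 0, []), (0, 0, []), (9, 0, [8, 4, 0, 2, 5, 1, 7, 5, 7]), (2, 0, []),
   (4, 0, [1, 4, 1, 3, 1, 5, 7, 4]), (2, 0, []), (0, 1, []), (0, 1, []),
   (2, 0, []), (0, 1, []), (0, 1, []), (0, 1, []),
   (4, 0, [4, 1, 3, 5, 8, 8, 4, 5]), (2, 0, []), (4, 0, [0, 4, 5, 0, 4, 5, 8, 8, 1]), (0, 1, []),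
   (0, 1, []), (0, 1, []), (2, 0, []), (2, 0, []),
   (0, 1, []), (4, 0, [0, 3, 5, 3, 7, 4, 8, 2]), (3, 0, []), (0, 1, []),
   (3, 0, []), (0, 1, []), (3, 0, []), (2, 0, []),
   (4, 0, [0, 4, 1, 7, 6, 3, 1, 8, 0, 2]), (2, 0, []), (0, 1, []), (3, 0, []),
   (4, 0, [1, 7, 4, 6, 1, 4, 5, 1, 3]), (0, 2, []), (0, 0, []), (4, 0, [2, 3, 8, 6, 6, 8, 8, 1, 3]),
   (4, 0, [1, 7, 3, 7, 3, 7, 3, 0]), (3, 0, []), (0, 0, []), (3, 0, []),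
   (7, 0, [4, 4, 0, 4, 4, 0, 3, 6, 0]), (0, 1, []), (0, 0, []), (11, 0, [3, 6, 6, 8, 6, 8, 8]),
   (11, 0, [4, 1, 1, 8, 4, 0, 5, 7, 5]), (7, 0, [3, 5, 7, 7, 5, 5, 7, 0]), (4, 0, [0, 4, 8, 2, 0, 7, 2, 5, 8]), (0, 1, []),
   (9, 0, [2, 8, 4, 1, 1, 6, 3, 1]), (4, 0, [7, 7, 3, 0, 6, 7, 7, 0]), (4, 0, [1, 5, 7, 4, 0, 0, 0, 6]), (4, 0, [7, 3, 1, 6, 7, 6, 3, 8]),
   (5, 0, [2, 5, 1, 7, 7, 3, 8, 1, 6]), (0, 0, []), (0, 0, []), (0, 0, []),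
   (5, 0, [2, 6, 3, 0, 3, 6, 8, 8, 0]), (5, 0, [2, 0, 6, 7, 7, 4, 4, 1, 6]), (0, 0, []), (0, 0, []),
   (4, 0, [1, 3, 5, 8, 6, 0, 6]), (5, 0, [2, 6, 4, 1, 7, 4, 4, 1]), (5, 0, [2, 1, 3, 8, 6, 3, 8, 0, 4]), (0, 0, []),
   (0, 0, []), (0, 0, []), (0, 0, []), (0, 1, []),
   (0, 2, []), (11, 0, [4, 6, 0, 6, 7, 7, 6, 3, 1]), (9, 0, [2, 5, 0, 5, 0, 7, 0, 0, 4]), (4, 0, [4, 8, 1, 5, 7, 6, 3, 6]),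
   (9, 0, [2, 5, 7, 6, 3, 1, 7, 0]), (2, 0, []), (7, 0, [3, 6, 8, 8, 0, 3, 3, 6]), (0, 0, []),
   (0, 0, []), (3, 0, []), (9, 0, [2, 8, 0, 3, 1, 6, 7, 3, 0]), (0, 0, []),
   (5, 0, [2, 7, 4, 8, 5, 8, 5, 8, 1]), (5, 0, [2, 0, 3, 3, 8, 5, 8]), (0, 0, []), (4, 0, [1, 5, 7, 4, 8, 6, 4, 6, 7]),
   (5, 0, [1, 5, 8, 0, 7, 7, 2, 0, 4, 0]), (4, 0, [0, 4, 0, 6, 3, 7, 4, 4, 0]), (0, 0, []), (0, 0, []),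
   (4, 0, [1, 5, 7, 6, 4, 0]), (0, 0, []), (5, 0, [1, 6, 3, 8, 0, 2, 5, 7, 4, 5]), (4, 0, [8, 6, 4, 8, 0, 0, 3, 0]),
   (5, 0, [2, 7, 4, 8, 4, 6, 1, 3]), (9, 0, [2, 5, 3, 0, 3, 8, 1, 7]), (0, 0, []), (9, 0, [2, 7, 3, 1, 8, 4, 5, 1, 7]),
   (0, 0, []), (9, 0, [1, 8, 8, 8, 2, 1, 1, 3, 7, 6]), (0, 0, []), (0, 0, []),
   (11, 0, [4, 0, 4, 6, 1, 7, 6, 3, 1]), (9, 0, [2, 7, 3, 8, 8, 1, 4, 6, 1]), (4, 0, [0, 4, 8, 6, 8, 5, 4, 8, 1]), (0, 0, []),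
   (3, 0, []), (0, 0, []), (11, 0, [3, 6, 0, 3, 7, 0]), (0, 0, []),
   (3, 0, []), (3, 0, []), (4, 0, [0, 7, 5, 5, 7, 3, 3, 7, 3, 2]), (4, 0, [0, 7, 7, 5, 7, 2, 0, 3, 5, 8]),
   (3, 0, []), (3, 0, []), (0, 1, []), (3, 0, []),
   (4, 0, [0, 7, 7, 4, 4, 8, 5, 0, 0]), (0, 1, []), (0, 1, []), (3, 0, []),
   (0, 1, []), (3, 0, []), (3, 0, []), (4, 0, [3, 3, 0, 7, 7]),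
   (0, 0, []), (7, 0, [3, 1, 7, 3, 8, 8, 1]), (0, 2, []), (0, 0, []),
   (11, 0, [4, 6, 0, 3, 8, 0, 0, 7, 3]), (4, 0, [0, 4, 6, 0, 7, 5, 4, 8, 4, 0]), (5, 0, [2, 6, 1, 3, 8, 6, 7, 0]), (0, 0, []),
   (3, 0, []), (2, 0, []), (0, 0, []), (5, 0, [2, 5, 0, 7, 5, 7, 5, 5]),
   (0, 0, []), (4, 0, [2, 8, 4, 5, 7, 4, 8, 4, 6]), (4, 0, [2, 0, 7, 7, 7, 6, 0, 5, 3]), (7, 0, [6, 4, 8, 0, 7, 0, 0, 0]),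
   (0, 0, []), (9, 0, [1, 5, 5, 7, 2, 7, 5, 0, 3, 8]), (9, 0, [2, 0, 3, 5, 8, 0, 0, 3]), (3, 0, []),
   (7, 0, [4, 1, 8, 4, 5, 1, 3, 8]), (3, 0, []), (5, 0, [2, 6, 0, 6, 6, 4, 0, 0, 0]), (4, 0, [0, 7, 0, 2, 6, 1, 8, 2, 0]),
   (5, 0, [2, 0, 5, 7, 5, 8, 4, 0, 0]), (3, 0, []), (0, 0, []), (0, 0, []),
   (4, 0, [0, 7, 3, 6, 0, 3, 7, 5, 3]), (11, 0, [7, 7, 3, 1, 1, 8, 0]), (0, 0, []), (4, 0, [1, 7, 5, 5, 8, 0, 3, 7]),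
   (0, 1, []), (3, 0, []), (7, 0, [4, 1, 5, 1, 1, 3, 7, 6, 3]), (0, 1, []),
   (0, 0, []), (0, 1, []), (0, 0, []), (4, 0, [2, 0, 5, 3, 8, 0, 4, 0, 0]),
   (3, 0, []), (4, 0, [2, 0, 3, 8, 8, 1, 7, 0, 0, 0]), (11, 0, [5, 3, 7, 4, 5, 0, 5]), (7, 0, [3, 5, 7, 7, 5, 7, 6]),
   (0, 0, []), (0, 1, []), (5, 0, [2, 5, 0, 4, 8, 8, 4, 1, 4, 0]), (5, 0, [2, 7, 6, 3, 0, 5, 7, 7, 7]),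
   (4, 0, [2, 3, 0, 7, 4, 5, 5, 8]), (3, 0, []), (0, 0, []), (5, 0, [2, 5, 1, 7, 7, 5, 0, 3, 7]),
   (0, 0, []), (11, 0, [4, 5, 8, 0, 4, 1, 1, 8]), (9, 0, [8, 0, 2, 3, 7, 6, 1, 7, 2]), (11, 0, [3, 1, 7, 7, 7, 3, 6]),
   (3, 0, []), (4, 0, [2, 4, 4, 0, 3, 1, 6, 7, 3]), (0, 1, []), (0, 1, []),
   (3, 0, []), (0, 1, []), (4, 0, [1, 2, 7, 3, 8, 4, 8, 2, 7]), (3, 0, []),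
   (4, 0, [8, 4, 0, 2, 3, 8, 6, 6, 0]), (3, 0, []), (3, 0, []), (0, 1, []),
   (3, 0, []), (3, 0, []), (3, 0, []), (3, 0, []),
   (4, 0, [2, 8, 6, 1, 3, 1, 7, 6, 0]), (0, 1, []), (0, 1, []), (0, 0, []),
   (0, 3, []), (4, 0, [2, 0, 3, 3, 1, 8, 1, 8, 4]), (11, 0, [4, 1, 8, 5, 0, 0, 4]), (0, 0, []),
   (3, 0, []), (7, 0, [7, 7, 6, 7, 7, 3, 7, 0]), (4, 0, [2, 0, 4, 1, 8, 5, 4, 8, 0]), (7, 0, [6, 7, 6, 3, 1, 4, 1]),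
   (11, 0, [7, 7, 3, 5, 8, 0, 0, 0]), (3, 0, []), (0, 0, []), (0, 1, []),
   (4, 0, [0, 3, 8, 0, 3, 3, 1, 3, 1]), (3, 0, []), (4, 0, [0, 4, 5, 4, 0, 7, 7, 7]), (2, 0, []),
   (3, 0, []), (4, 0, [1, 3, 0, 3, 0, 7, 6, 6, 2]), (3, 0, []), (4, 0, [1, 7, 4, 1, 8, 1, 1, 2]),
   (0, 1, []), (0, 1, []), (3, 0, []), (2, 0, []),
   (3, 0, []), (0, 1, []), (0, 1, []), (3, 0, []),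
   (0, 0, []), (0, 0, []), (11, 0, [4, 5, 8, 0, 4, 5, 8]), (5, 0, [2, 8, 4, 1, 3, 0, 5, 4, 8, 0]),
   (5, 0, [1, 7, 4, 5, 4, 1, 2, 7, 2, 1]), (0, 1, []), (3, 0, []), (9, 0, [2, 5, 5, 8, 6, 0, 3, 5, 1]),
   (0, 0, []), (4, 0, [2, 0, 7, 0, 0, 3, 0, 3, 8, 4]), (5, 0, [2, 1, 4, 0, 7, 4, 0, 7, 6]), (3, 0, []),
   (11, 0, [3, 1, 1, 7, 4, 1, 3]), (4, 0, [2, 1, 7, 0, 3, 3, 8, 6]), (0, 1, []), (11, 0, [4, 5, 8, 8, 8, 1, 5, 3, 1]),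
   (2, 0, []), (0, 1, []), (0, 1, []), (0, 0, []),
   (0, 0, []), (7, 0, [6, 7, 3, 1, 3, 8, 4, 0]), (0, 0, []), (9, 0, [2, 0, 4, 8, 1, 8, 0, 6, 0]),
   (4, 0, [4, 8, 6, 0, 7, 3, 5]), (3, 0, []), (9, 0, [2, 6, 3, 0, 7, 0, 5, 0, 0]), (0, 0, []),
   (0, 0, []), (0, 0, []), (0, 0, []), (0, 0, []),
   (0, 0, []), (0, 0, []), (9, 0, [1, 6, 1, 6, 7, 2, 3, 1, 4, 0]), (9, 0, [1, 4, 5, 4, 8, 6, 1, 2, 8, 2]),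
   (9, 0, [2, 7, 4, 1, 7, 7, 5, 7]), (3, 0, []), (11, 0, [4, 0, 4, 0, 3, 3, 8, 6, 3, 0]), (4, 0, [1, 8, 0, 7, 3, 3, 1, 3]),
   (9, 0, [2, 5, 7, 7, 7, 5, 3, 8, 4]), (0, 0, []), (11, 0, [3, 6, 0, 3, 6, 7, 6]), (0, 0, []),
   (0, 0, []), (2, 0, []), (0, 2, []), (0, 1, []),
   (0, 1, []), (4, 0, [0, 4, 1, 7, 7, 6, 0, 3, 3, 0]), (0, 2, []), (4, 0, [1, 5, 7, 7, 4, 4, 1, 3, 1]),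
   (0, 1, []), (2, 0, []), (0, 1, []), (2, 0, []),
   (4, 0, [8, 1, 7, 3, 5, 7, 5]), (0, 1, []), (2, 0, []), (0, 1, []),
   (5, 0, [2, 5, 4, 0]), (9, 0, [2, 0, 3, 8, 8, 1, 7, 3, 0]), (7, 0, [4, 6, 8, 8, 1, 7, 6, 7]), (7, 0, [7, 6, 6, 3, 8, 4, 1]),
   (3, 0, []), (0, 0, []), (3, 0, []), (0, 1, []),
   (9, 0, [1, 3, 5, 8, 8, 2, 7, 0, 0]), (9, 0, [2, 1, 4, 4, 8, 1, 8, 8, 6]), (4, 0, [1, 7, 3, 8, 5, 5, 4, 0]), (4, 0, [2, 1, 3, 3, 8, 8, 5, 4, 5, 1]),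
   (0, 0, []), (0, 1, []), (0, 0, []), (11, 0, [6, 3, 1, 1, 6, 3, 7, 7]),
   (7, 0, [3, 7, 7, 3, 8, 5, 8]), (0, 0, []), (4, 0, [2, 0, 0, 4, 8, 5, 1, 4, 1]), (7, 0, [4, 1, 3, 8, 5, 0, 7, 4]),
   (4, 0, [0, 5, 3, 7, 4, 4, 1, 7, 7]), (2, 0, []), (4, 0, [1, 5, 7, 6, 0, 3, 7, 4]), (4, 0, [2, 1, 4, 8, 0, 3, 7, 0, 3, 3]),
   (7, 0, [4, 6, 8, 8, 5, 1, 7, 6]), (11, 0, [7, 4, 8, 1, 7, 5, 8, 0]), (0, 1, []), (4, 0, [2, 1, 4, 8, 8, 4, 8, 5]),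
   (11, 0, [4, 6, 0, 3, 7, 0, 0, 4]), (0, 0, []), (4, 0, [8, 8, 1, 4, 4]), (4, 0, [0, 3, 7, 3, 1, 7, 7, 3, 5]),
   (2, 0, []), (3, 0, []), (4, 0, [2, 1, 3, 6, 7, 7, 7, 3, 8, 1]), (0, 0, []),
   (0, 0, []), (5, 0, [2, 1, 7, 3, 1, 8, 5]), (11, 0, [3, 1, 5, 5, 4, 1, 3]), (0, 0, []),
   (0, 0, []), (0, 1, []), (5, 0, [2, 6, 7, 7, 5, 4, 0, 7, 0]), (7, 0, [4, 1, 3, 5, 1, 8, 1, 7, 0]),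
   (0, 0, []), (7, 0, [4, 0, 3, 7, 6, 4, 0, 5]), (7, 0, [4, 1, 8, 5, 0, 7, 3, 7, 4]), (4, 0, [7, 3, 8, 8, 8, 4, 0, 7]),
   (0, 0, []), (7, 0, [4, 6, 8, 8, 5, 1, 7, 5]), (11, 0, [4, 4, 1, 4, 4, 8, 5, 3, 1]), (11, 0, [4, 1, 5, 1, 8, 0, 0, 3]),
   (0, 2, []), (4, 0, [2, 0, 3, 1, 3, 7, 7, 7, 0, 0]), (4, 0, [2, 7, 0, 4, 0, 7, 4, 1, 4]), (11, 0, [4, 1, 7, 6, 7, 4, 6, 8]),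
   (4, 0, [2, 1, 4, 8, 8, 4, 5, 1, 4]), (0, 0, []), (4, 0, [7, 7, 3, 7, 7, 5, 5, 3]), (2, 0, []),
   (3, 0, []), (0, 4, []), (3, 0, []), (3, 0, []),
   (3, 0, []), (4, 0, [1, 5, 8, 0, 4, 0, 5, 7, 2]), (4, 0, [1, 5, 5, 7, 2, 4, 1, 3, 7]), (4, 0, [0, 4, 1, 5, 5, 7, 7, 0, 4]),
   (0, 4, []), (3, 0, []), (0, 1, []), (3, 0, []),
   (3, 0, []), (3, 0, []), (0, 1, []), (0, 1, []),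
   (0, 1, []), (2, 0, []), (3, 0, []), (3, 0, []),
   (0, 1, []), (2, 0, []), (4, 0, [1, 3, 3, 0, 5, 5, 4, 0, 2]), (4, 0, [1, 1, 1, 7, 7, 5, 3, 8, 0]),
   (2, 0, []), (4, 0, [1, 1, 8, 6, 0, 3, 3, 8, 8, 2]), (0, 2, []), (3, 0, []),
   (3, 0, []), (2, 0, []), (0, 0, []), (0, 0, []),
   (4, 0, [3, 8, 0, 0, 7, 0, 6, 3]), (11, 0, [4, 0, 4, 0, 3, 3, 6, 1]), (0, 0, []), (9, 0, [2, 5, 8, 0, 0, 3, 3, 1, 4]),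
   (0, 0, []), (9, 0, [0, 2, 6, 1, 7, 0, 2, 7, 7, 0]), (11, 0, [4, 5, 3, 7, 3, 1, 1]), (0, 0, []),
   (0, 0, []), (9, 0, [1, 7, 0, 6, 7, 4, 4, 5, 2, 0]), (3, 0, []), (0, 0, []),
   (9, 0, [2, 1, 5, 7, 3, 8, 6, 1, 6]), (4, 0, [2, 4, 0, 7, 3, 7, 3, 8, 4]), (0, 1, []), (2, 0, []),
   (2, 0, []), (0, 3, []), (4, 0, [1, 3, 7, 7, 7, 6, 4, 0, 2]), (0, 1, []),
   (3, 0, []), (3, 0, []), (0, 1, []), (4, 0, [7, 4, 6, 1, 8, 4, 8, 6, 0]),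
   (2, 0, []), (3, 0, []), (3, 0, []), (2, 0, []),
   (4, 0, [4, 1, 8, 8, 1, 3, 0]), (5, 0, [2, 6, 1, 7, 6, 0, 5, 5]), (2, 0, []), (0, 0, []),
   (0, 1, []), (0, 0, []), (3, 0, []), (5, 0, [8, 4, 0, 2, 1, 7, 0, 0, 0]),
   (4, 0, [0, 4, 4, 1, 6, 3, 8, 6, 1]), (11, 0, [3, 1, 7, 3, 3, 0]), (0, 0, []), (4, 0, [2, 1, 7, 5, 7, 6, 0, 4, 8, 4]),
   (7, 0, [6, 7, 6, 3, 8, 4]), (0, 0, []), (0, 0, []), (2, 0, []),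
   (0, 0, []), (4, 0, [1, 4, 8, 2, 1, 4, 4, 5, 8, 2]), (0, 0, []), (7, 0, [7, 6, 8, 4, 8, 1, 4, 6]),
   (11, 0, [4, 0, 3, 1, 8, 0, 7, 3, 1]), (0, 3, []), (0, 0, []), (4, 0, [1, 4, 0, 7, 6, 7, 6, 6, 3]),
   (4, 0, [1, 4, 1, 7, 0, 6, 4, 1, 1]), (3, 0, []), (5, 0, [2, 1, 4, 0, 0, 3, 8, 8, 8, 0]), (0, 0, []),
   (0, 0, []), (5, 0, [2, 7, 6, 4, 6, 0, 5, 3, 3]), (0, 1, []), (2, 0, []),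
   (4, 0, [1, 1, 7, 4, 4, 8, 8, 8, 2]), (3, 0, []), (4, 0, [1, 3, 8, 1, 7, 6, 1, 4, 4, 0]), (2, 0, []),
   (0, 2, []), (3, 0, []), (0, 1, []), (3, 0, []),
   (3, 0, []), (0, 1, []), (3, 0, []), (3, 0, []),
   (4, 0, [2, 0, 4, 1, 8, 5, 8, 1, 6]), (0, 4, []), (0, 0, []), (0, 0, []),
   (0, 0, []), (4, 0, [8, 0, 7, 6, 0, 7, 3, 0]), (4, 0, [0, 3, 1, 3, 6, 1, 7, 5, 0]), (3, 0, []),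
   (5, 0, [2, 1, 3, 3, 0, 7, 5, 0, 0]), (5, 0, [2, 5, 1, 8, 8, 8, 4, 1]), (3, 0, []), (3, 0, []),
   (0, 0, []), (9, 0, [2, 5, 7, 3, 3, 8, 6]), (5, 0, [7, 6, 6, 1, 7, 7, 6, 2]), (0, 0, []),
   (3, 0, []), (0, 1, []), (3, 0, []), (0, 1, []),
   (3, 0, []), (4, 0, [1, 3, 1, 8, 8, 8, 1, 4, 6]), (4, 0, [2, 0, 3, 0, 4, 5, 0, 3, 7]), (4, 0, [2, 1, 4, 4, 0, 3, 1, 8, 0]),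
   (1, 0, []), (0, 1, []), (0, 1, []), (0, 1, []),
   (3, 0, []), (0, 1, []), (0, 1, [])]

def cert0_20 : List (ℕ × ℕ × List ℕ) :=
  [(2, 0, []), (3, 0, []), (4, 0, [2, 0, 0, 7, 7, 4, 1, 6, 8]), (11, 0, [3, 1, 7, 4, 5, 0, 5, 3]),
   (9, 0, [0, 2, 8, 8, 8, 2, 8, 8, 8, 0]), (7, 0, [5, 7, 7, 4, 8, 4, 0, 0]), (4, 0, [2, 7, 4, 0, 6, 3, 1, 7, 0]), (0, 0, []),
   (0, 0, []), (0, 0, []), (9, 0, [2, 8, 5, 3, 7, 0, 3, 1]), (4, 0, [2, 0, 3, 7, 3, 3, 8, 5, 1]),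
   (0, 0, []), (0, 1, []), (0, 0, []), (7, 0, [4, 5, 1, 3, 5, 7, 0, 3, 3]),
   (4, 0, [2, 1, 7, 0, 7, 3, 6, 7, 7, 0]), (0, 1, []), (5, 0, [2, 6, 3, 7, 0]), (4, 0, [1, 7, 3, 5, 1, 3, 3, 7, 0]),
   (3, 0, []), (9, 0, [1, 4, 0, 2, 5, 8, 0, 0, 2, 0]), (0, 0, []), (0, 0, []),
   (9, 0, [2, 1, 7, 3, 0, 3, 7, 7]), (9, 0, [2, 7, 6, 7, 2, 1, 3, 7, 2, 0]), (7, 0, [4, 6, 0, 4, 8, 4, 0, 0, 0]), (0, 2, []),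
   (3, 0, []), (0, 0, []), (4, 0, [1, 4, 1, 2, 4, 0, 2, 4, 8]), (0, 0, []),
   (11, 0, [3, 7, 7, 3, 3, 6, 1, 3]), (0, 0, []), (5, 0, [2, 6, 8, 8, 1, 5, 8, 6]), (4, 0, [0, 4, 4, 8, 4, 4, 1, 4]),
   (11, 0, [4, 4, 1, 6, 6, 4, 8, 6, 4]), (4, 0, [2, 8, 0, 3, 7, 0, 5, 3]), (3, 0, []), (9, 0, [0, 3, 1, 3, 8, 2, 4, 0]),
   (3, 0, []), (3, 0, []), (5, 0, [2, 8, 0, 6, 3, 8, 8, 6, 3]), (0, 0, []),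
   (9, 0, [2, 1, 8, 1, 5, 8, 0, 5]), (4, 0, [2, 0, 4, 1, 5, 4, 0, 7, 0]), (0, 0, []), (3, 0, []),
   (0, 0, []), (0, 0, []), (3, 0, []), (0, 0, []),
   (9, 0, [0, 4, 6, 1, 7, 2, 8, 8, 5]), (0, 0, []), (9, 0, [2, 0, 3, 1, 4, 6, 8, 0, 3]), (4, 0, [0, 3, 5, 5, 7, 7, 6, 1, 4]),
   (5, 0, [2, 6, 7, 4, 8, 0, 5, 5]), (9, 0, [2, 7, 3, 8, 4, 5, 0, 5, 0]), (7, 0, [4, 1, 1, 6, 3, 1, 1, 8, 0]), (7, 0, [4, 8, 5, 1, 5, 8, 0, 0, 6]),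
   (7, 0, [4, 4, 8, 8, 0, 7, 6, 1]), (3, 0, []), (5, 0, [2, 6, 0, 4, 0, 4, 6, 7]), (3, 0, []),
   (9, 0, [2, 0, 4, 4, 1, 4, 0, 3]), (5, 0, [1, 8, 8, 8, 2, 4, 5, 4, 1, 1]), (4, 0, [2, 0, 0, 7, 7, 0, 7, 6, 6]), (0, 0, []),
   (7, 0, [3, 8, 1, 8, 5, 0, 3, 8]), (0, 0, []), (4, 0, [2, 7, 4, 8, 8, 6, 0, 4]), (9, 0, [2, 8, 6, 0, 3, 5, 3, 1, 4]),
   (0, 0, []), (4, 0, [1, 8, 8, 6, 1, 8, 4, 8, 5, 0]), (3, 0, []), (4, 0, [2, 1, 7, 3, 5, 3, 0, 3, 1, 1]),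
   (4, 0, [2, 3, 3, 8, 6, 1, 7, 5, 0]), (4, 0, [1, 8, 0, 4, 0, 3, 3, 7, 6]), (11, 0, [4, 0, 3, 8, 1, 3, 7, 7]), (3, 0, []),
   (0, 1, []), (7, 0, [4, 1, 5, 8, 8, 1, 5, 8, 0]), (0, 0, []), (7, 0, [3, 1, 3, 8, 4, 8, 0, 0]),
   (0, 1, []), (0, 1, []), (0, 0, []), (11, 0, [5, 3, 7, 4, 0, 0, 6]),
   (3, 0, []), (0, 0, []), (3, 0, []), (0, 2, []),
   (0, 1, []), (4, 0, [1, 7, 6, 1, 7, 5, 8, 1, 5]), (0, 1, []), (4, 0, [0, 7, 0, 5, 4, 1, 3, 3, 1, 2]),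
   (4, 0, [1, 3, 0, 3, 0, 7, 2, 6]), (3, 0, []), (0, 1, []), (3, 0, []),
   (3, 0, []), (3, 0, []), (2, 0, []), (3, 0, []),
   (2, 0, []), (11, 0, [3, 8, 4, 1, 6, 7, 7]), (0, 0, []), (11, 0, [3, 0, 5, 8, 0, 0, 4, 1]),
   (0, 0, []), (11, 0, [4, 0, 0, 4, 0, 3, 7, 6, 0]), (0, 1, []), (4, 0, [2, 7, 7, 7, 6, 1, 7, 3, 5]),
   (7, 0, [4, 5, 0, 5, 0, 7, 4, 4]), (4, 0, [7, 7, 3, 7, 7, 3, 5]), (4, 0, [4, 8, 8, 4, 8, 8, 5]), (7, 0, [3, 3, 1, 8, 1, 7, 7]),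
   (7, 0, [4, 1, 6, 7, 0, 3, 1, 3]), (2, 0, []), (4, 0, [2, 7, 3, 7, 7, 6, 6, 7, 0]), (4, 0, [2, 4, 4, 1, 7, 6, 0, 7, 4, 0]),
   (5, 0, [5, 7, 2, 6, 3, 7, 2]), (4, 0, [1, 8, 8, 5, 1, 4, 8, 8]), (0, 0, []), (4, 0, [1, 5, 7, 4, 0, 5, 0]),
   (5, 0, [0, 4, 5, 4, 1, 7, 2, 0, 7]), (0, 0, []), (9, 0, [2, 5, 7, 3, 8, 8, 0, 4, 8, 1]), (0, 0, []),
   (4, 0, [1, 3, 5, 8, 6, 0, 5]), (0, 0, []), (0, 0, []), (5, 0, [1, 7, 7, 3, 6, 7, 7, 4, 2, 0]),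
   (5, 0, [1, 3, 7, 2, 0, 3, 6, 1, 8, 1]), (4, 0, [1, 5, 7, 4, 8, 0, 6, 0]), (5, 0, [2, 7, 6, 6, 8, 4, 8]), (11, 0, [5, 7, 6, 6, 3, 8, 4]),
   (0, 0, []), (9, 0, [1, 5, 5, 7, 2, 4, 5, 7, 3]), (7, 0, [4, 5, 4, 8, 6, 3, 7, 4, 0]), (0, 0, []),
   (3, 0, []), (0, 1, []), (4, 0, [1, 8, 8, 4, 8, 4, 4, 5]), (0, 0, []),
   (0, 0, []), (0, 0, []), (0, 1, []), (2, 0, []),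
   (9, 0, [0, 4, 8, 8, 1, 5, 5, 8, 0, 2]), (0, 0, []), (4, 0, [4, 1, 3, 5, 8, 8, 4, 6]), (2, 0, []),
   (0, 1, []), (0, 1, []), (0, 1, []), (0, 2, []),
   (0, 2, []), (2, 0, []), (4, 0, [1, 4, 0, 7, 6, 1, 7, 5, 0]), (2, 0, []),
   (0, 1, []), (0, 1, []), (4, 0, [1, 5, 3, 0, 5, 7, 7, 7, 5]), (2, 0, []),
   (0, 2, []), (0, 0, []), (2, 0, []), (4, 0, [1, 8, 8, 4, 5, 1, 3, 3]),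
   (0, 0, []), (0, 0, []), (0, 0, []), (3, 0, []),
   (0, 0, []), (9, 0, [2, 5, 7, 4, 8, 4, 6, 1, 5]), (0, 1, []), (7, 0, [5, 3, 8, 5, 0, 7, 6, 0]),
   (11, 0, [5, 7, 6, 3, 1, 8, 4, 5]), (0, 4, []), (9, 0, [1, 7, 5, 5, 0, 2, 6, 0, 3]), (0, 0, []),
   (0, 2, []), (9, 0, [2, 5, 5, 7, 3, 0, 5, 4]), (0, 0, []), (0, 0, []),
   (0, 2, []), (0, 0, []), (0, 0, []), (2, 0, []),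
   (3, 0, []), (11, 0, [6, 7, 6, 8, 4, 8, 1, 3]), (7, 0, [7, 0, 3, 7, 3, 5, 3, 0]), (9, 0, [2, 1, 5, 4, 5, 8, 8, 1]),
   (0, 0, []), (4, 0, [4, 8, 1, 5, 7, 5, 3]), (0, 0, []), (3, 0, []),
   (0, 0, []), (4, 0, [1, 3, 1, 3, 5, 8, 6, 0, 5, 0]), (0, 0, []), (5, 0, [2, 5, 3, 0, 4, 4, 8, 5, 1]),
   (5, 0, [8, 5, 1, 1, 8, 1, 7, 4, 2]), (3, 0, []), (0, 0, []), (5, 0, [0, 2, 0, 7, 0, 3, 8, 2, 0]),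
   (9, 0, [2, 8, 5, 1, 4, 1, 7, 3]), (4, 0, [1, 3, 8, 5, 5, 0, 4, 5, 0]), (0, 1, []), (0, 0, []),
   (0, 0, []), (3, 0, []), (4, 0, [8, 6, 0, 4, 1, 3, 8, 2]), (3, 0, []),
   (0, 1, []), (4, 0, [1, 8, 1, 5, 8, 1, 8, 8]), (3, 0, []), (0, 1, []),
   (3, 0, []), (0, 1, []), (0, 1, []), (3, 0, []),
   (0, 1, []), (1, 0, []), (0, 2, []), (0, 1, []),
   (4, 0, [1, 3, 0, 4, 4, 6, 8, 6, 8, 2]), (0, 0, []), (3, 0, []), (0, 0, []),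
   (3, 0, []), (4, 0, [2, 7, 3, 8, 4, 5, 7, 3, 0]), (0, 0, []), (0, 0, []),
   (7, 0, [4, 6, 1, 7, 7, 3, 7, 7, 5]), (0, 0, []), (9, 0, [2, 7, 7, 7, 4, 1, 6, 6, 3]), (4, 0, [1, 3, 1, 4, 5, 8, 4, 0, 6]),
   (7, 0, [4, 8, 6, 4, 8, 8, 6, 1]), (9, 0, [1, 2, 1, 4, 1, 3, 7, 5, 5, 2]), (5, 0, [2, 8, 6, 4, 1, 6, 3, 1]), (9, 0, [2, 1, 7, 6, 8, 1, 6, 7, 5]),
   (0, 0, []), (0, 0, []), (9, 0, [2, 5, 5, 7, 7, 6, 8, 6]), (0, 0, []),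
   (0, 1, []), (0, 0, []), (0, 1, []), (0, 0, []),
   (7, 0, [5, 4, 8, 1, 1, 8, 4, 1]), (0, 0, []), (9, 0, [2, 5, 7, 7, 3, 1, 7, 5, 8, 0]), (4, 0, [1, 3, 0, 5, 7, 7, 4, 4, 0]),
   (11, 0, [4, 4, 8, 6, 3, 8, 6, 1, 4]), (3, 0, []), (2, 0, []), (0, 0, []),
   (5, 0, [2, 6, 8, 8, 1, 5, 5, 1, 4]), (9, 0, [2, 6, 8, 5, 1, 7, 3, 1]), (0, 0, []), (0, 0, []),
   (11, 0, [7, 0, 6, 0, 6, 7, 5, 8]), (5, 0, [2, 8, 0, 6, 3, 8, 1, 1]), (11, 0, [3, 1, 4, 0, 5, 8, 8, 4]), (4, 0, [2, 8, 1, 8, 8, 1, 1, 6]),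
   (3, 0, []), (4, 0, [0, 4, 1, 1, 1, 2, 1, 1, 7, 2]), (9, 0, [2, 1, 8, 8, 5, 3, 1]), (3, 0, []),
   (3, 0, []), (4, 0, [1, 7, 7, 4, 1, 5, 4, 1]), (4, 0, [2, 8, 1, 8, 8, 8, 6, 6, 3]), (3, 0, []),
   (5, 0, [1, 3, 7, 2, 7, 4, 8, 4, 4]), (3, 0, []), (11, 0, [4, 1, 8, 8, 1, 8, 1, 3, 3, 0]), (4, 0, [2, 1, 8, 0, 3, 0, 4, 6, 0]),
   (5, 0, [2, 1, 7, 4, 0, 4, 4, 1]), (11, 0, [3, 7, 3, 7, 7, 3, 1]), (0, 0, []), (0, 0, []),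
   (0, 0, []), (9, 0, [2, 1, 8, 5, 8, 6, 7, 0]), (4, 0, [0, 4, 4, 8, 4, 4, 6, 8]), (9, 0, [2, 1, 8, 1, 5, 8, 0, 6, 6]),
   (3, 0, []), (0, 1, []), (0, 0, []), (0, 0, []),
   (9, 0, [2, 6, 6, 0, 7, 6, 1, 4]), (0, 0, []), (2, 0, []), (0, 0, []),
   (9, 0, [7, 3, 1, 7, 2, 7, 4, 4, 0]), (4, 0, [4, 8, 1, 5, 7, 3, 6]), (0, 3, []), (0, 0, []),
   (0, 0, []), (7, 0, [4, 4, 1, 8, 1, 8, 6, 4, 1]), (3, 0, []), (11, 0, [4, 0, 3, 7, 0, 0, 0, 7]),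
   (5, 0, [2, 7, 4, 8, 4, 0, 4, 6, 0]), (0, 0, []), (3, 0, []), (0, 0, []),
   (0, 0, []), (2, 0, []), (0, 1, []), (7, 0, [3, 0, 3, 1, 4, 5, 5, 0]),
   (0, 0, []), (4, 0, [2, 0, 3, 6, 3, 1, 3, 8, 4]), (4, 0, [1, 7, 6, 7, 6, 4, 1]), (11, 0, [7, 6, 1, 7, 5, 8, 1, 1]),
   (4, 0, [1, 4, 0, 7, 6, 7, 6, 3]), (0, 0, []), (5, 0, [2, 7, 4, 0, 6, 0, 5, 3, 3]), (2, 0, []),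
   (2, 0, []), (0, 1, []), (4, 0, [2, 0, 3, 5, 3, 7, 4, 8, 5]), (3, 0, []),
   (0, 2, []), (3, 0, []), (0, 1, []), (3, 0, []),
   (2, 0, []), (4, 0, [2, 1, 8, 4, 5, 8, 8, 5, 8, 1]), (2, 0, []), (0, 1, []),
   (3, 0, []), (4, 0, [1, 3, 5, 1, 7, 5, 5, 8, 0]), (5, 0, [2, 8, 8, 0, 5, 8, 8, 0, 0]), (0, 0, []),
   (0, 0, []), (3, 0, []), (7, 0, [4, 8, 6, 4, 8, 8, 6, 1, 5]), (0, 0, []),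
   (0, 0, []), (4, 0, [1, 3, 1, 4, 5, 8, 4, 0]), (9, 0, [2, 7, 3, 8, 6, 4, 0, 0]), (9, 0, [2, 8, 6, 1, 7, 3, 7, 0, 0]),
   (3, 0, []), (0, 0, []), (4, 0, [2, 3, 0, 3, 6, 8, 6, 8]), (7, 0, [4, 6, 1, 7, 0, 6, 7, 7, 0]),
   (9, 0, [1, 2, 1, 4, 1, 3, 7, 5, 2]), (2, 0, []), (4, 0, [1, 4, 0, 7, 4, 0, 0, 7, 3]), (2, 0, []),
   (0, 1, []), (0, 1, []), (2, 0, []), (0, 1, []),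
   (0, 1, []), (0, 1, []), (4, 0, [0, 0, 3, 8, 8, 4, 5, 1, 3]), (2, 0, []),
   (4, 0, [8, 1, 7, 3, 5, 7, 5, 5]), (0, 1, []), (0, 1, []), (0, 1, []),
   (3, 0, []), (5, 0, [2, 6, 1, 6, 6, 1]), (9, 0, [2, 5, 1, 7, 6, 3, 7, 3, 1]), (4, 0, [7, 2, 5, 7, 3, 3, 6, 2, 1]),
   (4, 0, [0, 4, 1, 7, 3, 1, 4, 1]), (7, 0, [4, 0, 5, 5, 4, 8, 1, 5, 8]), (0, 3, []), (0, 0, []),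
   (7, 0, [4, 5, 1, 3, 7, 3, 3]), (3, 0, []), (0, 0, []), (9, 0, [0, 2, 5, 3, 1, 7, 3, 0, 2]),
   (0, 0, []), (0, 1, []), (9, 0, [0, 2, 3, 7, 2, 0, 5, 4, 4, 1]), (2, 0, []),
   (0, 1, []), (3, 0, []), (3, 0, []), (0, 1, []),
   (0, 1, []), (2, 0, []), (4, 0, [1, 7, 6, 8, 1, 8, 5, 8, 6, 1]), (4, 0, [2, 0, 7, 6, 7, 7, 6, 3, 7, 0]),
   (3, 0, []), (2, 0, []), (2, 0, []), (3, 0, []),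
   (0, 2, []), (4, 0, [0, 3, 5, 3, 7, 4, 8, 6, 2]), (2, 0, []), (0, 1, []),
   (4, 0, [2, 0, 3, 0, 7, 0, 3, 1, 6, 1]), (4, 0, [1, 8, 8, 1, 8, 1, 7, 0, 4]), (4, 0, [2, 1, 8, 4, 0, 5, 4, 8, 6, 0]), (11, 0, [3, 7, 5, 3, 3, 1, 7]),
   (7, 0, [4, 1, 7, 5, 8, 8, 4, 1, 1]), (0, 0, []), (7, 0, [5, 4, 8, 8, 4, 6, 7, 0]), (11, 0, [2, 3, 5, 3, 1, 3, 7, 2, 1]),
   (11, 0, [4, 8, 1, 3, 6, 1, 7, 6, 0]), (7, 0, [4, 1, 6, 8, 8, 6, 0, 7, 0]), (4, 0, [2, 1, 4, 8, 8, 4, 1, 6, 8]), (0, 0, []),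
   (4, 0, [7, 3, 0, 3, 3, 0, 7, 4]), (9, 0, [2, 5, 3, 8, 1, 7, 6, 3, 0]), (0, 0, []), (9, 0, [2, 1, 4, 4, 8, 1, 8, 8]),
   (0, 1, []), (4, 0, [1, 7, 3, 8, 5, 5, 4, 0, 5]), (5, 0, [2, 1, 4, 5, 7]), (0, 0, []),
   (7, 0, [4, 5, 1, 3, 7, 3, 6, 3]), (0, 1, []), (3, 0, []), (7, 0, [3, 8, 6, 1, 4, 6, 1]),
   (3, 0, []), (4, 0, [2, 1, 3, 1, 6, 1, 5, 8, 1, 3]), (0, 0, []), (9, 0, [1, 3, 5, 8, 8, 2, 7, 5, 0]),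
   (0, 0, []), (7, 0, [3, 7, 7, 5, 0, 4, 8]), (0, 0, []), (5, 0, [0, 4, 8, 1, 7, 3, 8, 2, 1, 7]),
   (4, 0, [1, 4, 0, 7, 7, 0, 3]), (11, 0, [7, 3, 1, 4, 8, 4, 8, 4]), (4, 0, [2, 7, 3, 8, 8, 8, 6, 3]), (2, 0, []),
   (0, 1, []), (0, 0, []), (0, 0, []), (3, 0, []),
   (5, 0, [2, 0, 4, 6, 1, 5, 8, 1]), (4, 0, [0, 7, 4, 8, 5, 5, 7, 3, 1]), (0, 0, []), (0, 1, []),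
   (0, 1, []), (4, 0, [1, 7, 4, 1, 8, 5, 1, 5, 2]), (0, 2, []), (3, 0, []),
   (3, 0, []), (0, 1, []), (4, 0, [1, 3, 0, 3, 0, 7, 2]), (3, 0, []),
   (4, 0, [1, 8, 0, 7, 4, 5, 8, 8, 6]), (3, 0, []), (2, 0, []), (2, 0, []),
   (3, 0, []), (3, 0, []), (2, 0, []), (4, 0, [1, 8, 0, 4, 0, 0, 4, 0, 0, 2]),
   (3, 0, []), (3, 0, []), (3, 0, []), (4, 0, [2, 1, 1, 3, 5, 8, 6, 4, 0, 0]),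
   (4, 0, [0, 7, 3, 1, 3, 7, 6, 8, 8]), (2, 0, []), (2, 0, []), (0, 1, []),
   (0, 1, []), (3, 0, []), (2, 0, []), (0, 2, []),
   (0, 1, []), (3, 0, []), (3, 0, []), (4, 0, [2, 1, 7, 4, 1, 8, 8, 6, 3]),
   (3, 0, []), (3, 0, []), (0, 1, []), (0, 1, []),
   (4, 0, [8, 8, 8, 1, 6, 3, 3, 1, 1]), (4, 0, [2, 1, 8, 4, 5, 8, 0, 3, 1]), (0, 1, []), (3, 0, []),
   (3, 0, []), (2, 0, []), (0, 1, []), (2, 0, []),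
   (2, 0, []), (0, 0, []), (9, 0, [2, 5, 3, 8, 0, 6, 7, 3]), (0, 1, []),
   (0, 0, []), (0, 0, []), (3, 0, []), (0, 0, []),
   (0, 2, []), (0, 0, []), (4, 0, [1, 8, 8, 4, 8, 6, 4, 4]), (11, 0, [5, 7, 6, 3, 0, 5, 8, 4]),
   (7, 0, [3, 5, 5, 8, 5, 8, 0, 0]), (9, 0, [1, 5, 3, 8, 2, 7, 2, 0, 5, 3]), (0, 0, [])]

def cert0_21 : List (ℕ × ℕ × List ℕ) :=
  [(3, 0, []), (0, 2, []), (3, 0, []), (0, 0, []),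
   (11, 0, [3, 8, 1, 6, 6, 3, 1]), (4, 0, [2, 0, 7, 6, 1, 7, 7, 7]), (11, 0, [3, 6, 6, 8, 0, 4, 6]), (0, 0, []),
   (5, 0, [2, 6, 0, 3, 0, 4, 1, 7, 3, 0]), (9, 0, [2, 5, 4, 8, 6, 8, 1, 7, 4]), (5, 0, [2, 6, 0, 3, 7, 3, 6, 0, 7, 0]), (4, 0, [2, 1, 8, 1, 7, 0, 7, 7, 0]),
   (0, 2, []), (0, 0, []), (5, 0, [2, 1, 6, 1, 7, 7, 0, 3, 0]), (9, 0, [2, 5, 1, 8, 5, 0, 7, 0]),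
   (0, 0, []), (0, 0, []), (9, 0, [2, 1, 5, 7, 3, 8, 8, 6, 3, 0]), (0, 0, []),
   (9, 0, [2, 6, 7, 3, 1, 7, 3, 1, 1]), (4, 0, [8, 6, 8, 8, 1, 8, 8, 1]), (0, 0, []), (0, 0, []),
   (0, 0, []), (9, 0, [0, 2, 6, 1, 8, 8, 2, 0, 7, 4]), (11, 0, [3, 8, 8, 1, 5, 8, 6, 1]), (3, 0, []),
   (11, 0, [3, 6, 0, 3, 6, 7]), (0, 0, []), (3, 0, []), (3, 0, []),
   (4, 0, [2, 0, 0, 7, 0, 3, 8, 0, 6]), (3, 0, []), (3, 0, []), (0, 1, []),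
   (0, 1, []), (4, 0, [0, 0, 7, 6, 8, 0, 6, 0, 7]), (4, 0, [1, 3, 0, 3, 0, 5, 7, 0, 2]), (0, 1, []),
   (3, 0, []), (3, 0, []), (2, 0, []), (0, 1, []),
   (2, 0, []), (11, 0, [3, 1, 7, 4, 0, 0, 3]), (7, 0, [4, 1, 7, 7, 5, 7, 6, 6, 3, 0]), (3, 0, []),
   (0, 0, []), (4, 0, [2, 1, 7, 4, 1, 1, 7, 3, 1]), (9, 0, [1, 5, 7, 0, 2, 5, 8, 2, 0, 4]), (0, 0, []),
   (4, 0, [2, 0, 0, 7, 7, 4, 8]), (2, 0, []), (0, 1, []), (0, 0, []),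
   (9, 0, [2, 0, 4, 6, 1, 5, 5, 3]), (0, 0, []), (0, 0, []), (4, 0, [2, 0, 7, 5, 4, 8, 8, 6, 1, 4]),
   (0, 0, []), (4, 0, [3, 1, 8, 0, 5, 3, 0, 3]), (0, 0, []), (0, 0, []),
   (9, 0, [2, 5, 3, 0, 3, 8, 1, 7, 5]), (9, 0, [1, 3, 1, 4, 1, 7, 2, 0, 4, 0]), (0, 0, []), (9, 0, [2, 5, 1, 8, 0, 0, 7, 6, 6]),
   (0, 0, []), (9, 0, [1, 8, 8, 8, 2, 1, 1, 3, 7]), (0, 0, []), (3, 0, []),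
   (11, 0, [3, 6, 0, 3, 7, 0, 5]), (11, 0, [4, 4, 8, 6, 1, 3, 7, 3, 8]), (0, 0, []), (0, 0, []),
   (0, 0, []), (2, 0, []), (11, 0, [3, 8, 0, 3, 0, 4, 6, 0]), (3, 0, []),
   (4, 0, [1, 4, 0, 7, 6, 7, 3, 6]), (7, 0, [4, 4, 8, 1, 3, 6, 7, 7, 5]), (5, 0, [8, 4, 0, 2, 7, 4, 8, 5, 0]), (4, 0, [2, 7, 3, 8, 8, 5, 1]),
   (0, 0, []), (0, 0, []), (4, 0, [1, 7, 6, 7, 4, 1, 1, 1]), (0, 1, []),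
   (5, 0, [1, 2, 4, 6, 8, 1, 7, 2, 8]), (0, 0, []), (3, 0, []), (0, 1, []),
   (3, 0, []), (3, 0, []), (3, 0, []), (0, 1, []),
   (0, 1, []), (4, 0, [2, 8, 8, 6, 3, 3, 8, 8, 0]), (0, 1, []), (3, 0, []),
   (4, 0, [0, 7, 7, 4, 4, 8, 5, 5, 0]), (3, 0, []), (3, 0, []), (3, 0, []),
   (4, 0, [1, 7, 7, 4, 4, 5, 7, 7, 2]), (0, 0, []), (11, 0, [4, 4, 6, 8, 5, 4, 1, 1]), (2, 0, []),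
   (7, 0, [4, 0, 0, 3, 8, 6, 4, 6, 0]), (11, 0, [4, 6, 0, 3, 7, 5, 0, 4]), (4, 0, [2, 7, 3, 7, 7, 3, 0]), (0, 0, []),
   (0, 1, []), (11, 0, [4, 8, 1, 3, 0, 3, 1, 1]), (7, 0, [3, 7, 5, 8, 4, 8, 0]), (4, 0, [2, 7, 7, 7, 6, 0, 3, 1, 4]),
   (4, 0, [2, 0, 3, 0, 6, 7, 3, 1, 1]), (7, 0, [4, 1, 4, 4, 6, 1, 7, 3]), (4, 0, [4, 8, 8, 4, 8, 8, 6, 6]), (4, 0, [1, 1, 3, 1, 8, 1, 3, 1, 4]),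
   (11, 0, [3, 7, 3, 5, 7, 7, 4, 0]), (4, 0, [2, 1, 4, 1, 6, 8, 8, 4, 0, 4]), (0, 0, []), (0, 0, []),
   (7, 0, [4, 1, 4, 8, 4, 1, 8, 4]), (0, 0, []), (4, 0, [8, 8, 1, 4, 4, 5]), (2, 0, []),
   (5, 0, [2, 1, 7, 6, 7, 5, 8]), (0, 2, []), (5, 0, [2, 0, 5, 0, 3, 8, 1, 7, 4]), (0, 0, []),
   (3, 0, []), (4, 0, [0, 3, 5, 8, 5, 8, 0, 6, 6]), (0, 0, []), (0, 0, []),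
   (4, 0, [3, 3, 0, 7, 7, 5]), (0, 0, []), (0, 1, []), (4, 0, [2, 8, 4, 5, 7, 4, 8, 4]),
   (0, 0, []), (5, 0, [2, 6, 0, 7, 0, 0, 3, 5, 3]), (11, 0, [3, 5, 5, 0, 3, 1, 3, 0]), (7, 0, [7, 3, 3, 5, 8, 4]),
   (2, 0, []), (4, 0, [0, 4, 1, 7, 4, 4, 0, 5, 7]), (0, 0, []), (3, 0, []),
   (0, 0, []), (5, 0, [2, 6, 1, 5, 3, 8, 5, 3]), (4, 0, [1, 8, 0, 3, 3, 0, 3, 0, 3]), (7, 0, [6, 7, 3, 1, 8, 4, 6]),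
   (11, 0, [3, 1, 3, 6, 1, 8, 1]), (0, 0, []), (4, 0, [2, 1, 8, 0, 4, 5, 1, 3, 8, 5]), (5, 0, [2, 6, 1, 5, 3, 1, 1, 6]),
   (0, 0, []), (0, 0, []), (0, 2, []), (5, 0, [2, 5, 0, 7, 5, 7, 6, 6]),
   (0, 0, []), (4, 0, [3, 7, 0, 7, 3, 7, 6, 1]), (2, 0, []), (3, 0, []),
   (0, 0, []), (3, 0, []), (0, 1, []), (0, 1, []),
   (3, 0, []), (0, 1, []), (0, 1, []), (1, 0, []),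
   (4, 0, [8, 8, 2, 6, 3, 8, 4, 2, 1]), (0, 1, []), (0, 1, []), (4, 0, [2, 1, 7, 0, 7, 7, 0, 7, 0]),
   (3, 0, []), (3, 0, []), (0, 1, []), (4, 0, [1, 7, 3, 6, 1, 3, 1, 5, 3]),
   (7, 0, [4, 0, 3, 7, 7, 3, 1, 7, 3]), (7, 0, [4, 8, 0, 6, 0, 4, 6, 0]), (0, 0, []), (0, 0, []),
   (3, 0, []), (4, 0, [8, 1, 8, 6, 8, 1, 7, 4]), (0, 0, []), (9, 0, [2, 7, 7, 7, 4, 1, 3]),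
   (5, 0, [2, 5, 5, 8, 8, 1, 7, 4]), (3, 0, []), (9, 0, [0, 4, 6, 1, 7, 2, 8, 5, 1, 4]), (9, 0, [2, 0, 3, 3, 7, 7, 6, 0, 6]),
   (0, 0, []), (0, 0, []), (4, 0, [2, 0, 7, 3, 7, 4, 8, 4, 4, 0]), (0, 0, []),
   (0, 0, []), (9, 0, [2, 5, 3, 8, 0, 6, 7, 5, 3]), (0, 0, []), (0, 2, []),
   (11, 0, [4, 1, 7, 4, 6, 4, 8, 0, 6]), (0, 0, []), (0, 1, []), (9, 0, [2, 6, 3, 7, 6, 3, 8, 6, 3]),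
   (4, 0, [4, 8, 6, 0, 7, 3, 6]), (0, 0, []), (2, 0, []), (0, 0, []),
   (7, 0, [4, 1, 7, 5, 0, 7, 0, 0]), (3, 0, []), (0, 0, []), (5, 0, [5, 7, 2, 6, 3, 7, 6, 2]),
   (4, 0, [1, 3, 5, 8, 6, 0, 5, 5]), (0, 0, []), (0, 0, []), (9, 0, [2, 8, 4, 1, 1, 3, 1, 6, 1]),
   (4, 0, [1, 8, 1, 5, 7, 5, 7, 7, 3]), (5, 0, [2, 7, 6, 6, 8, 4, 8, 5]), (4, 0, [1, 4, 1, 1, 7, 3, 5, 7]), (5, 0, [1, 6, 8, 1, 7, 0, 2, 7, 6, 4]),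
   (5, 0, [2, 8, 0, 4, 0, 3, 1, 7]), (4, 0, [1, 5, 7, 4, 8, 6, 0, 5, 0]), (0, 0, []), (5, 0, [2, 6, 1, 7, 0, 7, 6, 7, 3]),
   (0, 0, []), (3, 0, []), (4, 0, [1, 4, 8, 4, 8, 4, 8, 0]), (0, 2, []),
   (4, 0, [1, 7, 6, 7, 3, 0, 5, 8, 2, 1]), (0, 0, []), (11, 0, [3, 5, 8, 8, 0, 7, 7]), (7, 0, [4, 8, 5, 3, 7, 4, 1, 7, 0]),
   (0, 2, []), (0, 1, []), (0, 0, []), (7, 0, [4, 1, 7, 6, 8, 1, 5, 4, 0]),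
   (4, 0, [1, 3, 7, 2, 7, 5, 7, 5, 3]), (0, 0, []), (3, 0, []), (11, 0, [6, 4, 1, 4, 0, 4]),
   (2, 0, []), (0, 1, []), (0, 1, []), (0, 1, []),
   (4, 0, [1, 7, 3, 0, 3, 8, 1, 3, 1]), (0, 1, []), (4, 0, [3, 8, 6, 0, 4, 0, 3, 0]), (0, 1, []),
   (2, 0, []), (0, 1, []), (2, 0, []), (4, 0, [2, 8, 1, 7, 3, 5, 7, 2]),
   (0, 1, []), (2, 0, []), (0, 1, []), (0, 0, []),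
   (0, 0, []), (0, 0, []), (0, 0, []), (3, 0, []),
   (2, 0, []), (7, 0, [4, 0, 4, 5, 0, 7, 4, 4, 0]), (0, 0, []), (4, 0, [3, 8, 0, 4, 4, 6, 4, 1]),
   (0, 0, []), (0, 1, []), (0, 1, []), (9, 0, [2, 5, 4, 8, 8, 0, 5, 7]),
   (9, 0, [2, 8, 5, 0, 4, 8, 6, 0, 3]), (11, 0, [4, 5, 5, 4, 0, 4, 5, 8]), (4, 0, [8, 0, 6, 0, 5, 7, 7, 4, 2]), (0, 1, []),
   (2, 0, []), (2, 0, []), (0, 2, []), (4, 0, [2, 7, 3, 8, 4, 6, 4, 1]),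
   (0, 1, []), (3, 0, []), (3, 0, []), (0, 1, []),
   (4, 0, [4, 8, 6, 0, 4, 5, 1, 1]), (2, 0, []), (3, 0, []), (3, 0, []),
   (2, 0, []), (4, 0, [0, 7, 7, 4, 4, 8, 0, 0, 0, 0]), (0, 1, []), (4, 0, [1, 5, 7, 6, 7, 3, 7, 7, 0, 2]),
   (3, 0, []), (3, 0, []), (4, 0, [8, 6, 1, 3, 1, 7, 6, 0, 2]), (3, 0, []),
   (3, 0, []), (3, 0, []), (0, 1, []), (0, 2, []),
   (0, 2, []), (3, 0, []), (3, 0, []), (3, 0, []),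
   (5, 0, [1, 1, 2, 0, 5, 3, 0, 7, 2, 0]), (9, 0, [2, 1, 8, 1, 5, 8, 0]), (3, 0, []), (0, 0, []),
   (11, 0, [4, 5, 0, 4, 6, 0, 4, 5, 4, 0]), (0, 0, []), (11, 0, [4, 5, 4, 1, 3, 6, 1, 3, 0]), (3, 0, []),
   (4, 0, [1, 8, 8, 0, 3, 0, 7, 7, 0]), (3, 0, []), (4, 0, [2, 0, 0, 0, 4, 8, 1, 8, 8]), (4, 0, [2, 8, 0, 3, 6, 7, 5, 5, 3]),
   (9, 0, [2, 6, 1, 4, 1, 8, 0]), (5, 0, [2, 6, 8, 8, 1, 1, 1, 8, 5]), (0, 0, []), (0, 0, []),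
   (9, 0, [0, 4, 0, 0, 0, 4, 4, 1, 3, 2]), (4, 0, [2, 0, 5, 7, 4, 8, 4, 6, 7, 0]), (5, 0, [2, 8, 8, 1, 6, 1, 8, 0, 0]), (3, 0, []),
   (3, 0, []), (7, 0, [6, 4, 8, 0, 7, 0, 5, 0]), (5, 0, [2, 0, 5, 3, 8, 4, 6, 0]), (0, 0, []),
   (3, 0, []), (0, 0, []), (7, 0, [4, 4, 5, 8, 6, 4, 8, 4, 1]), (4, 0, [2, 0, 7, 0, 6, 4, 1, 3, 3, 0]),
   (4, 0, [1, 8, 0, 3, 3, 0, 4, 4, 1]), (9, 0, [2, 0, 3, 0, 7, 7, 4, 0, 3]), (4, 0, [2, 1, 1, 3, 1, 7, 4, 6, 1]), (11, 0, [4, 8, 5, 8, 5, 4, 8]),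
   (0, 1, []), (7, 0, [7, 5, 0, 3, 1, 4, 6, 0]), (4, 0, [1, 8, 0, 4, 0, 4, 4, 5, 0]), (4, 0, [2, 1, 1, 1, 8, 0, 7, 7, 4, 1]),
   (0, 2, []), (0, 1, []), (11, 0, [5, 3, 7, 4, 5, 0]), (0, 0, []),
   (3, 0, []), (7, 0, [7, 7, 3, 1, 7, 7, 4]), (0, 0, []), (0, 0, []),
   (3, 0, []), (0, 0, []), (0, 1, []), (9, 0, [2, 0, 3, 8, 5, 4, 8, 1]),
   (11, 0, [4, 5, 1, 7, 3, 0, 7, 0, 3, 1]), (0, 0, []), (4, 0, [4, 8, 1, 5, 7, 6, 3]), (9, 0, [2, 5, 7, 6, 3, 1, 7, 0, 5]),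
   (0, 0, []), (0, 1, []), (0, 0, []), (7, 0, [3, 6, 8, 8, 0, 3, 3]),
   (0, 0, []), (0, 0, []), (2, 0, []), (3, 0, []),
   (4, 0, [3, 3, 7, 3, 7, 6, 7]), (9, 0, [2, 5, 5, 7, 7, 6, 8]), (0, 1, []), (0, 0, []),
   (0, 0, []), (7, 0, [6, 7, 3, 8, 5, 1, 8, 0]), (9, 0, [2, 5, 8, 0, 4, 6, 8, 1, 7]), (0, 2, []),
   (11, 0, [3, 6, 1, 3, 1, 3, 3, 0]), (0, 0, []), (0, 0, []), (0, 0, []),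
   (3, 0, []), (2, 0, []), (0, 0, []), (5, 0, [2, 7, 6, 6, 8, 4, 8, 6]),
   (5, 0, [2, 0, 6, 7, 7, 4, 4, 1]), (0, 0, []), (5, 0, [2, 1, 1, 8, 8, 4, 0, 4, 1]), (4, 0, [1, 3, 5, 8, 6, 0]),
   (4, 0, [1, 5, 7, 4, 8, 0, 6, 0, 6]), (0, 0, []), (4, 0, [1, 5, 7, 4, 0, 0, 0]), (0, 0, []),
   (5, 0, [2, 5, 1, 7, 7, 3, 8, 1]), (9, 0, [2, 8, 4, 1, 1, 6, 3, 1, 5]), (4, 0, [1, 8, 8, 5, 1, 4, 8, 8, 6]), (5, 0, [5, 7, 3, 5, 3, 1, 2, 1]),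
   (0, 0, []), (0, 0, []), (2, 0, []), (4, 0, [3, 7, 7, 4, 4, 6, 7, 3]),
   (0, 1, []), (4, 0, [4, 1, 3, 5, 8, 8, 4]), (2, 0, []), (0, 1, []),
   (4, 0, [1, 4, 8, 6, 7, 7, 6, 3, 0]), (0, 1, []), (0, 1, []), (2, 0, []),
   (0, 1, []), (0, 1, []), (0, 1, []), (0, 1, []),
   (2, 0, []), (0, 0, []), (4, 0, [1, 7, 0, 3, 8, 5, 3, 7, 3]), (4, 0, [1, 5, 7, 6, 4, 0, 5]),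
   (0, 0, []), (4, 0, [1, 3, 5, 8, 6, 0, 6, 6]), (9, 0, [2, 8, 4, 8, 6, 3, 3, 1, 1]), (5, 0, [8, 0, 2, 4, 6, 0, 4, 2, 0]),
   (0, 0, []), (5, 0, [2, 7, 4, 4, 5, 7, 3, 7, 0]), (5, 0, [2, 0, 3, 3, 8, 5, 8, 5]), (5, 0, [2, 1, 5, 8, 8, 1, 6, 6, 0]),
   (5, 0, [2, 7, 4, 8, 4, 6, 1, 3, 5]), (0, 0, []), (0, 0, []), (4, 0, [1, 5, 7, 4, 1, 6, 8, 6, 0]),
   (7, 0, [4, 6, 8, 8, 5, 1, 7]), (0, 4, []), (0, 0, []), (7, 0, [4, 0, 3, 7, 6, 4, 0]),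
   (0, 0, []), (7, 0, [4, 5, 1, 1, 7, 5, 7, 3]), (11, 0, [4, 6, 6, 8, 6, 8, 1, 3]), (11, 0, [3, 3, 8, 8, 8, 0, 4, 0]),
   (2, 0, []), (4, 0, [0, 4, 1, 6, 3, 7, 7, 5, 7]), (4, 0, [2, 1, 5, 7, 3, 6, 1, 3, 7, 0]), (4, 0, [2, 1, 4, 8, 8, 4, 8, 5, 5]),
   (4, 0, [7, 7, 3, 7, 7, 6, 3]), (4, 0, [2, 0, 4, 1, 7, 5, 0, 3, 7]), (11, 0, [4, 1, 5, 1, 8, 0, 0, 3, 6]), (9, 0, [1, 5, 3, 8, 2, 7, 2, 0, 3]),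
   (0, 0, []), (9, 0, [2, 0, 4, 6, 8, 5, 4, 8, 1]), (0, 0, []), (0, 1, []),
   (0, 0, []), (2, 0, []), (0, 1, []), (0, 0, []),
   (7, 0, [4, 1, 3, 0, 3, 7, 3, 3]), (3, 0, []), (11, 0, [5, 7, 6, 6, 3, 8, 6, 4]), (0, 0, []),
   (4, 0, [1, 8, 8, 4, 8, 5, 4, 4]), (0, 0, []), (4, 0, [7, 7, 7, 4, 1, 5, 8, 2]), (3, 0, []),
   (0, 1, []), (4, 0, [1, 7, 3, 6, 1, 3, 1, 6, 3]), (3, 0, []), (0, 1, []),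
   (3, 0, []), (0, 1, []), (0, 1, []), (3, 0, []),
   (0, 1, []), (1, 0, []), (0, 1, []), (0, 1, []),
   (4, 0, [0, 2, 3, 7, 2, 4, 6, 7, 7]), (0, 1, []), (0, 0, []), (9, 0, [2, 1, 5, 1, 8, 4, 8, 8, 0]),
   (4, 0, [4, 8, 1, 5, 7, 3, 5]), (9, 0, [2, 5, 5, 7, 3, 0, 4]), (7, 0, [3, 6, 8, 8, 0, 5, 3, 3]), (11, 0, [4, 1, 3, 7, 4, 6, 8, 5, 0]),
   (0, 0, []), (0, 0, []), (2, 0, []), (0, 0, []),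
   (0, 0, []), (0, 0, []), (0, 1, []), (3, 0, []),
   (11, 0, [4, 6, 6, 0, 5, 8, 0, 4, 4]), (3, 0, []), (0, 0, []), (9, 0, [2, 6, 8, 4, 1, 4, 8, 0, 7]),
   (4, 0, [2, 8, 0, 3, 6, 7, 3]), (9, 0, [2, 1, 8, 0, 5, 5, 0]), (4, 0, [1, 3, 1, 7, 3, 8, 6, 1, 6]), (3, 0, []),
   (4, 0, [2, 1, 4, 4, 0, 3, 5, 1, 8, 1]), (3, 0, []), (11, 0, [7, 0, 6, 0, 3, 1, 8]), (5, 0, [1, 1, 2, 7, 3, 3, 1, 7, 7, 2]),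
   (0, 0, []), (5, 0, [2, 6, 8, 8, 1, 5, 8, 5]), (0, 0, [])]

def cert0_22 : List (ℕ × ℕ × List ℕ) :=
  [(7, 0, [7, 7, 0, 0, 4, 5, 1, 1]), (9, 0, [2, 0, 3, 5, 8, 5, 0, 3]), (3, 0, []), (0, 0, []),
   (5, 0, [2, 0, 6, 7, 0, 3, 3, 6, 0]), (5, 0, [2, 0, 7, 0, 4, 4, 8, 0, 0]), (3, 0, []), (4, 0, [1, 4, 5, 5, 1, 4, 0, 3, 8]),
   (4, 0, [2, 0, 0, 7, 7, 0, 7]), (9, 0, [2, 7, 3, 7, 7, 6, 8, 1, 6]), (3, 0, []), (0, 0, []),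
   (7, 0, [4, 0, 6, 3, 5, 1, 7, 3, 0]), (4, 0, [2, 0, 7, 7, 7, 6, 0, 5, 5, 3]), (0, 0, []), (9, 0, [2, 6, 7, 4, 0, 3, 3, 8]),
   (3, 0, []), (0, 3, []), (11, 0, [3, 5, 7, 6, 7, 4, 0]), (0, 0, []),
   (3, 0, []), (0, 0, []), (5, 0, [2, 1, 4, 0, 7, 4, 0, 7]), (0, 0, []),
   (5, 0, [2, 7, 4, 0, 0, 0, 7, 0, 3]), (4, 0, [2, 1, 7, 0, 3, 3, 8]), (4, 0, [2, 1, 8, 1, 7, 0, 7, 6, 7, 6]), (0, 1, []),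
   (11, 0, [4, 4, 0, 6, 0, 7, 6, 7]), (5, 0, [1, 4, 6, 0, 5, 7, 2, 5, 8, 0]), (3, 0, []), (0, 1, []),
   (2, 0, []), (2, 0, []), (2, 0, []), (4, 0, [2, 1, 4, 5, 5, 8, 8, 0, 3]),
   (2, 0, []), (3, 0, []), (3, 0, []), (3, 0, []),
   (4, 0, [1, 1, 3, 0, 4, 1, 5, 8, 0, 0]), (0, 1, []), (4, 0, [1, 3, 3, 0, 4, 1, 1, 3, 8, 2]), (0, 1, []),
   (0, 1, []), (0, 0, []), (4, 0, [2, 0, 5, 3, 8, 0, 4, 5, 0]), (11, 0, [3, 7, 6, 7, 5, 8, 8, 0]),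
   (0, 0, []), (7, 0, [4, 1, 7, 5, 4, 0, 4, 1, 1]), (4, 0, [1, 3, 7, 2, 7, 5, 7, 3, 6]), (0, 1, []),
   (4, 0, [1, 7, 5, 5, 8, 0, 3, 7, 5]), (0, 0, []), (7, 0, [3, 5, 7, 7, 5, 7]), (0, 1, []),
   (3, 0, []), (3, 0, []), (11, 0, [6, 4, 1, 4, 0, 5, 5, 4]), (0, 1, []),
   (5, 0, [5, 1, 1, 3, 0, 7, 0, 2]), (0, 0, []), (3, 0, []), (9, 0, [1, 6, 1, 7, 0, 2, 7, 3, 6, 0]),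
   (0, 0, []), (4, 0, [1, 1, 8, 0, 5, 4, 0, 4, 1]), (0, 0, []), (5, 0, [2, 1, 3, 3, 0, 6, 7, 0, 0]),
   (0, 0, []), (3, 0, []), (5, 0, [2, 5, 3, 8, 6, 1, 4, 0, 0, 0]), (0, 1, []),
   (3, 0, []), (4, 0, [1, 8, 0, 4, 1, 8, 8, 6, 4]), (0, 0, []), (4, 0, [1, 7, 5, 7, 0, 7, 5, 7, 0, 0]),
   (0, 1, []), (4, 0, [2, 1, 5, 8, 0, 4, 0, 5, 7]), (3, 0, []), (3, 0, []),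
   (4, 0, [0, 7, 0, 3, 8, 1, 5, 8, 0, 2]), (3, 0, []), (3, 0, []), (3, 0, []),
   (0, 1, []), (0, 1, []), (0, 1, []), (3, 0, []),
   (3, 0, []), (3, 0, []), (9, 0, [2, 1, 8, 5, 8, 5, 3, 0]), (0, 0, []),
   (3, 0, []), (3, 0, []), (11, 0, [4, 8, 1, 7, 7, 0, 3, 7, 4]), (11, 0, [4, 6, 8, 8, 4, 0, 5, 8, 0]),
   (0, 0, []), (3, 0, []), (4, 0, [2, 8, 1, 8, 8, 1, 1]), (4, 0, [2, 3, 1, 5, 7, 7, 3, 8]),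
   (9, 0, [1, 7, 2, 3, 0, 5, 3, 0, 2, 0]), (5, 0, [2, 8, 4, 1, 3, 3, 1, 8, 1]), (5, 0, [2, 8, 0, 3, 1, 8, 1]), (0, 0, []),
   (4, 0, [1, 7, 7, 4, 1, 5, 4, 1, 5]), (11, 0, [3, 8, 1, 6, 3, 1, 6, 1]), (0, 0, []), (4, 0, [2, 0, 0, 3, 6, 7, 7, 4, 4, 0]),
   (5, 0, [2, 1, 4, 4, 1, 8, 6, 4, 0]), (3, 0, []), (5, 0, [2, 6, 8, 4, 8, 5, 8, 0, 0]), (11, 0, [3, 1, 7, 7, 7, 3]),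
   (5, 0, [5, 8, 2, 8, 2, 0, 0, 7, 2]), (0, 4, []), (0, 1, []), (3, 0, []),
   (0, 0, []), (0, 0, []), (4, 0, [2, 1, 1, 7, 6, 1, 3, 1, 8]), (9, 0, [2, 5, 1, 4, 0, 4, 1, 4, 5, 0]),
   (11, 0, [4, 5, 3, 7, 3, 5, 1]), (9, 0, [2, 1, 5, 7, 3, 8, 6, 1]), (9, 0, [7, 3, 6, 0, 7, 5, 8, 1, 2, 0]), (11, 0, [7, 6, 8, 1, 4, 1, 8, 4]),
   (0, 0, []), (0, 0, []), (0, 0, []), (0, 0, []),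
   (9, 0, [1, 8, 2, 7, 3, 7, 7, 2, 1, 3]), (9, 0, [2, 8, 4, 1, 4, 0, 6, 4, 0]), (0, 0, []), (3, 0, []),
   (0, 0, []), (0, 0, []), (4, 0, [0, 4, 8, 8, 1, 8, 0, 6, 0]), (11, 0, [4, 1, 1, 8, 4, 0, 5, 7]),
   (4, 0, [2, 8, 0, 5, 0, 3, 0, 4, 4]), (7, 0, [7, 7, 7, 4, 0, 4, 0, 0]), (11, 0, [4, 1, 8, 5, 0, 0, 4, 5]), (0, 0, []),
   (0, 2, []), (0, 0, []), (0, 1, []), (4, 0, [1, 1, 7, 0, 3, 3, 8, 8, 0]),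
   (0, 0, []), (4, 0, [2, 0, 4, 1, 8, 5, 4, 8, 0, 5]), (3, 0, []), (3, 0, []),
   (7, 0, [4, 1, 5, 1, 1, 3, 7, 3]), (0, 3, []), (2, 0, []), (0, 1, []),
   (3, 0, []), (0, 4, []), (3, 0, []), (2, 0, []),
   (3, 0, []), (4, 0, [0, 4, 5, 4, 0, 7, 7, 7, 5]), (0, 1, []), (4, 0, [1, 4, 8, 5, 1, 4, 0, 4, 2]),
   (3, 0, []), (0, 1, []), (3, 0, []), (3, 0, []),
   (4, 0, [2, 0, 7, 6, 6, 7, 7, 6, 0]), (5, 0, [2, 5, 5, 1, 3, 5, 8, 5, 1]), (5, 0, [2, 5, 3, 0, 4, 4, 8, 1, 1]), (5, 0, [7, 0, 3, 0, 7, 4, 6, 8, 2]),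
   (0, 0, []), (0, 0, []), (3, 0, []), (0, 0, []),
   (4, 0, [1, 3, 8, 5, 5, 0, 4, 0, 0]), (0, 0, []), (0, 1, []), (9, 0, [2, 5, 7, 3, 7, 5, 8]),
   (0, 0, []), (3, 0, []), (3, 0, []), (4, 0, [1, 3, 1, 3, 5, 8, 0, 6, 0]),
   (2, 0, []), (9, 0, [2, 0, 4, 6, 1, 6, 3]), (4, 0, [2, 1, 7, 0, 5, 3, 0, 3, 0, 5]), (4, 0, [2, 0, 0, 7, 7, 4, 8, 6]),
   (0, 0, []), (9, 0, [1, 3, 7, 2, 6, 6, 3, 8, 4, 1]), (3, 0, []), (11, 0, [4, 1, 3, 3, 6, 7, 4, 1]),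
   (0, 0, []), (4, 0, [0, 2, 7, 2, 5, 7, 5, 8, 2, 0]), (0, 2, []), (0, 0, []),
   (0, 0, []), (0, 0, []), (7, 0, [3, 1, 3, 6, 1, 3, 5, 1]), (0, 0, []),
   (5, 0, [2, 8, 5, 1, 7, 0, 0, 3]), (0, 0, []), (2, 0, []), (4, 0, [2, 1, 8, 0, 4, 5, 1, 3, 8]),
   (4, 0, [1, 7, 0, 0, 3, 3, 8, 8, 1]), (5, 0, [8, 4, 0, 2, 1, 7, 0, 5, 0]), (7, 0, [6, 7, 3, 0, 5, 8, 4]), (0, 0, []),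
   (0, 3, []), (11, 0, [3, 1, 7, 3, 3, 0, 5]), (3, 0, []), (0, 0, []),
   (0, 0, []), (4, 0, [7, 6, 4, 6, 1, 7, 0]), (5, 0, [2, 7, 0, 4, 1, 4, 0, 0, 0]), (0, 0, []),
   (9, 0, [2, 7, 4, 1, 6, 6, 3, 1, 3]), (3, 0, []), (0, 0, []), (3, 0, []),
   (9, 0, [2, 1, 3, 6, 8, 5, 1, 3, 0]), (0, 0, []), (4, 0, [1, 3, 8, 8, 5, 8, 1, 3, 3]), (0, 0, []),
   (7, 0, [4, 8, 5, 1, 5, 8, 0, 0]), (9, 0, [5, 0, 7, 0, 7, 7, 2, 0]), (7, 0, [4, 8, 5, 4, 8, 6, 8, 6, 1]), (4, 0, [2, 7, 0, 4, 0, 5, 8, 5, 0]),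
   (0, 0, []), (3, 0, []), (11, 0, [6, 4, 1, 8, 8, 4, 6, 0]), (4, 0, [2, 8, 1, 8, 8, 8, 5, 3]),
   (5, 0, [2, 0, 3, 7, 4, 1, 4, 4, 1]), (11, 0, [4, 4, 0, 5, 3, 1, 5, 8, 0]), (3, 0, []), (0, 0, []),
   (4, 0, [1, 4, 4, 0, 3, 5, 8, 1]), (4, 0, [2, 8, 0, 3, 6, 7, 6, 3]), (0, 0, []), (3, 0, []),
   (5, 0, [2, 6, 8, 8, 1, 1, 1, 8]), (9, 0, [2, 1, 8, 1, 6, 6, 0]), (0, 0, []), (9, 0, [2, 1, 8, 1, 5, 8, 0, 6]),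
   (4, 0, [7, 7, 0, 4, 0, 5, 3, 1]), (0, 1, []), (2, 0, []), (2, 0, []),
   (0, 2, []), (4, 0, [4, 0, 7, 3, 7, 3, 8, 4, 2]), (3, 0, []), (3, 0, []),
   (3, 0, []), (2, 0, []), (0, 1, []), (4, 0, [2, 1, 3, 7, 7, 7, 6, 4, 0]),
   (0, 1, []), (2, 0, []), (3, 0, []), (2, 0, []),
   (0, 1, []), (3, 0, []), (4, 0, [0, 5, 7, 6, 7, 6, 7, 7, 2]), (4, 0, [1, 3, 5, 8, 8, 8, 4, 0, 2]),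
   (4, 0, [1, 7, 4, 6, 8, 1, 6, 8, 0]), (3, 0, []), (2, 0, []), (3, 0, []),
   (3, 0, []), (2, 0, []), (0, 1, []), (2, 0, []),
   (0, 1, []), (0, 1, []), (2, 0, []), (4, 0, [1, 4, 0, 7, 6, 7, 5, 3]),
   (4, 0, [1, 4, 1, 6, 7, 4, 6, 1]), (5, 0, [2, 0, 7, 6, 8, 8, 8, 1]), (11, 0, [4, 0, 0, 4, 5, 0, 7, 3, 7, 0]), (0, 0, []),
   (4, 0, [2, 0, 3, 6, 3, 1, 3, 8, 6, 4]), (5, 0, [2, 7, 4, 0, 3, 3, 7, 3, 0]), (7, 0, [7, 6, 8, 4, 8, 1, 4]), (0, 0, []),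
   (0, 0, []), (0, 0, []), (3, 0, []), (0, 2, []),
   (0, 0, []), (0, 1, []), (7, 0, [3, 6, 8, 8, 0, 3, 5, 3]), (11, 0, [4, 0, 4, 1, 4, 0, 3, 8]),
   (3, 0, []), (0, 0, []), (9, 0, [2, 5, 5, 7, 3, 0, 4, 6]), (0, 2, []),
   (0, 0, []), (0, 0, []), (9, 0, [2, 1, 6, 1, 3, 7, 3, 3, 0]), (0, 0, []),
   (0, 0, []), (0, 0, []), (2, 0, []), (4, 0, [4, 8, 1, 5, 7, 3]),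
   (5, 0, [2, 1, 7, 4, 1, 3, 0, 7, 0]), (0, 0, []), (4, 0, [0, 3, 7, 6, 3, 1, 7, 7]), (0, 0, []),
   (3, 0, []), (3, 0, []), (0, 0, []), (0, 1, []),
   (3, 0, []), (9, 0, [2, 5, 7, 3, 3, 8, 5, 5]), (4, 0, [8, 8, 5, 8, 6, 0, 7]), (0, 0, []),
   (5, 0, [2, 5, 3, 8, 6, 6, 8, 0]), (5, 0, [7, 3, 8, 0, 4, 0, 0, 4, 2]), (0, 0, []), (0, 0, []),
   (4, 0, [2, 7, 3, 8, 8, 1, 1]), (11, 0, [3, 8, 0, 7, 6, 8, 5, 0, 0]), (0, 0, []), (5, 0, [8, 4, 0, 2, 7, 4, 8, 0, 0]),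
   (0, 0, []), (0, 0, []), (4, 0, [4, 8, 8, 0, 4, 8, 4, 1]), (3, 0, []),
   (4, 0, [1, 4, 0, 7, 7, 0, 5, 3]), (5, 0, [2, 7, 6, 4, 6, 0, 3, 3]), (2, 0, []), (0, 2, []),
   (0, 0, []), (7, 0, [4, 4, 8, 1, 3, 6, 7, 7]), (0, 1, []), (0, 1, []),
   (0, 2, []), (0, 2, []), (3, 0, []), (3, 0, []),
   (0, 1, []), (0, 1, []), (4, 0, [1, 3, 1, 8, 8, 8, 1, 4]), (4, 0, [2, 8, 4, 1, 6, 3, 1, 4, 1]),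
   (1, 0, []), (3, 0, []), (4, 0, [2, 1, 8, 1, 8, 8, 1, 8, 0]), (0, 1, []),
   (3, 0, []), (5, 0, [2, 6, 0, 4, 8, 5, 5, 7]), (7, 0, [5, 3, 7, 3, 7, 6, 6, 1]), (7, 0, [4, 1, 7, 3, 8, 0, 6, 7, 0]),
   (0, 0, []), (0, 0, []), (3, 0, []), (9, 0, [0, 3, 1, 1, 8, 2, 7, 5, 4, 1]),
   (3, 0, []), (0, 0, []), (5, 0, [2, 0, 6, 6, 7, 3, 6, 7]), (3, 0, []),
   (4, 0, [0, 7, 3, 6, 0, 3, 7, 6, 3]), (9, 0, [1, 8, 8, 4, 0, 3, 5, 8, 1, 2]), (4, 0, [2, 0, 7, 7, 7, 6, 0, 6, 3]), (4, 0, [2, 0, 0, 7, 7, 0, 7, 6]),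
   (0, 1, []), (3, 0, []), (3, 0, []), (5, 0, [2, 7, 3, 7, 4, 1, 1, 7, 3]),
   (3, 0, []), (0, 0, []), (4, 0, [8, 1, 5, 7, 6, 7, 7]), (0, 0, []),
   (9, 0, [2, 5, 7, 3, 3, 8, 5]), (0, 0, []), (4, 0, [8, 8, 5, 8, 6, 0, 7, 6]), (0, 0, []),
   (0, 0, []), (5, 0, [2, 6, 1, 8, 8, 5, 1, 3]), (5, 0, [2, 5, 8, 4, 6, 8, 6, 8, 0]), (4, 0, [2, 0, 0, 7, 7, 4, 8, 6, 6]),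
   (0, 0, []), (3, 0, []), (9, 0, [2, 7, 3, 8, 5, 0, 3, 8]), (0, 0, []),
   (4, 0, [2, 3, 8, 8, 1, 5, 8, 8]), (9, 0, [2, 0, 4, 6, 1, 6, 3, 6]), (2, 0, []), (11, 0, [7, 6, 4, 0, 7, 4, 4]),
   (0, 4, []), (0, 0, []), (4, 0, [2, 1, 7, 0, 5, 3, 0, 3, 0]), (7, 0, [5, 7, 7, 4, 8, 4, 5, 0]),
   (0, 0, []), (0, 0, []), (0, 1, []), (3, 0, []),
   (3, 0, []), (0, 1, []), (0, 1, []), (4, 0, [2, 0, 4, 1, 8, 5, 8, 1]),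
   (3, 0, []), (3, 0, []), (3, 0, []), (0, 2, []),
   (4, 0, [0, 7, 7, 7, 6, 3, 6, 8, 2]), (2, 0, []), (3, 0, []), (2, 0, []),
   (4, 0, [0, 3, 1, 4, 0, 7, 3, 7, 6, 0]), (0, 0, []), (4, 0, [1, 3, 1, 3, 1, 1, 8, 6, 0]), (0, 2, []),
   (3, 0, []), (5, 0, [2, 1, 6, 6, 8, 0, 7, 0]), (3, 0, []), (0, 0, []),
   (9, 0, [2, 5, 7, 3, 3, 8]), (4, 0, [1, 5, 7, 3, 0, 4, 1, 3, 3]), (3, 0, []), (0, 0, []),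
   (0, 0, []), (0, 0, []), (5, 0, [2, 5, 1, 8, 8, 8, 4, 1, 5]), (5, 0, [7, 6, 6, 1, 7, 7, 6, 6, 2]),
   (4, 0, [1, 7, 4, 1, 8, 8, 6, 3, 2]), (4, 0, [1, 8, 4, 5, 8, 0, 3, 1, 2]), (3, 0, []), (3, 0, []),
   (4, 0, [0, 7, 0, 7, 3, 8, 1, 7, 0]), (0, 1, []), (3, 0, []), (2, 0, []),
   (0, 1, []), (3, 0, []), (2, 0, []), (0, 1, []),
   (0, 1, []), (3, 0, []), (3, 0, []), (11, 0, [3, 8, 1, 1, 1, 8, 8, 0]),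
   (0, 2, []), (3, 0, []), (0, 4, []), (0, 0, []),
   (4, 0, [2, 8, 8, 1, 1, 3, 8, 4]), (0, 0, []), (7, 0, [3, 1, 3, 8, 4, 8, 5, 0]), (11, 0, [5, 3, 7, 4, 0, 0]),
   (7, 0, [3, 0, 3, 7, 0, 6, 7, 4]), (4, 0, [2, 1, 7, 3, 6, 7, 0, 3, 1]), (0, 0, []), (4, 0, [1, 8, 0, 4, 0, 3, 3, 7]),
   (0, 2, []), (3, 0, []), (9, 0, [2, 1, 8, 0, 5, 0, 0]), (3, 0, []),
   (3, 0, []), (4, 0, [2, 8, 1, 8, 8, 8, 6, 3]), (3, 0, []), (5, 0, [2, 1, 7, 4, 5, 0, 3, 0, 7, 0]),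
   (4, 0, [0, 7, 4, 1, 7, 5, 7, 6, 0]), (5, 0, [2, 6, 8, 8, 1, 5, 8]), (0, 0, []), (11, 0, [7, 0, 6, 0, 6, 3, 8]),
   (0, 0, []), (11, 0, [4, 4, 1, 5, 5, 4, 1, 4, 4]), (9, 0, [2, 1, 8, 1, 5, 8, 0, 5, 5]), (4, 0, [2, 4, 1, 5, 8, 8, 8, 1]),
   (0, 0, []), (4, 0, [2, 1, 8, 0, 0, 4, 1, 3, 7]), (7, 0, [4, 6, 0, 4, 8, 4, 0, 5, 0]), (5, 0, [2, 8, 6, 3, 1]),
   (0, 1, []), (0, 0, []), (4, 0, [1, 7, 7, 5, 8, 4, 0, 5, 0]), (9, 0, [0, 2, 5, 3, 1, 7, 3, 0, 5, 2]),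
   (7, 0, [4, 6, 8, 8, 1, 7, 7, 0]), (9, 0, [1, 5, 7, 2, 1, 1, 2, 7, 0, 2, 0]), (0, 1, []), (0, 0, []),
   (0, 0, []), (9, 0, [2, 1, 4, 4, 8, 0, 5, 4, 0]), (3, 0, []), (3, 0, []),
   (2, 0, []), (4, 0, [1, 4, 0, 7, 6, 7, 5, 5, 3]), (0, 0, []), (7, 0, [4, 5, 0, 7, 5, 3, 7, 4]),
   (5, 0, [2, 1, 7, 3, 1, 8, 8, 4, 4, 1]), (4, 0, [8, 0, 7, 5, 5, 8, 8]), (3, 0, []), (4, 0, [2, 7, 3, 8, 8, 1, 1, 6]),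
   (0, 0, []), (0, 0, []), (0, 0, []), (0, 0, []),
   (11, 0, [4, 4, 0, 3, 1, 6, 6, 8, 0]), (5, 0, [2, 7, 4, 0, 6, 0, 6, 3, 3]), (0, 1, [])]

/-- The parts of the list of certificates for the representative 0. -/
def cc0 : ℕ → List (ℕ × ℕ × List ℕ)
  | 0 => cert0_0
  | 1 => cert0_1
  | 2 => cert0_2
  | 3 => cert0_3
  | 4 => cert0_4
  | 5 => cert0_5
  | 6 => cert0_6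
  | 7 => cert0_7
  | 8 => cert0_8
  | 9 => cert0_9
  | 10 => cert0_10
  | 11 => cert0_11
  | 12 => cert0_12
  | 13 => cert0_13
  | 14 => cert0_14
  | 15 => cert0_15
  | 16 => cert0_16
  | 17 => cert0_17
  | 18 => cert0_18
  | 19 => cert0_19
  | 20 => cert0_20
  | 21 => cert0_21
  | 22 => cert0_22
  | _ => []

/-- The certificates for the representative 0. -/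
def cert0 : List (ℕ × ℕ × List ℕ) := (List.range 23).flatMap cc0

theorem cert0_0_ok : chkAll (repP 0) pk0 cert0_0 = true := by decide +kernel

theorem cert0_1_ok : chkAll (repP 0) pk1 cert0_1 = true := by decide +kernel

theorem cert0_2_ok : chkAll (repP 0) pk2 cert0_2 = true := by decide +kernel

theorem cert0_3_ok : chkAll (repP 0) pk3 cert0_3 = true := by decide +kernel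

theorem cert0_4_ok : chkAll (repP 0) pk4 cert0_4 = true := by decide +kernel

theorem cert0_5_ok : chkAll (repP 0) pk5 cert0_5 = true := by decide +kernel

theorem cert0_6_ok : chkAll (repP 0) pk6 cert0_6 = true := by decide +kernel

theorem cert0_7_ok : chkAll (repP 0) pk7 cert0_7 = true := by decide +kernel

theorem cert0_8_ok : chkAll (repP 0) pk8 cert0_8 = true := by decide +kernel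

theorem cert0_9_ok : chkAll (repP 0) pk9 cert0_9 = true := by decide +kernel

theorem cert0_10_ok : chkAll (repP 0) pk10 cert0_10 = true := by decide +kernel

theorem cert0_11_ok : chkAll (repP 0) pk11 cert0_11 = true := by decide +kernel

theorem cert0_12_ok : chkAll (repP 0) pk12 cert0_12 = true := by decide +kernel

theorem cert0_13_ok : chkAll (repP 0) pk13 cert0_13 = true := by decide +kernel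

theorem cert0_14_ok : chkAll (repP 0) pk14 cert0_14 = true := by decide +kernel

theorem cert0_15_ok : chkAll (repP 0) pk15 cert0_15 = true := by decide +kernel

theorem cert0_16_ok : chkAll (repP 0) pk16 cert0_16 = true := by decide +kernel

theorem cert0_17_ok : chkAll (repP 0) pk17 cert0_17 = true := by decide +kernel

theorem cert0_18_ok : chkAll (repP 0) pk18 cert0_18 = true := by decide +kernel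

theorem cert0_19_ok : chkAll (repP 0) pk19 cert0_19 = true := by decide +kernel

theorem cert0_20_ok : chkAll (repP 0) pk20 cert0_20 = true := by decide +kernel

theorem cert0_21_ok : chkAll (repP 0) pk21 cert0_21 = true := by decide +kernel

theorem cert0_22_ok : chkAll (repP 0) pk22 cert0_22 = true := by decide +kernel

theorem cert0_ok : ∀ i < 23, chkAll (repP 0) (pkc i) (cc0 i) = true := by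
  intro i hi
  interval_cases i
  · exact cert0_0_ok
  · exact cert0_1_ok
  · exact cert0_2_ok
  · exact cert0_3_ok
  · exact cert0_4_ok
  · exact cert0_5_ok
  · exact cert0_6_ok
  · exact cert0_7_ok
  · exact cert0_8_ok
  · exact cert0_9_ok
  · exact cert0_10_ok
  · exact cert0_11_ok
  · exact cert0_12_ok
  · exact cert0_13_ok
  · exact cert0_14_ok
  · exact cert0_15_ok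
  · exact cert0_16_ok
  · exact cert0_17_ok
  · exact cert0_18_ok
  · exact cert0_19_ok
  · exact cert0_20_ok
  · exact cert0_21_ok
  · exact cert0_22_ok

theorem cert0_par : parOK 0 cert0 = true := by decide +kernel

end Cfsg.Agent.Lib.helper27.B24
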