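import Cfsg.Agent.Lib.helper27.OutM11

set_option autoImplicit false

namespace Cfsg.Agent.Lib.helper27

open Cfsg Cfsg.Agent.Lib.helper28
open scoped Pointwise

/-! The outer automorphism group of the stabilizer of a dodecad (the Mathieu group of degree 12)
has order 2. -/

/-- The involution commuting with the cube twist and preserving the dodecad of squares. -/
def Z12 : List ℕ := [3, 12, 13, 0, 16, 19, 9, 11, 18, 6, 17, 7, 1, 2, 20, 23, 4, 10, 8, 5, 14, 22, 21, 15]

theorem Z12_in : tabIn [d0] Z12 = true := by decide +kernel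

/-- The permutation with table `Z12`. -/
def pZ12 : Equiv.Perm GolayPt := tp [d0] Z12 Z12_in

theorem isTable_pZ12 : IsTable pZ12 Z12 := isTable_tp _ _ _

theorem pZ12_mem : pZ12 ∈ stabM [d0] := tp_mem _ _ _

def m12gProg : List (ℕ × ℕ) :=
  [(0, 0), (0, 3), (0, 4), (0, 5), (0, 6), (0, 7), (0, 8), (0, 9), (0, 10), (1, 1), (1, 12), (1, 13), (0, 11), (0, 2), (2, 11), (0, 16), (17, 11), (1, 16), (17, 14), (2, 16), (17, 2), (1, 18), (19, 14), (0, 20), (21, 11), (1, 20), (21, 14), (0, 24), (25, 11), (0, 26), (27, 11), (2, 26), (27, 2), (1, 34), (35, 14), (0, 30), (31, 11), (23, 38), (39, 22), (40, 12), (13, 41), (12, 40), (41, 13), (40, 40), (41, 41), (40, 14), (1, 41), (40, 42), (43, 41), (40, 46), (12, 46), (47, 13), (47, 53), (54, 46), (12, 42), (43, 13), (49, 57), (58, 48), (14, 47), (46, 1), (55, 55), (56, 56), (61, 55), (56, 62), (55, 59), (60, 56), (59, 59), (60, 60), (55, 61), (62, 56), (59, 65), (66, 60), (61, 67), (68, 62), (60, 75), (76, 59), (59, 67), (68, 60),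 (66, 79), (80, 65), (61, 63), (64, 62), (70, 83), (84, 69), (81, 77), (77, 81), (85, 81), (82, 86), (77, 85), (86, 78), (81, 85), (86, 82), (85, 88), (88, 86), (82, 95), (96, 81), (85, 89), (90, 86), (87, 99), (100, 87), (97, 97), (101, 97), (98, 102)]

def m12gIdx : List (ℕ × ℕ × List ℕ) :=
  [(0, 340831, [15, 2, 16, 18, 20, 22, 24, 26, 28, 30, 32, 34]),
   (1, 340830, [15, 12, 40, 14, 42, 44, 46, 1, 48, 50, 52]),
   (2, 340828, [15, 55, 59, 61, 63, 65, 67, 69, 71, 73]),
   (3, 340824, [15, 77, 81, 85, 87, 88, 89, 91, 93]),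
   (4, 340816, [15, 97, 101, 103, 104, 105, 98, 102])]

theorem m12gChain_ok :
    chainGen [d0] (slpChain (slpTabs m12gProg [mt 2, tabD, Z12]) m12gIdx) = true := by
  decide +kernel

theorem m12gChain_prod :
    chainProd (slpChain (slpTabs m12gProg [mt 2, tabD, Z12]) m12gIdx) = 95040 := by
  decide +kernel

theorem m12g_gen : stabM [d0] ≤
    Subgroup.closure ({pY, cubeTwist, pZ12} : Set (Equiv.Perm GolayPt)) := by
  apply stabM_le_of_slp _ [mt 2, tabD, Z12] _ m12gProg m12gIdx [d0] m12gChain_ok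
  · rw [card_stabM_d0, m12gChain_prod]
  · intro l hl
    simp only [List.mem_cons, List.not_mem_nil, or_false] at hl
    rcases hl with rfl | rfl | rfl
    · exact ⟨_, Subgroup.subset_closure (by simp), isTable_pY⟩
    · exact ⟨_, Subgroup.subset_closure (by simp), isTable_D⟩
    · exact ⟨_, Subgroup.subset_closure (by simp), isTable_pZ12⟩

/-- An element preserving the dodecad of squares preserves its complement. -/
theorem smul_d0c {x : Equiv.Perm GolayPt} (hx : x • setOf d0 = setOf d0) :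
    x • setOf 16436384 = setOf 16436384 := by
  have hc : ∀ p : GolayPt, p ∈ setOf 16436384 ↔ p ∉ setOf d0 := by
    intro p
    rw [mem_setOf, mem_setOf, beq_iff_eq.mp (allLt_spec d0_compl (idx p) (idx_lt p))]
    simp
  have hx' : x⁻¹ • setOf d0 = setOf d0 := by rw [inv_smul_eq_iff, hx]
  ext p
  rw [mem_smul_iff, hc, hc]
  exact not_congr (mem_iff_of_smul_eq hx' p)

theorem preMask_S_d0 : preMask tabS d0 = 16436384 := by decide +kernel

theorem tab_zz : mulTab Z12 Z12 = idTab := by decide +kernel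

theorem tab_zd : mulTab Z12 tabD = mulTab tabD Z12 := by decide +kernel

theorem R12L_chkZ : R12L.all (fun l => !(isId (mulTab l l)) || isId l || l == Z12) = true := by
  decide +kernel

/-- The outer automorphism group of the Mathieu group of degree 12 has order 2. -/
theorem card_out_M12 : Nat.card (Cfsg.Out ↥Cfsg.Spor.M12) = 2 := by
  have hK : Cfsg.Spor.M12 ≤ M24 := by rw [M12_eq_stabM]; exact stabM_le_M24 _
  have hY : pY ∈ Cfsg.Spor.M12 := by
    rw [M12_eq_stabM]
    have h : tabIn [d0] (mt 2) = true := by decide +kernel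
    obtain ⟨g, hg, hgt⟩ := tabIn_spec h
    rwa [eq_of_isTable isTable_pY hgt]
  have hD : cubeTwist ∈ Cfsg.Spor.M12 := by
    rw [M12_eq_stabM]
    have h : tabIn [d0] tabD = true := by decide +kernel
    obtain ⟨g, hg, hgt⟩ := tabIn_spec h
    rwa [eq_of_isTable isTable_D hgt]
  have hZ : pZ12 ∈ Cfsg.Spor.M12 := by rw [M12_eq_stabM]; exact pZ12_mem
  have hp : ¬ 11 ^ 2 ∣ Nat.card ↥Cfsg.Spor.M12 := by
    rw [M12_eq_stabM, card_stabM_d0]; norm_num
  apply card_out_two Cfsg.Spor.M12 hK hp ⟨pY, hY⟩ ⟨cubeTwist, hD⟩ rfl rfl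
  · -- the inversion normalizes the subgroup
    intro x hx
    rw [M12_eq_stabM, mem_stabM_d0] at hx ⊢
    obtain ⟨hxM, hxd⟩ := hx
    refine ⟨M24.mul_mem (M24.mul_mem projInv_mem_M24 hxM) (M24.inv_mem projInv_mem_M24), ?_⟩
    have h1 : projInv⁻¹ • setOf d0 = setOf 16436384 := by
      rw [inv_smul_setOf isTable_S, preMask_S_d0]
    rw [mul_smul, mul_smul, h1, smul_d0c hxd, ← h1, smul_inv_smul]
  · -- the inversion is not in the subgroup
    intro hs
    rw [M12_eq_stabM, mem_stabM_d0] at hs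
    have h := testBit_img_d0 hs.2 0 (by norm_num) (by decide)
    rw [apply_tab isTable_S (by norm_num)] at h
    have h23 : idx (pt (tabS.getD 0 0)) = 23 := by decide
    rw [h23] at h
    exact absurd h (by decide)
  · intro ψ hψy hψd
    have hzz : pZ12 * pZ12 = 1 := by
      have := pow_eq_one_of_powTab isTable_pZ12 2 (by decide +kernel)
      rwa [pow_two] at this
    have hzd : pZ12 * cubeTwist = cubeTwist * pZ12 :=
      eq_of_isTable (isTable_mulTab isTable_pZ12 isTable_D)
        (by rw [tab_zd]; exact isTable_mulTab isTable_D isTable_pZ12)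
    have hzne : pZ12 ≠ 1 := ne_one_of_table isTable_pZ12 (i := 0) (by norm_num) (by decide)
    obtain ⟨zK, hzK⟩ : ∃ zK : ↥Cfsg.Spor.M12, (zK : Equiv.Perm GolayPt) = pZ12 := ⟨⟨pZ12, hZ⟩, rfl⟩
    obtain ⟨dK, hdK⟩ : ∃ dK : ↥Cfsg.Spor.M12, dK = ⟨cubeTwist, hD⟩ := ⟨_, rfl⟩
    rw [← hdK] at hψd
    have hdKv : (dK : Equiv.Perm GolayPt) = cubeTwist := by rw [hdK]
    have hzdK : zK * dK = dK * zK := Subtype.ext (by
      show (zK : Equiv.Perm GolayPt) * (dK : Equiv.Perm GolayPt) = (dK : Equiv.Perm GolayPt) * zK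
      rw [hzK, hdKv, hzd])
    have hzzK : zK * zK = 1 := Subtype.ext (by
      show (zK : Equiv.Perm GolayPt) * (zK : Equiv.Perm GolayPt) = 1
      rw [hzK, hzz])
    have hzneK : zK ≠ 1 := fun h => hzne (by rw [← hzK, h]; rfl)
    have h1 : ψ zK * dK = dK * ψ zK := by
      have := congrArg ψ hzdK
      rwa [map_mul, map_mul, hψd] at this
    have h1' : ((ψ zK : ↥Cfsg.Spor.M12) : Equiv.Perm GolayPt) * cubeTwist
        = cubeTwist * ((ψ zK : ↥Cfsg.Spor.M12) : Equiv.Perm GolayPt) := by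
      have := congrArg Subtype.val h1
      rw [← hdKv]; exact this
    obtain ⟨l, hl, hlt⟩ := cent12 (by rw [← M12_eq_stabM]; exact (ψ zK).2) h1'
    have h2 : ψ zK * ψ zK = 1 := by rw [← map_mul, hzzK, map_one]
    have h3 : ψ zK ≠ 1 := fun h => hzneK (ψ.injective (h.trans (map_one ψ).symm))
    have hchk := List.all_eq_true.mp R12L_chkZ l hl
    have e1 : isId (mulTab l l) = true :=
      isId_of_one (isTable_mulTab hlt hlt) (congrArg Subtype.val h2)
    have e2 : isId l = false := by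
      by_contra hcon
      rw [Bool.not_eq_false] at hcon
      exact h3 (Subtype.ext (eq_one_of_isId hlt hcon))
    rw [e1, e2, Bool.not_true, Bool.false_or, Bool.false_or] at hchk
    have hlZ : l = Z12 := beq_iff_eq.mp hchk
    subst hlZ
    have hz : ψ zK = zK := Subtype.ext (eq_of_isTable hlt (hzK ▸ isTable_pZ12))
    have hS : ({pY, cubeTwist, pZ12} : Set (Equiv.Perm GolayPt)) ⊆ Cfsg.Spor.M12 := by
      intro x hx
      rcases hx with rfl | rfl | rfl
      · exact hY
      · exact hD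
      · exact hZ
    apply eq_one_of_fix_gen Cfsg.Spor.M12 _ hS ((le_of_eq M12_eq_stabM).trans m12g_gen)
    intro x hx
    rcases hx with rfl | rfl | rfl
    · exact hψy
    · have : (⟨cubeTwist, hS (by simp)⟩ : ↥Cfsg.Spor.M12) = dK := by rw [hdK]
      rw [this]; exact hψd
    · have : (⟨pZ12, hS (by simp)⟩ : ↥Cfsg.Spor.M12) = zK := Subtype.ext hzK.symm
      rw [this]; exact hz

end Cfsg.Agent.Lib.helper27
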