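import Cfsg.Agent.Lib.helper27.OutM24
import Cfsg.Prelude.Def_Spor_Mathieu

set_option autoImplicit false

namespace Cfsg.Agent.Lib.helper27

open Cfsg Cfsg.Agent.Lib.helper28

/-! Every automorphism of the point stabilizer (the Mathieu group of degree 23) is inner. -/

theorem conj_pow_rel {G : Type*} [Group G] {y t : G} (h : y * t = t ^ 2 * y) (j : ℕ) :
    y ^ j * t * (y ^ j)⁻¹ = t ^ (2 ^ j) := by
  induction j with
  | zero => simp
  | succ j ih =>
    have h1 : y * t * y⁻¹ = t ^ 2 := by rw [h]; group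
    calc y ^ (j + 1) * t * (y ^ (j + 1))⁻¹
        = y * (y ^ j * t * (y ^ j)⁻¹) * y⁻¹ := by rw [pow_succ']; group
      _ = y * t ^ (2 ^ j) * y⁻¹ := by rw [ih]
      _ = (y * t * y⁻¹) ^ (2 ^ j) := by rw [conj_pow]
      _ = t ^ (2 ^ (j + 1)) := by rw [h1, ← pow_mul, pow_succ']

theorem pow_rel_two {G : Type*} [Group G] {y t : G} (h : y * t = t ^ 2 * y) (a : ℕ) :
    t ^ (2 * a) * y = y * t ^ a := by
  have h1 : y * t * y⁻¹ = t ^ 2 := by rw [h]; group
  have h2 : y * t ^ a * y⁻¹ = t ^ (2 * a) := by rw [← conj_pow, h1, ← pow_mul]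
  rw [← h2]; group

/-- A homomorphism normalized on the translation and the multiplication by 2 fixes the
translation and the cube twist. -/
theorem norm_auxD {G : Type*} [Group G] (f : G →* Equiv.Perm GolayPt) (hf : ∀ x, f x ∈ M24)
    (tG yG dG : G) (r1 : dG * yG = yG ^ 3 * dG) (r2 : (dG * tG) ^ 6 = 1)
    (r3 : (dG * tG ^ 2) ^ 7 = 1) (r4 : (dG * tG ^ 3) ^ 7 = 1)
    (hT : f tG = pT ∨ f tG = pT⁻¹) (hY : f yG = pY) :
    f tG = pT ∧ f dG = cubeTwist := by
  obtain ⟨TT, hTTor, hTT⟩ : ∃ TT, (TT = tabT ∨ TT = T22) ∧ IsTable (f tG) TT := by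
    rcases hT with h | h
    · exact ⟨tabT, Or.inl rfl, h ▸ isTable_T⟩
    · exact ⟨T22, Or.inr rfl, h ▸ isTable_pT_inv⟩
  have e3 : f dG * pY = pY ^ 3 * f dG := by
    have := congrArg f r1
    rwa [map_mul, map_mul, map_pow, hY] at this
  obtain ⟨j, hj, hcj⟩ := centY (M24.mul_mem (M24.inv_mem cubeTwist_mem_M24) (hf dG)) isTable_pY
    (commute_of_rel rel_dy e3).eq
  have hd : f dG = cubeTwist * pY ^ j := by rw [← hcj]; group
  have hXd : IsTable (f dG) (mulTab tabD (powTab (mt 2) j)) := by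
    rw [hd]; exact isTable_mulTab isTable_D (isTable_powTab isTable_pY j)
  have q1 : (f dG * f tG) ^ 6 = 1 := by rw [← map_mul, ← map_pow, r2, map_one]
  have q2 : (f dG * f tG ^ 2) ^ 7 = 1 := by
    rw [← map_pow, ← map_mul, ← map_pow, r3, map_one]
  have q3 : (f dG * f tG ^ 3) ^ 7 = 1 := by
    rw [← map_pow, ← map_mul, ← map_pow, r4, map_one]
  have r3' : relD (mulTab tabD (powTab (mt 2) j)) TT = true := by
    unfold relD
    rw [Bool.and_eq_true, Bool.and_eq_true]
    exact ⟨⟨isId_of_one (isTable_powTab (isTable_mulTab hXd hTT) 6) q1,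
      isId_of_one (isTable_powTab (isTable_mulTab hXd (isTable_powTab hTT 2)) 7) q2⟩,
      isId_of_one (isTable_powTab (isTable_mulTab hXd (isTable_powTab hTT 3)) 7) q3⟩
  have c := allLt_spec chkD j hj
  rw [Bool.and_eq_true, Bool.or_eq_true] at c
  obtain ⟨c1, c2⟩ := c
  rcases hTTor with rfl | rfl
  · rcases c2 with c2 | c2
    · have hj0 : j = 0 := beq_iff_eq.mp c2
      subst hj0
      rw [pow_zero, mul_one] at hd
      exact ⟨eq_of_isTable hTT isTable_T, hd⟩
    · rw [r3'] at c2; exact absurd c2 (by decide)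
  · rw [r3'] at c1; exact absurd c1 (by decide)

/-- Automorphisms of a subgroup of the group of the code that contains and is generated by the
translation, the multiplication by 2 and the cube twist are inner. -/
theorem all_inner_sub (K : Subgroup (Equiv.Perm GolayPt)) (hK : K ≤ M24) (hT : pT ∈ K)
    (hY : pY ∈ K) (hD : cubeTwist ∈ K) (hp2 : ¬ 23 ^ 2 ∣ Nat.card K)
    (hgen : K ≤ Subgroup.closure ({pT, pY, cubeTwist} : Set (Equiv.Perm GolayPt)))
    (φ : MulAut ↥K) : ∃ g : ↥K, φ = MulAut.conj g := by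
  have : Fact (Nat.Prime 23) := ⟨by norm_num⟩
  obtain ⟨tK, htK⟩ : ∃ tK : ↥K, (tK : Equiv.Perm GolayPt) = pT := ⟨⟨pT, hT⟩, rfl⟩
  obtain ⟨yK, hyK⟩ : ∃ yK : ↥K, (yK : Equiv.Perm GolayPt) = pY := ⟨⟨pY, hY⟩, rfl⟩
  obtain ⟨dK, hdK⟩ : ∃ dK : ↥K, (dK : Equiv.Perm GolayPt) = cubeTwist := ⟨⟨cubeTwist, hD⟩, rfl⟩
  have relK_yt : yK * tK = tK ^ 2 * yK := Subtype.ext (by simp [htK, hyK, rel_yt])
  have relK_dy : dK * yK = yK ^ 3 * dK := Subtype.ext (by simp [hdK, hyK, rel_dy])
  have relK_dt1 : (dK * tK) ^ 6 = 1 := Subtype.ext (by simp [hdK, htK, rel_dt1])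
  have relK_dt2 : (dK * tK ^ 2) ^ 7 = 1 := Subtype.ext (by simp [hdK, htK, rel_dt2])
  have relK_dt3 : (dK * tK ^ 3) ^ 7 = 1 := Subtype.ext (by simp [hdK, htK, rel_dt3])
  have tK_pow : tK ^ 23 = 1 := Subtype.ext (by simp [htK, pT_pow])
  have tK_ne_one : tK ≠ 1 := fun h => pT_ne_one (by rw [← htK, h]; rfl)
  have hord : orderOf tK = 23 := orderOf_eq_prime tK_pow tK_ne_one
  -- automorphisms fixing the generators are trivial
  have hcl : Subgroup.closure ({pT, pY, cubeTwist} : Set (Equiv.Perm GolayPt)) ≤ K := by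
    rw [Subgroup.closure_le]
    intro g hg
    rcases hg with rfl | rfl | rfl
    · exact hT
    · exact hY
    · exact hD
  have fix : ∀ ψ : MulAut ↥K, ψ tK = tK → ψ yK = yK → ψ dK = dK → ψ = 1 := by
    intro ψ h1 h2 h3
    have key : ∀ g : Equiv.Perm GolayPt,
        g ∈ Subgroup.closure ({pT, pY, cubeTwist} : Set (Equiv.Perm GolayPt)) →
        ∀ h : g ∈ K, ψ ⟨g, h⟩ = ⟨g, h⟩ := by
      intro g hg
      induction hg using Subgroup.closure_induction with
      | mem x hx =>
        intro h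
        rcases hx with rfl | rfl | rfl
        · have : (⟨pT, h⟩ : ↥K) = tK := Subtype.ext htK.symm
          rw [this]; exact h1
        · have : (⟨pY, h⟩ : ↥K) = yK := Subtype.ext hyK.symm
          rw [this]; exact h2
        · have : (⟨cubeTwist, h⟩ : ↥K) = dK := Subtype.ext hdK.symm
          rw [this]; exact h3
      | one => intro h; exact map_one ψ
      | mul x y hx hy ihx ihy =>
        intro h
        have hxM : x ∈ K := hcl hx
        have hyM : y ∈ K := hcl hy
        have : (⟨x * y, h⟩ : ↥K) = ⟨x, hxM⟩ * ⟨y, hyM⟩ := rfl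
        rw [this, map_mul, ihx hxM, ihy hyM]
      | inv x hx ihx =>
        intro h
        have hxM : x ∈ K := hcl hx
        have : (⟨x⁻¹, h⟩ : ↥K) = (⟨x, hxM⟩ : ↥K)⁻¹ := rfl
        rw [this, map_inv, ihx hxM]
    ext1 x
    exact key x (hgen x.2) x.2
  -- normalized automorphisms are inner
  have inner_of_norm : ∀ ψ : MulAut ↥K, (ψ tK = tK ∨ ψ tK = tK⁻¹) →
      ∃ g : ↥K, ψ = MulAut.conj g := by
    intro ψ h2
    have hu : ψ yK * tK = tK ^ 2 * ψ yK := by
      have := congrArg ψ relK_yt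
      rw [map_mul, map_mul, map_pow] at this
      rcases h2 with h | h
      · rwa [h] at this
      · rw [h] at this
        calc ψ yK * tK = tK ^ 2 * (tK⁻¹ ^ 2 * ψ yK) * tK := by group
          _ = tK ^ 2 * (ψ yK * tK⁻¹) * tK := by rw [this]
          _ = tK ^ 2 * ψ yK := by group
    have hc := (commute_of_rel relK_yt hu).eq
    have hc' : ((yK⁻¹ * ψ yK : ↥K) : Equiv.Perm GolayPt) * pT
        = pT * ((yK⁻¹ * ψ yK : ↥K) : Equiv.Perm GolayPt) := by
      have := congrArg Subtype.val hc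
      rw [← htK]; exact this
    obtain ⟨a, ha, hca⟩ := centT (hK (yK⁻¹ * ψ yK).2) hc'
    have hu' : ψ yK = yK * tK ^ a := by
      have : yK⁻¹ * ψ yK = tK ^ a := Subtype.ext (by rw [hca]; simp [htK])
      rw [← this]; group
    have h3T : (MulAut.conj (tK ^ (2 * a)) * ψ) tK = tK ∨
        (MulAut.conj (tK ^ (2 * a)) * ψ) tK = tK⁻¹ := by
      rw [MulAut.mul_apply, MulAut.conj_apply]
      rcases h2 with h | h
      · left; rw [h]; group
      · right; rw [h]; group
    have h3Y : (MulAut.conj (tK ^ (2 * a)) * ψ) yK = yK := by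
      rw [MulAut.mul_apply, MulAut.conj_apply, hu', ← mul_assoc, pow_rel_two relK_yt, two_mul,
        pow_add]
      group
    have hn := norm_auxD (K.subtype.comp (MulAut.conj (tK ^ (2 * a)) * ψ).toMonoidHom)
      (fun x => hK ((MulAut.conj (tK ^ (2 * a)) * ψ) x).2) tK yK dK relK_dy relK_dt1 relK_dt2
      relK_dt3
      (by
        rcases h3T with h | h
        · left; rw [← htK]; exact congrArg Subtype.val h
        · right; rw [← htK]; exact congrArg Subtype.val h)
      (by rw [← hyK]; exact congrArg Subtype.val h3Y)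
    have h1 : MulAut.conj (tK ^ (2 * a)) * ψ = 1 :=
      fix _ (Subtype.ext (by rw [htK]; exact hn.1)) h3Y (Subtype.ext (by rw [hdK]; exact hn.2))
    refine ⟨(tK ^ (2 * a))⁻¹, ?_⟩
    rw [map_inv]
    exact eq_inv_of_mul_eq_one_right h1
  -- the Sylow argument
  have hcard : Nat.card (Subgroup.zpowers tK) = 23 := by rw [Nat.card_zpowers, hord]
  have hcardK : Nat.card ((Subgroup.zpowers tK).map φ.toMonoidHom) = 23 := by
    rw [← hcard]
    exact (Nat.card_congr (φ.subgroupMap (Subgroup.zpowers tK)).toEquiv).symm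
  obtain ⟨g1, hg1⟩ := exists_conj_of_card_prime hp2 _ _ hcardK hcard
  have h1 : (MulAut.conj g1 * φ) tK ∈ Subgroup.zpowers tK := by
    rw [← hg1]
    exact Subgroup.mem_map_of_mem _ (Subgroup.mem_map_of_mem _ (Subgroup.mem_zpowers tK))
  obtain ⟨k, hk, hk1⟩ : ∃ k < 23, (MulAut.conj g1 * φ) tK = tK ^ k := by
    obtain ⟨n, hn⟩ := (Submonoid.mem_powers_iff _ _).mp (mem_powers_iff_mem_zpowers.mpr h1)
    refine ⟨n % 23, Nat.mod_lt _ (by norm_num), ?_⟩
    rw [← hn, ← hord, pow_mod_orderOf]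
  have hk0 : k ≠ 0 := by
    rintro rfl
    rw [pow_zero] at hk1
    exact tK_ne_one ((MulAut.conj g1 * φ).injective (hk1.trans (map_one _).symm))
  obtain ⟨j, hj, hj1⟩ := numeric23 k hk hk0
  have h2 : (MulAut.conj (yK ^ j) * (MulAut.conj g1 * φ)) tK = tK ∨
      (MulAut.conj (yK ^ j) * (MulAut.conj g1 * φ)) tK = tK⁻¹ := by
    have e : (MulAut.conj (yK ^ j) * (MulAut.conj g1 * φ)) tK = tK ^ ((2 ^ j * k) % 23) := by
      rw [MulAut.mul_apply, hk1, MulAut.conj_apply, ← conj_pow, conj_pow_rel relK_yt, ← pow_mul,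
        ← hord, pow_mod_orderOf]
    rcases hj1 with h | h
    · left; rw [e, h, pow_one]
    · right
      rw [e, h]
      have : tK ^ 22 * tK = 1 := by rw [← pow_succ]; exact tK_pow
      exact (inv_eq_of_mul_eq_one_left this).symm
  obtain ⟨g, hg⟩ := inner_of_norm _ h2
  refine ⟨(yK ^ j * g1)⁻¹ * g, ?_⟩
  rw [map_mul, map_inv, map_mul, ← hg]
  group

/-! ### Generation of the point stabilizer -/

def m23Prog : List (ℕ × ℕ) :=
  [(0, 0), (0, 2), (0, 3), (0, 4), (0, 5), (0, 6), (0, 7), (0, 8), (0, 9), (0, 10), (0, 11), (0, 12), (0, 13), (0, 14), (0, 15), (0, 16), (0, 17), (0, 18), (0, 19), (0, 20), (0, 21), (1, 1), (1, 23), (1, 24), (0, 22), (1, 0), (22, 25), (1, 2), (21, 25), (0, 27), (28, 22), (1, 27), (28, 25), (0, 29), (30, 22), (0, 31), (32, 22), (1, 31), (32, 25), (0, 33), (34, 22), (0, 35), (36, 22), (0, 37), (38, 22), (1, 37), (38, 25), (1, 39), (40, 25), (0, 43), (44, 22), (1, 43), (44, 25), (0, 47), (48, 22), (0, 49), (50, 22), (1, 49), (50, 25), (1,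 51), (52, 25), (1, 53), (54, 25), (1, 3), (20, 25), (20, 65), (66, 3), (1, 61), (62, 25), (44, 69), (70, 43), (67, 67), (68, 68), (71, 67), (68, 72), (67, 71), (72, 68), (71, 71), (72, 72), (71, 73), (74, 72), (71, 75), (76, 72), (67, 77), (78, 68), (71, 77), (78, 72), (67, 79), (80, 68), (67, 81), (82, 68), (67, 83), (84, 68), (71, 89), (90, 72), (67, 80), (79, 68), (67, 91), (92, 68), (71, 93), (94, 72), (71, 101), (102, 72), (71, 91), (92, 72), (92, 105), (106, 91), (67, 85), (86, 68), (88, 109), (110, 87), (107, 107), (108, 108), (111, 107), (108, 112), (107, 111), (112, 108), (111, 111), (112, 112), (111, 113), (114, 112), (107, 115), (116, 108), (107, 117), (118, 108), (107, 119), (120, 108), (111, 119), (120, 112), (107, 121), (122, 108), (111, 121), (122, 112), (107, 123), (124, 108), (107, 125), (126, 108), (107, 135), (136, 108), (111, 139), (140, 112), (111, 135), (136, 112), (107, 143), (107, 131), (132, 108), (130, 146), (147, 129), (141, 141), (142,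 142), (148, 141), (142, 149), (141, 145), (145, 142), (141, 148), (149, 142), (148, 148), (148, 150), (151, 149), (145, 152), (153, 145), (148, 152), (153, 149), (145, 156), (157, 145), (148, 156), (157, 149), (141, 158), (158, 142), (148, 161), (162, 149), (148, 163), (164, 149), (148, 165), (166, 149), (141, 159), (160, 142), (162, 177), (178, 161), (145, 150), (151, 145), (155, 181), (141, 175), (176, 142), (172, 184), (185, 171), (183, 179), (180, 183), (179, 183), (183, 180), (186, 183), (183, 187), (183, 186), (187, 183), (179, 188), (189, 180), (186, 188), (183, 192), (193, 183), (179, 191), (186, 191), (190, 187), (183, 202), (203, 183), (201, 204), (205, 201)]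

def m23Idx : List (ℕ × ℕ × List ℕ) :=
  [(0, 8388607, [26, 0, 2, 27, 3, 29, 31, 33, 35, 37, 39, 41, 43, 45, 47, 49, 51, 53, 55, 57, 59, 61, 63]),
   (1, 8388606, [26, 67, 71, 73, 75, 77, 79, 74, 81, 83, 85, 87, 89, 80, 68, 91, 93, 95, 97, 99, 101, 103]),
   (2, 8388604, [26, 107, 111, 113, 115, 117, 119, 114, 121, 123, 125, 127, 129, 108, 131, 133, 135, 137, 130, 139, 120]),
   (3, 8388600, [26, 141, 145, 148, 150, 152, 154, 156, 158, 151, 159, 161, 163, 165, 167, 169, 142, 171, 173, 175]),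
   (4, 8241104, [26, 179, 183, 186, 180, 188, 190, 192, 194, 191, 196, 198, 189, 199, 201, 202]),
   (5, 147488, [26, 206, 207])]

theorem m23Chain_ok : chainGen [2 ^ 23] (slpChain (slpTabs m23Prog [tabT, tabD]) m23Idx) = true := by
  decide +kernel

theorem m23Chain_prod :
    chainProd (slpChain (slpTabs m23Prog [tabT, tabD]) m23Idx) = 10200960 := by
  decide +kernel

theorem m23_generated : stabM [2 ^ 23] ≤
    Subgroup.closure ({pT, pY, cubeTwist} : Set (Equiv.Perm GolayPt)) := by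
  apply stabM_le_of_slp _ [tabT, tabD] _ m23Prog m23Idx [2 ^ 23] m23Chain_ok
  · rw [card_stabM_pt23, m23Chain_prod]
  · intro l hl
    simp only [List.mem_cons, List.not_mem_nil, or_false] at hl
    rcases hl with rfl | rfl
    · exact ⟨_, Subgroup.subset_closure (by simp), isTable_T⟩
    · exact ⟨_, Subgroup.subset_closure (by simp), isTable_D⟩

theorem M23_eq_stabM : Cfsg.Spor.M23 = stabM [2 ^ 23] := by
  have hpt : pt 23 = (none : GolayPt) := by decide
  ext g
  rw [mem_stabM_cons_pt (by norm_num), stabM_nil, hpt]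
  unfold Cfsg.Spor.M23
  rw [Subgroup.mem_inf]
  exact Iff.rfl

/-- Every automorphism of the Mathieu group of degree 23 is inner. -/
theorem all_inner_M23 (φ : MulAut ↥Cfsg.Spor.M23) : ∃ g : ↥Cfsg.Spor.M23, φ = MulAut.conj g := by
  have hmem : ∀ g : Equiv.Perm GolayPt, g ∈ M24 → g (pt 23) = pt 23 → g ∈ Cfsg.Spor.M23 := by
    intro g h1 h2
    rw [M23_eq_stabM, mem_stabM_cons_pt (by norm_num), stabM_nil]
    exact ⟨h1, h2⟩
  apply all_inner_sub Cfsg.Spor.M23 (fun g hg => hg.1)
  · exact hmem _ translation_mem_M24 (by rw [apply_tab isTable_T (by norm_num)]; rfl)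
  · exact hmem _ pY_mem (by rw [apply_tab isTable_pY (by norm_num)]; rfl)
  · exact hmem _ cubeTwist_mem_M24 (by rw [apply_tab isTable_D (by norm_num)]; rfl)
  · rw [M23_eq_stabM, card_stabM_pt23]; norm_num
  · rw [M23_eq_stabM]; exact m23_generated

end Cfsg.Agent.Lib.helper27
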