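import Cfsg.Agent.Lib.helper27.Syl24Abs
import Cfsg.Agent.Lib.helper27.Syl24CertB
import Cfsg.Agent.Lib.helper27.Syl24CertD
import Cfsg.Agent.Lib.helper27.M22Blk
import Cfsg.Agent.Lib.helper28.GolayOrder

/-!
A Sylow 2-subgroup of the group of the length-24 code, generated by four explicit involutions, and
its quotient by its centre as an instance of the abstract model.
-/

set_option autoImplicit false

namespace Cfsg.Agent.Lib.helper27.S24

open Cfsg Cfsg.Agent.Lib.helper28 Cfsg.Agent.Lib.helper27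
open Cfsg.Agent.Lib.helper27.B22 (lk Tbl Tbl_mul Tbl_one Tbl_ext Tbl_congr Tbl_of_isTable lk_packT)

/-! ### Tables -/

theorem eqF_spec {f g : ℕ → ℕ} (h : eqF f g = true) : ∀ q < 24, f q = g q := by
  intro q hq
  exact beq_iff_eq.mp (List.all_eq_true.mp h q (r24_mem q hq))

theorem eqF_of {f g : ℕ → ℕ} (h : ∀ q < 24, f q = g q) : eqF f g = true := by
  unfold eqF
  rw [List.all_eq_true]
  intro q hq
  exact beq_iff_eq.mpr (h q (r24_lt q hq))

theorem r24_map (f : ℕ → ℕ) : ∀ q < 24, (r24.map f).getD q 0 = f q := by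
  intro q hq
  unfold r24
  interval_cases q <;> rfl

theorem lk_lt (p i : ℕ) : lk p i < 32 := by
  show Nat.land (Nat.shiftRight p (Nat.mul 5 i)) 31 < 32
  exact Nat.lt_succ_of_le Nat.and_le_right

theorem lk_packF (f : ℕ → ℕ) (hf : ∀ q ∈ r24, f q < 32) : ∀ q < 24, lk (packF f) q = f q := by
  intro q hq
  unfold packF
  rw [lk_packT _ q (by
    intro v hv
    rw [List.mem_map] at hv
    obtain ⟨a, ha, rfl⟩ := hv
    exact hf a ha)]
  exact r24_map f q hq

theorem packF_congr {f g : ℕ → ℕ} (h : ∀ q < 24, f q = g q) : packF f = packF g := by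
  unfold packF
  congr 1
  exact List.map_congr_left (fun q hq => h q (r24_lt q hq))

theorem withNat_eq (n : ℕ) (f : ℕ → Bool) : withNat n f = f n := by
  cases n <;> rfl

theorem mem_dat {r : Row} (hr : r ∈ dat) : ∃ i < 512, r = row i := by
  obtain ⟨i, hi, rfl⟩ := List.mem_iff_getElem.mp hr
  refine ⟨i, by rw [← dat_len]; exact hi, ?_⟩
  unfold row
  rw [List.getD_eq_getElem dat _ hi]

theorem rowB_spec {i : ℕ} (hi : i < 512) :
    (∀ q < 24, lk (spN i) q = wf (wdN i) q) ∧
    (∀ q < 24, lk (zsN i) q = lk zPk (lk (spN i) q)) ∧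
    packF (lk (spN i)) = spN i ∧ packF (lk (zsN i)) = zsN i ∧
    (∀ j < 512, (i = j ∨ spN i ≠ spN j) ∧ zsN i ≠ spN j) ∧
    (i = 0 ∨ ∃ k < 4, ¬ ∀ q < 24, lk (spN i) (lk (gPk k) q) = lk (gPk k) (lk (spN i) q)) ∧
    (a0m.testBit i = true → (∀ q < 24, lk (spN i) (lk (spN i) q) = q) ∨
      (∀ q < 24, lk (spN i) (lk (spN i) q) = lk zPk q)) := by
  have h : (eqF (lk (spN i)) (wf (wdN i)) && eqF (lk (zsN i)) (fun q => lk zPk (lk (spN i) q)) &&
      (packF (lk (spN i)) == spN i) && (packF (lk (zsN i)) == zsN i) &&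
      dat.zipIdx.all (fun b => (i == b.2 || spN i != b.1.1) && zsN i != b.1.1) &&
      (i == 0 || (List.range 4).any (fun k =>
        !(eqF (fun q => lk (spN i) (lk (gPk k) q)) (fun q => lk (gPk k) (lk (spN i) q))))) &&
      (!(a0m.testBit i) || eqF (fun q => lk (spN i) (lk (spN i) q)) (fun q => q) ||
        eqF (fun q => lk (spN i) (lk (spN i) q)) (lk zPk))) = true := rowB_all i hi
  rw [Bool.and_eq_true, Bool.and_eq_true, Bool.and_eq_true, Bool.and_eq_true, Bool.and_eq_true,
    Bool.and_eq_true] at h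
  obtain ⟨⟨⟨⟨⟨⟨h1, h2⟩, h3⟩, h4⟩, h5⟩, h6⟩, h7⟩ := h
  refine ⟨eqF_spec h1, eqF_spec h2, beq_iff_eq.mp h3, beq_iff_eq.mp h4, ?_, ?_, ?_⟩
  · intro j hj
    have h5' : ((i == j || spN i != spN j) && zsN i != spN j) = true :=
      List.all_eq_true.mp h5 (row j, j) (row_zip hj)
    simp only [Bool.and_eq_true, Bool.or_eq_true, beq_iff_eq, bne_iff_ne, ne_eq] at h5'
    exact h5'
  · rw [Bool.or_eq_true] at h6
    rcases h6 with h | h
    · left; exact beq_iff_eq.mp h
    · right
      obtain ⟨k, hk, hne⟩ := List.any_eq_true.mp h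
      refine ⟨k, List.mem_range.mp hk, fun hall => ?_⟩
      have he : eqF (fun q => lk (spN i) (lk (gPk k) q)) (fun q => lk (gPk k) (lk (spN i) q))
          = true := eqF_of hall
      rw [he] at hne
      exact absurd hne (by decide)
  · intro hb
    rw [hb] at h7
    simp only [Bool.not_true, Bool.false_or, Bool.or_eq_true] at h7
    rcases h7 with h | h
    · left; exact eqF_spec h
    · right; exact eqF_spec h

theorem rowC_spec {i : ℕ} (hi : i < 512) {k : ℕ} (hk : k < 4) :
    ∃ i' < 512, packF (fun q => lk (gPk k) (lk (spN i) q)) = spN i' ∨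
      packF (fun q => lk (gPk k) (lk (spN i) q)) = zsN i' := by
  have h : ((List.range 4).all (fun k => withNat (packF (fun q => lk (gPk k) (lk (spN i) q)))
      (fun P => dat.any (fun r' => P == r'.1 || P == r'.2.1)))) = true := rowC_all i hi
  have h1 := List.all_eq_true.mp h k (List.mem_range.mpr hk)
  rw [withNat_eq] at h1
  obtain ⟨r, hr, hpr⟩ := List.any_eq_true.mp h1
  obtain ⟨i', hi', rfl⟩ := mem_dat hr
  refine ⟨i', hi', ?_⟩
  rw [Bool.or_eq_true] at hpr
  rcases hpr with h2 | h2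
  · left; exact beq_iff_eq.mp h2
  · right; exact beq_iff_eq.mp h2

theorem rowD_spec {i j : ℕ} (hi : i < 512) (hj : j < 512) :
    (cmN i).testBit j = cmB (spN i) (spN j) := by
  have h : (dat.zipIdx.all (fun b => (cmN i).testBit b.2 == cmB (spN i) b.1.1)) = true :=
    rowD_all i hi
  have h1 : ((cmN i).testBit j == cmB (spN i) (spN j)) = true :=
    List.all_eq_true.mp h (row j, j) (row_zip hj)
  exact beq_iff_eq.mp h1

/-! ### The generators -/

/-- The four generating involutions. -/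
noncomputable def gp : ℕ → Equiv.Perm GolayPt
  | 0 => tp [] (gTab 0) g_in0
  | 1 => tp [] (gTab 1) g_in1
  | 2 => tp [] (gTab 2) g_in2
  | _ => tp [] (gTab 3) g_in3

theorem gp_table (k : ℕ) : IsTable (gp k) (gTab k) := by
  rcases k with _ | _ | _ | k
  · exact isTable_tp [] (gTab 0) g_in0
  · exact isTable_tp [] (gTab 1) g_in1
  · exact isTable_tp [] (gTab 2) g_in2
  · exact isTable_tp [] (gTab 3) g_in3

theorem gp_mem (k : ℕ) : gp k ∈ M24 := by
  have h : ∀ (l : List ℕ) (hl : tabIn [] l = true), tp [] l hl ∈ M24 := fun l hl => by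
    have := tp_mem [] l hl
    rwa [stabM_nil] at this
  rcases k with _ | _ | _ | k
  · exact h (gTab 0) g_in0
  · exact h (gTab 1) g_in1
  · exact h (gTab 2) g_in2
  · exact h (gTab 3) g_in3

theorem gp_tbl (k : ℕ) : Tbl (gp k) (lk (gPk k)) := by
  have key : ∀ k < 4, Tbl (gp k) (lk (gPk k)) := fun k hk =>
    Tbl_congr (Tbl_of_isTable (gp_table k)) (fun q hq => (gPk_ok k hk q hq).symm)
  rcases k with _ | _ | _ | k
  · exact key 0 (by norm_num)
  · exact key 1 (by norm_num)
  · exact key 2 (by norm_num)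
  · exact key 3 (by norm_num)

theorem gp_lt (k : ℕ) : ∃ k' < 4, gp k = gp k' ∧ gPk k = gPk k' := by
  rcases k with _ | _ | _ | k
  · exact ⟨0, by norm_num, rfl, rfl⟩
  · exact ⟨1, by norm_num, rfl, rfl⟩
  · exact ⟨2, by norm_num, rfl, rfl⟩
  · exact ⟨3, by norm_num, rfl, rfl⟩

theorem gp_sq (k : ℕ) : gp k * gp k = 1 := by
  obtain ⟨k', hk', e, _⟩ := gp_lt k
  rw [e]
  exact Tbl_ext (Tbl_mul (gp_tbl k') (gp_tbl k')) Tbl_one (fun q hq => g_inv k' hk' q hq)

/-- The generators as elements of the group of the code. -/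
noncomputable def gM (k : ℕ) : ↥M24 := ⟨gp k, gp_mem k⟩

/-- The Sylow 2-subgroup generated by the four involutions. -/
noncomputable def P0 : Subgroup ↥M24 := Subgroup.closure (Set.range gM)

/-- The generators as elements of the subgroup. -/
noncomputable def gQ (k : ℕ) : ↥P0 := ⟨gM k, Subgroup.subset_closure ⟨k, rfl⟩⟩

/-- The element of a word. -/
noncomputable def wordQ (w : List ℕ) : ↥P0 := (w.map gQ).prod

/-- The underlying permutation. -/
noncomputable def pm (x : ↥P0) : Equiv.Perm GolayPt := ((x : ↥M24) : Equiv.Perm GolayPt)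

theorem pm_mul (x y : ↥P0) : pm (x * y) = pm x * pm y := rfl

theorem pm_inj : Function.Injective pm := fun _ _ h => Subtype.ext (Subtype.ext h)

theorem tbl_word : ∀ w : List ℕ, Tbl (pm (wordQ w)) (wf w)
  | [] => Tbl_congr Tbl_one (fun _ _ => rfl)
  | k :: w => by
    have h1 : pm (wordQ (k :: w)) = gp k * pm (wordQ w) := by
      show pm ((List.map gQ (k :: w)).prod) = _
      rw [List.map_cons, List.prod_cons]
      rfl
    rw [h1]
    exact Tbl_congr (Tbl_mul (gp_tbl k) (tbl_word w)) (fun _ _ => rfl)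

/-- The elements of the rows. -/
noncomputable def xN (i : ℕ) : ↥P0 := wordQ (wdN i)

theorem xN_tbl {i : ℕ} (hi : i < 512) : Tbl (pm (xN i)) (lk (spN i)) :=
  Tbl_congr (tbl_word (wdN i)) (fun q hq => ((rowB_spec hi).1 q hq).symm)

theorem xN_zero : xN 0 = 1 := by
  show wordQ (wdN 0) = 1
  rw [wd_gen.1]
  rfl

/-- The central involution. -/
noncomputable def zQ : ↥P0 := wordQ zWd

theorem z_tbl : Tbl (pm zQ) (lk zPk) :=
  Tbl_congr (tbl_word zWd) (fun q hq => (z_ok q hq).symm)

theorem z_ne_one : zQ ≠ 1 := by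
  intro h
  have h1 := z_tbl 5 (by norm_num)
  rw [h] at h1
  have h2 : idx ((pm (1 : ↥P0)) (pt 5)) = 5 := by
    show idx ((1 : Equiv.Perm GolayPt) (pt 5)) = 5
    rw [Equiv.Perm.one_apply, idx_pt (by norm_num)]
  exact z_ne (h1.symm.trans h2)

theorem z_sq_one : zQ * zQ = 1 := by
  apply pm_inj
  exact Tbl_ext (Tbl_mul z_tbl z_tbl) Tbl_one (fun q hq => z_sq q hq)

theorem z_comm_gen (k : ℕ) : pm zQ * gp k = gp k * pm zQ := by
  obtain ⟨k', hk', e, _⟩ := gp_lt k
  rw [e]
  exact Tbl_ext (Tbl_mul z_tbl (gp_tbl k')) (Tbl_mul (gp_tbl k') z_tbl)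
    (fun q hq => z_comm k' hk' q hq)

theorem z_central (x : ↥P0) : zQ * x = x * zQ := by
  have key : ∀ y : ↥M24, y ∈ Subgroup.closure (Set.range gM) →
      (zQ : ↥M24) * y = y * (zQ : ↥M24) := by
    intro y hy
    refine Subgroup.closure_induction (p := fun y _ => (zQ : ↥M24) * y = y * (zQ : ↥M24))
      ?_ ?_ ?_ ?_ hy
    · rintro y ⟨k, rfl⟩
      exact Subtype.ext (z_comm_gen k)
    · rw [mul_one, one_mul]
    · intro a b _ _ ha hb
      rw [← mul_assoc, ha, mul_assoc, hb, mul_assoc]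
    · intro a _ ha
      calc (zQ : ↥M24) * a⁻¹ = a⁻¹ * (a * (zQ : ↥M24)) * a⁻¹ := by group
        _ = a⁻¹ * ((zQ : ↥M24) * a) * a⁻¹ := by rw [ha]
        _ = a⁻¹ * (zQ : ↥M24) := by group
  exact Subtype.ext (key x x.2)

theorem z_mem_center : zQ ∈ Subgroup.center ↥P0 := by
  rw [Subgroup.mem_center_iff]
  intro g
  exact (z_central g).symm

theorem zx_tbl {i : ℕ} (hi : i < 512) : Tbl (pm (zQ * xN i)) (lk (zsN i)) :=
  Tbl_congr (Tbl_mul z_tbl (xN_tbl hi)) (fun q hq => ((rowB_spec hi).2.1 q hq).symm)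

/-! ### The elements of the subgroup -/

theorem step_perm (k : ℕ) (y : Equiv.Perm GolayPt)
    (h : ∃ i < 512, y = pm (xN i) ∨ y = pm (zQ * xN i)) :
    ∃ i < 512, gp k * y = pm (xN i) ∨ gp k * y = pm (zQ * xN i) := by
  obtain ⟨k', hk', e, _⟩ := gp_lt k
  rw [e]
  have key : ∀ i < 512, ∃ i' < 512, gp k' * pm (xN i) = pm (xN i') ∨
      gp k' * pm (xN i) = pm (zQ * xN i') := by
    intro i hi
    have hT := Tbl_mul (gp_tbl k') (xN_tbl hi)
    have hlk := lk_packF (fun q => lk (gPk k') (lk (spN i) q)) (fun q _ => lk_lt _ _)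
    obtain ⟨i', hi', hp⟩ := rowC_spec hi hk'
    refine ⟨i', hi', ?_⟩
    rcases hp with hp | hp
    · left
      refine Tbl_ext hT (xN_tbl hi') (fun q hq => ?_)
      rw [← hp]
      exact (hlk q hq).symm
    · right
      refine Tbl_ext hT (zx_tbl hi') (fun q hq => ?_)
      rw [← hp]
      exact (hlk q hq).symm
  obtain ⟨i, hi, hy⟩ := h
  obtain ⟨i', hi', h'⟩ := key i hi
  refine ⟨i', hi', ?_⟩
  rcases hy with hy | hy
  · rw [hy]
    exact h'
  · have e1 : gp k' * y = pm zQ * (gp k' * pm (xN i)) := by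
      rw [hy, pm_mul, ← mul_assoc, ← z_comm_gen k', mul_assoc]
    rcases h' with h' | h'
    · right
      rw [e1, h', pm_mul]
    · left
      rw [e1, h', pm_mul, ← mul_assoc]
      have e2 : pm zQ * pm zQ = 1 := by
        have := congrArg pm z_sq_one
        exact this
      rw [e2, one_mul]

theorem P0_cases (x : ↥P0) : ∃ i < 512, x = xN i ∨ x = zQ * xN i := by
  have key : ∀ y : ↥M24, y ∈ Subgroup.closure (Set.range gM) →
      ∃ i < 512, (y : Equiv.Perm GolayPt) = pm (xN i) ∨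
        (y : Equiv.Perm GolayPt) = pm (zQ * xN i) := by
    intro y hy
    refine Subgroup.closure_induction_left (p := fun (y : ↥M24) _ => ∃ i < 512,
      (y : Equiv.Perm GolayPt) = pm (xN i) ∨ (y : Equiv.Perm GolayPt) = pm (zQ * xN i))
      ?_ ?_ ?_ hy
    · exact ⟨0, by norm_num, Or.inl (by rw [xN_zero]; rfl)⟩
    · rintro g ⟨k, rfl⟩ y _ hy'
      exact step_perm k _ hy'
    · rintro g ⟨k, rfl⟩ y _ hy'
      have e : ((gM k)⁻¹ : ↥M24) = gM k := by
        apply inv_eq_of_mul_eq_one_left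
        exact Subtype.ext (gp_sq k)
      rw [e]
      exact step_perm k _ hy'
  obtain ⟨i, hi, h⟩ := key x x.2
  refine ⟨i, hi, ?_⟩
  rcases h with h | h
  · left; exact pm_inj h
  · right; exact pm_inj h

theorem center_cases (c : ↥P0) (hc : c ∈ Subgroup.center ↥P0) : c = 1 ∨ c = zQ := by
  obtain ⟨i, hi, hci⟩ := P0_cases c
  have hx : ∀ k, pm (xN i) * gp k = gp k * pm (xN i) := by
    intro k
    have h1 : c * gQ k = gQ k * c := ((Subgroup.mem_center_iff.mp hc) (gQ k)).symm
    rcases hci with h | h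
    · rw [h] at h1
      exact congrArg pm h1
    · rw [h] at h1
      have h2 : zQ * (xN i * gQ k) = zQ * (gQ k * xN i) := by
        rw [← mul_assoc, h1, ← mul_assoc, ← z_central (gQ k), mul_assoc]
      exact congrArg pm (mul_left_cancel h2)
  have hi0 : i = 0 := by
    rcases (rowB_spec hi).2.2.2.2.2.1 with h | ⟨k, _, hne⟩
    · exact h
    · exfalso
      apply hne
      intro q hq
      have e1 := Tbl_mul (xN_tbl hi) (gp_tbl k)
      have e2 := Tbl_mul (gp_tbl k) (xN_tbl hi)
      rw [hx k] at e1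
      exact (e1 q hq).symm.trans (e2 q hq)
  subst hi0
  rcases hci with h | h
  · left; rw [h, xN_zero]
  · right; rw [h, xN_zero, mul_one]

/-! ### The quotient by the centre -/

/-- The indexing of the quotient by the centre. -/
noncomputable def rho (i : ℕ) : ↥P0 ⧸ Subgroup.center ↥P0 := QuotientGroup.mk (xN i)

theorem mk_z : (QuotientGroup.mk zQ : ↥P0 ⧸ Subgroup.center ↥P0) = 1 :=
  (QuotientGroup.eq_one_iff zQ).mpr z_mem_center

theorem rho_surj (t : ↥P0 ⧸ Subgroup.center ↥P0) : ∃ i < 512, rho i = t := by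
  obtain ⟨x, rfl⟩ := QuotientGroup.mk_surjective t
  obtain ⟨i, hi, h⟩ := P0_cases x
  refine ⟨i, hi, ?_⟩
  rcases h with h | h
  · rw [h]; rfl
  · rw [h, QuotientGroup.mk_mul, mk_z, one_mul]; rfl

theorem sp_eq_of {i j : ℕ} (hi : i < 512) (hj : j < 512)
    (h : ∀ q < 24, lk (spN i) q = lk (spN j) q) : spN i = spN j := by
  rw [← (rowB_spec hi).2.2.1, ← (rowB_spec hj).2.2.1]
  exact packF_congr h

theorem rho_inj (i : ℕ) (hi : i < 512) (j : ℕ) (hj : j < 512) (h : rho i = rho j) : i = j := by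
  have h1 : (xN i)⁻¹ * xN j ∈ Subgroup.center ↥P0 := QuotientGroup.eq.mp h
  rcases center_cases _ h1 with h2 | h2
  · have e : xN i = xN j := inv_mul_eq_one.mp h2
    have hs : spN i = spN j := by
      apply sp_eq_of hi hj
      intro q hq
      have e1 := xN_tbl hi q hq
      have e2 := xN_tbl hj q hq
      rw [e] at e1
      exact e1.symm.trans e2
    rcases ((rowB_spec hi).2.2.2.2.1 j hj).1 with h3 | h3
    · exact h3
    · exact absurd hs h3
  · exfalso
    have e : xN j = zQ * xN i := (eq_mul_of_inv_mul_eq h2).trans (z_central (xN i)).symm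
    have hs : zsN i = spN j := by
      rw [← (rowB_spec hi).2.2.2.1, ← (rowB_spec hj).2.2.1]
      apply packF_congr
      intro q hq
      have e1 := zx_tbl hi q hq
      have e2 := xN_tbl hj q hq
      rw [e] at e2
      exact e1.symm.trans e2
    exact ((rowB_spec hi).2.2.2.2.1 j hj).2 hs

theorem rho_comm (i : ℕ) (hi : i < 512) (j : ℕ) (hj : j < 512) :
    (rho i * rho j = rho j * rho i ↔ (cmN i).testBit j = true) := by
  rw [rowD_spec hi hj]
  have hT1 : Tbl (pm (xN j * xN i)) (fun q => lk (spN j) (lk (spN i) q)) :=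
    Tbl_mul (xN_tbl hj) (xN_tbl hi)
  have hT2 : Tbl (pm (xN i * xN j)) (fun q => lk (spN i) (lk (spN j) q)) :=
    Tbl_mul (xN_tbl hi) (xN_tbl hj)
  have hT3 : Tbl (pm (zQ * (xN i * xN j))) (fun q => lk zPk (lk (spN i) (lk (spN j) q))) :=
    Tbl_mul z_tbl hT2
  constructor
  · intro h
    have h1 : (xN i * xN j)⁻¹ * (xN j * xN i) ∈ Subgroup.center ↥P0 := QuotientGroup.eq.mp h
    unfold cmB
    rw [Bool.or_eq_true]
    rcases center_cases _ h1 with h2 | h2
    · left
      have e : xN j * xN i = xN i * xN j := (inv_mul_eq_one.mp h2).symm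
      apply eqF_of
      intro q hq
      have e1 := hT1 q hq
      rw [e] at e1
      exact e1.symm.trans (hT2 q hq)
    · right
      have e : xN j * xN i = zQ * (xN i * xN j) :=
        (eq_mul_of_inv_mul_eq h2).trans (z_central (xN i * xN j)).symm
      apply eqF_of
      intro q hq
      have e1 := hT1 q hq
      rw [e] at e1
      exact e1.symm.trans (hT3 q hq)
  · intro h
    unfold cmB at h
    rw [Bool.or_eq_true] at h
    show (QuotientGroup.mk (xN i * xN j) : ↥P0 ⧸ Subgroup.center ↥P0)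
      = QuotientGroup.mk (xN j * xN i)
    rcases h with h | h
    · have e : xN j * xN i = xN i * xN j :=
        pm_inj (Tbl_ext hT1 hT2 (eqF_spec h))
      rw [e]
    · have e : xN j * xN i = zQ * (xN i * xN j) :=
        pm_inj (Tbl_ext hT1 hT3 (eqF_spec h))
      rw [e, QuotientGroup.mk_mul (Subgroup.center ↥P0) zQ (xN i * xN j), mk_z, one_mul]

theorem rho_gen {k : ℕ} (hk : k < 4) :
    rho (k + 1) = (QuotientGroup.mk (gQ k) : ↥P0 ⧸ Subgroup.center ↥P0) := by
  have e : wdN (k + 1) = [k] := by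
    obtain ⟨_, h1, h2, h3, h4⟩ := wd_gen
    interval_cases k
    · exact h1
    · exact h2
    · exact h3
    · exact h4
  show (QuotientGroup.mk (wordQ (wdN (k + 1))) : ↥P0 ⧸ Subgroup.center ↥P0) = _
  rw [e]
  show (QuotientGroup.mk (gQ k * 1) : ↥P0 ⧸ Subgroup.center ↥P0) = _
  rw [mul_one]

theorem rho_word (i : ℕ) (hi : i < 512) :
    rho i = ((wdN i).map (fun k => rho (k + 1))).prod := by
  have h1 : ∀ w : List ℕ, (∀ k ∈ w, k < 4) →
      (QuotientGroup.mk (wordQ w) : ↥P0 ⧸ Subgroup.center ↥P0)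
        = (w.map (fun k => rho (k + 1))).prod := by
    intro w
    induction w with
    | nil => intro _; rfl
    | cons k w ih =>
      intro hw
      have e1 : wordQ (k :: w) = gQ k * wordQ w := by
        show (List.map gQ (k :: w)).prod = _
        rw [List.map_cons, List.prod_cons]
        rfl
      rw [e1, QuotientGroup.mk_mul, ih (fun j hj => hw j (List.mem_cons_of_mem _ hj))]
      show _ = rho (k + 1) * (w.map (fun k => rho (k + 1))).prod
      rw [rho_gen (hw k List.mem_cons_self)]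
  exact h1 (wdN i) (wd_lt' hi)

theorem rho_sq (i : ℕ) (hi : i < 512) (hb : a0m.testBit i = true) : rho i * rho i = 1 := by
  have hT : Tbl (pm (xN i * xN i)) (fun q => lk (spN i) (lk (spN i) q)) :=
    Tbl_mul (xN_tbl hi) (xN_tbl hi)
  show (QuotientGroup.mk (xN i * xN i) : ↥P0 ⧸ Subgroup.center ↥P0) = 1
  rcases (rowB_spec hi).2.2.2.2.2.2 hb with h | h
  · have e : xN i * xN i = 1 := pm_inj (Tbl_ext hT Tbl_one h)
    rw [e]; rfl
  · have e : xN i * xN i = zQ := pm_inj (Tbl_ext hT z_tbl h)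
    rw [e]; exact mk_z

/-- The quotient by the centre is an instance of the abstract model. -/
theorem model0 : Model rho := ⟨rho_surj, rho_inj, rho_comm, rho_word, rho_sq⟩

/-! ### The Sylow property -/

theorem card_center : Nat.card ↥(Subgroup.center ↥P0) = 2 := by
  rw [Nat.card_eq_two_iff]
  refine ⟨⟨1, Subgroup.one_mem _⟩, ⟨zQ, z_mem_center⟩, ?_, ?_⟩
  · intro h
    exact z_ne_one (congrArg Subtype.val h).symm
  · ext c
    simp only [Set.mem_insert_iff, Set.mem_singleton_iff, Set.mem_univ, iff_true]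
    rcases center_cases c.1 c.2 with h | h
    · left; exact Subtype.ext h
    · right; exact Subtype.ext h

theorem card_P0 : Nat.card ↥P0 = 1024 := by
  rw [Subgroup.card_eq_card_quotient_mul_card_subgroup (Subgroup.center ↥P0), model0.card,
    card_center]

theorem exists_sylow : ∃ Q : Sylow 2 ↥M24, (Q : Subgroup ↥M24) = P0 := by
  haveI : Fact (Nat.Prime 2) := ⟨Nat.prime_two⟩
  have hPg : IsPGroup 2 ↥P0 := IsPGroup.of_card (n := 10) (by rw [card_P0]; norm_num)
  obtain ⟨Q, hQ⟩ := hPg.exists_le_sylow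
  refine ⟨Q, ?_⟩
  symm
  apply Subgroup.eq_of_le_of_card_ge hQ
  rw [card_P0]
  obtain ⟨n, hn⟩ := Q.isPGroup'.exists_card_eq
  have hdvd : 2 ^ n ∣ Nat.card ↥M24 := hn ▸ Subgroup.card_subgroup_dvd_card (Q : Subgroup ↥M24)
  rw [card_M24] at hdvd
  have hn10 : n ≤ 10 := by
    by_contra hcon
    have h11 : 2 ^ 11 ∣ 244823040 := (pow_dvd_pow 2 (by omega)).trans hdvd
    norm_num at h11
  rw [hn]
  calc 2 ^ n ≤ 2 ^ 10 := Nat.pow_le_pow_right (by norm_num) hn10
    _ = 1024 := by norm_num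

theorem map_center_equiv {G H : Type*} [Group G] [Group H] (e : G ≃* H) :
    (Subgroup.center G).map (e : G →* H) = Subgroup.center H := by
  ext h
  rw [Subgroup.mem_map]
  constructor
  · rintro ⟨g, hg, rfl⟩
    rw [Subgroup.mem_center_iff] at hg ⊢
    intro h'
    have h1 := congrArg e (hg (e.symm h'))
    rw [map_mul, map_mul, MulEquiv.apply_symm_apply] at h1
    exact h1
  · intro hh
    refine ⟨e.symm h, ?_, MulEquiv.apply_symm_apply e h⟩
    rw [Subgroup.mem_center_iff] at hh ⊢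
    intro g'
    apply e.injective
    rw [map_mul, map_mul, MulEquiv.apply_symm_apply]
    exact hh (e g')

/-- The Sylow 2-subgroups of the group of the code modulo their centres. -/
theorem main (P : Sylow 2 ↥M24) :
    (∀ M : Subgroup (↥(P : Subgroup ↥M24) ⧸ Subgroup.center ↥(P : Subgroup ↥M24)),
        IsCoatom M → Nat.card ↥(Subgroup.center ↥M) ≤ 8) ∧
      (∃ A : Subgroup (↥(P : Subgroup ↥M24) ⧸ Subgroup.center ↥(P : Subgroup ↥M24)),
        Cfsg.IsElementaryAbelian 2 A ∧ Nat.card ↥A = 64) ∧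
      ∀ A B : Subgroup (↥(P : Subgroup ↥M24) ⧸ Subgroup.center ↥(P : Subgroup ↥M24)),
        IsMulCommutative ↥A → Nat.card ↥A = 64 → IsMulCommutative ↥B → Nat.card ↥B = 64 →
          A = B := by
  haveI : Fact (Nat.Prime 2) := ⟨Nat.prime_two⟩
  obtain ⟨Q, hQ⟩ := exists_sylow
  obtain ⟨g, hg⟩ := MulAction.exists_smul_eq ↥M24 Q P
  subst hg
  have e : ↥P0 ≃* ↥((g • Q : Sylow 2 ↥M24) : Subgroup ↥M24) :=
    (MulEquiv.subgroupCongr hQ.symm).trans (Sylow.equivSMul Q g)
  exact claims (model0.map (QuotientGroup.congr (Subgroup.center ↥P0) (Subgroup.center _) e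
    (map_center_equiv e)))

end Cfsg.Agent.Lib.helper27.S24
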