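import Cfsg.Agent.Lib.helper23.SingleBlock
import Cfsg.Agent.Lib.helper23.Deficiency
import Cfsg.Agent.Lib.helper23.MinMax
import Cfsg.Agent.Lib.helper23.BlockDefectZero
import Cfsg.Agent.Lib.helper23.InvolDefect
import Cfsg.Agent.Lib.helper5.ClassSep

set_option autoImplicit false

/-! A criterion for a finite group to have a single 2-block: involution centralizers with a
single block, and characters of full 2-part degree congruent to zero on the classes with
centralizers of odd order. -/

namespace Cfsg.Agent.Lib.helper27.TB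

open Cfsg Cfsg.Agent.Lib.helper24 Cfsg.Agent.Lib.helper5 Cfsg.Agent.Lib.helper23

universe u

variable {G : Type u} [Group G] [Finite G]

/-- A subgroup with a normal self-centralizing subgroup of exponent 2 has only the principal
2-block. -/
theorem principal_of_constrained (M : Ideal AlgInt) (hM : IsPModular 2 M) (K Q : Subgroup G)
    (hQK : Q ≤ K) (hQ2 : ∀ q ∈ Q, q * q = 1) (hnorm : ∀ c ∈ K, ∀ q ∈ Q, c * q * c⁻¹ ∈ Q)
    (hself : ∀ c ∈ K, (∀ q ∈ Q, c * q = q * c) → c ∈ Q) (ξ : IrrCharacter ↥K) :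
    ξ ∈ principalBlock M ↥K := by
  haveI : Fact (Nat.Prime 2) := ⟨Nat.prime_two⟩
  obtain ⟨P, hPdef⟩ : ∃ P : Subgroup ↥K, P = Q.subgroupOf K := ⟨_, rfl⟩
  haveI : P.Normal := by
    constructor
    intro n hn g
    rw [hPdef, Subgroup.mem_subgroupOf] at hn ⊢
    exact hnorm g g.2 n hn
  have hP : IsPGroup 2 P := by
    intro g
    refine ⟨1, ?_⟩
    have hg : (g : ↥K) ∈ Q.subgroupOf K := hPdef ▸ g.2
    rw [Subgroup.mem_subgroupOf] at hg
    have h2 := hQ2 _ hg
    apply Subtype.ext
    apply Subtype.ext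
    rw [pow_one, pow_two]
    exact h2
  have hconstr : Subgroup.centralizer (P : Set ↥K) ≤ P := by
    intro c hc
    rw [Subgroup.mem_centralizer_iff] at hc
    rw [hPdef, Subgroup.mem_subgroupOf]
    apply hself _ c.2
    intro q hq
    have h1 := hc ⟨q, hQK hq⟩ (by
      show (⟨q, hQK hq⟩ : ↥K) ∈ P
      rw [hPdef, Subgroup.mem_subgroupOf]; exact hq)
    exact (congrArg Subtype.val h1).symm
  exact sameBlock_of_self_centralizing 2 M hM P hP hconstr (trivIrr ↥K) ξ

/-- A character of full 2-part degree is congruent to zero at elements with centralizers of even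
order. -/
theorem memLocalIdeal_of_even_centralizer (M : Ideal AlgInt) (hM : IsPModular 2 M)
    (χ : IrrCharacter G) (h : 2 ^ (Nat.card G).factorization 2 ∣ charDegree χ.1) (g : G)
    (hg : 2 ∣ Nat.card (Subgroup.centralizer ({g} : Set G))) : MemLocalIdeal M (χ.1 g) := by
  haveI := Fintype.ofFinite G
  haveI := Fintype.ofFinite (IrrCharacter G)
  have hMp := isPModular_isPrime hM
  obtain ⟨hdvd, hd0, hd1⟩ := irr_charDegree_facts χ
  obtain ⟨C, hC⟩ : ∃ C : Subgroup G, C = Subgroup.centralizer ({g} : Set G) := ⟨_, rfl⟩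
  rw [← hC] at hg
  have hmul : Nat.card C * C.index = Nat.card G := Subgroup.card_mul_index C
  have hc0 : Nat.card C ≠ 0 := Nat.card_pos.ne'
  have hi0 : C.index ≠ 0 := by
    intro h0; rw [h0, mul_zero] at hmul; exact Nat.card_pos.ne' hmul.symm
  have hf : (Nat.card G).factorization 2
      = (Nat.card C).factorization 2 + C.index.factorization 2 := by
    rw [← hmul, Nat.factorization_mul hc0 hi0]; rfl
  have h1 : 0 < (Nat.card C).factorization 2 :=
    Nat.Prime.factorization_pos_of_dvd Nat.prime_two hc0 hg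
  have h2 : (Nat.card G).factorization 2 ≤ (charDegree χ.1).factorization 2 :=
    (Nat.Prime.pow_dvd_iff_le_factorization Nat.prime_two hd0).mp h
  have h3 : MemLocalIdeal M ((charDegree χ.1 : ℂ) / (C.index : ℂ)) :=
    memLocalIdeal_natCast_div_of_lt hM hd0 hi0 (by omega)
  have h4 := memLocalIdeal_mul_left hMp (memLocalRing_centralChar hMp χ g) h3
  have e : centralChar χ.1 g * ((charDegree χ.1 : ℂ) / (C.index : ℂ)) = χ.1 g := by
    unfold centralChar
    rw [← hC, hd1]
    have ha : (charDegree χ.1 : ℂ) ≠ 0 := by exact_mod_cast hd0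
    have hb : (C.index : ℂ) ≠ 0 := by exact_mod_cast hi0
    field_simp
  rw [e] at h4
  exact h4

/-- The criterion. -/
theorem criterion (M : Ideal AlgInt) (hM : IsPModular 2 M)
    (H1 : ∀ t : G, orderOf t = 2 → ∀ ξ : IrrCharacter
      ↥(Subgroup.centralizer ((Subgroup.zpowers t : Subgroup G) : Set G)),
      ξ ∈ principalBlock M ↥(Subgroup.centralizer ((Subgroup.zpowers t : Subgroup G) : Set G)))
    (H2 : ∀ χ : IrrCharacter G, 2 ^ (Nat.card G).factorization 2 ∣ charDegree χ.1 →
      ∀ w : G, ¬ 2 ∣ Nat.card (Subgroup.centralizer ({w} : Set G)) → MemLocalIdeal M (χ.1 w))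
    (χ₀ : IrrCharacter G) : χ₀ ∈ principalBlock M G := by
  classical
  haveI : Fact (Nat.Prime 2) := ⟨Nat.prime_two⟩
  haveI := Fintype.ofFinite G
  haveI := Fintype.ofFinite (IrrCharacter G)
  have hMp := isPModular_isPrime hM
  by_contra hnp
  obtain ⟨w, hw⟩ := exists_defectClass hMp χ₀
  have hwc : ¬ MemLocalIdeal M (blockCoeff (blockOf M χ₀.1) w) := hw.2.1
  have hodd : ¬ 2 ∣ Nat.card (Subgroup.centralizer ({w} : Set G)) := by
    intro h2
    obtain ⟨t, ht⟩ := exists_prime_orderOf_dvd_card' (G := ↥(Subgroup.centralizer ({w} : Set G)))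
      2 h2
    have ht' : orderOf (t : G) = 2 := by rw [Subgroup.orderOf_coe]; exact ht
    have htw : (t : G) * w = w * (t : G) := by
      have := t.2
      rw [Subgroup.mem_centralizer_iff] at this
      exact (this w rfl).symm
    obtain ⟨P, hPdef⟩ : ∃ P : Subgroup G, P = Subgroup.zpowers (t : G) := ⟨_, rfl⟩
    have hP : IsPGroup 2 P := by
      apply IsPGroup.of_card (n := 1)
      rw [hPdef, Nat.card_zpowers, ht', pow_one]
    obtain ⟨H, hHdef⟩ : ∃ H : Subgroup G, H = Subgroup.centralizer (P : Set G) := ⟨_, rfl⟩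
    haveI := Fintype.ofFinite H
    haveI := Fintype.ofFinite (IrrCharacter H)
    have hwH : w ∈ H := by
      rw [hHdef, Subgroup.mem_centralizer_iff]
      intro x hx
      rw [hPdef] at hx
      obtain ⟨k, rfl⟩ := Subgroup.mem_zpowers_iff.mp hx
      exact ((Commute.zpow_left (show Commute (t : G) w from htw) k).eq)
    obtain ⟨ξ, -, hξ⟩ := exists_block_of_coef H hM P hP (le_of_eq hHdef.symm)
      (by rw [hHdef]; exact Subgroup.centralizer_le_normalizer _) (le_of_eq hHdef) χ₀ ⟨w, hwH⟩ hwc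
    apply hnp
    rw [← hξ]
    subst hHdef
    subst hPdef
    exact H1 (t : G) ht' ξ
  have hdef : blockDefect 2 (blockOf M χ₀.1) = 0 := by
    rw [← defect_class_factorization hM χ₀ w hw]
    exact Nat.factorization_eq_zero_of_not_dvd hodd
  have hmem : χ₀ ∈ blockOf M χ₀.1 := mem_blockOf_self hMp.ne_top χ₀
  have hfull := (blockDefect_eq_zero_iff 2 (blockOf M χ₀.1) ⟨χ₀, hmem⟩).mp hdef χ₀ hmem
  obtain ⟨hdvd, hd0, hd1⟩ := irr_charDegree_facts χ₀
  have hpow : 2 ^ (Nat.card G).factorization 2 ∣ charDegree χ₀.1 :=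
    (Nat.Prime.pow_dvd_iff_le_factorization Nat.prime_two hd0).mpr hfull
  have h4 := H2 χ₀ hpow w hodd
  apply hw.2.2 χ₀ hmem
  obtain ⟨C, hC⟩ : ∃ C : Subgroup G, C = Subgroup.centralizer ({w} : Set G) := ⟨_, rfl⟩
  rw [← hC] at hodd
  have hmul : Nat.card C * C.index = Nat.card G := Subgroup.card_mul_index C
  have hc0 : Nat.card C ≠ 0 := Nat.card_pos.ne'
  have hi0 : C.index ≠ 0 := by
    intro h0; rw [h0, mul_zero] at hmul; exact Nat.card_pos.ne' hmul.symm
  have hf : (Nat.card G).factorization 2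
      = (Nat.card C).factorization 2 + C.index.factorization 2 := by
    rw [← hmul, Nat.factorization_mul hc0 hi0]; rfl
  have hle : (charDegree χ₀.1).factorization 2 ≤ (Nat.card G).factorization 2 :=
    (Nat.factorization_le_iff_dvd hd0 Nat.card_pos.ne').mpr hdvd 2
  have hc1 : (Nat.card C).factorization 2 = 0 := Nat.factorization_eq_zero_of_not_dvd hodd
  have h5 : MemLocalRing M ((C.index : ℂ) / (charDegree χ₀.1 : ℂ)) :=
    memLocalRing_natCast_div hM hi0 hd0 (by omega)
  have h6 := memLocalIdeal_mul_right hMp h4 h5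
  have e : χ₀.1 w * ((C.index : ℂ) / (charDegree χ₀.1 : ℂ)) = centralChar χ₀.1 w := by
    unfold centralChar
    rw [← hC, hd1]
    ring
  rw [e] at h6
  exact h6

/-- A character of full 2-part degree sums to zero over the translates of a normal set of
involutions. -/
theorem sum_invol_eq_zero [Fintype G] [DecidableEq G] (χ : IrrCharacter G)
    (h : 2 ^ (Nat.card G).factorization 2 ∣ charDegree χ.1) (S : Finset G)
    (hS2 : ∀ c ∈ S, orderOf c = 2) (hSn : ∀ c ∈ S, ∀ t : G, t * c * t⁻¹ ∈ S) (x : G) :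
    ∑ c ∈ S, χ.1 (c * x) = 0 := by
  have h1 : ∀ c ∈ S, ∑ t : G, χ.1 (t * c * t⁻¹ * x) = 0 := by
    intro c hc
    rw [irr_sum_conj_mul χ c x, irr_vanish_of_full_ppart χ 2 Nat.prime_two h c
      (by rw [hS2 c hc])]
    simp
  have h2 : ∑ c ∈ S, ∑ t : G, χ.1 (t * c * t⁻¹ * x) = 0 := Finset.sum_eq_zero h1
  rw [Finset.sum_comm] at h2
  have h3 : ∀ t : G, ∑ c ∈ S, χ.1 (t * c * t⁻¹ * x) = ∑ c ∈ S, χ.1 (c * x) := by
    intro t
    apply Finset.sum_bij (fun c _ => t * c * t⁻¹)
    · intro c hc; exact hSn c hc t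
    · intro a _ b _ hab
      have := mul_right_cancel hab
      exact mul_left_cancel this
    · intro b hb
      refine ⟨t⁻¹ * b * t, ?_, by group⟩
      have := hSn b hb t⁻¹
      rwa [inv_inv] at this
    · intro c _; rfl
  rw [Finset.sum_congr rfl (fun t _ => h3 t), Finset.sum_const, Finset.card_univ,
    nsmul_eq_mul] at h2
  have hne : (Fintype.card G : ℂ) ≠ 0 := by exact_mod_cast Fintype.card_ne_zero
  exact (mul_eq_zero.mp h2).resolve_left hne

end Cfsg.Agent.Lib.helper27.TB
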